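import Mathlib
import Cfsg.Prelude.Def_LieTypeChar

/-!
# S2363 server base (helper18): `|G| < p^(3k)` and `|G|^3 < p^(8k)` from the order formulas

`Concl p G` is the conclusion of S2363.  `concl_of_mul` reduces it to `d * |G| = p ^ a * P` with `p ∤ d`, `p ∤ P`
and `P ^ 3 < d ^ 3 * p ^ (5 * a)`.
-/

set_option autoImplicit false

namespace Cfsg.Agent.Helper18.O3K

/-- the conclusion of S2363 -/
def Concl (p : ℕ) (G : Type*) [Group G] : Prop :=
  Nat.card G < p ^ (3 * (Nat.card G).factorization p) ∧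
    ((¬ ∃ (F : Type) (_ : Field F) (_ : Fintype F), Fintype.card F = p ^ (Nat.card G).factorization p ∧
        Nonempty (G ≃* Matrix.ProjectiveSpecialLinearGroup (Fin 2) F)) →
      Nat.card G ^ 3 < p ^ (8 * (Nat.card G).factorization p))

/-- `v_p (|G|) = a` when `d * |G| = p ^ a * P` with `p ∤ d`, `p ∤ P` -/
theorem factorization_of_mul {p : ℕ} (hp : p.Prime) {n d a P : ℕ} (hn : n ≠ 0)
    (h : d * n = p ^ a * P) (hd : ¬ p ∣ d) (hP : ¬ p ∣ P) : n.factorization p = a := by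
  have hd0 : d ≠ 0 := by
    rintro rfl
    exact hd (dvd_zero p)
  have hP0 : P ≠ 0 := by
    rintro rfl
    exact hP (dvd_zero p)
  have h1 : (d * n).factorization p = (p ^ a * P).factorization p := by rw [h]
  rw [Nat.factorization_mul hd0 hn, Nat.factorization_mul (pow_ne_zero a hp.ne_zero) hP0,
    Finsupp.add_apply, Finsupp.add_apply, Nat.factorization_eq_zero_of_not_dvd hd,
    Nat.factorization_eq_zero_of_not_dvd hP, hp.factorization_pow, Finsupp.single_eq_same] at h1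
  omega

/-- the main reduction: everything except the `PSL₂` exception -/
theorem concl_of_mul {p : ℕ} (hp : p.Prime) {G : Type*} [Group G] [Finite G] (d a P : ℕ)
    (h : d * Nat.card G = p ^ a * P) (hd : ¬ p ∣ d) (hP : ¬ p ∣ P)
    (hlt : P ^ 3 < d ^ 3 * p ^ (5 * a)) : Concl p G := by
  have hn : Nat.card G ≠ 0 := Nat.card_pos.ne'
  have hfac : (Nat.card G).factorization p = a := factorization_of_mul hp hn h hd hP
  have hd0 : 0 < d := Nat.pos_of_ne_zero (by rintro rfl; exact hd (dvd_zero p))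
  have hpa : 0 < p ^ a := pow_pos hp.pos a
  have h3 : Nat.card G ^ 3 < p ^ (8 * a) := by
    have e1 : (d * Nat.card G) ^ 3 = (p ^ a) ^ 3 * P ^ 3 := by rw [h, mul_pow]
    have e2 : d ^ 3 * Nat.card G ^ 3 < d ^ 3 * p ^ (8 * a) := by
      calc d ^ 3 * Nat.card G ^ 3 = (p ^ a) ^ 3 * P ^ 3 := by rw [← mul_pow, e1]
        _ < (p ^ a) ^ 3 * (d ^ 3 * p ^ (5 * a)) := Nat.mul_lt_mul_of_pos_left hlt (pow_pos hpa 3)
        _ = d ^ 3 * p ^ (8 * a) := by ring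
    exact Nat.lt_of_mul_lt_mul_left e2
  refine ⟨?_, fun _ => ?_⟩
  · rw [hfac]
    have h4 : Nat.card G ^ 3 < (p ^ (3 * a)) ^ 3 := by
      calc Nat.card G ^ 3 < p ^ (8 * a) := h3
        _ ≤ p ^ (9 * a) := Nat.pow_le_pow_right hp.pos (by omega)
        _ = (p ^ (3 * a)) ^ 3 := by ring
    exact lt_of_pow_lt_pow_left₀ 3 (Nat.zero_le _) h4
  · rw [hfac]
    exact h3

/-- `Concl` is invariant under isomorphism -/
theorem concl_congr {p : ℕ} {G H : Type*} [Group G] [Group H] (e : G ≃* H) (h : Concl p H) : Concl p G := by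
  have hc : Nat.card G = Nat.card H := Nat.card_congr e.toEquiv
  unfold Concl at h ⊢
  rw [hc]
  refine ⟨h.1, fun hne => h.2 ?_⟩
  rintro ⟨F, i1, i2, hF, ⟨e'⟩⟩
  exact hne ⟨F, i1, i2, hF, ⟨e.trans e'⟩⟩

/-- `p ∤ q ^ e - 1` for `q` a positive power of `p`, `e ≥ 1` -/
theorem not_dvd_pow_sub_one {p : ℕ} (hp : p.Prime) {q f : ℕ} (hq : q = p ^ f) (hf : 1 ≤ f) {e : ℕ}
    (he : 1 ≤ e) : ¬ p ∣ q ^ e - 1 := by
  intro h
  have h1 : p ∣ q ^ e := by
    rw [hq, ← pow_mul]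
    exact dvd_pow_self p (by positivity)
  have h2 : 1 ≤ q ^ e := Nat.one_le_pow _ _ (by rw [hq]; exact pow_pos hp.pos f)
  have h3 : p ∣ q ^ e - (q ^ e - 1) := Nat.dvd_sub h1 h
  have h4 : q ^ e - (q ^ e - 1) = 1 := by omega
  rw [h4] at h3
  exact hp.one_lt.ne' (Nat.dvd_one.mp h3)

/-- `p ∤ q ^ e + 1` for `q` a positive power of `p`, `e ≥ 1` -/
theorem not_dvd_pow_add_one {p : ℕ} (hp : p.Prime) {q f : ℕ} (hq : q = p ^ f) (hf : 1 ≤ f) {e : ℕ}
    (he : 1 ≤ e) : ¬ p ∣ q ^ e + 1 := by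
  intro h
  have h1 : p ∣ q ^ e := by
    rw [hq, ← pow_mul]
    exact dvd_pow_self p (by positivity)
  have h3 : p ∣ 1 := (Nat.dvd_add_right h1).mp h
  exact hp.one_lt.ne' (Nat.dvd_one.mp h3)

/-- the cardinality of a finite field of characteristic `p` is a positive power of `p` -/
theorem card_eq_pow {p : ℕ} (hp : p.Prime) (F : Type*) [Field F] [Fintype F] [CharP F p] :
    ∃ f : ℕ, 1 ≤ f ∧ Fintype.card F = p ^ f := by
  have : Fact p.Prime := ⟨hp⟩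
  obtain ⟨n, -, hn⟩ := FiniteField.card F p
  exact ⟨n, n.pos, hn⟩

/-- `∏ (q ^ e i - 1) ≤ q ^ ∑ e i` -/
theorem prod_sub_one_le (q : ℕ) (e : ℕ → ℕ) (m : ℕ) :
    ∏ i ∈ Finset.range m, (q ^ e i - 1) ≤ q ^ ∑ i ∈ Finset.range m, e i := by
  rw [← Finset.prod_pow_eq_pow_sum]
  exact Finset.prod_le_prod' (fun i _ => Nat.sub_le _ _)

/-- `∏ (q ^ e i - 1) < q ^ ∑ e i` for a nonempty product -/
theorem prod_sub_one_lt {q : ℕ} (hq : 1 ≤ q) (e : ℕ → ℕ) {m : ℕ} (hm : 1 ≤ m) :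
    ∏ i ∈ Finset.range m, (q ^ e i - 1) < q ^ ∑ i ∈ Finset.range m, e i := by
  obtain ⟨k, rfl⟩ : ∃ k, m = k + 1 := ⟨m - 1, by omega⟩
  rw [Finset.prod_range_succ, Finset.sum_range_succ, pow_add]
  have h1 := prod_sub_one_le q e k
  have h2 : q ^ e k - 1 < q ^ e k := Nat.sub_lt (pow_pos hq _) one_pos
  calc (∏ i ∈ Finset.range k, (q ^ e i - 1)) * (q ^ e k - 1)
      ≤ q ^ (∑ i ∈ Finset.range k, e i) * (q ^ e k - 1) := Nat.mul_le_mul_right _ h1
    _ < q ^ (∑ i ∈ Finset.range k, e i) * q ^ e k := Nat.mul_lt_mul_of_pos_left h2 (pow_pos hq _)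

/-- `p ∤ ∏ (q ^ e i - 1)` for `q` a positive power of `p` and positive exponents -/
theorem not_dvd_prod_sub_one {p : ℕ} (hp : p.Prime) {q f : ℕ} (hq : q = p ^ f) (hf : 1 ≤ f)
    (e : ℕ → ℕ) (he : ∀ i, 1 ≤ e i) (m : ℕ) : ¬ p ∣ ∏ i ∈ Finset.range m, (q ^ e i - 1) := by
  intro h
  obtain ⟨i, -, hi⟩ := (Prime.dvd_finsetProd_iff hp.prime _).mp h
  exact not_dvd_pow_sub_one hp hq hf (he i) hi

/-- `q ^ e + 1 ≤ q ^ (e + 1)` for `q ≥ 2` -/
theorem pow_add_one_le {q : ℕ} (hq : 2 ≤ q) (e : ℕ) : q ^ e + 1 ≤ q ^ (e + 1) := by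
  have h1 : 1 ≤ q ^ e := Nat.one_le_pow _ _ (by omega)
  calc q ^ e + 1 ≤ q ^ e + q ^ e := by omega
    _ = 2 * q ^ e := by ring
    _ ≤ q * q ^ e := Nat.mul_le_mul_right _ hq
    _ = q ^ (e + 1) := by ring

end Cfsg.Agent.Helper18.O3K
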