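import Cfsg.Agent.Lib.Helper18.ChevSparse

set_option autoImplicit false

namespace Cfsg.Agent.Helper18

open Cfsg.Lie

section

variable {F : Type*} [Field F] (D : ChevalleyDatum)

theorem chainCoeff_pos (r s u : ℕ) : ∀ km ∈ D.chainCoeff r s u, 1 ≤ km.1 := by
  intro km hkm
  simp only [ChevalleyDatum.chainCoeff, List.mem_flatMap, List.mem_map] at hkm
  obtain ⟨e, _, q, _, rfl⟩ := hkm
  exact Nat.le_add_left 1 _

theorem xMat_zero (r : Fin D.nroots) : D.xMat F r 0 = 1 := by
  ext row col
  rcases col with i | s <;> rcases row with i' | u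
  · simp only [ChevalleyDatum.xMat, Matrix.of_apply, Matrix.one_apply, Sum.inl.injEq]
  · simp [ChevalleyDatum.xMat, Matrix.one_apply]
  · simp only [ChevalleyDatum.xMat, Matrix.of_apply, Matrix.one_apply]
    split_ifs <;> simp_all
  · simp only [ChevalleyDatum.xMat, Matrix.of_apply, Matrix.one_apply, Sum.inr.injEq]
    have hsum : ((D.chainCoeff r.val s.val u.val).map fun km => ((km.2 : ℤ) : F) * (0 : F) ^ km.1).sum = 0 := by
      apply List.sum_eq_zero
      intro x hx
      rw [List.mem_map] at hx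
      obtain ⟨km, hkm, rfl⟩ := hx
      have := chainCoeff_pos D _ _ _ km hkm
      rw [zero_pow (by omega), mul_zero]
    rw [hsum]
    by_cases h1 : s = r
    · subst h1
      simp only [if_true]
    · simp only [if_neg h1]
      by_cases h3 : s.val = D.negIdx.getD r.val 0
      · simp only [if_pos h3]
        by_cases h2 : u = s
        · simp [h2]
        · by_cases h4 : u = r
          · simp [h2, h4]
          · simp [h2, h4]
      · simp only [if_neg h3, add_zero]

theorem x_zero (r : ℕ) : D.x F r 0 = 1 := by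
  unfold ChevalleyDatum.x
  split_ifs with h
  · exact xMat_zero D ⟨r, h⟩
  · rfl

/-- Check of `x_r(a) x_r(b) = x_r(a + b)`. -/
def addCheck (r : ℕ) : Bool :=
  wordEqCheck D [(r, [(1, 1, 0)]), (r, [(1, 0, 1)])] [(r, [(1, 1, 0), (1, 0, 1)])]

theorem x_add_of_check (r : ℕ) (h : addCheck D r = true) (t₁ t₂ : F) :
    D.x F r t₁ * D.x F r t₂ = D.x F r (t₁ + t₂) := by
  by_cases h1 : t₁ = 0
  · rw [h1, x_zero, one_mul, zero_add]
  by_cases h2 : t₂ = 0
  · rw [h2, x_zero, mul_one, add_zero]
  have := wordMat_eq_of_check D (Units.mk0 t₁ h1) (Units.mk0 t₂ h2) _ _ h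
  simpa [ChevalleyDatum.wordMat, evalWord, LP.eval, LP.evalMono] using this

end

end Cfsg.Agent.Helper18
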