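import Cfsg.Agent.Lib.Helper18.ChevAdd
import Cfsg.Prelude.Def_LieTypes
import Cfsg.Prelude.Def_ChevB2

set_option autoImplicit false
set_option maxRecDepth 100000

namespace Cfsg.Agent.Helper18

open Cfsg.Lie

theorem addE7_63 : (List.range 32).all (fun r => addCheck chevE7 (r + 63)) = true := by
  decide +kernel

theorem addE7_63' (r : ℕ) (h1 : 63 ≤ r) (h2 : r < 95) : addCheck chevE7 r = true := by
  have h := addE7_63
  rw [List.all_eq_true] at h
  have := h (r - 63) (List.mem_range.mpr (by omega))
  rwa [Nat.sub_add_cancel h1] at this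

theorem addE7_95 : (List.range 31).all (fun r => addCheck chevE7 (r + 95)) = true := by
  decide +kernel

theorem addE7_95' (r : ℕ) (h1 : 95 ≤ r) (h2 : r < 126) : addCheck chevE7 r = true := by
  have h := addE7_95
  rw [List.all_eq_true] at h
  have := h (r - 95) (List.mem_range.mpr (by omega))
  rwa [Nat.sub_add_cancel h1] at this

end Cfsg.Agent.Helper18
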