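import Cfsg.Agent.Lib.Helper18.AddSmall
import Cfsg.Agent.Lib.Helper18.AddE7a
import Cfsg.Agent.Lib.Helper18.AddE7b
import Cfsg.Agent.Lib.Helper18.AddE8_0
import Cfsg.Agent.Lib.Helper18.AddE8_1
import Cfsg.Agent.Lib.Helper18.AddE8_2
import Cfsg.Agent.Lib.Helper18.AddE8_3
import Cfsg.Agent.Lib.Helper18.AddE8_4
import Cfsg.Agent.Lib.Helper18.AddE8_5
import Cfsg.Prelude.Def_LieTypes
import Cfsg.Prelude.Def_ChevB2

set_option autoImplicit false
set_option maxRecDepth 100000

namespace Cfsg.Agent.Helper18

open Cfsg.Lie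

theorem addAllG2 (r : ℕ) (hr : r < 12) : addCheck chevG2 r = true := by
  exact addG2_0' r (by omega) hr

theorem addAllB2 (r : ℕ) (hr : r < 8) : addCheck chevB2 r = true := by
  exact addB2_0' r (by omega) hr

theorem addAllD4 (r : ℕ) (hr : r < 24) : addCheck chevD4 r = true := by
  exact addD4_0' r (by omega) hr

theorem addAllF4 (r : ℕ) (hr : r < 48) : addCheck chevF4 r = true := by
  exact addF4_0' r (by omega) hr

theorem addAllE6 (r : ℕ) (hr : r < 72) : addCheck chevE6 r = true := by
  by_cases h0 : r < 36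
  · exact addE6_0' r (by omega) h0
  exact addE6_36' r (by omega) hr

theorem addAllE7 (r : ℕ) (hr : r < 126) : addCheck chevE7 r = true := by
  by_cases h0 : r < 32
  · exact addE7_0' r (by omega) h0
  by_cases h1 : r < 63
  · exact addE7_32' r (by omega) h1
  by_cases h2 : r < 95
  · exact addE7_63' r (by omega) h2
  exact addE7_95' r (by omega) hr

theorem addAllE8 (r : ℕ) (hr : r < 240) : addCheck chevE8 r = true := by
  by_cases h0 : r < 20
  · exact addE8_0' r (by omega) h0
  by_cases h1 : r < 40
  · exact addE8_20' r (by omega) h1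
  by_cases h2 : r < 60
  · exact addE8_40' r (by omega) h2
  by_cases h3 : r < 80
  · exact addE8_60' r (by omega) h3
  by_cases h4 : r < 100
  · exact addE8_80' r (by omega) h4
  by_cases h5 : r < 120
  · exact addE8_100' r (by omega) h5
  by_cases h6 : r < 140
  · exact addE8_120' r (by omega) h6
  by_cases h7 : r < 160
  · exact addE8_140' r (by omega) h7
  by_cases h8 : r < 180
  · exact addE8_160' r (by omega) h8
  by_cases h9 : r < 200
  · exact addE8_180' r (by omega) h9
  by_cases h10 : r < 220
  · exact addE8_200' r (by omega) h10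
  exact addE8_220' r (by omega) hr

theorem addAll (D : ChevalleyDatum) (hD : D ∈ [chevG2, chevB2, chevD4, chevF4, chevE6, chevE7, chevE8]) (r : ℕ) (hr : r < D.nroots) :
    addCheck D r = true := by
  simp only [List.mem_cons, List.not_mem_nil, or_false] at hD
  rcases hD with rfl | rfl | rfl | rfl | rfl | rfl | rfl
  · exact addAllG2 r hr
  · exact addAllB2 r hr
  · exact addAllD4 r hr
  · exact addAllF4 r hr
  · exact addAllE6 r hr
  · exact addAllE7 r hr
  · exact addAllE8 r hr

/-- `x_r(t₁) x_r(t₂) = x_r(t₁ + t₂)` for the seven tabulated data. -/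
theorem x_add {F : Type*} [Field F] (D : ChevalleyDatum) (hD : D ∈ [chevG2, chevB2, chevD4, chevF4, chevE6, chevE7, chevE8]) (r : ℕ) (t₁ t₂ : F) :
    D.x F r t₁ * D.x F r t₂ = D.x F r (t₁ + t₂) := by
  by_cases hr : r < D.nroots
  · exact x_add_of_check D r (addAll D hD r hr) t₁ t₂
  · simp [ChevalleyDatum.x, hr]

end Cfsg.Agent.Helper18
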