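import Cfsg.Agent.Lib.Helper18.UProdData

set_option autoImplicit false
set_option maxRecDepth 100000
set_option Elab.async false

namespace Cfsg.Agent.Helper18

open Cfsg.Lie

theorem wtChkG2_6 : wtRangeCheck chevG2 fwG2 6 12 = true := by
  decide +kernel

theorem ordChkG2_6 : ordCheck chevG2 6 = true := by
  decide +kernel

theorem ordChkG2_7 : ordCheck chevG2 7 = true := by
  decide +kernel

theorem ordChkG2_8 : ordCheck chevG2 8 = true := by
  decide +kernel

theorem ordChkG2_9 : ordCheck chevG2 9 = true := by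
  decide +kernel

theorem ordChkG2_10 : ordCheck chevG2 10 = true := by
  decide +kernel

theorem ordChkG2_11 : ordCheck chevG2 11 = true := by
  decide +kernel

theorem ordChkG2_from6 (k : ℕ) (h1 : 6 ≤ k) (h2 : k < 12) : ordCheck chevG2 k = true := by
  have h : k = 6 ∨ k = 7 ∨ k = 8 ∨ k = 9 ∨ k = 10 ∨ k = 11 := by omega
  rcases h with rfl | rfl | rfl | rfl | rfl | rfl
  exacts [ordChkG2_6, ordChkG2_7, ordChkG2_8, ordChkG2_9, ordChkG2_10, ordChkG2_11]

theorem wtChkB2_4 : wtRangeCheck chevB2 fwB2 4 8 = true := by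
  decide +kernel

theorem ordChkB2_4 : ordCheck chevB2 4 = true := by
  decide +kernel

theorem ordChkB2_5 : ordCheck chevB2 5 = true := by
  decide +kernel

theorem ordChkB2_6 : ordCheck chevB2 6 = true := by
  decide +kernel

theorem ordChkB2_7 : ordCheck chevB2 7 = true := by
  decide +kernel

theorem ordChkB2_from4 (k : ℕ) (h1 : 4 ≤ k) (h2 : k < 8) : ordCheck chevB2 k = true := by
  have h : k = 4 ∨ k = 5 ∨ k = 6 ∨ k = 7 := by omega
  rcases h with rfl | rfl | rfl | rfl
  exacts [ordChkB2_4, ordChkB2_5, ordChkB2_6, ordChkB2_7]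

theorem wtChkD4_12 : wtRangeCheck chevD4 fwD4 12 24 = true := by
  decide +kernel

theorem ordChkD4_12 : ordCheck chevD4 12 = true := by
  decide +kernel

theorem ordChkD4_13 : ordCheck chevD4 13 = true := by
  decide +kernel

theorem ordChkD4_14 : ordCheck chevD4 14 = true := by
  decide +kernel

theorem ordChkD4_15 : ordCheck chevD4 15 = true := by
  decide +kernel

theorem ordChkD4_16 : ordCheck chevD4 16 = true := by
  decide +kernel

theorem ordChkD4_17 : ordCheck chevD4 17 = true := by
  decide +kernel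

theorem ordChkD4_18 : ordCheck chevD4 18 = true := by
  decide +kernel

theorem ordChkD4_19 : ordCheck chevD4 19 = true := by
  decide +kernel

theorem ordChkD4_20 : ordCheck chevD4 20 = true := by
  decide +kernel

theorem ordChkD4_21 : ordCheck chevD4 21 = true := by
  decide +kernel

theorem ordChkD4_22 : ordCheck chevD4 22 = true := by
  decide +kernel

theorem ordChkD4_23 : ordCheck chevD4 23 = true := by
  decide +kernel

theorem ordChkD4_from12 (k : ℕ) (h1 : 12 ≤ k) (h2 : k < 24) : ordCheck chevD4 k = true := by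
  have h : k = 12 ∨ k = 13 ∨ k = 14 ∨ k = 15 ∨ k = 16 ∨ k = 17 ∨ k = 18 ∨ k = 19 ∨ k = 20 ∨ k = 21 ∨ k = 22 ∨ k = 23 := by omega
  rcases h with rfl | rfl | rfl | rfl | rfl | rfl | rfl | rfl | rfl | rfl | rfl | rfl
  exacts [ordChkD4_12, ordChkD4_13, ordChkD4_14, ordChkD4_15, ordChkD4_16, ordChkD4_17, ordChkD4_18, ordChkD4_19, ordChkD4_20, ordChkD4_21, ordChkD4_22, ordChkD4_23]

theorem wtChkF4_24 : wtRangeCheck chevF4 fwF4 24 36 = true := by
  decide +kernel

theorem wtChkF4_36 : wtRangeCheck chevF4 fwF4 36 48 = true := by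
  decide +kernel

theorem ordChkF4_24 : ordCheck chevF4 24 = true := by
  decide +kernel

theorem ordChkF4_25 : ordCheck chevF4 25 = true := by
  decide +kernel

theorem ordChkF4_26 : ordCheck chevF4 26 = true := by
  decide +kernel

theorem ordChkF4_27 : ordCheck chevF4 27 = true := by
  decide +kernel

theorem ordChkF4_28 : ordCheck chevF4 28 = true := by
  decide +kernel

theorem ordChkF4_29 : ordCheck chevF4 29 = true := by
  decide +kernel

theorem ordChkF4_30 : ordCheck chevF4 30 = true := by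
  decide +kernel

theorem ordChkF4_31 : ordCheck chevF4 31 = true := by
  decide +kernel

theorem ordChkF4_32 : ordCheck chevF4 32 = true := by
  decide +kernel

theorem ordChkF4_33 : ordCheck chevF4 33 = true := by
  decide +kernel

theorem ordChkF4_34 : ordCheck chevF4 34 = true := by
  decide +kernel

theorem ordChkF4_35 : ordCheck chevF4 35 = true := by
  decide +kernel

theorem ordChkF4_36 : ordCheck chevF4 36 = true := by
  decide +kernel

theorem ordChkF4_37 : ordCheck chevF4 37 = true := by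
  decide +kernel

theorem ordChkF4_38 : ordCheck chevF4 38 = true := by
  decide +kernel

theorem ordChkF4_39 : ordCheck chevF4 39 = true := by
  decide +kernel

theorem ordChkF4_40 : ordCheck chevF4 40 = true := by
  decide +kernel

theorem ordChkF4_41 : ordCheck chevF4 41 = true := by
  decide +kernel

theorem ordChkF4_42 : ordCheck chevF4 42 = true := by
  decide +kernel

theorem ordChkF4_43 : ordCheck chevF4 43 = true := by
  decide +kernel

theorem ordChkF4_44 : ordCheck chevF4 44 = true := by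
  decide +kernel

theorem ordChkF4_45 : ordCheck chevF4 45 = true := by
  decide +kernel

theorem ordChkF4_46 : ordCheck chevF4 46 = true := by
  decide +kernel

theorem ordChkF4_47 : ordCheck chevF4 47 = true := by
  decide +kernel

theorem ordChkF4_from24 (k : ℕ) (h1 : 24 ≤ k) (h2 : k < 48) : ordCheck chevF4 k = true := by
  have h : k = 24 ∨ k = 25 ∨ k = 26 ∨ k = 27 ∨ k = 28 ∨ k = 29 ∨ k = 30 ∨ k = 31 ∨ k = 32 ∨ k = 33 ∨ k = 34 ∨ k = 35 ∨ k = 36 ∨ k = 37 ∨ k = 38 ∨ k = 39 ∨ k = 40 ∨ k = 41 ∨ k = 42 ∨ k = 43 ∨ k = 44 ∨ k = 45 ∨ k = 46 ∨ k = 47 := by omega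
  rcases h with rfl | rfl | rfl | rfl | rfl | rfl | rfl | rfl | rfl | rfl | rfl | rfl | rfl | rfl | rfl | rfl | rfl | rfl | rfl | rfl | rfl | rfl | rfl | rfl
  exacts [ordChkF4_24, ordChkF4_25, ordChkF4_26, ordChkF4_27, ordChkF4_28, ordChkF4_29, ordChkF4_30, ordChkF4_31, ordChkF4_32, ordChkF4_33, ordChkF4_34, ordChkF4_35, ordChkF4_36, ordChkF4_37, ordChkF4_38, ordChkF4_39, ordChkF4_40, ordChkF4_41, ordChkF4_42, ordChkF4_43, ordChkF4_44, ordChkF4_45, ordChkF4_46, ordChkF4_47]

theorem wtChkE6_36 : wtRangeCheck chevE6 fwE6 36 48 = true := by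
  decide +kernel

theorem wtChkE6_48 : wtRangeCheck chevE6 fwE6 48 60 = true := by
  decide +kernel

theorem wtChkE6_60 : wtRangeCheck chevE6 fwE6 60 72 = true := by
  decide +kernel

theorem ordChkE6_36 : ordCheck chevE6 36 = true := by
  decide +kernel

theorem ordChkE6_37 : ordCheck chevE6 37 = true := by
  decide +kernel

theorem ordChkE6_38 : ordCheck chevE6 38 = true := by
  decide +kernel

theorem ordChkE6_39 : ordCheck chevE6 39 = true := by
  decide +kernel

theorem ordChkE6_40 : ordCheck chevE6 40 = true := by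
  decide +kernel

theorem ordChkE6_41 : ordCheck chevE6 41 = true := by
  decide +kernel

theorem ordChkE6_42 : ordCheck chevE6 42 = true := by
  decide +kernel

theorem ordChkE6_43 : ordCheck chevE6 43 = true := by
  decide +kernel

theorem ordChkE6_44 : ordCheck chevE6 44 = true := by
  decide +kernel

theorem ordChkE6_45 : ordCheck chevE6 45 = true := by
  decide +kernel

theorem ordChkE6_46 : ordCheck chevE6 46 = true := by
  decide +kernel

theorem ordChkE6_47 : ordCheck chevE6 47 = true := by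
  decide +kernel

theorem ordChkE6_48 : ordCheck chevE6 48 = true := by
  decide +kernel

theorem ordChkE6_49 : ordCheck chevE6 49 = true := by
  decide +kernel

theorem ordChkE6_50 : ordCheck chevE6 50 = true := by
  decide +kernel

theorem ordChkE6_51 : ordCheck chevE6 51 = true := by
  decide +kernel

theorem ordChkE6_52 : ordCheck chevE6 52 = true := by
  decide +kernel

theorem ordChkE6_53 : ordCheck chevE6 53 = true := by
  decide +kernel

theorem ordChkE6_54 : ordCheck chevE6 54 = true := by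
  decide +kernel

theorem ordChkE6_55 : ordCheck chevE6 55 = true := by
  decide +kernel

theorem ordChkE6_56 : ordCheck chevE6 56 = true := by
  decide +kernel

theorem ordChkE6_57 : ordCheck chevE6 57 = true := by
  decide +kernel

theorem ordChkE6_58 : ordCheck chevE6 58 = true := by
  decide +kernel

theorem ordChkE6_59 : ordCheck chevE6 59 = true := by
  decide +kernel

theorem ordChkE6_60 : ordCheck chevE6 60 = true := by
  decide +kernel

theorem ordChkE6_61 : ordCheck chevE6 61 = true := by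
  decide +kernel

theorem ordChkE6_62 : ordCheck chevE6 62 = true := by
  decide +kernel

theorem ordChkE6_63 : ordCheck chevE6 63 = true := by
  decide +kernel

theorem ordChkE6_64 : ordCheck chevE6 64 = true := by
  decide +kernel

theorem ordChkE6_65 : ordCheck chevE6 65 = true := by
  decide +kernel

theorem ordChkE6_66 : ordCheck chevE6 66 = true := by
  decide +kernel

theorem ordChkE6_67 : ordCheck chevE6 67 = true := by
  decide +kernel

theorem ordChkE6_68 : ordCheck chevE6 68 = true := by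
  decide +kernel

theorem ordChkE6_69 : ordCheck chevE6 69 = true := by
  decide +kernel

theorem ordChkE6_70 : ordCheck chevE6 70 = true := by
  decide +kernel

theorem ordChkE6_71 : ordCheck chevE6 71 = true := by
  decide +kernel

theorem ordChkE6_from36 (k : ℕ) (h1 : 36 ≤ k) (h2 : k < 72) : ordCheck chevE6 k = true := by
  have h : k = 36 ∨ k = 37 ∨ k = 38 ∨ k = 39 ∨ k = 40 ∨ k = 41 ∨ k = 42 ∨ k = 43 ∨ k = 44 ∨ k = 45 ∨ k = 46 ∨ k = 47 ∨ k = 48 ∨ k = 49 ∨ k = 50 ∨ k = 51 ∨ k = 52 ∨ k = 53 ∨ k = 54 ∨ k = 55 ∨ k = 56 ∨ k = 57 ∨ k = 58 ∨ k = 59 ∨ k = 60 ∨ k = 61 ∨ k = 62 ∨ k = 63 ∨ k = 64 ∨ k = 65 ∨ k = 66 ∨ k = 67 ∨ k = 68 ∨ k = 69 ∨ k = 70 ∨ k = 71 := by omega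
  rcases h with rfl | rfl | rfl | rfl | rfl | rfl | rfl | rfl | rfl | rfl | rfl | rfl | rfl | rfl | rfl | rfl | rfl | rfl | rfl | rfl | rfl | rfl | rfl | rfl | rfl | rfl | rfl | rfl | rfl | rfl | rfl | rfl | rfl | rfl | rfl | rfl
  exacts [ordChkE6_36, ordChkE6_37, ordChkE6_38, ordChkE6_39, ordChkE6_40, ordChkE6_41, ordChkE6_42, ordChkE6_43, ordChkE6_44, ordChkE6_45, ordChkE6_46, ordChkE6_47, ordChkE6_48, ordChkE6_49, ordChkE6_50, ordChkE6_51, ordChkE6_52, ordChkE6_53, ordChkE6_54, ordChkE6_55, ordChkE6_56, ordChkE6_57, ordChkE6_58, ordChkE6_59, ordChkE6_60, ordChkE6_61, ordChkE6_62, ordChkE6_63, ordChkE6_64, ordChkE6_65, ordChkE6_66, ordChkE6_67, ordChkE6_68, ordChkE6_69, ordChkE6_70, ordChkE6_71]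

end Cfsg.Agent.Helper18
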