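import Cfsg.Agent.Lib.Helper18.ChevAdd
import Cfsg.Prelude.Def_LieTypes
import Cfsg.Prelude.Def_ChevB2

set_option autoImplicit false
set_option maxRecDepth 100000

namespace Cfsg.Agent.Helper18

open Cfsg.Lie

theorem addG2_0 : (List.range 12).all (fun r => addCheck chevG2 (r + 0)) = true := by
  decide +kernel

theorem addG2_0' (r : ℕ) (h1 : 0 ≤ r) (h2 : r < 12) : addCheck chevG2 r = true := by
  have h := addG2_0
  rw [List.all_eq_true] at h
  have := h (r - 0) (List.mem_range.mpr (by omega))
  rwa [Nat.sub_add_cancel h1] at this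

theorem addB2_0 : (List.range 8).all (fun r => addCheck chevB2 (r + 0)) = true := by
  decide +kernel

theorem addB2_0' (r : ℕ) (h1 : 0 ≤ r) (h2 : r < 8) : addCheck chevB2 r = true := by
  have h := addB2_0
  rw [List.all_eq_true] at h
  have := h (r - 0) (List.mem_range.mpr (by omega))
  rwa [Nat.sub_add_cancel h1] at this

theorem addD4_0 : (List.range 24).all (fun r => addCheck chevD4 (r + 0)) = true := by
  decide +kernel

theorem addD4_0' (r : ℕ) (h1 : 0 ≤ r) (h2 : r < 24) : addCheck chevD4 r = true := by
  have h := addD4_0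
  rw [List.all_eq_true] at h
  have := h (r - 0) (List.mem_range.mpr (by omega))
  rwa [Nat.sub_add_cancel h1] at this

theorem addF4_0 : (List.range 48).all (fun r => addCheck chevF4 (r + 0)) = true := by
  decide +kernel

theorem addF4_0' (r : ℕ) (h1 : 0 ≤ r) (h2 : r < 48) : addCheck chevF4 r = true := by
  have h := addF4_0
  rw [List.all_eq_true] at h
  have := h (r - 0) (List.mem_range.mpr (by omega))
  rwa [Nat.sub_add_cancel h1] at this

theorem addE6_0 : (List.range 36).all (fun r => addCheck chevE6 (r + 0)) = true := by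
  decide +kernel

theorem addE6_0' (r : ℕ) (h1 : 0 ≤ r) (h2 : r < 36) : addCheck chevE6 r = true := by
  have h := addE6_0
  rw [List.all_eq_true] at h
  have := h (r - 0) (List.mem_range.mpr (by omega))
  rwa [Nat.sub_add_cancel h1] at this

theorem addE6_36 : (List.range 36).all (fun r => addCheck chevE6 (r + 36)) = true := by
  decide +kernel

theorem addE6_36' (r : ℕ) (h1 : 36 ≤ r) (h2 : r < 72) : addCheck chevE6 r = true := by
  have h := addE6_36
  rw [List.all_eq_true] at h
  have := h (r - 36) (List.mem_range.mpr (by omega))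
  rwa [Nat.sub_add_cancel h1] at this

end Cfsg.Agent.Helper18
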