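import Cfsg.Agent.Lib.Helper18.ChevLongest
import Cfsg.Agent.Lib.Helper18.ConjData

set_option autoImplicit false
set_option maxRecDepth 100000

namespace Cfsg.Agent.Helper18

open Cfsg.Lie Cfsg.Agent.S1043

def permTblG2 : List ℕ := [permG2_0, permG2_1]
def w0WordG2 : List ℕ := [0, 1, 0, 1, 0, 1]
theorem longestChkG2 : longestCheck chevG2 permTblG2 w0WordG2 = true := by
  decide +kernel

theorem permTblG2_ok (i : ℕ) (hi : i < 2) : permCheck chevG2 i (lget permTblG2 i 0) = true := by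
  have h : i = 0 ∨ i = 1 := by omega
  rcases h with rfl | rfl
  exacts [permChkG2_0, permChkG2_1]

def permTblB2 : List ℕ := [permB2_0, permB2_1]
def w0WordB2 : List ℕ := [0, 1, 0, 1]
theorem longestChkB2 : longestCheck chevB2 permTblB2 w0WordB2 = true := by
  decide +kernel

theorem permTblB2_ok (i : ℕ) (hi : i < 2) : permCheck chevB2 i (lget permTblB2 i 0) = true := by
  have h : i = 0 ∨ i = 1 := by omega
  rcases h with rfl | rfl
  exacts [permChkB2_0, permChkB2_1]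

def permTblD4 : List ℕ := [permD4_0, permD4_1, permD4_2, permD4_3]
def w0WordD4 : List ℕ := [0, 1, 0, 2, 1, 0, 3, 1, 0, 2, 1, 3]
theorem longestChkD4 : longestCheck chevD4 permTblD4 w0WordD4 = true := by
  decide +kernel

theorem permTblD4_ok (i : ℕ) (hi : i < 4) : permCheck chevD4 i (lget permTblD4 i 0) = true := by
  have h : i = 0 ∨ i = 1 ∨ i = 2 ∨ i = 3 := by omega
  rcases h with rfl | rfl | rfl | rfl
  exacts [permChkD4_0, permChkD4_1, permChkD4_2, permChkD4_3]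

def permTblF4 : List ℕ := [permF4_0, permF4_1, permF4_2, permF4_3]
def w0WordF4 : List ℕ := [0, 1, 0, 2, 1, 0, 2, 1, 2, 3, 2, 1, 0, 2, 1, 2, 3, 2, 1, 0, 2, 1, 2, 3]
theorem longestChkF4 : longestCheck chevF4 permTblF4 w0WordF4 = true := by
  decide +kernel

theorem permTblF4_ok (i : ℕ) (hi : i < 4) : permCheck chevF4 i (lget permTblF4 i 0) = true := by
  have h : i = 0 ∨ i = 1 ∨ i = 2 ∨ i = 3 := by omega
  rcases h with rfl | rfl | rfl | rfl
  exacts [permChkF4_0, permChkF4_1, permChkF4_2, permChkF4_3]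

def permTblE6 : List ℕ := [permE6_0, permE6_1, permE6_2, permE6_3, permE6_4, permE6_5]
def w0WordE6 : List ℕ := [0, 1, 2, 0, 3, 1, 2, 0, 3, 2, 4, 3, 1, 2, 0, 3, 2, 4, 3, 1, 5, 4, 3, 1, 2, 0, 3, 2, 4, 3, 1, 5, 4, 3, 2, 0]
theorem longestChkE6 : longestCheck chevE6 permTblE6 w0WordE6 = true := by
  decide +kernel

theorem permTblE6_ok (i : ℕ) (hi : i < 6) : permCheck chevE6 i (lget permTblE6 i 0) = true := by
  have h : i = 0 ∨ i = 1 ∨ i = 2 ∨ i = 3 ∨ i = 4 ∨ i = 5 := by omega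
  rcases h with rfl | rfl | rfl | rfl | rfl | rfl
  exacts [permChkE6_0, permChkE6_1, permChkE6_2, permChkE6_3, permChkE6_4, permChkE6_5]

def permTblE7 : List ℕ := [permE7_0, permE7_1, permE7_2, permE7_3, permE7_4, permE7_5, permE7_6]
def w0WordE7 : List ℕ := [0, 1, 2, 0, 3, 1, 2, 0, 3, 2, 4, 3, 1, 2, 0, 3, 2, 4, 3, 1, 5, 4, 3, 1, 2, 0, 3, 2, 4, 3, 1, 5, 4, 3, 2, 0, 6, 5, 4, 3, 1, 2, 0, 3, 2, 4, 3, 1, 5, 4, 3, 2, 0, 6, 5, 4, 3, 1, 2, 3, 4, 5, 6]
theorem longestChkE7 : longestCheck chevE7 permTblE7 w0WordE7 = true := by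
  decide +kernel

theorem permTblE7_ok (i : ℕ) (hi : i < 7) : permCheck chevE7 i (lget permTblE7 i 0) = true := by
  have h : i = 0 ∨ i = 1 ∨ i = 2 ∨ i = 3 ∨ i = 4 ∨ i = 5 ∨ i = 6 := by omega
  rcases h with rfl | rfl | rfl | rfl | rfl | rfl | rfl
  exacts [permChkE7_0, permChkE7_1, permChkE7_2, permChkE7_3, permChkE7_4, permChkE7_5, permChkE7_6]

def permTblE8 : List ℕ := [permE8_0, permE8_1, permE8_2, permE8_3, permE8_4, permE8_5, permE8_6, permE8_7]
def w0WordE8 : List ℕ := [0, 1, 2, 0, 3, 1, 2, 0, 3, 2, 4, 3, 1, 2, 0, 3, 2, 4, 3, 1, 5, 4, 3, 1, 2, 0, 3, 2, 4, 3, 1, 5, 4, 3, 2, 0, 6, 5, 4, 3, 1, 2, 0, 3, 2, 4, 3, 1, 5, 4, 3, 2, 0, 6, 5, 4, 3, 1, 2, 3, 4, 5, 6, 7, 6, 5, 4, 3, 1, 2, 0, 3, 2, 4, 3, 1, 5, 4, 3, 2, 0, 6, 5, 4, 3, 1, 2, 3, 4, 5, 6, 7, 6, 5, 4, 3, 1, 2, 0, 3, 2, 4, 3, 1, 5, 4, 3, 2, 0, 6, 5, 4, 3, 1, 2, 3, 4, 5, 6, 7]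
theorem longestChkE8 : longestCheck chevE8 permTblE8 w0WordE8 = true := by
  decide +kernel

theorem permTblE8_ok (i : ℕ) (hi : i < 8) : permCheck chevE8 i (lget permTblE8 i 0) = true := by
  have h : i = 0 ∨ i = 1 ∨ i = 2 ∨ i = 3 ∨ i = 4 ∨ i = 5 ∨ i = 6 ∨ i = 7 := by omega
  rcases h with rfl | rfl | rfl | rfl | rfl | rfl | rfl | rfl
  exacts [permChkE8_0, permChkE8_1, permChkE8_2, permChkE8_3, permChkE8_4, permChkE8_5, permChkE8_6, permChkE8_7]

theorem longest_all {F : Type*} [Field F] (D : ChevalleyDatum) (hD : Good D)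
    (hconj : ∀ i < D.rank, ∀ s < D.nroots, ConjGoal' F D i s) :
    ∃ n ∈ D.monomialSubgroup F,
      (D.posUnipotent F).map (MulAut.conj n).toMonoidHom = D.negUnipotent F := by
  have hD' := hD
  simp only [Good, List.mem_cons, List.not_mem_nil, or_false] at hD'
  rcases hD' with rfl | rfl | rfl | rfl | rfl | rfl | rfl
  · exact longest_of_check chevG2 hD permTblG2 w0WordG2 permTblG2_ok hconj longestChkG2
  · exact longest_of_check chevB2 hD permTblB2 w0WordB2 permTblB2_ok hconj longestChkB2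
  · exact longest_of_check chevD4 hD permTblD4 w0WordD4 permTblD4_ok hconj longestChkD4
  · exact longest_of_check chevF4 hD permTblF4 w0WordF4 permTblF4_ok hconj longestChkF4
  · exact longest_of_check chevE6 hD permTblE6 w0WordE6 permTblE6_ok hconj longestChkE6
  · exact longest_of_check chevE7 hD permTblE7 w0WordE7 permTblE7_ok hconj longestChkE7
  · exact longest_of_check chevE8 hD permTblE8 w0WordE8 permTblE8_ok hconj longestChkE8

end Cfsg.Agent.Helper18
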