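import Cfsg.Agent.Lib.Helper18.ChevMonoNormal
import Cfsg.Agent.Lib.Helper18.LongestData

set_option autoImplicit false
set_option maxRecDepth 100000

namespace Cfsg.Agent.Helper18

open Cfsg.Lie Cfsg.Agent.S1043

def orbG2 : List (ℕ × List ℕ) := [(1, [1, 0, 1]), (1, [0, 1]), (0, [0, 1, 0]), (0, [1, 0]), (0, [0]), (1, [1]), (1, []), (0, []), (0, [1]), (0, [0, 1]), (1, [0]), (1, [1, 0])]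
theorem orbitChkG2 : orbitCheck chevG2 permTblG2 orbG2 = true := by
  decide +kernel

def orbB2 : List (ℕ × List ℕ) := [(1, [0, 1]), (0, [1, 0]), (0, [0]), (1, [1]), (1, []), (0, []), (0, [1]), (1, [0])]
theorem orbitChkB2 : orbitCheck chevB2 permTblB2 orbB2 = true := by
  decide +kernel

def orbD4 : List (ℕ × List ℕ) := [(0, [1, 3, 2, 1, 0]), (0, [3, 2, 1, 0]), (0, [2, 1, 0]), (0, [3, 1, 0]), (0, [1, 0]), (0, [0]), (1, [3, 2, 1]), (1, [2, 1]), (1, [3, 1]), (1, [1]), (2, [2]), (3, [3]), (3, []), (2, []), (1, []), (1, [3]), (1, [2]), (1, [3, 2]), (0, []), (0, [1]), (0, [3, 1]), (0, [2, 1]), (0, [3, 2, 1]), (0, [1, 3, 2, 1])]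
theorem orbitChkD4 : orbitCheck chevD4 permTblD4 orbD4 = true := by
  decide +kernel

def orbF4 : List (ℕ × List ℕ) := [(2, [3, 2, 1, 2, 3, 0, 1, 2]), (2, [2, 1, 2, 3, 0, 1, 2]), (2, [1, 2, 3, 0, 1, 2]), (0, [0, 1, 2, 3, 1, 2, 1, 0]), (2, [2, 3, 0, 1, 2]), (2, [3, 0, 1, 2]), (2, [0, 1, 2]), (0, [1, 2, 3, 1, 2, 1, 0]), (0, [2, 3, 1, 2, 1, 0]), (0, [3, 1, 2, 1, 0]), (0, [1, 2, 1, 0]), (0, [3, 2, 1, 0]), (0, [2, 1, 0]), (0, [1, 0]), (0, [0]), (2, [2, 3, 1, 2]), (2, [3, 1, 2]), (2, [1, 2]), (1, [3, 2, 1]), (1, [2, 1]), (1, [1]), (2, [3, 2]), (2, [2]), (3, [3]), (3, []), (2, []), (2, [3]), (1, []), (1, [2]), (1, [3, 2]), (2, [1]), (2, [3, 1]), (2, [2, 3, 1]), (0, []), (0, [1]), (0, [2, 1]), (0, [3, 2, 1]),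 (0, [1, 2, 1]), (0, [3, 1, 2, 1]), (0, [2, 3, 1, 2, 1]), (0, [1, 2, 3, 1, 2, 1]), (2, [0, 1]), (2, [3, 0, 1]), (2, [2, 3, 0, 1]), (0, [0, 1, 2, 3, 1, 2, 1]), (2, [1, 2, 3, 0, 1]), (2, [2, 1, 2, 3, 0, 1]), (2, [3, 2, 1, 2, 3, 0, 1])]
theorem orbitChkF4 : orbitCheck chevF4 permTblF4 orbF4 = true := by
  decide +kernel

def orbE6 : List (ℕ × List ℕ) := [(0, [1, 3, 4, 5, 2, 3, 4, 1, 3, 2, 0]), (0, [3, 4, 5, 2, 3, 4, 1, 3, 2, 0]), (0, [4, 5, 2, 3, 4, 1, 3, 2, 0]), (0, [5, 2, 3, 4, 1, 3, 2, 0]), (0, [2, 3, 4, 1, 3, 2, 0]), (0, [4, 5, 3, 4, 1, 3, 2, 0]), (0, [5, 3, 4, 1, 3, 2, 0]), (0, [3, 4, 1, 3, 2, 0]), (0, [5, 4, 1, 3, 2, 0]), (0, [4, 1, 3, 2, 0]), (0, [1, 3, 2, 0]), (0, [5, 4, 3, 2, 0]), (0, [4, 3, 2,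 0]), (0, [3, 2, 0]), (0, [2, 0]), (0, [0]), (1, [4, 5, 3, 4, 2, 3, 1]), (1, [5, 3, 4, 2, 3, 1]), (1, [3, 4, 2, 3, 1]), (1, [5, 4, 2, 3, 1]), (1, [4, 2, 3, 1]), (1, [2, 3, 1]), (1, [5, 4, 3, 1]), (1, [4, 3, 1]), (1, [3, 1]), (1, [1]), (2, [5, 4, 3, 2]), (2, [4, 3, 2]), (2, [3, 2]), (2, [2]), (3, [5, 4, 3]), (3, [4, 3]), (3, [3]), (4, [5, 4]), (4, [4]), (5, [5]), (5, []), (4, []), (4, [5]), (3, []), (3, [4]), (3, [5, 4]), (2, []), (2, [3]), (2, [4, 3]), (2, [5, 4, 3]), (1, []), (1, [3]), (1, [4, 3]), (1, [5, 4, 3]), (1, [2, 3]), (1, [4, 2, 3]), (1, [5, 4, 2, 3]), (1, [3, 4, 2, 3]), (1, [5, 3, 4, 2, 3]), (1, [4, 5, 3, 4, 2, 3]), (0, []), (0, [2]), (0, [3, 2]), (0, [4, 3, 2]), (0, [5, 4, 3, 2]), (0, [1,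 3, 2]), (0, [4, 1, 3, 2]), (0, [5, 4, 1, 3, 2]), (0, [3, 4, 1, 3, 2]), (0, [5, 3, 4, 1, 3, 2]), (0, [4, 5, 3, 4, 1, 3, 2]), (0, [2, 3, 4, 1, 3, 2]), (0, [5, 2, 3, 4, 1, 3, 2]), (0, [4, 5, 2, 3, 4, 1, 3, 2]), (0, [3, 4, 5, 2, 3, 4, 1, 3, 2]), (0, [1, 3, 4, 5, 2, 3, 4, 1, 3, 2])]
theorem orbitChkE6 : orbitCheck chevE6 permTblE6 orbE6 = true := by
  decide +kernel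

def orbE7 : List (ℕ × List ℕ) := [(0, [0, 2, 3, 4, 5, 6, 1, 3, 4, 5, 2, 3, 4, 1, 3, 2, 0]), (0, [2, 3, 4, 5, 6, 1, 3, 4, 5, 2, 3, 4, 1, 3, 2, 0]), (0, [3, 4, 5, 6, 1, 3, 4, 5, 2, 3, 4, 1, 3, 2, 0]), (0, [4, 5, 6, 1, 3, 4, 5, 2, 3, 4, 1, 3, 2, 0]), (0, [5, 6, 1, 3, 4, 5, 2, 3, 4, 1, 3, 2, 0]), (0, [6, 1, 3, 4, 5, 2, 3, 4, 1, 3, 2, 0]), (0, [1, 3, 4, 5, 2, 3, 4, 1, 3, 2, 0]), (0, [4, 5, 6, 3, 4, 5, 2, 3, 4, 1, 3, 2, 0]), (0, [5, 6, 3, 4, 5, 2, 3, 4, 1, 3, 2, 0]), (0, [6, 3, 4, 5, 2, 3, 4, 1, 3, 2, 0]), (0, [3, 4, 5, 2, 3, 4, 1, 3, 2, 0]), (0, [5, 6, 4, 5, 2, 3, 4, 1, 3, 2, 0]), (0, [6, 4, 5, 2, 3, 4, 1, 3, 2, 0]), (0, [4, 5, 2, 3, 4, 1, 3, 2, 0]), (0, [6, 5, 2, 3, 4, 1, 3, 2, 0]), (0, [5, 2, 3, 4, 1,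 3, 2, 0]), (0, [2, 3, 4, 1, 3, 2, 0]), (0, [5, 6, 4, 5, 3, 4, 1, 3, 2, 0]), (0, [6, 4, 5, 3, 4, 1, 3, 2, 0]), (0, [4, 5, 3, 4, 1, 3, 2, 0]), (0, [6, 5, 3, 4, 1, 3, 2, 0]), (0, [5, 3, 4, 1, 3, 2, 0]), (0, [3, 4, 1, 3, 2, 0]), (0, [6, 5, 4, 1, 3, 2, 0]), (0, [5, 4, 1, 3, 2, 0]), (0, [4, 1, 3, 2, 0]), (0, [1, 3, 2, 0]), (0, [6, 5, 4, 3, 2, 0]), (0, [5, 4, 3, 2, 0]), (0, [4, 3, 2, 0]), (0, [3, 2, 0]), (0, [2, 0]), (0, [0]), (1, [5, 6, 4, 5, 3, 4, 2, 3, 1]), (1, [6, 4, 5, 3, 4, 2, 3, 1]), (1, [4, 5, 3, 4, 2, 3, 1]), (1, [6, 5, 3, 4, 2, 3, 1]), (1, [5, 3, 4, 2, 3, 1]), (1, [3, 4, 2, 3, 1]), (1, [6, 5, 4, 2, 3, 1]), (1, [5, 4, 2, 3, 1]), (1, [4, 2, 3, 1]), (1, [2, 3, 1]), (1, [6, 5, 4, 3, 1]), (1, [5, 4, 3,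 1]), (1, [4, 3, 1]), (1, [3, 1]), (1, [1]), (2, [6, 5, 4, 3, 2]), (2, [5, 4, 3, 2]), (2, [4, 3, 2]), (2, [3, 2]), (2, [2]), (3, [6, 5, 4, 3]), (3, [5, 4, 3]), (3, [4, 3]), (3, [3]), (4, [6, 5, 4]), (4, [5, 4]), (4, [4]), (5, [6, 5]), (5, [5]), (6, [6]), (6, []), (5, []), (5, [6]), (4, []), (4, [5]), (4, [6, 5]), (3, []), (3, [4]), (3, [5, 4]), (3, [6, 5, 4]), (2, []), (2, [3]), (2, [4, 3]), (2, [5, 4, 3]), (2, [6, 5, 4, 3]), (1, []), (1, [3]), (1, [4, 3]), (1, [5, 4, 3]), (1, [6, 5, 4, 3]), (1, [2, 3]), (1, [4, 2, 3]), (1, [5, 4, 2, 3]), (1, [6, 5, 4, 2, 3]), (1, [3, 4, 2, 3]), (1, [5, 3, 4, 2, 3]), (1, [6, 5, 3, 4, 2, 3]), (1, [4, 5, 3, 4, 2, 3]), (1, [6, 4, 5, 3, 4, 2, 3]), (1, [5, 6, 4, 5, 3, 4,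 2, 3]), (0, []), (0, [2]), (0, [3, 2]), (0, [4, 3, 2]), (0, [5, 4, 3, 2]), (0, [6, 5, 4, 3, 2]), (0, [1, 3, 2]), (0, [4, 1, 3, 2]), (0, [5, 4, 1, 3, 2]), (0, [6, 5, 4, 1, 3, 2]), (0, [3, 4, 1, 3, 2]), (0, [5, 3, 4, 1, 3, 2]), (0, [6, 5, 3, 4, 1, 3, 2]), (0, [4, 5, 3, 4, 1, 3, 2]), (0, [6, 4, 5, 3, 4, 1, 3, 2]), (0, [5, 6, 4, 5, 3, 4, 1, 3, 2]), (0, [2, 3, 4, 1, 3, 2]), (0, [5, 2, 3, 4, 1, 3, 2]), (0, [6, 5, 2, 3, 4, 1, 3, 2]), (0, [4, 5, 2, 3, 4, 1, 3, 2]), (0, [6, 4, 5, 2, 3, 4, 1, 3, 2]), (0, [5, 6, 4, 5, 2, 3, 4, 1, 3, 2]), (0, [3, 4, 5, 2, 3, 4, 1, 3, 2]), (0, [6, 3, 4, 5, 2, 3, 4, 1, 3, 2]), (0, [5, 6, 3, 4, 5, 2, 3, 4, 1, 3, 2]), (0, [4, 5, 6, 3, 4, 5, 2, 3, 4, 1, 3, 2]), (0, [1, 3, 4, 5, 2, 3,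 4, 1, 3, 2]), (0, [6, 1, 3, 4, 5, 2, 3, 4, 1, 3, 2]), (0, [5, 6, 1, 3, 4, 5, 2, 3, 4, 1, 3, 2]), (0, [4, 5, 6, 1, 3, 4, 5, 2, 3, 4, 1, 3, 2]), (0, [3, 4, 5, 6, 1, 3, 4, 5, 2, 3, 4, 1, 3, 2]), (0, [2, 3, 4, 5, 6, 1, 3, 4, 5, 2, 3, 4, 1, 3, 2]), (0, [0, 2, 3, 4, 5, 6, 1, 3, 4, 5, 2, 3, 4, 1, 3, 2])]
theorem orbitChkE7 : orbitCheck chevE7 permTblE7 orbE7 = true := by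
  decide +kernel

def orbE8 : List (ℕ × List ℕ) := [(0, [7, 6, 5, 4, 3, 2, 1, 3, 4, 5, 6, 7, 0, 2, 3, 4, 5, 6, 1, 3, 4, 5, 2, 3, 4, 1, 3, 2, 0]), (0, [6, 5, 4, 3, 2, 1, 3, 4, 5, 6, 7, 0, 2, 3, 4, 5, 6, 1, 3, 4, 5, 2, 3, 4, 1, 3, 2, 0]), (0, [5, 4, 3, 2, 1, 3, 4, 5, 6, 7, 0, 2, 3, 4, 5, 6, 1, 3, 4, 5, 2, 3, 4, 1, 3, 2, 0]), (0, [4, 3, 2, 1, 3, 4, 5, 6, 7, 0, 2, 3, 4, 5, 6, 1, 3, 4, 5, 2, 3, 4, 1, 3, 2, 0]), (0, [3, 2, 1, 3, 4, 5, 6, 7, 0, 2, 3, 4, 5, 6, 1, 3, 4, 5, 2, 3, 4, 1, 3, 2, 0]), (0, [2, 1, 3, 4, 5, 6, 7, 0, 2, 3, 4, 5, 6, 1, 3, 4, 5, 2, 3, 4, 1, 3, 2, 0]), (0, [1, 3, 4, 5, 6, 7, 0, 2, 3, 4, 5, 6, 1, 3, 4, 5, 2, 3, 4, 1, 3, 2, 0]), (0, [2, 3, 4, 5, 6, 7, 0, 2, 3, 4, 5, 6, 1, 3, 4, 5, 2, 3, 4,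 1, 3, 2, 0]), (0, [3, 4, 5, 6, 7, 0, 2, 3, 4, 5, 6, 1, 3, 4, 5, 2, 3, 4, 1, 3, 2, 0]), (0, [4, 5, 6, 7, 0, 2, 3, 4, 5, 6, 1, 3, 4, 5, 2, 3, 4, 1, 3, 2, 0]), (0, [5, 6, 7, 0, 2, 3, 4, 5, 6, 1, 3, 4, 5, 2, 3, 4, 1, 3, 2, 0]), (0, [6, 7, 0, 2, 3, 4, 5, 6, 1, 3, 4, 5, 2, 3, 4, 1, 3, 2, 0]), (0, [7, 0, 2, 3, 4, 5, 6, 1, 3, 4, 5, 2, 3, 4, 1, 3, 2, 0]), (0, [0, 2, 3, 4, 5, 6, 1, 3, 4, 5, 2, 3, 4, 1, 3, 2, 0]), (0, [1, 3, 4, 5, 6, 7, 2, 3, 4, 5, 6, 1, 3, 4, 5, 2, 3, 4, 1, 3, 2, 0]), (0, [3, 4, 5, 6, 7, 2, 3, 4, 5, 6, 1, 3, 4, 5, 2, 3, 4, 1, 3, 2, 0]), (0, [4, 5, 6, 7, 2, 3, 4, 5, 6, 1, 3, 4, 5, 2, 3, 4, 1, 3, 2, 0]), (0, [5, 6, 7, 2, 3, 4, 5, 6, 1, 3, 4, 5, 2, 3, 4, 1, 3, 2, 0]), (0, [6, 7, 2, 3, 4, 5, 6, 1,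 3, 4, 5, 2, 3, 4, 1, 3, 2, 0]), (0, [7, 2, 3, 4, 5, 6, 1, 3, 4, 5, 2, 3, 4, 1, 3, 2, 0]), (0, [2, 3, 4, 5, 6, 1, 3, 4, 5, 2, 3, 4, 1, 3, 2, 0]), (0, [4, 5, 6, 7, 3, 4, 5, 6, 1, 3, 4, 5, 2, 3, 4, 1, 3, 2, 0]), (0, [5, 6, 7, 3, 4, 5, 6, 1, 3, 4, 5, 2, 3, 4, 1, 3, 2, 0]), (0, [6, 7, 3, 4, 5, 6, 1, 3, 4, 5, 2, 3, 4, 1, 3, 2, 0]), (0, [7, 3, 4, 5, 6, 1, 3, 4, 5, 2, 3, 4, 1, 3, 2, 0]), (0, [3, 4, 5, 6, 1, 3, 4, 5, 2, 3, 4, 1, 3, 2, 0]), (0, [5, 6, 7, 4, 5, 6, 1, 3, 4, 5, 2, 3, 4, 1, 3, 2, 0]), (0, [6, 7, 4, 5, 6, 1, 3, 4, 5, 2, 3, 4, 1, 3, 2, 0]), (0, [7, 4, 5, 6, 1, 3, 4, 5, 2, 3, 4, 1, 3, 2, 0]), (0, [4, 5, 6, 1, 3, 4, 5, 2, 3, 4, 1, 3, 2, 0]), (0, [6, 7, 5, 6, 1, 3, 4, 5, 2, 3, 4, 1, 3, 2, 0]), (0, [7,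 5, 6, 1, 3, 4, 5, 2, 3, 4, 1, 3, 2, 0]), (0, [5, 6, 1, 3, 4, 5, 2, 3, 4, 1, 3, 2, 0]), (0, [7, 6, 1, 3, 4, 5, 2, 3, 4, 1, 3, 2, 0]), (0, [6, 1, 3, 4, 5, 2, 3, 4, 1, 3, 2, 0]), (0, [1, 3, 4, 5, 2, 3, 4, 1, 3, 2, 0]), (0, [5, 6, 7, 4, 5, 6, 3, 4, 5, 2, 3, 4, 1, 3, 2, 0]), (0, [6, 7, 4, 5, 6, 3, 4, 5, 2, 3, 4, 1, 3, 2, 0]), (0, [7, 4, 5, 6, 3, 4, 5, 2, 3, 4, 1, 3, 2, 0]), (0, [4, 5, 6, 3, 4, 5, 2, 3, 4, 1, 3, 2, 0]), (0, [6, 7, 5, 6, 3, 4, 5, 2, 3, 4, 1, 3, 2, 0]), (0, [7, 5, 6, 3, 4, 5, 2, 3, 4, 1, 3, 2, 0]), (0, [5, 6, 3, 4, 5, 2, 3, 4, 1, 3, 2, 0]), (0, [7, 6, 3, 4, 5, 2, 3, 4, 1, 3, 2, 0]), (0, [6, 3, 4, 5, 2, 3, 4, 1, 3, 2, 0]), (0, [3, 4, 5, 2, 3, 4, 1, 3, 2, 0]), (0, [6, 7, 5, 6, 4, 5, 2, 3, 4,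 1, 3, 2, 0]), (0, [7, 5, 6, 4, 5, 2, 3, 4, 1, 3, 2, 0]), (0, [5, 6, 4, 5, 2, 3, 4, 1, 3, 2, 0]), (0, [7, 6, 4, 5, 2, 3, 4, 1, 3, 2, 0]), (0, [6, 4, 5, 2, 3, 4, 1, 3, 2, 0]), (0, [4, 5, 2, 3, 4, 1, 3, 2, 0]), (0, [7, 6, 5, 2, 3, 4, 1, 3, 2, 0]), (0, [6, 5, 2, 3, 4, 1, 3, 2, 0]), (0, [5, 2, 3, 4, 1, 3, 2, 0]), (0, [2, 3, 4, 1, 3, 2, 0]), (0, [6, 7, 5, 6, 4, 5, 3, 4, 1, 3, 2, 0]), (0, [7, 5, 6, 4, 5, 3, 4, 1, 3, 2, 0]), (0, [5, 6, 4, 5, 3, 4, 1, 3, 2, 0]), (0, [7, 6, 4, 5, 3, 4, 1, 3, 2, 0]), (0, [6, 4, 5, 3, 4, 1, 3, 2, 0]), (0, [4, 5, 3, 4, 1, 3, 2, 0]), (0, [7, 6, 5, 3, 4, 1, 3, 2, 0]), (0, [6, 5, 3, 4, 1, 3, 2, 0]), (0, [5, 3, 4, 1, 3, 2, 0]), (0, [3, 4, 1, 3, 2, 0]), (0, [7, 6, 5, 4, 1, 3, 2, 0]),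 (0, [6, 5, 4, 1, 3, 2, 0]), (0, [5, 4, 1, 3, 2, 0]), (0, [4, 1, 3, 2, 0]), (0, [1, 3, 2, 0]), (0, [7, 6, 5, 4, 3, 2, 0]), (0, [6, 5, 4, 3, 2, 0]), (0, [5, 4, 3, 2, 0]), (0, [4, 3, 2, 0]), (0, [3, 2, 0]), (0, [2, 0]), (0, [0]), (1, [6, 7, 5, 6, 4, 5, 3, 4, 2, 3, 1]), (1, [7, 5, 6, 4, 5, 3, 4, 2, 3, 1]), (1, [5, 6, 4, 5, 3, 4, 2, 3, 1]), (1, [7, 6, 4, 5, 3, 4, 2, 3, 1]), (1, [6, 4, 5, 3, 4, 2, 3, 1]), (1, [4, 5, 3, 4, 2, 3, 1]), (1, [7, 6, 5, 3, 4, 2, 3, 1]), (1, [6, 5, 3, 4, 2, 3, 1]), (1, [5, 3, 4, 2, 3, 1]), (1, [3, 4, 2, 3, 1]), (1, [7, 6, 5, 4, 2, 3, 1]), (1, [6, 5, 4, 2, 3, 1]), (1, [5, 4, 2, 3, 1]), (1, [4, 2, 3, 1]), (1, [2, 3, 1]), (1, [7, 6, 5, 4, 3, 1]), (1, [6, 5, 4, 3, 1]), (1, [5, 4, 3,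 1]), (1, [4, 3, 1]), (1, [3, 1]), (1, [1]), (2, [7, 6, 5, 4, 3, 2]), (2, [6, 5, 4, 3, 2]), (2, [5, 4, 3, 2]), (2, [4, 3, 2]), (2, [3, 2]), (2, [2]), (3, [7, 6, 5, 4, 3]), (3, [6, 5, 4, 3]), (3, [5, 4, 3]), (3, [4, 3]), (3, [3]), (4, [7, 6, 5, 4]), (4, [6, 5, 4]), (4, [5, 4]), (4, [4]), (5, [7, 6, 5]), (5, [6, 5]), (5, [5]), (6, [7, 6]), (6, [6]), (7, [7]), (7, []), (6, []), (6, [7]), (5, []), (5, [6]), (5, [7, 6]), (4, []), (4, [5]), (4, [6, 5]), (4, [7, 6, 5]), (3, []), (3, [4]), (3, [5, 4]), (3, [6, 5, 4]), (3, [7, 6, 5, 4]), (2, []), (2, [3]), (2, [4, 3]), (2, [5, 4, 3]), (2, [6, 5, 4, 3]), (2, [7, 6, 5, 4, 3]), (1, []), (1, [3]), (1, [4, 3]), (1, [5, 4, 3]), (1, [6, 5, 4, 3]), (1, [7, 6, 5, 4, 3]),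 (1, [2, 3]), (1, [4, 2, 3]), (1, [5, 4, 2, 3]), (1, [6, 5, 4, 2, 3]), (1, [7, 6, 5, 4, 2, 3]), (1, [3, 4, 2, 3]), (1, [5, 3, 4, 2, 3]), (1, [6, 5, 3, 4, 2, 3]), (1, [7, 6, 5, 3, 4, 2, 3]), (1, [4, 5, 3, 4, 2, 3]), (1, [6, 4, 5, 3, 4, 2, 3]), (1, [7, 6, 4, 5, 3, 4, 2, 3]), (1, [5, 6, 4, 5, 3, 4, 2, 3]), (1, [7, 5, 6, 4, 5, 3, 4, 2, 3]), (1, [6, 7, 5, 6, 4, 5, 3, 4, 2, 3]), (0, []), (0, [2]), (0, [3, 2]), (0, [4, 3, 2]), (0, [5, 4, 3, 2]), (0, [6, 5, 4, 3, 2]), (0, [7, 6, 5, 4, 3, 2]), (0, [1, 3, 2]), (0, [4, 1, 3, 2]), (0, [5, 4, 1, 3, 2]), (0, [6, 5, 4, 1, 3, 2]), (0, [7, 6, 5, 4, 1, 3, 2]), (0, [3, 4, 1, 3, 2]), (0, [5, 3, 4, 1, 3, 2]), (0, [6, 5, 3, 4, 1, 3, 2]), (0, [7, 6, 5, 3, 4, 1, 3, 2]), (0,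 [4, 5, 3, 4, 1, 3, 2]), (0, [6, 4, 5, 3, 4, 1, 3, 2]), (0, [7, 6, 4, 5, 3, 4, 1, 3, 2]), (0, [5, 6, 4, 5, 3, 4, 1, 3, 2]), (0, [7, 5, 6, 4, 5, 3, 4, 1, 3, 2]), (0, [6, 7, 5, 6, 4, 5, 3, 4, 1, 3, 2]), (0, [2, 3, 4, 1, 3, 2]), (0, [5, 2, 3, 4, 1, 3, 2]), (0, [6, 5, 2, 3, 4, 1, 3, 2]), (0, [7, 6, 5, 2, 3, 4, 1, 3, 2]), (0, [4, 5, 2, 3, 4, 1, 3, 2]), (0, [6, 4, 5, 2, 3, 4, 1, 3, 2]), (0, [7, 6, 4, 5, 2, 3, 4, 1, 3, 2]), (0, [5, 6, 4, 5, 2, 3, 4, 1, 3, 2]), (0, [7, 5, 6, 4, 5, 2, 3, 4, 1, 3, 2]), (0, [6, 7, 5, 6, 4, 5, 2, 3, 4, 1, 3, 2]), (0, [3, 4, 5, 2, 3, 4, 1, 3, 2]), (0, [6, 3, 4, 5, 2, 3, 4, 1, 3, 2]), (0, [7, 6, 3, 4, 5, 2, 3, 4, 1, 3, 2]), (0, [5, 6, 3, 4, 5, 2, 3, 4, 1, 3, 2]), (0, [7, 5, 6, 3,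 4, 5, 2, 3, 4, 1, 3, 2]), (0, [6, 7, 5, 6, 3, 4, 5, 2, 3, 4, 1, 3, 2]), (0, [4, 5, 6, 3, 4, 5, 2, 3, 4, 1, 3, 2]), (0, [7, 4, 5, 6, 3, 4, 5, 2, 3, 4, 1, 3, 2]), (0, [6, 7, 4, 5, 6, 3, 4, 5, 2, 3, 4, 1, 3, 2]), (0, [5, 6, 7, 4, 5, 6, 3, 4, 5, 2, 3, 4, 1, 3, 2]), (0, [1, 3, 4, 5, 2, 3, 4, 1, 3, 2]), (0, [6, 1, 3, 4, 5, 2, 3, 4, 1, 3, 2]), (0, [7, 6, 1, 3, 4, 5, 2, 3, 4, 1, 3, 2]), (0, [5, 6, 1, 3, 4, 5, 2, 3, 4, 1, 3, 2]), (0, [7, 5, 6, 1, 3, 4, 5, 2, 3, 4, 1, 3, 2]), (0, [6, 7, 5, 6, 1, 3, 4, 5, 2, 3, 4, 1, 3, 2]), (0, [4, 5, 6, 1, 3, 4, 5, 2, 3, 4, 1, 3, 2]), (0, [7, 4, 5, 6, 1, 3, 4, 5, 2, 3, 4, 1, 3, 2]), (0, [6, 7, 4, 5, 6, 1, 3, 4, 5, 2, 3, 4, 1, 3, 2]), (0, [5, 6, 7, 4, 5, 6, 1, 3, 4, 5, 2, 3,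 4, 1, 3, 2]), (0, [3, 4, 5, 6, 1, 3, 4, 5, 2, 3, 4, 1, 3, 2]), (0, [7, 3, 4, 5, 6, 1, 3, 4, 5, 2, 3, 4, 1, 3, 2]), (0, [6, 7, 3, 4, 5, 6, 1, 3, 4, 5, 2, 3, 4, 1, 3, 2]), (0, [5, 6, 7, 3, 4, 5, 6, 1, 3, 4, 5, 2, 3, 4, 1, 3, 2]), (0, [4, 5, 6, 7, 3, 4, 5, 6, 1, 3, 4, 5, 2, 3, 4, 1, 3, 2]), (0, [2, 3, 4, 5, 6, 1, 3, 4, 5, 2, 3, 4, 1, 3, 2]), (0, [7, 2, 3, 4, 5, 6, 1, 3, 4, 5, 2, 3, 4, 1, 3, 2]), (0, [6, 7, 2, 3, 4, 5, 6, 1, 3, 4, 5, 2, 3, 4, 1, 3, 2]), (0, [5, 6, 7, 2, 3, 4, 5, 6, 1, 3, 4, 5, 2, 3, 4, 1, 3, 2]), (0, [4, 5, 6, 7, 2, 3, 4, 5, 6, 1, 3, 4, 5, 2, 3, 4, 1, 3, 2]), (0, [3, 4, 5, 6, 7, 2, 3, 4, 5, 6, 1, 3, 4, 5, 2, 3, 4, 1, 3, 2]), (0, [1, 3, 4, 5, 6, 7, 2, 3, 4, 5, 6, 1, 3, 4, 5, 2, 3, 4, 1,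 3, 2]), (0, [0, 2, 3, 4, 5, 6, 1, 3, 4, 5, 2, 3, 4, 1, 3, 2]), (0, [7, 0, 2, 3, 4, 5, 6, 1, 3, 4, 5, 2, 3, 4, 1, 3, 2]), (0, [6, 7, 0, 2, 3, 4, 5, 6, 1, 3, 4, 5, 2, 3, 4, 1, 3, 2]), (0, [5, 6, 7, 0, 2, 3, 4, 5, 6, 1, 3, 4, 5, 2, 3, 4, 1, 3, 2]), (0, [4, 5, 6, 7, 0, 2, 3, 4, 5, 6, 1, 3, 4, 5, 2, 3, 4, 1, 3, 2]), (0, [3, 4, 5, 6, 7, 0, 2, 3, 4, 5, 6, 1, 3, 4, 5, 2, 3, 4, 1, 3, 2]), (0, [2, 3, 4, 5, 6, 7, 0, 2, 3, 4, 5, 6, 1, 3, 4, 5, 2, 3, 4, 1, 3, 2]), (0, [1, 3, 4, 5, 6, 7, 0, 2, 3, 4, 5, 6, 1, 3, 4, 5, 2, 3, 4, 1, 3, 2]), (0, [2, 1, 3, 4, 5, 6, 7, 0, 2, 3, 4, 5, 6, 1, 3, 4, 5, 2, 3, 4, 1, 3, 2]), (0, [3, 2, 1, 3, 4, 5, 6, 7, 0, 2, 3, 4, 5, 6, 1, 3, 4, 5, 2, 3, 4, 1, 3, 2]), (0, [4, 3, 2, 1, 3, 4, 5,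 6, 7, 0, 2, 3, 4, 5, 6, 1, 3, 4, 5, 2, 3, 4, 1, 3, 2]), (0, [5, 4, 3, 2, 1, 3, 4, 5, 6, 7, 0, 2, 3, 4, 5, 6, 1, 3, 4, 5, 2, 3, 4, 1, 3, 2]), (0, [6, 5, 4, 3, 2, 1, 3, 4, 5, 6, 7, 0, 2, 3, 4, 5, 6, 1, 3, 4, 5, 2, 3, 4, 1, 3, 2]), (0, [7, 6, 5, 4, 3, 2, 1, 3, 4, 5, 6, 7, 0, 2, 3, 4, 5, 6, 1, 3, 4, 5, 2, 3, 4, 1, 3, 2])]
theorem orbitChkE8 : orbitCheck chevE8 permTblE8 orbE8 = true := by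
  decide +kernel

theorem diag_normal_all {F : Type*} [Field F] (D : ChevalleyDatum) (hD : Good D) {tbl : List ℕ}
    (hT : TorusData D tbl)
    (hcomm : ∀ i < D.rank, ∀ j < D.rank, ∀ t : F, t ≠ 0 →
      D.nMat F (D.simple i) 1 * D.hMat F (D.simple j) t =
        D.hMat F (D.reflectRoot i (D.simple j)) t * D.nMat F (D.simple i) 1)
    (hS : ∀ i < D.rank, ConjGoalS' F D i) :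
    ((D.diagonalSubgroup F).subgroupOf (D.monomialSubgroup F)).Normal := by
  have hD' := hD
  simp only [Good, List.mem_cons, List.not_mem_nil, or_false] at hD'
  rcases hD' with rfl | rfl | rfl | rfl | rfl | rfl | rfl
  · exact diag_normal_of_check chevG2 hD hT permTblG2 orbG2 permTblG2_ok hcomm hS orbitChkG2
  · exact diag_normal_of_check chevB2 hD hT permTblB2 orbB2 permTblB2_ok hcomm hS orbitChkB2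
  · exact diag_normal_of_check chevD4 hD hT permTblD4 orbD4 permTblD4_ok hcomm hS orbitChkD4
  · exact diag_normal_of_check chevF4 hD hT permTblF4 orbF4 permTblF4_ok hcomm hS orbitChkF4
  · exact diag_normal_of_check chevE6 hD hT permTblE6 orbE6 permTblE6_ok hcomm hS orbitChkE6
  · exact diag_normal_of_check chevE7 hD hT permTblE7 orbE7 permTblE7_ok hcomm hS orbitChkE7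
  · exact diag_normal_of_check chevE8 hD hT permTblE8 orbE8 permTblE8_ok hcomm hS orbitChkE8

end Cfsg.Agent.Helper18
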