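import Cfsg.Agent.Lib.Helper18.ChevBN
import Cfsg.Agent.Lib.Helper18.MonoNormalData

set_option autoImplicit false
set_option Elab.async false

namespace Cfsg.Agent.Helper18

open Cfsg.Lie Cfsg.Agent.S1043

/-- The remaining table facts for the intersection of `B` and `N`. -/
def bnCheck2 (D : ChevalleyDatum) (tbls : List ℕ) : Bool :=
  ((List.range D.rank).all fun i =>
      decide (D.IsPosRoot (fSimple D i)) &&
        (List.range D.nroots).all fun s =>
          (!(decide (D.IsPosRoot s)) || s == fSimple D i ||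
            decide (D.IsPosRoot (dec8 (lget tbls i 0) s)))) &&
    ((List.range D.nroots).all fun s =>
      (fNeg D s != s) &&
      (decide (D.IsPosRoot s) || decide (D.IsNegRoot s)) &&
      (!(decide (D.IsPosRoot s)) || !(decide (D.IsPosRoot (fNeg D s)))))

theorem bnFacts_of_check (D : ChevalleyDatum) (tbls : List ℕ) (orb : List (ℕ × List ℕ))
    (hperm : ∀ i < D.rank, permCheck D i (lget tbls i 0) = true)
    (h : orbitCheck D tbls orb = true) (h' : bnCheck2 D tbls = true) : BNFacts D := by
  simp only [orbitCheck, Bool.and_eq_true, List.all_eq_true, List.mem_range, decide_eq_true_eq,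
    beq_iff_eq] at h
  obtain ⟨⟨h1, h2⟩, h3⟩ := h
  simp only [bnCheck2, Bool.and_eq_true, List.all_eq_true, List.mem_range, decide_eq_true_eq,
    Bool.or_eq_true, Bool.not_eq_true', decide_eq_false_iff_not, beq_iff_eq, bne_iff_ne] at h'
  obtain ⟨h4, h5⟩ := h'
  have hP : ∀ i < D.rank, ∀ s < D.nroots, dec8 (lget tbls i 0) s = D.reflectRoot i s := by
    intro i hi s hs
    have := hperm i hi
    rw [permCheck, List.all_eq_true] at this
    have := this s (List.mem_range.mpr hs)
    rwa [beq_iff_eq, fReflectRoot_eq] at this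
  have hsimp : ∀ i < D.rank, D.simple i < D.nroots := by
    intro i hi
    rw [← fSimple_eq]
    exact (h1 i hi).1
  have hrefl : ∀ i < D.rank, ∀ s < D.nroots, D.reflectRoot i s < D.nroots := by
    intro i hi s hs
    rw [← hP i hi s hs]
    exact (h1 i hi).2 s hs
  have hnv : ∀ s < D.nroots, D.neg s < D.nroots := by
    intro s hs
    rw [← fNeg_eq]
    exact (h2 s hs).1
  have hnr : ∀ i < D.rank, ∀ s < D.nroots, D.reflectRoot i (D.neg s) = D.neg (D.reflectRoot i s) := by
    intro i hi s hs
    have := (h2 s hs).2 i hi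
    rw [fNeg_eq, fNeg_eq, hP i hi _ (hnv s hs), hP i hi s hs] at this
    exact this
  have hW : ∀ (l' : List ℕ), (∀ i ∈ l', i < D.rank) → ∀ s < D.nroots,
      pPermW tbls l' s = permW D l' s ∧ permW D l' s < D.nroots := by
    intro l' hl'
    induction l' with
    | nil => intro s hs; exact ⟨rfl, hs⟩
    | cons i l' ih =>
      intro s hs
      obtain ⟨e, hlt⟩ := ih (fun j hj => hl' j (List.mem_cons_of_mem _ hj)) s hs
      have hi : i < D.rank := hl' i List.mem_cons_self
      have e1 : pPermW tbls (i :: l') s = dec8 (lget tbls i 0) (pPermW tbls l' s) := rfl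
      have e2 : permW D (i :: l') s = D.reflectRoot i (permW D l' s) := rfl
      rw [e1, e2, e, hP i hi _ hlt]
      exact ⟨rfl, hrefl i hi _ hlt⟩
  refine ⟨hsimp, ?_, hrefl, ?_, hnv, ?_, hnr, ?_, ?_, ?_⟩
  · intro i hi
    rw [← fSimple_eq]
    exact (h4 i hi).1
  · intro i hi s hs hne
    have := (h4 i hi).2 s hs.1
    rw [fSimple_eq, hP i hi s hs.1] at this
    rcases this with (h6 | h6) | h6
    · exact absurd hs h6
    · exact absurd h6 hne
    · exact h6
  · intro s hs
    have := (h5 s hs).1.1
    rwa [fNeg_eq] at this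
  · intro s hs
    exact (h5 s hs).1.2
  · intro s hs
    have := (h5 s hs.1).2
    rw [fNeg_eq] at this
    rcases this with h6 | h6
    · exact absurd hs h6
    · exact h6
  · intro r hr
    obtain ⟨⟨hj, hl⟩, hr'⟩ := h3 r hr
    refine ⟨_, hj, _, hl, ?_⟩
    have e := (hW _ hl (fSimple D (lget orb r (0, [])).1) (by rw [fSimple_eq]; exact hsimp _ hj)).1
    rw [hr', fSimple_eq] at e
    exact e.symm

theorem bnChk2G2 : bnCheck2 chevG2 permTblG2 = true := by decide +kernel
theorem bnChk2B2 : bnCheck2 chevB2 permTblB2 = true := by decide +kernel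
theorem bnChk2D4 : bnCheck2 chevD4 permTblD4 = true := by decide +kernel
theorem bnChk2F4 : bnCheck2 chevF4 permTblF4 = true := by decide +kernel
theorem bnChk2E6 : bnCheck2 chevE6 permTblE6 = true := by decide +kernel
theorem bnChk2E7 : bnCheck2 chevE7 permTblE7 = true := by decide +kernel
theorem bnChk2E8 : bnCheck2 chevE8 permTblE8 = true := by decide +kernel

theorem bnFacts_all (D : ChevalleyDatum) (hD : Good D) : BNFacts D := by
  simp only [Good, List.mem_cons, List.not_mem_nil, or_false] at hD
  rcases hD with rfl | rfl | rfl | rfl | rfl | rfl | rfl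
  · exact bnFacts_of_check chevG2 permTblG2 orbG2 permTblG2_ok orbitChkG2 bnChk2G2
  · exact bnFacts_of_check chevB2 permTblB2 orbB2 permTblB2_ok orbitChkB2 bnChk2B2
  · exact bnFacts_of_check chevD4 permTblD4 orbD4 permTblD4_ok orbitChkD4 bnChk2D4
  · exact bnFacts_of_check chevF4 permTblF4 orbF4 permTblF4_ok orbitChkF4 bnChk2F4
  · exact bnFacts_of_check chevE6 permTblE6 orbE6 permTblE6_ok orbitChkE6 bnChk2E6
  · exact bnFacts_of_check chevE7 permTblE7 orbE7 permTblE7_ok orbitChkE7 bnChk2E7
  · exact bnFacts_of_check chevE8 permTblE8 orbE8 permTblE8_ok orbitChkE8 bnChk2E8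

end Cfsg.Agent.Helper18
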