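import Cfsg.Agent.Lib.Helper18.ChevCells

set_option autoImplicit false

namespace Cfsg.Agent.Helper18

/-- The Poincaré sum of a list of words in terms of the numbers of words of each length. -/
theorem sum_pow_length (q N : ℕ) (R : List (List ℕ)) (h : ∀ l ∈ R, l.length ≤ N) :
    (R.map fun l => q ^ l.length).sum =
      ∑ j ∈ Finset.range (N + 1), (R.countP fun l => l.length == j) * q ^ j := by
  induction R with
  | nil => simp
  | cons l R ih =>
    have hl : l.length ≤ N := h l List.mem_cons_self
    have hR : ∀ l' ∈ R, l'.length ≤ N := fun l' hl' => h l' (List.mem_cons_of_mem _ hl')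
    rw [List.map_cons, List.sum_cons, ih hR]
    have e : ∀ j ∈ Finset.range (N + 1),
        ((l :: R).countP fun l => l.length == j) * q ^ j =
          (if l.length = j then q ^ j else 0) + (R.countP fun l => l.length == j) * q ^ j := by
      intro j _
      rw [List.countP_cons]
      by_cases hj : l.length = j
      · simp [hj]
        ring
      · simp [hj]
    rw [Finset.sum_congr rfl e, Finset.sum_add_distrib, Finset.sum_ite_eq]
    simp [Nat.lt_succ_of_le hl]

/-- The check of the numbers of words of each length. -/
def countCheck (R : List (List ℕ)) (counts : List ℕ) : Bool :=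
  R.all (fun l => decide (l.length + 1 ≤ counts.length)) &&
    (List.range counts.length).all fun j => R.countP (fun l => l.length == j) == lget counts j 0

theorem sum_pow_length_of_check (q : ℕ) (R : List (List ℕ)) (counts : List ℕ)
    (h : countCheck R counts = true) :
    (R.map fun l => q ^ l.length).sum = ∑ j ∈ Finset.range counts.length, lget counts j 0 * q ^ j := by
  rw [countCheck, Bool.and_eq_true, List.all_eq_true, List.all_eq_true] at h
  obtain ⟨h1, h2⟩ := h
  rcases Nat.eq_zero_or_pos counts.length with h0 | h0
  · have hR : R = [] := by
      rcases R with _ | ⟨l, R⟩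
      · rfl
      · have := h1 l List.mem_cons_self
        rw [decide_eq_true_eq] at this
        omega
    rw [hR, h0]
    simp
  · obtain ⟨N, hN⟩ : ∃ N, counts.length = N + 1 := ⟨counts.length - 1, by omega⟩
    rw [hN, sum_pow_length q N R]
    · apply Finset.sum_congr rfl
      intro j hj
      have := h2 j (by rw [hN]; exact List.mem_range.mpr (Finset.mem_range.mp hj))
      rw [beq_iff_eq] at this
      rw [this]
    · intro l hl
      have := h1 l hl
      rw [decide_eq_true_eq] at this
      omega

end Cfsg.Agent.Helper18
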