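import Cfsg.Agent.Lib.Helper18.ChevCells

set_option autoImplicit false

namespace Cfsg.Agent.Helper18

open Cfsg.Lie

/-- The table facts about the `k`-th word of the list. -/
def rowCheck (D : ChevalleyDatum) (tbls : List ℕ) (R nxt : List (List ℕ)) (keys : List ℕ)
    (n k : ℕ) : Bool :=
  redAux D tbls [] (lget R k []) &&
  ((List.range D.rank).all fun i =>
    decide (lget (lget nxt k []) i 0 < n) &&
      (List.range D.nroots).all fun s =>
        pPermW tbls (i :: lget R k []) s == pPermW tbls (lget R (lget (lget nxt k []) i 0) []) s) &&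
  (posKey D tbls (lget R k []) == lget keys k 0)

theorem rows_of_chunks (f : ℕ → Bool) (c m n : ℕ) (hc : 0 < c) (hn : n ≤ m * c)
    (h : ∀ j < m, (List.range' (j * c) c).all f = true) : ∀ k < n, f k = true := by
  intro k hk
  have hj : k / c < m := by
    apply Nat.div_lt_of_lt_mul
    rw [Nat.mul_comm]
    omega
  have h1 := List.all_eq_true.mp (h (k / c) hj) k
  apply h1
  rw [List.mem_range']
  refine ⟨k % c, Nat.mod_lt _ hc, ?_⟩
  rw [one_mul]
  exact (Nat.div_add_mod' k c).symm

theorem cellCheck_of_rows (D : ChevalleyDatum) (tbls : List ℕ) (R nxt : List (List ℕ))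
    (keys : List ℕ) (n : ℕ) (hn : n = R.length) (hlen : keys.length = n)
    (hnil : R.contains [] = true) (hrow : ∀ k < n, rowCheck D tbls R nxt keys n k = true)
    (hnd : nodupB keys = true) : cellCheck D tbls R nxt = true := by
  subst hn
  have hrow' : ∀ k < R.length, redAux D tbls [] (lget R k []) = true ∧
      ((List.range D.rank).all fun i =>
        decide (lget (lget nxt k []) i 0 < R.length) &&
          (List.range D.nroots).all fun s =>
            pPermW tbls (i :: lget R k []) s ==
              pPermW tbls (lget R (lget (lget nxt k []) i 0) []) s) = true ∧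
      posKey D tbls (lget R k []) = lget keys k 0 := by
    intro k hk
    have := hrow k hk
    rw [rowCheck, Bool.and_eq_true, Bool.and_eq_true, beq_iff_eq] at this
    exact ⟨this.1.1, this.1.2, this.2⟩
  have hget : ∀ k (hk : k < R.length), lget R k [] = R[k] := by
    intro k hk
    rw [lget_eq_getD, List.getD_eq_getElem _ _ hk]
  have h1 : R.all (redAux D tbls []) = true := by
    rw [List.all_eq_true]
    intro l hl
    obtain ⟨k, hk, rfl⟩ := List.getElem_of_mem hl
    rw [← hget k hk]
    exact (hrow' k hk).1
  have h3 : closureCheck D tbls R nxt = true := by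
    rw [closureCheck, List.all_eq_true]
    intro k hk
    exact (hrow' k (List.mem_range.mp hk)).2.1
  have h4 : R.map (posKey D tbls) = keys := by
    apply List.ext_getElem
    · rw [List.length_map, hlen]
    · intro k hk1 hk2
      rw [List.length_map] at hk1
      rw [List.getElem_map, ← hget k hk1, (hrow' k hk1).2.2, lget_eq_getD,
        List.getD_eq_getElem _ _ hk2]
  rw [cellCheck, h1, hnil, h3, h4, hnd]
  rfl

end Cfsg.Agent.Helper18
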