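import Cfsg.Agent.Lib.Helper18.CellArith
import Cfsg.Agent.Lib.Helper18.BNData

set_option autoImplicit false
set_option Elab.async false
set_option maxRecDepth 1000000

namespace Cfsg.Agent.Helper18

open Cfsg.Lie

/-- Reduced words for all the elements of the Weyl group of type B2. -/
def cellRB2 : List (List ℕ) :=
  [[], [0], [1], [0, 1], [1, 0], [0, 1, 0], [1, 0, 1], [0, 1, 0, 1]]

/-- Positions of the products `s_i w`. -/
def cellNxtB2 : List (List ℕ) :=
  [[1, 2], [0, 4], [3, 0], [2, 6], [5, 1], [4, 7], [7, 3], [6, 5]]

/-- Numbers of elements of each length. -/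
def cellCntB2 : List ℕ := [1, 2, 2, 2, 1]

theorem cellChk1B2 : cellRB2.all (redAux chevB2 permTblB2 []) = true := by decide +kernel
theorem cellChk2B2 : cellRB2.contains [] = true := by decide +kernel
theorem cellChk3B2 : closureCheck chevB2 permTblB2 cellRB2 cellNxtB2 = true := by decide +kernel
theorem cellChk4B2 : nodupB (cellRB2.map (posKey chevB2 permTblB2)) = true := by decide +kernel

theorem cellChkB2 : cellCheck chevB2 permTblB2 cellRB2 cellNxtB2 = true := by
  rw [cellCheck, cellChk1B2, cellChk2B2, cellChk3B2, cellChk4B2]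
  rfl

theorem cellCntChkB2 : countCheck cellRB2 cellCntB2 = true := by decide +kernel

end Cfsg.Agent.Helper18
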