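import Cfsg.Agent.Lib.Helper18.CellArith
import Cfsg.Agent.Lib.Helper18.BNData

set_option autoImplicit false
set_option Elab.async false
set_option maxRecDepth 1000000

namespace Cfsg.Agent.Helper18

open Cfsg.Lie

/-- Reduced words for all the elements of the Weyl group of type D4. -/
def cellRD4 : List (List ℕ) :=
  [[], [0], [1], [2], [3], [0, 1], [0, 2], [0, 3], [1, 0], [1, 2], [1, 3], [2, 1], [2, 3], [3, 1], 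
  [0, 1, 0], [0, 1, 2], [0, 1, 3], [0, 2, 1], [0, 2, 3], [0, 3, 1], [1, 0, 2], [1, 0, 3], [1, 2, 1], 
  [1, 2, 3], [1, 3, 1], [2, 1, 0], [2, 1, 3], [2, 3, 1], [3, 1, 0], [3, 1, 2], [0, 1, 0, 2], 
  [0, 1, 0, 3], [0, 1, 2, 1], [0, 1, 2, 3], [0, 1, 3, 1], [0, 2, 1, 0], [0, 2, 1, 3], [0, 2, 3, 1], 
  [0, 3, 1, 0], [0, 3, 1, 2], [1, 0, 2, 1], [1, 0, 2, 3], [1, 0, 3, 1], [1, 2, 1, 0], [1, 2, 1, 3], 
  [1, 2, 3, 1], [1, 3, 1, 0], [1, 3, 1, 2], [2, 1, 0, 3], [2, 1, 3, 1], [2, 3, 1, 0], [2, 3, 1, 2], 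
  [3, 1, 0, 2], [0, 1, 0, 2, 1], [0, 1, 0, 2, 3], [0, 1, 0, 3, 1], [0, 1, 2, 1, 0], [0, 1, 2, 1, 3], 
  [0, 1, 2, 3, 1], [0, 1, 3, 1, 0], [0, 1, 3, 1, 2], [0, 2, 1, 0, 3], [0, 2, 1, 3, 1], [0, 2, 3, 1, 0], 
  [0, 2, 3, 1, 2], [0, 3, 1, 0, 2], [1, 0, 2, 1, 0], [1, 0, 2, 1, 3], [1, 0, 2, 3, 1], [1, 0, 3, 1, 0], 
  [1, 0, 3, 1, 2], [1, 2, 1, 0, 3], [1, 2, 1, 3, 1], [1, 2, 3, 1, 0], [1, 2, 3, 1, 2], [1, 3, 1, 0, 2], 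
  [2, 1, 0, 3, 1], [2, 1, 3, 1, 0], [2, 1, 3, 1, 2], [2, 3, 1, 0, 2], [3, 1, 0, 2, 1], 
  [0, 1, 0, 2, 1, 0], [0, 1, 0, 2, 1, 3], [0, 1, 0, 2, 3, 1], [0, 1, 0, 3, 1, 0], [0, 1, 0, 3, 1, 2], 
  [0, 1, 2, 1, 0, 3], [0, 1, 2, 1, 3, 1], [0, 1, 2, 3, 1, 0], [0, 1, 2, 3, 1, 2], [0, 1, 3, 1, 0, 2], 
  [0, 2, 1, 0, 3, 1], [0, 2, 1, 3, 1, 0], [0, 2, 1, 3, 1, 2], [0, 2, 3, 1, 0, 2], [0, 3, 1, 0, 2, 1], 
  [1, 0, 2, 1, 0, 3], [1, 0, 2, 1, 3, 1], [1, 0, 2, 3, 1, 0], [1, 0, 2, 3, 1, 2], [1, 0, 3, 1, 0, 2], 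
  [1, 2, 1, 0, 3, 1], [1, 2, 1, 3, 1, 0], [1, 2, 1, 3, 1, 2], [1, 2, 3, 1, 0, 2], [1, 3, 1, 0, 2, 1], 
  [2, 1, 0, 3, 1, 0], [2, 1, 0, 3, 1, 2], [2, 1, 3, 1, 0, 2], [2, 3, 1, 0, 2, 1], [3, 1, 0, 2, 1, 3], 
  [0, 1, 0, 2, 1, 0, 3], [0, 1, 0, 2, 1, 3, 1], [0, 1, 0, 2, 3, 1, 0], [0, 1, 0, 2, 3, 1, 2], 
  [0, 1, 0, 3, 1, 0, 2], [0, 1, 2, 1, 0, 3, 1], [0, 1, 2, 1, 3, 1, 0], [0, 1, 2, 1, 3, 1, 2], 
  [0, 1, 2, 3, 1, 0, 2], [0, 1, 3, 1, 0, 2, 1], [0, 2, 1, 0, 3, 1, 0], [0, 2, 1, 0, 3, 1, 2], 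
  [0, 2, 1, 3, 1, 0, 2], [0, 2, 3, 1, 0, 2, 1], [0, 3, 1, 0, 2, 1, 3], [1, 0, 2, 1, 0, 3, 1], 
  [1, 0, 2, 1, 3, 1, 0], [1, 0, 2, 1, 3, 1, 2], [1, 0, 2, 3, 1, 0, 2], [1, 0, 3, 1, 0, 2, 1], 
  [1, 2, 1, 0, 3, 1, 0], [1, 2, 1, 0, 3, 1, 2], [1, 2, 1, 3, 1, 0, 2], [1, 2, 3, 1, 0, 2, 1], 
  [1, 3, 1, 0, 2, 1, 3], [2, 1, 0, 3, 1, 0, 2], [2, 1, 3, 1, 0, 2, 1], [2, 3, 1, 0, 2, 1, 3], 
  [0, 1, 0, 2, 1, 0, 3, 1], [0, 1, 0, 2, 1, 3, 1, 0], [0, 1, 0, 2, 1, 3, 1, 2], 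
  [0, 1, 0, 2, 3, 1, 0, 2], [0, 1, 0, 3, 1, 0, 2, 1], [0, 1, 2, 1, 0, 3, 1, 0], 
  [0, 1, 2, 1, 0, 3, 1, 2], [0, 1, 2, 1, 3, 1, 0, 2], [0, 1, 2, 3, 1, 0, 2, 1], 
  [0, 1, 3, 1, 0, 2, 1, 3], [0, 2, 1, 0, 3, 1, 0, 2], [0, 2, 1, 3, 1, 0, 2, 1], 
  [0, 2, 3, 1, 0, 2, 1, 3], [1, 0, 2, 1, 0, 3, 1, 0], [1, 0, 2, 1, 0, 3, 1, 2], 
  [1, 0, 2, 1, 3, 1, 0, 2], [1, 0, 2, 3, 1, 0, 2, 1], [1, 0, 3, 1, 0, 2, 1, 3], 
  [1, 2, 1, 0, 3, 1, 0, 2], [1, 2, 1, 3, 1, 0, 2, 1], [1, 2, 3, 1, 0, 2, 1, 3], 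
  [2, 1, 0, 3, 1, 0, 2, 1], [2, 1, 3, 1, 0, 2, 1, 3], [0, 1, 0, 2, 1, 0, 3, 1, 0], 
  [0, 1, 0, 2, 1, 0, 3, 1, 2], [0, 1, 0, 2, 1, 3, 1, 0, 2], [0, 1, 0, 2, 3, 1, 0, 2, 1], 
  [0, 1, 0, 3, 1, 0, 2, 1, 3], [0, 1, 2, 1, 0, 3, 1, 0, 2], [0, 1, 2, 1, 3, 1, 0, 2, 1], 
  [0, 1, 2, 3, 1, 0, 2, 1, 3], [0, 2, 1, 0, 3, 1, 0, 2, 1], [0, 2, 1, 3, 1, 0, 2, 1, 3], 
  [1, 0, 2, 1, 0, 3, 1, 0, 2], [1, 0, 2, 1, 3, 1, 0, 2, 1], [1, 0, 2, 3, 1, 0, 2, 1, 3], 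
  [1, 2, 1, 0, 3, 1, 0, 2, 1], [1, 2, 1, 3, 1, 0, 2, 1, 3], [2, 1, 0, 3, 1, 0, 2, 1, 3], 
  [0, 1, 0, 2, 1, 0, 3, 1, 0, 2], [0, 1, 0, 2, 1, 3, 1, 0, 2, 1], [0, 1, 0, 2, 3, 1, 0, 2, 1, 3], 
  [0, 1, 2, 1, 0, 3, 1, 0, 2, 1], [0, 1, 2, 1, 3, 1, 0, 2, 1, 3], [0, 2, 1, 0, 3, 1, 0, 2, 1, 3], 
  [1, 0, 2, 1, 0, 3, 1, 0, 2, 1], [1, 0, 2, 1, 3, 1, 0, 2, 1, 3], [1, 2, 1, 0, 3, 1, 0, 2, 1, 3], 
  [0, 1, 0, 2, 1, 0, 3, 1, 0, 2, 1], [0, 1, 0, 2, 1, 3, 1, 0, 2, 1, 3], 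
  [0, 1, 2, 1, 0, 3, 1, 0, 2, 1, 3], [1, 0, 2, 1, 0, 3, 1, 0, 2, 1, 3], 
  [0, 1, 0, 2, 1, 0, 3, 1, 0, 2, 1, 3]]

/-- Positions of the products `s_i w`. -/
def cellNxtD4 : List (List ℕ) :=
  [[1, 2, 3, 4], [0, 8, 6, 7], [5, 0, 11, 13], [6, 9, 0, 12], [7, 10, 12, 0], [2, 14, 17, 19], 
  [3, 20, 1, 18], [4, 21, 18, 1], [14, 1, 25, 28], [15, 3, 22, 29], [16, 4, 26, 24], [17, 22, 2, 27], 
  [18, 23, 4, 3], [19, 24, 27, 2], [8, 5, 35, 38], [9, 30, 32, 39], [10, 31, 36, 34], [11, 40, 5, 37], 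
  [12, 41, 7, 6], [13, 42, 37, 5], [30, 6, 43, 52], [31, 7, 48, 46], [32, 11, 9, 51], [33, 12, 44, 47], 
  [34, 13, 49, 10], [35, 43, 8, 50], [36, 44, 10, 49], [37, 45, 13, 11], [38, 46, 50, 8], 
  [39, 47, 51, 9], [20, 15, 56, 65], [21, 16, 61, 59], [22, 53, 15, 64], [23, 54, 57, 60], 
  [24, 55, 62, 16], [25, 66, 14, 63], [26, 67, 16, 62], [27, 68, 19, 17], [28, 69, 63, 14], 
  [29, 70, 64, 15], [53, 17, 66, 80], [54, 18, 71, 75], [55, 19, 76, 69], [56, 25, 20, 79], 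
  [57, 26, 23, 78], [58, 27, 72, 74], [59, 28, 77, 21], [60, 29, 78, 23], [61, 71, 21, 77], 
  [62, 72, 24, 26], [63, 73, 28, 25], [64, 74, 29, 22], [65, 75, 79, 20], [40, 32, 81, 95], 
  [41, 33, 86, 90], [42, 34, 91, 84], [43, 81, 30, 94], [44, 82, 33, 93], [45, 83, 87, 89], 
  [46, 84, 92, 31], [47, 85, 93, 33], [48, 96, 31, 92], [49, 97, 34, 36], [50, 98, 38, 35], 
  [51, 99, 39, 32], [52, 100, 94, 30], [81, 35, 40, 109], [82, 36, 96, 110], [83, 37, 101, 105], 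
  [84, 38, 106, 42], [85, 39, 107, 100], [86, 48, 41, 108], [87, 49, 45, 103], [88, 50, 102, 104], 
  [89, 51, 103, 45], [90, 52, 108, 41], [91, 101, 42, 106], [92, 102, 46, 48], [93, 103, 47, 44], 
  [94, 104, 52, 43], [95, 105, 109, 40], [66, 56, 53, 124], [67, 57, 111, 125], [68, 58, 116, 120], 
  [69, 59, 121, 55], [70, 60, 122, 115], [71, 111, 54, 123], [72, 112, 58, 118], [73, 113, 117, 119], 
  [74, 114, 118, 58], [75, 115, 123, 54], [76, 126, 55, 121], [77, 127, 59, 61], [78, 128, 60, 57], 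
  [79, 129, 65, 56], [80, 130, 124, 53], [111, 61, 67, 138], [112, 62, 126, 135], [113, 63, 131, 134], 
  [114, 64, 132, 130], [115, 65, 136, 70], [116, 76, 68, 137], [117, 77, 73, 133], [118, 78, 74, 72], 
  [119, 79, 133, 73], [120, 80, 137, 68], [121, 131, 69, 76], [122, 132, 70, 136], [123, 133, 75, 71], 
  [124, 134, 80, 66], [125, 135, 138, 67], [96, 86, 82, 151], [97, 87, 139, 148], [98, 88, 144, 147], 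
  [99, 89, 145, 143], [100, 90, 149, 85], [101, 139, 83, 150], [102, 140, 88, 146], [103, 141, 89, 87], 
  [104, 142, 146, 88], [105, 143, 150, 83], [106, 152, 84, 91], [107, 153, 85, 149], 
  [108, 154, 90, 86], [109, 155, 95, 81], [110, 156, 151, 82], [139, 91, 97, 161], [140, 92, 152, 159], 
  [141, 93, 153, 156], [142, 94, 157, 155], [143, 95, 160, 99], [144, 106, 98, 158], 
  [145, 107, 99, 160], [146, 108, 104, 102], [147, 109, 158, 98], [148, 110, 161, 97], 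
  [149, 157, 100, 107], [150, 158, 105, 101], [151, 159, 110, 96], [126, 116, 112, 171], 
  [127, 117, 162, 169], [128, 118, 163, 166], [129, 119, 167, 165], [130, 120, 170, 114], 
  [131, 162, 113, 168], [132, 163, 114, 170], [133, 164, 119, 117], [134, 165, 168, 113], 
  [135, 166, 171, 112], [136, 172, 115, 122], [137, 173, 120, 116], [138, 174, 125, 111], 
  [162, 121, 127, 176], [163, 122, 128, 177], [164, 123, 172, 174], [165, 124, 175, 129], 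
  [166, 125, 177, 128], [167, 136, 129, 175], [168, 137, 134, 131], [169, 138, 176, 127], 
  [170, 175, 130, 132], [171, 176, 135, 126], [152, 144, 140, 182], [153, 145, 141, 183], 
  [154, 146, 178, 180], [155, 147, 181, 142], [156, 148, 183, 141], [157, 178, 142, 181], 
  [158, 179, 147, 144], [159, 180, 182, 140], [160, 184, 143, 145], [161, 185, 148, 139], 
  [178, 149, 154, 186], [179, 150, 184, 185], [180, 151, 186, 154], [181, 160, 155, 157], 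
  [182, 161, 159, 152], [183, 186, 156, 153], [172, 167, 164, 189], [173, 168, 187, 188], 
  [174, 169, 189, 164], [175, 187, 165, 167], [176, 188, 169, 162], [177, 190, 166, 163], 
  [187, 170, 173, 190], [188, 171, 190, 173], [189, 177, 174, 172], [184, 181, 179, 191], 
  [185, 182, 191, 179], [186, 191, 180, 178], [191, 183, 185, 184], [190, 189, 188, 187]]

/-- Numbers of elements of each length. -/
def cellCntD4 : List ℕ := [1, 4, 9, 16, 23, 28, 30, 28, 23, 16, 9, 4, 1]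

theorem cellChk1D4 : cellRD4.all (redAux chevD4 permTblD4 []) = true := by decide +kernel
theorem cellChk2D4 : cellRD4.contains [] = true := by decide +kernel
theorem cellChk3D4 : closureCheck chevD4 permTblD4 cellRD4 cellNxtD4 = true := by decide +kernel
theorem cellChk4D4 : nodupB (cellRD4.map (posKey chevD4 permTblD4)) = true := by decide +kernel

theorem cellChkD4 : cellCheck chevD4 permTblD4 cellRD4 cellNxtD4 = true := by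
  rw [cellCheck, cellChk1D4, cellChk2D4, cellChk3D4, cellChk4D4]
  rfl

theorem cellCntChkD4 : countCheck cellRD4 cellCntD4 = true := by decide +kernel

end Cfsg.Agent.Helper18
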