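import Cfsg.Agent.Lib.Helper18.CellsF4

set_option autoImplicit false
set_option Elab.async false
set_option maxRecDepth 1000000

namespace Cfsg.Agent.Helper18

open Cfsg.Lie

theorem rowsF4_12 : (List.range' (12 * 24) 24).all (rowCheck chevF4 permTblF4 cellRF4 cellNxtF4 cellKeysF4 1152) = true := by
  decide +kernel

theorem rowsF4_13 : (List.range' (13 * 24) 24).all (rowCheck chevF4 permTblF4 cellRF4 cellNxtF4 cellKeysF4 1152) = true := by
  decide +kernel

theorem rowsF4_14 : (List.range' (14 * 24) 24).all (rowCheck chevF4 permTblF4 cellRF4 cellNxtF4 cellKeysF4 1152) = true := by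
  decide +kernel

theorem rowsF4_15 : (List.range' (15 * 24) 24).all (rowCheck chevF4 permTblF4 cellRF4 cellNxtF4 cellKeysF4 1152) = true := by
  decide +kernel

theorem rowsF4_16 : (List.range' (16 * 24) 24).all (rowCheck chevF4 permTblF4 cellRF4 cellNxtF4 cellKeysF4 1152) = true := by
  decide +kernel

theorem rowsF4_17 : (List.range' (17 * 24) 24).all (rowCheck chevF4 permTblF4 cellRF4 cellNxtF4 cellKeysF4 1152) = true := by
  decide +kernel

theorem rowsF4_18 : (List.range' (18 * 24) 24).all (rowCheck chevF4 permTblF4 cellRF4 cellNxtF4 cellKeysF4 1152) = true := by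
  decide +kernel

theorem rowsF4_19 : (List.range' (19 * 24) 24).all (rowCheck chevF4 permTblF4 cellRF4 cellNxtF4 cellKeysF4 1152) = true := by
  decide +kernel

theorem rowsF4_20 : (List.range' (20 * 24) 24).all (rowCheck chevF4 permTblF4 cellRF4 cellNxtF4 cellKeysF4 1152) = true := by
  decide +kernel

theorem rowsF4_21 : (List.range' (21 * 24) 24).all (rowCheck chevF4 permTblF4 cellRF4 cellNxtF4 cellKeysF4 1152) = true := by
  decide +kernel

theorem rowsF4_22 : (List.range' (22 * 24) 24).all (rowCheck chevF4 permTblF4 cellRF4 cellNxtF4 cellKeysF4 1152) = true := by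
  decide +kernel

theorem rowsF4_23 : (List.range' (23 * 24) 24).all (rowCheck chevF4 permTblF4 cellRF4 cellNxtF4 cellKeysF4 1152) = true := by
  decide +kernel

end Cfsg.Agent.Helper18
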