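import Cfsg.Agent.Lib.Helper18.CellsF4

set_option autoImplicit false
set_option Elab.async false
set_option maxRecDepth 1000000

namespace Cfsg.Agent.Helper18

open Cfsg.Lie

theorem rowsF4_24 : (List.range' (24 * 24) 24).all (rowCheck chevF4 permTblF4 cellRF4 cellNxtF4 cellKeysF4 1152) = true := by
  decide +kernel

theorem rowsF4_25 : (List.range' (25 * 24) 24).all (rowCheck chevF4 permTblF4 cellRF4 cellNxtF4 cellKeysF4 1152) = true := by
  decide +kernel

theorem rowsF4_26 : (List.range' (26 * 24) 24).all (rowCheck chevF4 permTblF4 cellRF4 cellNxtF4 cellKeysF4 1152) = true := by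
  decide +kernel

theorem rowsF4_27 : (List.range' (27 * 24) 24).all (rowCheck chevF4 permTblF4 cellRF4 cellNxtF4 cellKeysF4 1152) = true := by
  decide +kernel

theorem rowsF4_28 : (List.range' (28 * 24) 24).all (rowCheck chevF4 permTblF4 cellRF4 cellNxtF4 cellKeysF4 1152) = true := by
  decide +kernel

theorem rowsF4_29 : (List.range' (29 * 24) 24).all (rowCheck chevF4 permTblF4 cellRF4 cellNxtF4 cellKeysF4 1152) = true := by
  decide +kernel

theorem rowsF4_30 : (List.range' (30 * 24) 24).all (rowCheck chevF4 permTblF4 cellRF4 cellNxtF4 cellKeysF4 1152) = true := by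
  decide +kernel

theorem rowsF4_31 : (List.range' (31 * 24) 24).all (rowCheck chevF4 permTblF4 cellRF4 cellNxtF4 cellKeysF4 1152) = true := by
  decide +kernel

theorem rowsF4_32 : (List.range' (32 * 24) 24).all (rowCheck chevF4 permTblF4 cellRF4 cellNxtF4 cellKeysF4 1152) = true := by
  decide +kernel

theorem rowsF4_33 : (List.range' (33 * 24) 24).all (rowCheck chevF4 permTblF4 cellRF4 cellNxtF4 cellKeysF4 1152) = true := by
  decide +kernel

theorem rowsF4_34 : (List.range' (34 * 24) 24).all (rowCheck chevF4 permTblF4 cellRF4 cellNxtF4 cellKeysF4 1152) = true := by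
  decide +kernel

theorem rowsF4_35 : (List.range' (35 * 24) 24).all (rowCheck chevF4 permTblF4 cellRF4 cellNxtF4 cellKeysF4 1152) = true := by
  decide +kernel

end Cfsg.Agent.Helper18
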