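import Cfsg.Agent.Lib.Helper18.CellsF4

set_option autoImplicit false
set_option Elab.async false
set_option maxRecDepth 1000000

namespace Cfsg.Agent.Helper18

open Cfsg.Lie

theorem rowsF4_36 : (List.range' (36 * 24) 24).all (rowCheck chevF4 permTblF4 cellRF4 cellNxtF4 cellKeysF4 1152) = true := by
  decide +kernel

theorem rowsF4_37 : (List.range' (37 * 24) 24).all (rowCheck chevF4 permTblF4 cellRF4 cellNxtF4 cellKeysF4 1152) = true := by
  decide +kernel

theorem rowsF4_38 : (List.range' (38 * 24) 24).all (rowCheck chevF4 permTblF4 cellRF4 cellNxtF4 cellKeysF4 1152) = true := by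
  decide +kernel

theorem rowsF4_39 : (List.range' (39 * 24) 24).all (rowCheck chevF4 permTblF4 cellRF4 cellNxtF4 cellKeysF4 1152) = true := by
  decide +kernel

theorem rowsF4_40 : (List.range' (40 * 24) 24).all (rowCheck chevF4 permTblF4 cellRF4 cellNxtF4 cellKeysF4 1152) = true := by
  decide +kernel

theorem rowsF4_41 : (List.range' (41 * 24) 24).all (rowCheck chevF4 permTblF4 cellRF4 cellNxtF4 cellKeysF4 1152) = true := by
  decide +kernel

theorem rowsF4_42 : (List.range' (42 * 24) 24).all (rowCheck chevF4 permTblF4 cellRF4 cellNxtF4 cellKeysF4 1152) = true := by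
  decide +kernel

theorem rowsF4_43 : (List.range' (43 * 24) 24).all (rowCheck chevF4 permTblF4 cellRF4 cellNxtF4 cellKeysF4 1152) = true := by
  decide +kernel

theorem rowsF4_44 : (List.range' (44 * 24) 24).all (rowCheck chevF4 permTblF4 cellRF4 cellNxtF4 cellKeysF4 1152) = true := by
  decide +kernel

theorem rowsF4_45 : (List.range' (45 * 24) 24).all (rowCheck chevF4 permTblF4 cellRF4 cellNxtF4 cellKeysF4 1152) = true := by
  decide +kernel

theorem rowsF4_46 : (List.range' (46 * 24) 24).all (rowCheck chevF4 permTblF4 cellRF4 cellNxtF4 cellKeysF4 1152) = true := by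
  decide +kernel

theorem rowsF4_47 : (List.range' (47 * 24) 24).all (rowCheck chevF4 permTblF4 cellRF4 cellNxtF4 cellKeysF4 1152) = true := by
  decide +kernel

end Cfsg.Agent.Helper18
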