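import Cfsg.Agent.Lib.Helper18.CellsF4_0
import Cfsg.Agent.Lib.Helper18.CellsF4_1
import Cfsg.Agent.Lib.Helper18.CellsF4_2
import Cfsg.Agent.Lib.Helper18.CellsF4_3

set_option autoImplicit false
set_option Elab.async false
set_option maxRecDepth 1000000

namespace Cfsg.Agent.Helper18

open Cfsg.Lie

theorem cellChkF4 : cellCheck chevF4 permTblF4 cellRF4 cellNxtF4 = true := by
  apply cellCheck_of_rows chevF4 permTblF4 cellRF4 cellNxtF4 cellKeysF4 1152 cellLenF4 cellKeysLenF4 cellNilF4 _ cellKeysNdF4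
  apply rows_of_chunks _ 24 48 1152 (by norm_num) (by norm_num)
  intro j hj
  interval_cases j
  · exact rowsF4_0
  · exact rowsF4_1
  · exact rowsF4_2
  · exact rowsF4_3
  · exact rowsF4_4
  · exact rowsF4_5
  · exact rowsF4_6
  · exact rowsF4_7
  · exact rowsF4_8
  · exact rowsF4_9
  · exact rowsF4_10
  · exact rowsF4_11
  · exact rowsF4_12
  · exact rowsF4_13
  · exact rowsF4_14
  · exact rowsF4_15
  · exact rowsF4_16
  · exact rowsF4_17
  · exact rowsF4_18
  · exact rowsF4_19
  · exact rowsF4_20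
  · exact rowsF4_21
  · exact rowsF4_22
  · exact rowsF4_23
  · exact rowsF4_24
  · exact rowsF4_25
  · exact rowsF4_26
  · exact rowsF4_27
  · exact rowsF4_28
  · exact rowsF4_29
  · exact rowsF4_30
  · exact rowsF4_31
  · exact rowsF4_32
  · exact rowsF4_33
  · exact rowsF4_34
  · exact rowsF4_35
  · exact rowsF4_36
  · exact rowsF4_37
  · exact rowsF4_38
  · exact rowsF4_39
  · exact rowsF4_40
  · exact rowsF4_41
  · exact rowsF4_42
  · exact rowsF4_43
  · exact rowsF4_44
  · exact rowsF4_45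
  · exact rowsF4_46
  · exact rowsF4_47

end Cfsg.Agent.Helper18
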