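import Cfsg.Agent.Lib.Helper18.CellsF4

set_option autoImplicit false
set_option Elab.async false
set_option maxRecDepth 1000000

namespace Cfsg.Agent.Helper18

open Cfsg.Lie

theorem rowsF4_0 : (List.range' (0 * 24) 24).all (rowCheck chevF4 permTblF4 cellRF4 cellNxtF4 cellKeysF4 1152) = true := by
  decide +kernel

theorem rowsF4_1 : (List.range' (1 * 24) 24).all (rowCheck chevF4 permTblF4 cellRF4 cellNxtF4 cellKeysF4 1152) = true := by
  decide +kernel

theorem rowsF4_2 : (List.range' (2 * 24) 24).all (rowCheck chevF4 permTblF4 cellRF4 cellNxtF4 cellKeysF4 1152) = true := by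
  decide +kernel

theorem rowsF4_3 : (List.range' (3 * 24) 24).all (rowCheck chevF4 permTblF4 cellRF4 cellNxtF4 cellKeysF4 1152) = true := by
  decide +kernel

theorem rowsF4_4 : (List.range' (4 * 24) 24).all (rowCheck chevF4 permTblF4 cellRF4 cellNxtF4 cellKeysF4 1152) = true := by
  decide +kernel

theorem rowsF4_5 : (List.range' (5 * 24) 24).all (rowCheck chevF4 permTblF4 cellRF4 cellNxtF4 cellKeysF4 1152) = true := by
  decide +kernel

theorem rowsF4_6 : (List.range' (6 * 24) 24).all (rowCheck chevF4 permTblF4 cellRF4 cellNxtF4 cellKeysF4 1152) = true := by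
  decide +kernel

theorem rowsF4_7 : (List.range' (7 * 24) 24).all (rowCheck chevF4 permTblF4 cellRF4 cellNxtF4 cellKeysF4 1152) = true := by
  decide +kernel

theorem rowsF4_8 : (List.range' (8 * 24) 24).all (rowCheck chevF4 permTblF4 cellRF4 cellNxtF4 cellKeysF4 1152) = true := by
  decide +kernel

theorem rowsF4_9 : (List.range' (9 * 24) 24).all (rowCheck chevF4 permTblF4 cellRF4 cellNxtF4 cellKeysF4 1152) = true := by
  decide +kernel

theorem rowsF4_10 : (List.range' (10 * 24) 24).all (rowCheck chevF4 permTblF4 cellRF4 cellNxtF4 cellKeysF4 1152) = true := by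
  decide +kernel

theorem rowsF4_11 : (List.range' (11 * 24) 24).all (rowCheck chevF4 permTblF4 cellRF4 cellNxtF4 cellKeysF4 1152) = true := by
  decide +kernel

end Cfsg.Agent.Helper18
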