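import Cfsg.Agent.Lib.Helper18.CellArith
import Cfsg.Agent.Lib.Helper18.BNData

set_option autoImplicit false
set_option Elab.async false
set_option maxRecDepth 1000000

namespace Cfsg.Agent.Helper18

open Cfsg.Lie

/-- Reduced words for all the elements of the Weyl group of type G2. -/
def cellRG2 : List (List ℕ) :=
  [[], [0], [1], [0, 1], [1, 0], [0, 1, 0], [1, 0, 1], [0, 1, 0, 1], [1, 0, 1, 0], [0, 1, 0, 1, 0], 
  [1, 0, 1, 0, 1], [0, 1, 0, 1, 0, 1]]

/-- Positions of the products `s_i w`. -/
def cellNxtG2 : List (List ℕ) :=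
  [[1, 2], [0, 4], [3, 0], [2, 6], [5, 1], [4, 8], [7, 3], [6, 10], [9, 5], [8, 11], [11, 7], [10, 9]]

/-- Numbers of elements of each length. -/
def cellCntG2 : List ℕ := [1, 2, 2, 2, 2, 2, 1]

theorem cellChk1G2 : cellRG2.all (redAux chevG2 permTblG2 []) = true := by decide +kernel
theorem cellChk2G2 : cellRG2.contains [] = true := by decide +kernel
theorem cellChk3G2 : closureCheck chevG2 permTblG2 cellRG2 cellNxtG2 = true := by decide +kernel
theorem cellChk4G2 : nodupB (cellRG2.map (posKey chevG2 permTblG2)) = true := by decide +kernel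

theorem cellChkG2 : cellCheck chevG2 permTblG2 cellRG2 cellNxtG2 = true := by
  rw [cellCheck, cellChk1G2, cellChk2G2, cellChk3G2, cellChk4G2]
  rfl

theorem cellCntChkG2 : countCheck cellRG2 cellCntG2 = true := by decide +kernel

end Cfsg.Agent.Helper18
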