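import Cfsg.Agent.Lib.Helper18.ChevNegTri
import Cfsg.Agent.S1043

set_option autoImplicit false

namespace Cfsg.Agent.Helper18

open Cfsg.Lie Cfsg.Agent.S1043 Cfsg.Agent.Helper17
open scoped Pointwise

section

variable {F : Type*} [Field F] (D : ChevalleyDatum) (hD : Good D)

/-- The entry of `x_r(u)` in row `e_r` and column `e_{-r}` is `-u²`. -/
theorem x_entry_neg (r : ℕ) (hr : r < D.nroots) (hn : D.neg r < D.nroots) (hne : D.neg r ≠ r) (u : F) :
    D.x F r u (Sum.inr ⟨r, hr⟩) (Sum.inr ⟨D.neg r, hn⟩) = -(u ^ 2) := by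
  rw [ChevalleyDatum.x, dif_pos hr]
  have h1 : ¬ ((⟨D.neg r, hn⟩ : Fin D.nroots) = ⟨r, hr⟩) := fun h => hne (Fin.mk.inj h)
  have h2 : D.neg r = D.negIdx.getD r 0 := rfl
  have h3 : ¬ ((⟨r, hr⟩ : Fin D.nroots) = ⟨D.neg r, hn⟩) := fun h => hne (Fin.mk.inj h).symm
  simp only [ChevalleyDatum.xMat, Matrix.of_apply, if_neg h1, if_neg h3]
  rw [if_pos h2]
  exact if_pos trivial

/-- If `x_r(u)` is diagonal then `u = 0`. -/
theorem x_eq_torMat (r : ℕ) (hr : r < D.nroots) (hn : D.neg r < D.nroots) (hne : D.neg r ≠ r) (u : F)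
    (d : ℕ → F) (h : D.x F r u = torMat D d) : u = 0 := by
  have h1 := congrFun (congrFun h (Sum.inr ⟨r, hr⟩)) (Sum.inr ⟨D.neg r, hn⟩)
  have hne' : (Sum.inr ⟨r, hr⟩ : D.Idx) ≠ Sum.inr ⟨D.neg r, hn⟩ := by
    intro h'
    exact hne (Fin.mk.inj (Sum.inr.inj h')).symm
  rw [x_entry_neg D r hr hn hne, torMat, Matrix.diagonal_apply_ne _ hne'] at h1
  have : u ^ 2 = 0 := neg_eq_zero.mp h1
  exact pow_eq_zero_iff (two_ne_zero) |>.mp this

include hD in
/-- An element of `H` all of whose conjugates by root elements lie in `H` is trivial. -/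
theorem diag_conj_trivial {tbl : List ℕ} (hT : TorusData D tbl)
    (hneg : ∀ r < D.nroots, D.neg r < D.nroots ∧ D.neg r ≠ r)
    (k : GL D.Idx F) (hk : k ∈ D.diagonalSubgroup F)
    (hconj : ∀ r < D.nroots, xU D hD r (1 : F) * k * (xU D hD r (1 : F))⁻¹ ∈ D.diagonalSubgroup F) :
    k = 1 := by
  obtain ⟨c, hc, hkc⟩ := mem_diag_eq_torMat D hT k hk
  have hchi : ∀ r < D.nroots, chi D c r = 1 := by
    intro r hr
    obtain ⟨c', hc', hk'⟩ := mem_diag_eq_torMat D hT _ (hconj r hr)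
    have hadd : ∀ i < D.rank, AddOK D (fun s => D.cartan i s) r := fun i hi => hT.addOK D i hi r hr
    -- `x_r(1) k x_r(-1) = x_r(1 - χ) k`
    have e1 : ((xU D hD r (1 : F) * k * (xU D hD r (1 : F))⁻¹ : GL D.Idx F) : Matrix D.Idx D.Idx F) =
        D.x F r (1 + chi D c r * (-1)) * torMat D c := by
      rw [xU_inv, Units.val_mul, Units.val_mul, xU_val, xU_val, hkc, mul_assoc,
        torMat_mul_x D r hadd c hc (-1), ← mul_assoc, x_add D hD]
    have e2 : D.x F r (1 + chi D c r * (-1)) = torMat D (fun i => c' i * (c i)⁻¹) := by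
      have h3 : D.x F r (1 + chi D c r * (-1)) * torMat D c = torMat D c' := by rw [← e1, hk']
      have h4 : torMat D c * torMat D (fun i => (c i)⁻¹) = 1 := by
        rw [torMat_mul]
        have : (fun i => c i * (c i)⁻¹) = fun _ => (1 : F) := by
          funext i
          exact mul_inv_cancel₀ (hc i)
        rw [this, torMat_one]
      calc D.x F r (1 + chi D c r * (-1))
          = D.x F r (1 + chi D c r * (-1)) * (torMat D c * torMat D (fun i => (c i)⁻¹)) := by
            rw [h4, mul_one]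
        _ = torMat D c' * torMat D (fun i => (c i)⁻¹) := by rw [← mul_assoc, h3]
        _ = torMat D (fun i => c' i * (c i)⁻¹) := torMat_mul D _ _
    have := x_eq_torMat D r hr (hneg r hr).1 (hneg r hr).2 _ _ e2
    linear_combination -this
  apply Units.ext
  rw [hkc, Units.val_one, torMat, ← Matrix.diagonal_one]
  congr 1
  funext i
  rcases i with i | s
  · rfl
  · exact hchi s.val s.2

include hD in
theorem borel_core_trivial {tbl : List ℕ} (hT : TorusData D tbl) (hTri : TriOK D) (hNeg : NegTriOK D)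
    (hneg : ∀ r < D.nroots, D.neg r < D.nroots ∧ D.neg r ≠ r)
    (hlong : ∃ n ∈ D.monomialSubgroup F,
      (D.posUnipotent F).map (MulAut.conj n).toMonoidHom = D.negUnipotent F)
    (hnorm : ((D.diagonalSubgroup F).subgroupOf (D.monomialSubgroup F)).Normal) :
    ((D.borelSubgroup F).subgroupOf (D.group F)).normalCore = ⊥ := by
  obtain ⟨n, hnN, hnU⟩ := hlong
  have hNG : D.monomialSubgroup F ≤ D.group F := monomial_le D hD
  have hNH : D.monomialSubgroup F ≤ Subgroup.normalizer (D.diagonalSubgroup F : Set (GL D.Idx F)) :=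
    Subgroup.le_normalizer_of_normal_subgroupOf le_sup_left
  have hB : ((D.borelSubgroup F : Subgroup (GL D.Idx F)) : Set (GL D.Idx F)) =
      (D.posUnipotent F : Set (GL D.Idx F)) * (D.diagonalSubgroup F : Set (GL D.Idx F)) :=
    Subgroup.coe_mul_of_right_le_normalizer_left _ _ (diag_le_normalizer D hT)
  -- the key step: an element all of whose conjugates lie in `B` lies in `H`
  have key : ∀ k : GL D.Idx F, (∀ g ∈ D.group F, g * k * g⁻¹ ∈ D.borelSubgroup F) →
      k ∈ D.diagonalSubgroup F := by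
    intro k hk
    have hkB : k ∈ D.borelSubgroup F := by
      have := hk 1 (Subgroup.one_mem _)
      simpa using this
    have h1 : n⁻¹ * k * n⁻¹⁻¹ ∈ D.borelSubgroup F := hk n⁻¹ (Subgroup.inv_mem _ (hNG hnN))
    have h1' : n⁻¹ * k * n⁻¹⁻¹ ∈ ((D.borelSubgroup F : Subgroup (GL D.Idx F)) : Set (GL D.Idx F)) := h1
    rw [hB] at h1'
    obtain ⟨u, hu, h, hh, e⟩ := h1'
    have e' : u * h = n⁻¹ * k * n⁻¹⁻¹ := e
    have hv : n * u * n⁻¹ ∈ D.negUnipotent F := by
      rw [← hnU]
      exact Subgroup.mem_map.mpr ⟨u, hu, rfl⟩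
    have hh' : n * h * n⁻¹ ∈ D.diagonalSubgroup F :=
      ((Subgroup.mem_normalizer_iff.mp (hNH hnN)) h).mp hh
    have ek : k = (n * u * n⁻¹) * (n * h * n⁻¹) := by
      have : k = n * (n⁻¹ * k * n⁻¹⁻¹) * n⁻¹ := by group
      rw [this, ← e']
      group
    have hkVH : k ∈ D.negUnipotent F ⊔ D.diagonalSubgroup F := by
      rw [ek]
      exact Subgroup.mul_mem _ (Subgroup.mem_sup_left hv) (Subgroup.mem_sup_right hh')
    have := (borel_inf_neg (F := F) D hT hTri hNeg).2
    rw [← this]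
    exact Subgroup.mem_inf.mpr ⟨hkB, hkVH⟩
  rw [eq_bot_iff]
  rintro ⟨k, hkG⟩ hk
  rw [Subgroup.mem_bot]
  apply Subtype.ext
  change k = 1
  have hk' : ∀ g ∈ D.group F, g * k * g⁻¹ ∈ D.borelSubgroup F := by
    intro g hg
    have := hk ⟨g, hg⟩
    exact this
  apply diag_conj_trivial D hD hT hneg k (key k hk')
  intro r _
  apply key
  intro g hg
  have := hk' (g * xU D hD r (1 : F)) (Subgroup.mul_mem _ hg (xU_mem_group D hD r (1 : F)))
  have e : g * xU D hD r (1 : F) * k * (g * xU D hD r (1 : F))⁻¹ =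
      g * (xU D hD r (1 : F) * k * (xU D hD r (1 : F))⁻¹) * g⁻¹ := by group
  rwa [e] at this

end

end Cfsg.Agent.Helper18
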