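import Cfsg.Agent.Lib.Helper18.ChevBorel

set_option autoImplicit false

namespace Cfsg.Agent.Helper18

open Cfsg.Lie Cfsg.Agent.Helper17
open scoped Matrix Pointwise

/-- Table property: negative roots are the lower half of the index range, their negatives the upper half, and the
chain through `s` of a negative root consists of roots with smaller index than `s`. -/
def NegTriOK (D : ChevalleyDatum) : Prop :=
  ∀ r < D.nroots, D.IsNegRoot r →
    (r < D.nroots / 2 ∧ D.nroots / 2 ≤ D.negIdx.getD r 0 ∧
      ∀ e ∈ (D.chain.getD r #[]).toList, ∀ q ∈ e.2.toList, q.1 < e.1)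

instance (D : ChevalleyDatum) : Decidable (NegTriOK D) := by unfold NegTriOK; infer_instance

theorem negTriOK_G2 : NegTriOK chevG2 := by decide +kernel
theorem negTriOK_B2 : NegTriOK chevB2 := by decide +kernel
theorem negTriOK_D4 : NegTriOK chevD4 := by decide +kernel
theorem negTriOK_F4 : NegTriOK chevF4 := by decide +kernel
theorem negTriOK_E6 : NegTriOK chevE6 := by decide +kernel
theorem negTriOK_E7 : NegTriOK chevE7 := by decide +kernel
theorem negTriOK_E8 : NegTriOK chevE8 := by decide +kernel

theorem negTriOK_of_mem (D : ChevalleyDatum)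
    (hD : D ∈ [chevG2, chevB2, chevD4, chevF4, chevE6, chevE7, chevE8]) : NegTriOK D := by
  simp only [List.mem_cons, List.not_mem_nil, or_false] at hD
  rcases hD with rfl | rfl | rfl | rfl | rfl | rfl | rfl
  · exact negTriOK_G2
  · exact negTriOK_B2
  · exact negTriOK_D4
  · exact negTriOK_F4
  · exact negTriOK_E6
  · exact negTriOK_E7
  · exact negTriOK_E8

section

variable {D : ChevalleyDatum} {F : Type*} [Field F]

theorem chainCoeff_eq_nil_neg (hD : NegTriOK D) (r : ℕ) (hr : r < D.nroots) (hneg : D.IsNegRoot r)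
    (s u : ℕ) (hus : s ≤ u) : D.chainCoeff r s u = [] := by
  rw [List.eq_nil_iff_forall_not_mem]
  intro km hkm
  unfold ChevalleyDatum.chainCoeff at hkm
  simp only [List.mem_flatMap, List.mem_map, List.mem_filter, decide_eq_true_eq] at hkm
  obtain ⟨e, ⟨he, hes⟩, q, ⟨hq, hqu⟩, _⟩ := hkm
  have hq' : q.1 ∈ e.2.toList := by
    have := List.mem_zipIdx hq
    rcases q with ⟨q1, q2⟩
    simp only at this ⊢
    rw [this.2.2]
    exact List.getElem_mem _
  have := (hD r hr hneg).2.2 e he q.1 hq'
  omega

/-- For a negative root `r`, the transpose of `x_r(t) - 1` has depth at least one. -/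
theorem dep_xMat_sub_one_neg (hD : NegTriOK D) (r : Fin D.nroots) (hneg : D.IsNegRoot r.val) (t : F) :
    Dep D 1 ((D.xMat F r t)ᵀ - 1) := by
  obtain ⟨hhalf, hneglt, _⟩ := hD r.val r.2 hneg
  intro col row hij
  rw [Matrix.sub_apply, Matrix.one_apply, sub_eq_zero, Matrix.transpose_apply]
  unfold ChevalleyDatum.xMat
  simp only [Matrix.of_apply]
  rcases col with c | s
  · rcases row with c' | u
    · simp [eq_comm]
    · have hne : u ≠ r := by
        rintro rfl
        simp only [bIdx] at hij
        have := c.2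
        split_ifs at hij <;> omega
      simp [hne]
  · by_cases hsr : s = r
    · subst hsr
      rcases row with c' | u
      · simp
      · simp [eq_comm]
    · simp only [hsr, if_false]
      by_cases hng : s.val = D.negIdx.getD r.val 0
      · simp only [hng, if_true]
        have hslt : D.nroots / 2 ≤ s.val := by rw [hng]; exact hneglt
        rcases row with c' | u
        · exfalso
          simp only [bIdx] at hij
          have := c'.2
          split_ifs at hij <;> omega
        · by_cases hus : u = s
          · subst hus; simp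
          · have hur : u ≠ r := by
              rintro rfl
              simp only [bIdx] at hij
              split_ifs at hij <;> omega
            have : (Sum.inr s : D.Idx) ≠ Sum.inr u := fun h => hus (Sum.inr.inj h).symm
            simp [hus, hur, this]
      · simp only [hng, if_false]
        rcases row with c' | u
        · simp
        · have hus : s.val ≤ u.val := by
            by_contra hcon
            have := bIdx_inr_lt (D := D) (s := u) (u := s) (by omega)
            omega
          simp only [chainCoeff_eq_nil_neg hD r.val r.2 hneg s.val u.val hus, List.map_nil,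
            List.sum_nil, add_zero]
          by_cases hus' : u = s
          · subst hus'; simp
          · have : (Sum.inr s : D.Idx) ≠ Sum.inr u := fun h => hus' (Sum.inr.inj h).symm
            simp [hus', this]

/-- Elements of `V` are (transposed) unitriangular with respect to the height function. -/
theorem negUnipotent_dep (hD : NegTriOK D) (g : GL D.Idx F) (hg : g ∈ D.negUnipotent F) :
    Dep D 1 ((g : Matrix D.Idx D.Idx F)ᵀ - 1) := by
  unfold ChevalleyDatum.negUnipotent at hg
  induction hg using Subgroup.closure_induction with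
  | mem x hx =>
    obtain ⟨r, t, hneg, hx⟩ := hx
    rw [hx]
    unfold ChevalleyDatum.x
    rw [dif_pos hneg.1]
    exact dep_xMat_sub_one_neg hD ⟨r, hneg.1⟩ hneg t
  | one =>
    rw [Units.val_one, Matrix.transpose_one, sub_self]
    exact dep_zero 1
  | mul a b _ _ ha hb =>
    have : ((a * b : GL D.Idx F) : Matrix D.Idx D.Idx F)ᵀ - 1 =
        ((b : Matrix D.Idx D.Idx F)ᵀ - 1) + ((a : Matrix D.Idx D.Idx F)ᵀ - 1) +
          ((b : Matrix D.Idx D.Idx F)ᵀ - 1) * ((a : Matrix D.Idx D.Idx F)ᵀ - 1) := by
      rw [Units.val_mul, Matrix.transpose_mul]; noncomm_ring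
    rw [this]
    exact dep_add (dep_add hb ha) (dep_mono (by omega) (dep_mul hb ha))
  | inv a _ ha =>
    let aT : GL D.Idx F := ⟨(a : Matrix D.Idx D.Idx F)ᵀ, ((a⁻¹ : GL D.Idx F) : Matrix D.Idx D.Idx F)ᵀ,
      by rw [← Matrix.transpose_mul, Units.inv_mul, Matrix.transpose_one],
      by rw [← Matrix.transpose_mul, Units.mul_inv, Matrix.transpose_one]⟩
    exact dep_inv (le_refl 1) aT ha

end

section

variable {F : Type*} [Field F] (D : ChevalleyDatum)

theorem conj_mem_negUnipotent {tbl : List ℕ} (hT : TorusData D tbl) (g : GL D.Idx F)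
    (hg : g ∈ D.diagonalSubgroup F) (y : GL D.Idx F) (hy : y ∈ D.negUnipotent F) :
    g * y * g⁻¹ ∈ D.negUnipotent F := by
  obtain ⟨c, hc, hgc⟩ := mem_diag_eq_torMat D hT g hg
  have key : D.negUnipotent F ≤ (D.negUnipotent F).comap (MulAut.conj g).toMonoidHom := by
    conv_lhs => rw [ChevalleyDatum.negUnipotent]
    rw [Subgroup.closure_le]
    rintro y ⟨r, t, hneg, hy⟩
    rw [SetLike.mem_coe, Subgroup.mem_comap]
    change g * y * g⁻¹ ∈ D.negUnipotent F
    apply Subgroup.subset_closure
    refine ⟨r, chi D c r * t, hneg, ?_⟩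
    rw [Units.val_mul, Units.val_mul, hy, hgc,
      torMat_mul_x D r (fun i hi => hT.addOK D i hi r hneg.1) c hc t, mul_assoc, ← hgc,
      Units.mul_inv, mul_one]
  exact key hy

theorem diag_le_normalizer_neg {tbl : List ℕ} (hT : TorusData D tbl) :
    D.diagonalSubgroup F ≤ Subgroup.normalizer (D.negUnipotent F : Set (GL D.Idx F)) := by
  intro g hg
  rw [Subgroup.mem_normalizer_iff]
  intro y
  constructor
  · exact conj_mem_negUnipotent D hT g hg y
  · intro h
    have := conj_mem_negUnipotent D hT g⁻¹ (inv_mem hg) _ h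
    simpa [mul_assoc] using this

/-- The key uniqueness fact: `u h = v` with `u ∈ U`, `h ∈ H`, `v ∈ V` forces `u = 1` and `h = 1`. -/
theorem uhv_trivial {tbl : List ℕ} (hT : TorusData D tbl) (hTri : TriOK D) (hNeg : NegTriOK D)
    (u h v : GL D.Idx F) (hu : u ∈ D.posUnipotent F) (hh : h ∈ D.diagonalSubgroup F)
    (hv : v ∈ D.negUnipotent F) (e : u * h = v) : u = 1 ∧ h = 1 := by
  obtain ⟨c, hc, hhc⟩ := mem_diag_eq_torMat D hT h hh
  have hU : Dep D 1 ((u : Matrix D.Idx D.Idx F) - 1) := posUnipotent_le_depSubgroup hTri hu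
  have hV : Dep D 1 ((v : Matrix D.Idx D.Idx F)ᵀ - 1) := negUnipotent_dep hNeg v hv
  have huii : ∀ i, (u : Matrix D.Idx D.Idx F) i i = 1 := by
    intro i
    have := hU i i (by omega)
    rwa [Matrix.sub_apply, Matrix.one_apply_eq, sub_eq_zero] at this
  have hvii : ∀ i, (v : Matrix D.Idx D.Idx F) i i = 1 := by
    intro i
    have := hV i i (by omega)
    rwa [Matrix.sub_apply, Matrix.one_apply_eq, sub_eq_zero, Matrix.transpose_apply] at this
  have eM : (u : Matrix D.Idx D.Idx F) * (h : Matrix D.Idx D.Idx F) = (v : Matrix D.Idx D.Idx F) := by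
    rw [← Units.val_mul, e]
  -- the diagonal entries of `h` are `1`
  have hd : ∀ i, (h : Matrix D.Idx D.Idx F) i i = 1 := by
    intro i
    have h1 := congrFun (congrFun eM i) i
    rw [hhc, torMat, Matrix.mul_diagonal, hvii, huii, one_mul] at h1
    rw [hhc, torMat, Matrix.diagonal_apply_eq]
    exact h1
  have hh1 : h = 1 := by
    apply Units.ext
    ext i j
    by_cases hij : i = j
    · subst hij
      rw [hd, Units.val_one, Matrix.one_apply_eq]
    · rw [hhc, torMat, Matrix.diagonal_apply_ne _ hij]
      exact (Matrix.one_apply_ne hij).symm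
  refine ⟨?_, hh1⟩
  have huv : u = v := by rw [← e, hh1, mul_one]
  apply Units.ext
  ext i j
  by_cases hij : i = j
  · subst hij
    rw [huii, Units.val_one, Matrix.one_apply_eq]
  · rw [Units.val_one, Matrix.one_apply_ne hij]
    rcases Nat.lt_or_ge (bIdx D i) (bIdx D j + 1) with hlt | hge
    · have := hU i j hlt
      rwa [Matrix.sub_apply, Matrix.one_apply_ne hij, sub_zero] at this
    · have := hV j i (by omega)
      rw [Matrix.sub_apply, Matrix.transpose_apply, Matrix.one_apply_ne (Ne.symm hij), sub_zero] at this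
      rw [huv]
      exact this

theorem borel_inf_neg {tbl : List ℕ} (hT : TorusData D tbl) (hTri : TriOK D) (hNeg : NegTriOK D) :
    D.borelSubgroup F ⊓ D.negUnipotent F = ⊥ ∧
      D.borelSubgroup F ⊓ (D.negUnipotent F ⊔ D.diagonalSubgroup F) = D.diagonalSubgroup F := by
  have hB : ((D.borelSubgroup F : Subgroup (GL D.Idx F)) : Set (GL D.Idx F)) =
      (D.posUnipotent F : Set (GL D.Idx F)) * (D.diagonalSubgroup F : Set (GL D.Idx F)) :=
    Subgroup.coe_mul_of_right_le_normalizer_left _ _ (diag_le_normalizer D hT)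
  have hVH : ((D.negUnipotent F ⊔ D.diagonalSubgroup F : Subgroup (GL D.Idx F)) : Set (GL D.Idx F)) =
      (D.negUnipotent F : Set (GL D.Idx F)) * (D.diagonalSubgroup F : Set (GL D.Idx F)) :=
    Subgroup.coe_mul_of_right_le_normalizer_left _ _ (diag_le_normalizer_neg D hT)
  constructor
  · rw [eq_bot_iff]
    intro g hg
    obtain ⟨hgB, hgV⟩ := Subgroup.mem_inf.mp hg
    rw [Subgroup.mem_bot]
    have hgB' : g ∈ ((D.borelSubgroup F : Subgroup (GL D.Idx F)) : Set (GL D.Idx F)) := hgB
    rw [hB] at hgB'
    obtain ⟨u, hu, h, hh, e⟩ := hgB'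
    have e' : u * h = g := e
    obtain ⟨hu1, hh1⟩ := uhv_trivial D hT hTri hNeg u h g hu hh hgV e'
    rw [← e', hu1, hh1, mul_one]
  · apply le_antisymm
    · intro g hg
      obtain ⟨hgB, hgVH⟩ := Subgroup.mem_inf.mp hg
      have hgB' : g ∈ ((D.borelSubgroup F : Subgroup (GL D.Idx F)) : Set (GL D.Idx F)) := hgB
      have hgVH' : g ∈ ((D.negUnipotent F ⊔ D.diagonalSubgroup F : Subgroup (GL D.Idx F)) :
          Set (GL D.Idx F)) := hgVH
      rw [hB] at hgB'
      rw [hVH] at hgVH'
      obtain ⟨u, hu, h, hh, e1⟩ := hgB'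
      obtain ⟨v, hv, h', hh', e2⟩ := hgVH'
      have e1' : u * h = g := e1
      have e2' : v * h' = g := e2
      have e' : u * (h * h'⁻¹) = v := by
        rw [← mul_assoc, e1', ← e2', mul_assoc, mul_inv_cancel, mul_one]
      obtain ⟨hu1, _⟩ := uhv_trivial D hT hTri hNeg u (h * h'⁻¹) v hu
        (mul_mem hh (inv_mem hh')) hv e'
      rw [← e1', hu1, one_mul]
      exact hh
    · exact le_inf le_sup_right le_sup_right

end

end Cfsg.Agent.Helper18
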