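import Cfsg.Agent.Lib.Helper18.ChevMonoNormal
import Cfsg.Agent.Lib.Helper18.ChevNegTri
import Cfsg.Agent.Lib.Helper18.ChevCore

set_option autoImplicit false

namespace Cfsg.Agent.Helper18

open Cfsg.Lie Cfsg.Agent.S1043 Cfsg.Agent.Helper17

/-- Table facts used for the intersection of `B` and `N`. -/
structure BNFacts (D : ChevalleyDatum) : Prop where
  hsimp : ∀ i < D.rank, D.simple i < D.nroots
  hsimpPos : ∀ i < D.rank, D.IsPosRoot (D.simple i)
  hrefl : ∀ i < D.rank, ∀ s < D.nroots, D.reflectRoot i s < D.nroots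
  hreflPos : ∀ i < D.rank, ∀ s, D.IsPosRoot s → s ≠ D.simple i → D.IsPosRoot (D.reflectRoot i s)
  hnv : ∀ s < D.nroots, D.neg s < D.nroots
  hne : ∀ s < D.nroots, D.neg s ≠ s
  hnr : ∀ i < D.rank, ∀ s < D.nroots, D.reflectRoot i (D.neg s) = D.neg (D.reflectRoot i s)
  hpn : ∀ s < D.nroots, D.IsPosRoot s ∨ D.IsNegRoot s
  hnegpos : ∀ s, D.IsPosRoot s → ¬ D.IsPosRoot (D.neg s)
  horb : ∀ r < D.nroots, ∃ j < D.rank, ∃ l : List ℕ, (∀ i ∈ l, i < D.rank) ∧ permW D l (D.simple j) = r

section

variable {F : Type*} [Field F] (D : ChevalleyDatum) (hD : Good D)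

theorem nWordGL_nil : nWordGL (F := F) D hD [] = 1 := rfl

theorem nWordGL_cons (i : ℕ) (l : List ℕ) :
    nWordGL (F := F) D hD (i :: l) = nGL D hD i * nWordGL D hD l := by
  rw [nWordGL, List.map_cons, List.prod_cons]
  rfl

theorem nWordGL_append (a b : List ℕ) :
    nWordGL (F := F) D hD (a ++ b) = nWordGL D hD a * nWordGL D hD b := by
  rw [nWordGL, List.map_append, List.prod_append]
  rfl

theorem nGL_eq_nrGL (i : ℕ) : nGL (F := F) D hD i = nrGL D hD (D.simple i) := rfl

theorem permW_append (a b : List ℕ) (s : ℕ) : permW D (a ++ b) s = permW D a (permW D b s) := by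
  unfold permW
  rw [List.foldr_append]

variable {D}

theorem permW_lt (hB : BNFacts D) (l : List ℕ) (hl : ∀ i ∈ l, i < D.rank) (s : ℕ) (hs : s < D.nroots) :
    permW D l s < D.nroots := by
  induction l with
  | nil => exact hs
  | cons i l ih =>
    exact hB.hrefl i (hl i List.mem_cons_self) _ (ih fun j hj => hl j (List.mem_cons_of_mem _ hj))

theorem permW_neg (hB : BNFacts D) (l : List ℕ) (hl : ∀ i ∈ l, i < D.rank) (s : ℕ) (hs : s < D.nroots) :
    permW D l (D.neg s) = D.neg (permW D l s) := by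
  induction l with
  | nil => rfl
  | cons i l ih =>
    have hl' : ∀ j ∈ l, j < D.rank := fun j hj => hl j (List.mem_cons_of_mem _ hj)
    change D.reflectRoot i (permW D l (D.neg s)) = D.neg (D.reflectRoot i (permW D l s))
    rw [ih hl', hB.hnr i (hl i List.mem_cons_self) _ (permW_lt hB l hl' s hs)]

theorem deletion_point (hB : BNFacts D) (l : List ℕ) (hl : ∀ i ∈ l, i < D.rank) (s₀ : ℕ)
    (hs₀ : D.IsPosRoot s₀) (hneg : ¬ D.IsPosRoot (permW D l s₀)) :
    ∃ a i b, l = a ++ i :: b ∧ permW D b s₀ = D.simple i := by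
  induction l with
  | nil => exact absurd hs₀ hneg
  | cons i b ih =>
    by_cases hb : D.IsPosRoot (permW D b s₀)
    · by_cases he : permW D b s₀ = D.simple i
      · exact ⟨[], i, b, rfl, he⟩
      · exact absurd (hB.hreflPos i (hl i List.mem_cons_self) _ hb he) hneg
    · obtain ⟨a, i', b', e, h⟩ := ih (fun j hj => hl j (List.mem_cons_of_mem _ hj)) hb
      exact ⟨i :: a, i', b', by rw [e]; rfl, h⟩

variable (D)

theorem nWordGL_conj_nrGL (hB : BNFacts D) (hS : ∀ i < D.rank, ConjGoalS' F D i) (l : List ℕ)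
    (hl : ∀ i ∈ l, i < D.rank) (s : ℕ) (hs : s < D.nroots) :
    nWordGL D hD l * nrGL D hD s * (nWordGL D hD l)⁻¹ = nrGL (F := F) D hD (permW D l s) ∨
      nWordGL D hD l * nrGL D hD s * (nWordGL D hD l)⁻¹ = (nrGL (F := F) D hD (permW D l s))⁻¹ := by
  induction l with
  | nil =>
    left
    rw [nWordGL_nil]
    simp [permW]
  | cons i l ih =>
    have hl' : ∀ j ∈ l, j < D.rank := fun j hj => hl j (List.mem_cons_of_mem _ hj)
    have hi : i < D.rank := hl i List.mem_cons_self
    have hlt := permW_lt hB l hl' s hs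
    have e : nWordGL (F := F) D hD (i :: l) * nrGL D hD s * (nWordGL D hD (i :: l))⁻¹ =
        nGL D hD i * (nWordGL D hD l * nrGL D hD s * (nWordGL D hD l)⁻¹) * (nGL D hD i)⁻¹ := by
      rw [nWordGL_cons]
      group
    have e2 : permW D (i :: l) s = D.reflectRoot i (permW D l s) := rfl
    rw [e, e2]
    have hc := conj_nrGL (F := F) D hD i (hS i hi) hB.hnv (hB.hnr i hi) (permW D l s) hlt
    rcases ih hl' with h1 | h1
    · rw [h1]
      exact hc
    · rw [h1]
      have e3 : nGL (F := F) D hD i * (nrGL D hD (permW D l s))⁻¹ * (nGL D hD i)⁻¹ =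
          (nGL D hD i * nrGL D hD (permW D l s) * (nGL D hD i)⁻¹)⁻¹ := by group
      rw [e3]
      rcases hc with h2 | h2
      · right
        rw [h2]
      · left
        rw [h2, inv_inv]

theorem nWordGL_conj_xU (hB : BNFacts D) (hconj : ∀ i < D.rank, ∀ s < D.nroots, ConjGoal' F D i s)
    (l : List ℕ) (hl : ∀ i ∈ l, i < D.rank) (s : ℕ) (hs : s < D.nroots) :
    ∃ η : ℤ, (η = 1 ∨ η = -1) ∧
      nWordGL D hD l * xU D hD s 1 * (nWordGL D hD l)⁻¹ = xU D hD (permW D l s) (η : F) := by
  obtain ⟨_, η, hη, hc⟩ := nWordGL_conj D hD hB.hrefl hconj l hl s hs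
  refine ⟨η, hη, ?_⟩
  apply Units.ext
  rw [Units.val_mul, Units.val_mul, xU_val, hc 1, mul_assoc, Units.mul_inv, mul_one, mul_one, xU_val]

theorem nrGL_mem_of (hB : BNFacts D) (hS : ∀ i < D.rank, ConjGoalS' F D i) (K : Subgroup (GL D.Idx F))
    (hK : ∀ i < D.rank, nGL D hD i ∈ K) (r : ℕ) (hr : r < D.nroots) : nrGL D hD r ∈ K := by
  obtain ⟨j, hj, l, hl, rfl⟩ := hB.horb r hr
  have hW : nWordGL D hD l ∈ K := by
    clear hr
    induction l with
    | nil => exact one_mem _
    | cons i l ih =>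
      rw [nWordGL_cons]
      exact mul_mem (hK i (hl i List.mem_cons_self)) (ih fun k hk => hl k (List.mem_cons_of_mem _ hk))
  have hc : nWordGL D hD l * nrGL D hD (D.simple j) * (nWordGL D hD l)⁻¹ ∈ K :=
    mul_mem (mul_mem hW (hK j hj)) (inv_mem hW)
  rcases nWordGL_conj_nrGL D hD hB hS l hl (D.simple j) (hB.hsimp j hj) with h | h
  · rwa [h] at hc
  · rw [h] at hc
    exact (Subgroup.inv_mem_iff _).mp hc

theorem mem_monomial_decomp (hB : BNFacts D) (hS : ∀ i < D.rank, ConjGoalS' F D i)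
    (hNH : D.monomialSubgroup F ≤ Subgroup.normalizer (D.diagonalSubgroup F : Set (GL D.Idx F)))
    (g : GL D.Idx F) (hg : g ∈ D.monomialSubgroup F) :
    ∃ h ∈ D.diagonalSubgroup F, ∃ l : List ℕ, (∀ i ∈ l, i < D.rank) ∧ g = h * nWordGL D hD l := by
  have hconjmem : ∀ i < D.rank, ∀ h ∈ D.diagonalSubgroup F,
      nGL D hD i * h * (nGL D hD i)⁻¹ ∈ D.diagonalSubgroup F := by
    intro i hi h hh
    have hn := hNH (nGL_mem D hD i (hB.hsimp i hi))
    exact (Subgroup.mem_normalizer_iff.mp hn h).mp hh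
  have hsq : ∀ i < D.rank, (nGL D hD i)⁻¹ * (nGL D hD i)⁻¹ ∈ D.diagonalSubgroup F := fun i hi =>
    nrGL_inv_sq_mem D hD (D.simple i) (hB.hsimp i hi)
  let T : Set (GL D.Idx F) := (D.diagonalSubgroup F : Set (GL D.Idx F)) ∪ {g | ∃ i < D.rank, g = nGL D hD i}
  have hNK : D.monomialSubgroup F ≤ Subgroup.closure T := by
    unfold ChevalleyDatum.monomialSubgroup
    apply sup_le
    · intro x hx
      exact Subgroup.subset_closure (Or.inl hx)
    · rw [Subgroup.closure_le]
      rintro x ⟨r, hr, hx⟩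
      have ex : x = nrGL D hD r := Units.ext (hx.trans (nrGL_val D hD r).symm)
      rw [SetLike.mem_coe, ex]
      exact nrGL_mem_of D hD hB hS _ (fun i hi => Subgroup.subset_closure (Or.inr ⟨i, hi, rfl⟩)) r hr
  have hgK := hNK hg
  clear hg
  induction hgK using Subgroup.closure_induction_left with
  | one => exact ⟨1, one_mem _, [], fun i hi => absurd hi (List.not_mem_nil), by rw [nWordGL_nil, mul_one]⟩
  | mul_left x hx y _ ih =>
    obtain ⟨h, hh, l, hl, rfl⟩ := ih
    rcases hx with hx | ⟨i, hi, rfl⟩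
    · exact ⟨x * h, mul_mem hx hh, l, hl, (mul_assoc _ _ _).symm⟩
    · refine ⟨nGL D hD i * h * (nGL D hD i)⁻¹, hconjmem i hi h hh, i :: l, ?_, ?_⟩
      · intro k hk
        rcases List.mem_cons.mp hk with rfl | hk
        · exact hi
        · exact hl k hk
      · rw [nWordGL_cons]
        group
  | inv_mul_cancel x hx y _ ih =>
    obtain ⟨h, hh, l, hl, rfl⟩ := ih
    rcases hx with hx | ⟨i, hi, rfl⟩
    · exact ⟨x⁻¹ * h, mul_mem (inv_mem hx) hh, l, hl, (mul_assoc _ _ _).symm⟩
    · refine ⟨(nGL D hD i)⁻¹ * (nGL D hD i)⁻¹ * (nGL D hD i * h * (nGL D hD i)⁻¹),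
        mul_mem (hsq i hi) (hconjmem i hi h hh), i :: l, ?_, ?_⟩
      · intro k hk
        rcases List.mem_cons.mp hk with rfl | hk
        · exact hi
        · exact hl k hk
      · rw [nWordGL_cons]
        group

theorem xU_eq_one (hB : BNFacts D) (r : ℕ) (hr : r < D.nroots) (u : F) (h : xU D hD r u = 1) : u = 0 := by
  have h1 : D.x F r u = torMat D (fun _ => (1 : F)) := by
    rw [torMat_one]
    exact congrArg Units.val h
  exact x_eq_torMat D r hr (hB.hnv r hr) (hB.hne r hr) u _ h1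

theorem pos_of_conj_mem_borel (hB : BNFacts D) {tbl : List ℕ} (hT : TorusData D tbl) (hTri : TriOK D)
    (hNeg : NegTriOK D) (hconj : ∀ i < D.rank, ∀ s < D.nroots, ConjGoal' F D i s)
    (h : GL D.Idx F) (hh : h ∈ D.diagonalSubgroup F) (l : List ℕ) (hl : ∀ i ∈ l, i < D.rank)
    (s : ℕ) (hs : s < D.nroots)
    (hmem : (h * nWordGL D hD l) * xU D hD s 1 * (h * nWordGL D hD l)⁻¹ ∈ D.borelSubgroup F) :
    D.IsPosRoot (permW D l s) := by
  obtain ⟨η, hη, e1⟩ := nWordGL_conj_xU D hD hB hconj l hl s hs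
  have hlt := permW_lt hB l hl s hs
  by_contra hnp
  have hneg : D.IsNegRoot (permW D l s) := (hB.hpn _ hlt).resolve_left hnp
  have e2 : (h * nWordGL D hD l) * xU D hD s 1 * (h * nWordGL D hD l)⁻¹ =
      h * xU D hD (permW D l s) (η : F) * h⁻¹ := by
    rw [← e1]
    group
  rw [e2] at hmem
  have hV : h * xU D hD (permW D l s) (η : F) * h⁻¹ ∈ D.negUnipotent F :=
    conj_mem_negUnipotent D hT h hh _ (Subgroup.subset_closure ⟨_, _, hneg, rfl⟩)
  have h0 : h * xU D hD (permW D l s) (η : F) * h⁻¹ = 1 := by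
    have hbot := (borel_inf_neg (F := F) D hT hTri hNeg).1
    rw [← Subgroup.mem_bot, ← hbot]
    exact ⟨hmem, hV⟩
  have h1 : xU D hD (permW D l s) (η : F) = 1 := by
    have e3 : xU D hD (permW D l s) (η : F) = h⁻¹ * (h * xU D hD (permW D l s) (η : F) * h⁻¹) * h := by
      group
    rw [e3, h0]
    group
  have h2 := xU_eq_one D hD hB _ hlt _ h1
  rcases hη with rfl | rfl <;> simp at h2

theorem nWordGL_mem_diag (hB : BNFacts D) {tbl : List ℕ} (hT : TorusData D tbl) (hTri : TriOK D)
    (hNeg : NegTriOK D) (hconj : ∀ i < D.rank, ∀ s < D.nroots, ConjGoal' F D i s)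
    (hS : ∀ i < D.rank, ConjGoalS' F D i)
    (hNH : D.monomialSubgroup F ≤ Subgroup.normalizer (D.diagonalSubgroup F : Set (GL D.Idx F))) :
    ∀ k : ℕ, ∀ l : List ℕ, l.length ≤ k → (∀ i ∈ l, i < D.rank) →
      (∀ s, D.IsPosRoot s → D.IsPosRoot (permW D l s)) →
      nWordGL D hD l ∈ D.diagonalSubgroup F := by
  intro k
  induction k with
  | zero =>
    intro l hlen _ _
    have : l = [] := List.length_eq_zero_iff.mp (Nat.le_zero.mp hlen)
    subst this
    exact one_mem _
  | succ k ih =>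
    intro l hlen hl hpos
    rcases List.eq_nil_or_concat' l with rfl | ⟨l₁, j, rfl⟩
    · exact one_mem _
    · have hj : j < D.rank := hl j (by simp)
      have hl₁ : ∀ i ∈ l₁, i < D.rank := fun i hi => hl i (by simp [hi])
      have hsj := hB.hsimp j hj
      have e1 : permW D (l₁ ++ [j]) (D.simple j) = D.neg (permW D l₁ (D.simple j)) := by
        rw [permW_append]
        have : permW D [j] (D.simple j) = D.neg (D.simple j) := by
          change D.reflectRoot j (D.simple j) = _
          unfold ChevalleyDatum.reflectRoot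
          simp
        rw [this, permW_neg hB l₁ hl₁ _ hsj]
      have hp := hpos _ (hB.hsimpPos j hj)
      rw [e1] at hp
      have hnp : ¬ D.IsPosRoot (permW D l₁ (D.simple j)) := fun h' => hB.hnegpos _ h' hp
      obtain ⟨a, i, b, rfl, hbi⟩ := deletion_point hB l₁ hl₁ (D.simple j) (hB.hsimpPos j hj) hnp
      have hi : i < D.rank := hl₁ i (by simp)
      have ha : ∀ x ∈ a, x < D.rank := fun x hx => hl₁ x (by simp [hx])
      have hb : ∀ x ∈ b, x < D.rank := fun x hx => hl₁ x (by simp [hx])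
      have hab : ∀ x ∈ a ++ b, x < D.rank := by
        intro x hx
        rcases List.mem_append.mp hx with hx | hx
        · exact ha x hx
        · exact hb x hx
      have hcj := nWordGL_conj_nrGL (F := F) D hD hB hS b hb (D.simple j) hsj
      rw [hbi, ← nGL_eq_nrGL, ← nGL_eq_nrGL] at hcj
      have ea : nWordGL (F := F) D hD ((a ++ i :: b) ++ [j]) =
          nWordGL D hD a * nGL D hD i * (nWordGL D hD b * nGL D hD j) := by
        rw [nWordGL_append, nWordGL_append, nWordGL_cons, nWordGL_cons, nWordGL_nil]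
        group
      have key : ∃ h₁ ∈ D.diagonalSubgroup F,
          nWordGL (F := F) D hD ((a ++ i :: b) ++ [j]) = h₁ * nWordGL D hD (a ++ b) := by
        rcases hcj with h' | h'
        · have e3 : nWordGL (F := F) D hD b * nGL D hD j = nGL D hD i * nWordGL D hD b := by
            rw [← h']
            group
          refine ⟨nWordGL D hD a * (nGL D hD i * nGL D hD i) * (nWordGL D hD a)⁻¹, ?_, ?_⟩
          · have hsq : nGL (F := F) D hD i * nGL D hD i ∈ D.diagonalSubgroup F := by
              have h4 := nrGL_inv_sq_mem (F := F) D hD (D.simple i) (hB.hsimp i hi)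
              rw [← nGL_eq_nrGL] at h4
              have e4 : nGL (F := F) D hD i * nGL D hD i = ((nGL D hD i)⁻¹ * (nGL D hD i)⁻¹)⁻¹ := by
                rw [mul_inv_rev, inv_inv]
              rw [e4]
              exact inv_mem h4
            have hWa := hNH (nWordGL_mem (F := F) D hD a (fun x hx => hB.hsimp x (ha x hx)))
            exact (Subgroup.mem_normalizer_iff.mp hWa _).mp hsq
          · rw [ea, e3, nWordGL_append]
            group
        · have e3 : nWordGL (F := F) D hD b * nGL D hD j = (nGL D hD i)⁻¹ * nWordGL D hD b := by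
            rw [← h']
            group
          refine ⟨1, one_mem _, ?_⟩
          rw [ea, e3, nWordGL_append]
          group
      obtain ⟨h₁, hh₁, ek⟩ := key
      have hpos' : ∀ s, D.IsPosRoot s → D.IsPosRoot (permW D (a ++ b) s) := by
        intro s hs
        apply pos_of_conj_mem_borel D hD hB hT hTri hNeg hconj 1 (one_mem _) (a ++ b) hab s hs.1
        have hW2 : nWordGL (F := F) D hD (a ++ b) = h₁⁻¹ * nWordGL D hD ((a ++ i :: b) ++ [j]) := by
          rw [ek]
          group
        obtain ⟨η, _, e5⟩ := nWordGL_conj_xU (F := F) D hD hB hconj _ hl s hs.1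
        have e6 : (1 * nWordGL (F := F) D hD (a ++ b)) * xU D hD s 1 * (1 * nWordGL D hD (a ++ b))⁻¹ =
            h₁⁻¹ * xU D hD (permW D ((a ++ i :: b) ++ [j]) s) (η : F) * (h₁⁻¹)⁻¹ := by
          rw [hW2, ← e5]
          group
        rw [e6]
        apply Subgroup.mem_sup_left
        exact conj_mem_posUnipotent D hT h₁⁻¹ (inv_mem hh₁) _
          (Subgroup.subset_closure ⟨_, _, hpos s hs, rfl⟩)
      have hlen' : (a ++ b).length ≤ k := by
        simp only [List.length_append, List.length_cons, List.length_nil] at hlen ⊢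
        omega
      rw [ek]
      exact mul_mem hh₁ (ih (a ++ b) hlen' hab hpos')

include hD in
theorem borel_inf_monomial (hB : BNFacts D) {tbl : List ℕ} (hT : TorusData D tbl) (hTri : TriOK D)
    (hNeg : NegTriOK D) (hconj : ∀ i < D.rank, ∀ s < D.nroots, ConjGoal' F D i s)
    (hS : ∀ i < D.rank, ConjGoalS' F D i)
    (hNH : D.monomialSubgroup F ≤ Subgroup.normalizer (D.diagonalSubgroup F : Set (GL D.Idx F))) :
    D.posUnipotent F ⊓ D.monomialSubgroup F = ⊥ ∧
      D.borelSubgroup F ⊓ D.monomialSubgroup F = D.diagonalSubgroup F := by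
  have key : D.borelSubgroup F ⊓ D.monomialSubgroup F ≤ D.diagonalSubgroup F := by
    rintro g ⟨hgB, hgN⟩
    obtain ⟨h, hh, l, hl, rfl⟩ := mem_monomial_decomp D hD hB hS hNH g hgN
    have hpos : ∀ s, D.IsPosRoot s → D.IsPosRoot (permW D l s) := by
      intro s hs
      apply pos_of_conj_mem_borel D hD hB hT hTri hNeg hconj h hh l hl s hs.1
      exact mul_mem (mul_mem hgB (Subgroup.mem_sup_left (Subgroup.subset_closure ⟨s, 1, hs, rfl⟩)))
        (inv_mem hgB)
    exact mul_mem hh (nWordGL_mem_diag D hD hB hT hTri hNeg hconj hS hNH _ l le_rfl hl hpos)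
  constructor
  · rw [eq_bot_iff]
    rintro g ⟨hgU, hgN⟩
    have hgH := key ⟨Subgroup.mem_sup_left hgU, hgN⟩
    rw [← pos_inf_diag (F := F) D hT hTri]
    exact ⟨hgU, hgH⟩
  · apply le_antisymm key
    exact le_inf le_sup_right le_sup_left

end

end Cfsg.Agent.Helper18
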