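import Cfsg.Agent.Lib.Helper18.ChevUi

set_option autoImplicit false

namespace Cfsg.Agent.Helper18

open Cfsg.Lie Cfsg.Agent.S1043 Cfsg.Agent.Helper17
open scoped Pointwise

theorem mem_normalizer_of_conj_of_sq' {G : Type*} [Group G] (K : Subgroup G) (g : G)
    (h1 : ∀ k ∈ K, g * k * g⁻¹ ∈ K) (h2 : g⁻¹ * g⁻¹ ∈ Subgroup.normalizer (K : Set G)) :
    g ∈ Subgroup.normalizer (K : Set G) := by
  rw [Subgroup.mem_normalizer_iff]
  intro k
  constructor
  · exact h1 k
  · intro hk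
    have h3 := (Subgroup.mem_normalizer_iff.mp h2 (g * k * g⁻¹)).mp hk
    have e : g⁻¹ * g⁻¹ * (g * k * g⁻¹) * (g⁻¹ * g⁻¹)⁻¹ = g⁻¹ * k * g := by group
    rw [e] at h3
    have h4 := h1 _ h3
    have e2 : g * (g⁻¹ * k * g) * g⁻¹ = k := by group
    rwa [e2] at h4

section

variable {F : Type*} [Field F] (D : ChevalleyDatum) (hD : Good D)

theorem nGL_mem_normalizer_Ui (hB : BNFacts D) (hU : UiFacts D) {tbl : List ℕ} (hT : TorusData D tbl)
    (hconj : ∀ i < D.rank, ∀ s < D.nroots, ConjGoal' F D i s) (i : ℕ) (hi : i < D.rank) :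
    nGL D hD i ∈ Subgroup.normalizer (Ui (F := F) D i : Set (GL D.Idx F)) := by
  apply mem_normalizer_of_conj_of_sq' _ _ (nGL_conj_Ui D hD hB hU hconj i hi)
  apply diag_le_normalizer_Ui D hD hT i
  exact nrGL_inv_sq_mem D hD (D.simple i) (hB.hsimp i hi)

/-- `x_{-p_i}(t)` is a conjugate of a root element of `p_i` by `n_i`. -/
theorem xU_neg_simple_eq (hB : BNFacts D)
    (hconj : ∀ i < D.rank, ∀ s < D.nroots, ConjGoal' F D i s) (i : ℕ) (hi : i < D.rank) (t : F) :
    ∃ t' : F, xU D hD (D.neg (D.simple i)) t = nGL D hD i * xU D hD (D.simple i) t' * (nGL D hD i)⁻¹ := by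
  obtain ⟨η, hη, hc⟩ := hconj i hi (D.simple i) (hB.hsimp i hi)
  refine ⟨(η : F) * t, ?_⟩
  apply Units.ext
  simp only [Units.val_mul, xU_val, nGL_val]
  rw [hc, mul_assoc, ← nGL_val D hD i, Units.mul_inv, mul_one, reflect_simple]
  congr 1
  rcases hη with rfl | rfl <;> simp

/-- `x_{p_i}(t)` is a conjugate of a root element of `-p_i` by `n_i⁻¹`. -/
theorem nGL_inv_conj_simple (hB : BNFacts D)
    (hconj : ∀ i < D.rank, ∀ s < D.nroots, ConjGoal' F D i s) (i : ℕ) (hi : i < D.rank) (t : F) :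
    ∃ t' : F, (nGL D hD i)⁻¹ * xU D hD (D.simple i) t * nGL D hD i = xU D hD (D.neg (D.simple i)) t' := by
  have hs := hB.hsimp i hi
  obtain ⟨η, hη, hc⟩ := hconj i hi (D.neg (D.simple i)) (hB.hnv _ hs)
  refine ⟨(η : F) * t, ?_⟩
  have e : nGL D hD i * xU D hD (D.neg (D.simple i)) ((η : F) * t) * (nGL D hD i)⁻¹ =
      xU D hD (D.simple i) t := by
    apply Units.ext
    simp only [Units.val_mul, xU_val, nGL_val]
    rw [hc, mul_assoc, ← nGL_val D hD i, Units.mul_inv, mul_one, reflect_neg_simple D i (hB.hne _ hs)]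
    congr 1
    rcases hη with rfl | rfl <;> simp
  rw [← e]
  group

theorem mem_rootSubgroup (r : ℕ) (g : GL D.Idx F) (hg : g ∈ D.rootSubgroup F r) :
    ∃ t : F, g = xU D hD r t := by
  unfold ChevalleyDatum.rootSubgroup at hg
  induction hg using Subgroup.closure_induction with
  | mem x hx =>
    obtain ⟨t, hx⟩ := hx
    exact ⟨t, Units.ext hx⟩
  | one => exact ⟨0, Units.ext (by rw [xU_val, x_zero]; rfl)⟩
  | mul x y _ _ hx hy =>
    obtain ⟨t, rfl⟩ := hx
    obtain ⟨t', rfl⟩ := hy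
    exact ⟨t + t', Units.ext (by rw [Units.val_mul, xU_val, xU_val, xU_val, x_add D hD])⟩
  | inv x _ hx =>
    obtain ⟨t, rfl⟩ := hx
    exact ⟨-t, xU_inv D hD r t⟩

theorem xU_mem_rootSubgroup (r : ℕ) (t : F) : xU D hD r t ∈ D.rootSubgroup F r :=
  Subgroup.subset_closure ⟨t, rfl⟩

include hD in
/-- Statement S1045 (both parts). -/
theorem Ui_facts (hB : BNFacts D) (hU : UiFacts D) {tbl : List ℕ} (hT : TorusData D tbl)
    (hconj : ∀ i < D.rank, ∀ s < D.nroots, ConjGoal' F D i s) (i : ℕ) (hi : i < D.rank) :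
    D.rootSubgroup F (D.simple i) ⊔ D.rootSubgroup F (D.neg (D.simple i)) ≤
        Subgroup.normalizer (Ui (F := F) D i : Set (GL D.Idx F)) ∧
      Ui (F := F) D i ⊔ D.rootSubgroup F (D.simple i) = D.posUnipotent F := by
  have hn := nGL_mem_normalizer_Ui D hD hB hU hT hconj i hi
  constructor
  · apply sup_le
    · intro g hg
      obtain ⟨t, rfl⟩ := mem_rootSubgroup D hD _ g hg
      exact xU_simple_mem_normalizer D hD hU i hi t
    · intro g hg
      obtain ⟨t, rfl⟩ := mem_rootSubgroup D hD _ g hg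
      obtain ⟨t', e⟩ := xU_neg_simple_eq D hD hB hconj i hi t
      rw [e]
      exact mul_mem (mul_mem hn (xU_simple_mem_normalizer D hD hU i hi t')) (inv_mem hn)
  · apply le_antisymm
    · apply sup_le (Ui_le_pos D i)
      unfold ChevalleyDatum.rootSubgroup ChevalleyDatum.posUnipotent
      apply Subgroup.closure_mono
      rintro g ⟨t, hg⟩
      exact ⟨_, t, hB.hsimpPos i hi, hg⟩
    · conv_lhs => rw [ChevalleyDatum.posUnipotent]
      rw [Subgroup.closure_le]
      rintro g ⟨s, t, hs, hg⟩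
      have hgs : g = xU D hD s t := Units.ext hg
      by_cases h : s = D.simple i
      · apply Subgroup.mem_sup_right
        rw [hgs, h]
        exact xU_mem_rootSubgroup D hD _ t
      · apply Subgroup.mem_sup_left
        rw [hgs]
        exact xU_mem_Ui D hD i s t hs h

/-- Conjugation of a root element by an element `h * n_w` of `N`. -/
theorem conj_N_xU (hB : BNFacts D) {tbl : List ℕ} (hT : TorusData D tbl)
    (hconj : ∀ i < D.rank, ∀ s < D.nroots, ConjGoal' F D i s)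
    (h : GL D.Idx F) (hh : h ∈ D.diagonalSubgroup F) (l : List ℕ) (hl : ∀ i ∈ l, i < D.rank)
    (s : ℕ) (hs : s < D.nroots) :
    ∃ c : F, c ≠ 0 ∧ ∀ t : F, (h * nWordGL D hD l) * xU D hD s t * (h * nWordGL D hD l)⁻¹ =
      xU D hD (permW D l s) (c * t) := by
  obtain ⟨hlt, η, hη, hc⟩ := nWordGL_conj D hD hB.hrefl hconj l hl s hs
  obtain ⟨c, hc0, hhc⟩ := mem_diag_eq_torMat D hT h hh
  have hchi : chi D c (permW D l s) ≠ 0 := by
    unfold chi
    apply List.prod_ne_zero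
    intro h0
    rw [List.mem_map] at h0
    obtain ⟨j, _, h0⟩ := h0
    exact zpow_ne_zero _ (hc0 j) h0
  refine ⟨chi D c (permW D l s) * (η : F), mul_ne_zero hchi ?_, fun t => ?_⟩
  · rcases hη with rfl | rfl <;> simp
  · have e1 : nWordGL D hD l * xU D hD s t * (nWordGL D hD l)⁻¹ = xU D hD (permW D l s) ((η : F) * t) := by
      apply Units.ext
      rw [Units.val_mul, Units.val_mul, xU_val, hc t, mul_assoc, Units.mul_inv, mul_one, xU_val]
    have e2 : (h * nWordGL D hD l) * xU D hD s t * (h * nWordGL D hD l)⁻¹ =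
        h * (nWordGL D hD l * xU D hD s t * (nWordGL D hD l)⁻¹) * h⁻¹ := by group
    rw [e2, e1]
    apply Units.ext
    rw [Units.val_mul, Units.val_mul, xU_val, hhc,
      torMat_mul_x D _ (fun j hj => hT.addOK D j hj _ hlt) c hc0, mul_assoc, ← hhc, Units.mul_inv,
      mul_one, xU_val, mul_assoc]

/-- The rank one identity: `x_{-p}(t) = x_p(t⁻¹) h_p(-t⁻¹) n_p x_p(t⁻¹)` for `t ≠ 0`. -/
theorem xU_neg_eq (i : ℕ) (t : F) :
    xU D hD (D.neg (D.simple i)) t =
      xU D hD (D.simple i) t⁻¹ * (hGL D hD (D.simple i) (-t⁻¹) * nGL D hD i) * xU D hD (D.simple i) t⁻¹ := by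
  have e1 : xU D hD (D.simple i) (-1 : F) = (xU D hD (D.simple i) (1 : F))⁻¹ := by rw [xU_inv]
  have e2 : xU D hD (D.neg (D.simple i)) (-(-1 : F)⁻¹) = (xU D hD (D.neg (D.simple i)) (-1 : F))⁻¹ := by
    rw [xU_inv]
    congr 1
    simp
  have e3 : xU D hD (D.simple i) (-t⁻¹) = (xU D hD (D.simple i) t⁻¹)⁻¹ := by rw [xU_inv]
  have e4 : xU D hD (D.neg (D.simple i)) (-(-t⁻¹)⁻¹) = xU D hD (D.neg (D.simple i)) t := by
    congr 1
    rw [inv_neg, inv_inv, neg_neg]
  rw [hGL, nGL, e1, e2, e3, e4]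
  group

/-- Every element of `B` is of the form `u' * h * x_{p_i}(t)` with `u' ∈ U_i` and `h ∈ H`. -/
theorem borel_decomp (hB : BNFacts D) (hU : UiFacts D) {tbl : List ℕ} (hT : TorusData D tbl)
    (hconj : ∀ i < D.rank, ∀ s < D.nroots, ConjGoal' F D i s) (i : ℕ) (hi : i < D.rank)
    (b : GL D.Idx F) (hb : b ∈ D.borelSubgroup F) :
    ∃ u' ∈ Ui (F := F) D i, ∃ h ∈ D.diagonalSubgroup F, ∃ t : F, b = u' * h * xU D hD (D.simple i) t := by
  have hBs : ((D.borelSubgroup F : Subgroup (GL D.Idx F)) : Set (GL D.Idx F)) =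
      (D.posUnipotent F : Set (GL D.Idx F)) * (D.diagonalSubgroup F : Set (GL D.Idx F)) :=
    Subgroup.coe_mul_of_right_le_normalizer_left _ _ (diag_le_normalizer D hT)
  obtain ⟨hN, hsup⟩ := Ui_facts D hD hB hU hT hconj i hi
  have hUs : ((D.posUnipotent F : Subgroup (GL D.Idx F)) : Set (GL D.Idx F)) =
      (Ui (F := F) D i : Set (GL D.Idx F)) * (D.rootSubgroup F (D.simple i) : Set (GL D.Idx F)) := by
    rw [← hsup]
    exact Subgroup.coe_mul_of_right_le_normalizer_left _ _ (le_trans le_sup_left hN)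
  have hb' : b ∈ ((D.borelSubgroup F : Subgroup (GL D.Idx F)) : Set (GL D.Idx F)) := hb
  rw [hBs] at hb'
  obtain ⟨u, hu, h, hh, rfl⟩ := hb'
  rw [hUs] at hu
  obtain ⟨u', hu', x, hx, rfl⟩ := hu
  obtain ⟨t, rfl⟩ := mem_rootSubgroup D hD _ x hx
  have hh' : h⁻¹ ∈ D.diagonalSubgroup F := inv_mem hh
  obtain ⟨c, _, hc⟩ := conj_N_xU D hD hB hT hconj h⁻¹ hh' [] (fun j hj => absurd hj List.not_mem_nil)
    (D.simple i) (hB.hsimp i hi)
  refine ⟨u', hu', h, hh, c * t, ?_⟩
  have := hc t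
  rw [nWordGL_nil, mul_one] at this
  change h⁻¹ * xU D hD (D.simple i) t * (h⁻¹)⁻¹ = xU D hD (D.simple i) (c * t) at this
  rw [← this]
  group

/-- The double coset axiom of a `(B, N)`-pair, in the general linear group. -/
theorem bn_mul_mem (hB : BNFacts D) (hU : UiFacts D) {tbl : List ℕ} (hT : TorusData D tbl)
    (hconj : ∀ i < D.rank, ∀ s < D.nroots, ConjGoal' F D i s)
    (hS : ∀ i < D.rank, ConjGoalS' F D i)
    (hNH : D.monomialSubgroup F ≤ Subgroup.normalizer (D.diagonalSubgroup F : Set (GL D.Idx F)))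
    (i : ℕ) (hi : i < D.rank) (n : GL D.Idx F) (hn : n ∈ D.monomialSubgroup F)
    (b : GL D.Idx F) (hb : b ∈ D.borelSubgroup F) :
    (∃ b₁ ∈ D.borelSubgroup F, ∃ b₂ ∈ D.borelSubgroup F, nGL D hD i * b * n = b₁ * (nGL D hD i * n) * b₂) ∨
      (∃ b₁ ∈ D.borelSubgroup F, ∃ b₂ ∈ D.borelSubgroup F, nGL D hD i * b * n = b₁ * n * b₂) := by
  have hUB : D.posUnipotent F ≤ D.borelSubgroup F := le_sup_left
  have hHB : D.diagonalSubgroup F ≤ D.borelSubgroup F := le_sup_right
  have hsN : nGL D hD i ∈ D.monomialSubgroup F := nGL_mem D hD i (hB.hsimp i hi)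
  obtain ⟨u', hu', h, hh, t, rfl⟩ := borel_decomp D hD hB hU hT hconj i hi b hb
  -- the element `b₀ = (s u' s⁻¹)(s h s⁻¹)` of `B`
  have hb0 : nGL D hD i * u' * (nGL D hD i)⁻¹ * (nGL D hD i * h * (nGL D hD i)⁻¹) ∈ D.borelSubgroup F := by
    apply mul_mem
    · exact hUB (Ui_le_pos D i (nGL_conj_Ui D hD hB hU hconj i hi u' hu'))
    · exact hHB ((Subgroup.mem_normalizer_iff.mp (hNH hsN) h).mp hh)
  have e0 : nGL D hD i * (u' * h * xU D hD (D.simple i) t) * n =
      (nGL D hD i * u' * (nGL D hD i)⁻¹ * (nGL D hD i * h * (nGL D hD i)⁻¹)) *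
        (nGL D hD i * xU D hD (D.simple i) t * n) := by group
  -- reduce to the element `s x_p(t) n`
  suffices hsuff : (∃ b₁ ∈ D.borelSubgroup F, ∃ b₂ ∈ D.borelSubgroup F,
        nGL D hD i * xU D hD (D.simple i) t * n = b₁ * (nGL D hD i * n) * b₂) ∨
      (∃ b₁ ∈ D.borelSubgroup F, ∃ b₂ ∈ D.borelSubgroup F,
        nGL D hD i * xU D hD (D.simple i) t * n = b₁ * n * b₂) by
    rcases hsuff with ⟨b₁, hb₁, b₂, hb₂, e⟩ | ⟨b₁, hb₁, b₂, hb₂, e⟩
    · left
      refine ⟨_ * b₁, mul_mem hb0 hb₁, b₂, hb₂, ?_⟩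
      rw [e0, e]
      group
    · right
      refine ⟨_ * b₁, mul_mem hb0 hb₁, b₂, hb₂, ?_⟩
      rw [e0, e]
      group
  -- decompose `n⁻¹`
  obtain ⟨h', hh', l', hl', em⟩ := mem_monomial_decomp D hD hB hS hNH n⁻¹ (inv_mem hn)
  have hs := hB.hsimp i hi
  by_cases hpos : D.IsPosRoot (permW D l' (D.simple i))
  · -- case A
    left
    obtain ⟨c, _, hc⟩ := conj_N_xU D hD hB hT hconj h' hh' l' hl' (D.simple i) hs
    refine ⟨1, one_mem _, xU D hD (permW D l' (D.simple i)) (c * t), ?_, ?_⟩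
    · exact hUB (Subgroup.subset_closure ⟨_, _, hpos, rfl⟩)
    · rw [← hc t, ← em]
      group
  · -- case B
    have hneg : D.IsNegRoot (permW D l' (D.simple i)) :=
      (hB.hpn _ (permW_lt hB l' hl' _ hs)).resolve_left hpos
    by_cases ht : t = 0
    · left
      refine ⟨1, one_mem _, 1, one_mem _, ?_⟩
      have : xU D hD (D.simple i) t = 1 := by
        apply Units.ext
        rw [xU_val, ht, x_zero]
        rfl
      rw [this]
      group
    · right
      -- `s x_p(t) s⁻¹ = x_{-p}(t')`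
      obtain ⟨η, hη, hcη⟩ := hconj i hi (D.simple i) hs
      have e1 : nGL D hD i * xU D hD (D.simple i) t * (nGL D hD i)⁻¹ =
          xU D hD (D.neg (D.simple i)) ((η : F) * t) := by
        apply Units.ext
        simp only [Units.val_mul, xU_val, nGL_val]
        rw [hcη, mul_assoc, ← nGL_val D hD i, Units.mul_inv, mul_one, reflect_simple]
      have ht' : (η : F) * t ≠ 0 := by
        apply mul_ne_zero _ ht
        rcases hη with rfl | rfl <;> simp
      have e2 := xU_neg_eq D hD i ((η : F) * t)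
      -- `(s n)⁻¹ x_p(c₁) (s n)` is in `U`
      obtain ⟨c₂, e3⟩ := nGL_inv_conj_simple D hD hB hconj i hi ((η : F) * t)⁻¹
      obtain ⟨c, _, hc⟩ := conj_N_xU D hD hB hT hconj h' hh' l' hl' (D.neg (D.simple i)) (hB.hnv _ hs)
      have hposn : D.IsPosRoot (permW D l' (D.neg (D.simple i))) := by
        rw [permW_neg hB l' hl' _ hs]
        have h1 := hB.hpn _ (hB.hnv _ (permW_lt hB l' hl' _ hs))
        rcases h1 with h1 | h1
        · exact h1
        · exfalso
          -- both `r` and `-r` negative is impossible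
          have h2 := neg_facts D hD _ (permW_lt hB l' hl' _ hs) hneg
          exact hB.hnegpos _ h2.1 (by rw [h2.2]; exact (neg_facts D hD _ (hB.hnv _ (permW_lt hB l' hl' _ hs)) h1).1 |> fun h3 => by rw [h2.2] at h3; exact h3)
      have hsq : nGL D hD i * nGL D hD i ∈ D.diagonalSubgroup F := by
        have h4 := nrGL_inv_sq_mem (F := F) D hD (D.simple i) hs
        rw [← nGL_eq_nrGL] at h4
        have e4 : nGL (F := F) D hD i * nGL D hD i = ((nGL D hD i)⁻¹ * (nGL D hD i)⁻¹)⁻¹ := by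
          rw [mul_inv_rev, inv_inv]
        rw [e4]
        exact inv_mem h4
      refine ⟨xU D hD (D.simple i) ((η : F) * t)⁻¹ * hGL D hD (D.simple i) (-((η : F) * t)⁻¹) *
          (nGL D hD i * nGL D hD i), ?_, xU D hD (permW D l' (D.neg (D.simple i))) (c * c₂), ?_, ?_⟩
      · apply mul_mem (mul_mem _ _) (hHB hsq)
        · exact hUB (Subgroup.subset_closure ⟨_, _, hB.hsimpPos i hi, rfl⟩)
        · exact hHB (hGL_mem D hD _ hs _ (neg_ne_zero.mpr (inv_ne_zero ht')))
      · exact hUB (Subgroup.subset_closure ⟨_, _, hposn, rfl⟩)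
      · rw [← hc c₂, ← e3, ← em]
        have e5 : nGL D hD i * xU D hD (D.simple i) t * n =
            (nGL D hD i * xU D hD (D.simple i) t * (nGL D hD i)⁻¹) * (nGL D hD i * n) := by group
        rw [e5, e1, e2]
        group

end

end Cfsg.Agent.Helper18
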