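import Cfsg.Agent.Lib.Helper18.ChevBNPair
import Cfsg.Prelude.Def_LieExceptional

set_option autoImplicit false

namespace Cfsg.Agent.Helper18

open Cfsg.Lie Cfsg.Agent.S1043 Cfsg.Agent.Helper17
open scoped Pointwise

section

variable {F : Type*} [Field F] (D : ChevalleyDatum) (hD : Good D)

/-- The set of distinguished generators. -/
def bnS : Set ↥(D.group F) :=
  {n : ↥(D.group F) | ∃ i < D.rank, ((n : GL D.Idx F) : Matrix D.Idx D.Idx F) = D.nMat F (D.simple i) 1}

theorem mem_bnS_iff (n : ↥(D.group F)) :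
    n ∈ bnS (F := F) D ↔ ∃ i < D.rank, (n : GL D.Idx F) = nGL D hD i := by
  constructor
  · rintro ⟨i, hi, h⟩
    exact ⟨i, hi, Units.ext (h.trans (nGL_val D hD i).symm)⟩
  · rintro ⟨i, hi, h⟩
    exact ⟨i, hi, by rw [h, nGL_val]⟩

theorem nGL_mem_group (i : ℕ) : nGL (F := F) D hD i ∈ D.group F :=
  mul_mem (mul_mem (xU_mem_group D hD _ _) (xU_mem_group D hD _ _)) (xU_mem_group D hD _ _)

theorem nWordGL_mem_closure (l : List ℕ) (hl : ∀ i ∈ l, i < D.rank) :
    ∃ y ∈ Subgroup.closure (bnS (F := F) D), (y : GL D.Idx F) = nWordGL D hD l := by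
  induction l with
  | nil => exact ⟨1, one_mem _, rfl⟩
  | cons i l ih =>
    obtain ⟨y, hy, e⟩ := ih fun j hj => hl j (List.mem_cons_of_mem _ hj)
    refine ⟨⟨nGL D hD i, nGL_mem_group D hD i⟩ * y, mul_mem (Subgroup.subset_closure ?_) hy, ?_⟩
    · exact (mem_bnS_iff D hD _).mpr ⟨i, hl i List.mem_cons_self, rfl⟩
    · rw [nWordGL_cons, ← e]
      rfl

include hD in
theorem bnPair_exists (hB : BNFacts D) (hU : UiFacts D) {tbl : List ℕ} (hT : TorusData D tbl)
    (hTri : TriOK D) (hNeg : NegTriOK D)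
    (hconj : ∀ i < D.rank, ∀ s < D.nroots, ConjGoal' F D i s)
    (hS : ∀ i < D.rank, ConjGoalS' F D i)
    (hNH : D.monomialSubgroup F ≤ Subgroup.normalizer (D.diagonalSubgroup F : Set (GL D.Idx F))) :
    ∃ P : Cfsg.BNPair ↥(D.group F),
      P.B = (D.borelSubgroup F).subgroupOf (D.group F) ∧
      P.N = (D.monomialSubgroup F).subgroupOf (D.group F) ∧
      P.S = {n : ↥(D.group F) | ∃ i < D.rank,
        ((n : GL D.Idx F) : Matrix D.Idx D.Idx F) = D.nMat F (D.simple i) 1} := by
  have hBG : D.borelSubgroup F ≤ D.group F := borel_le D hD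
  have hNG : D.monomialSubgroup F ≤ D.group F := monomial_le D hD
  have hUB : D.posUnipotent F ≤ D.borelSubgroup F := le_sup_left
  have hHB : D.diagonalSubgroup F ≤ D.borelSubgroup F := le_sup_right
  have hHN : D.diagonalSubgroup F ≤ D.monomialSubgroup F := le_sup_left
  obtain ⟨_, hBN⟩ := borel_inf_monomial (F := F) D hD hB hT hTri hNeg hconj hS hNH
  have hsq : ∀ i < D.rank, nGL (F := F) D hD i * nGL D hD i ∈ D.diagonalSubgroup F := by
    intro i hi
    have h4 := nrGL_inv_sq_mem (F := F) D hD (D.simple i) (hB.hsimp i hi)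
    rw [← nGL_eq_nrGL] at h4
    have e4 : nGL (F := F) D hD i * nGL D hD i = ((nGL D hD i)⁻¹ * (nGL D hD i)⁻¹)⁻¹ := by
      rw [mul_inv_rev, inv_inv]
    rw [e4]
    exact inv_mem h4
  refine ⟨{ B := (D.borelSubgroup F).subgroupOf (D.group F)
            N := (D.monomialSubgroup F).subgroupOf (D.group F)
            S := bnS D
            sup_eq_top := ?_
            conj_mem := ?_
            subset := ?_
            sq_mem := ?_
            inj := ?_
            closure_sup := ?_
            mul_mem_union := ?_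
            conj_ne := ?_ }, rfl, rfl, rfl⟩
  · -- sup_eq_top
    rw [← Subgroup.subgroupOf_sup hBG hNG, sup_eq D hD, Subgroup.subgroupOf_self]
  · -- conj_mem
    intro n hn t ht
    rw [Subgroup.mem_inf] at ht
    obtain ⟨htB, htN⟩ := ht
    rw [Subgroup.mem_subgroupOf] at hn htB htN ⊢
    have htH : (t : GL D.Idx F) ∈ D.diagonalSubgroup F := by
      rw [← hBN]
      exact ⟨htB, htN⟩
    exact hHB ((Subgroup.mem_normalizer_iff.mp (hNH hn) _).mp htH)
  · -- subset
    intro s hs
    obtain ⟨i, hi, e⟩ := (mem_bnS_iff D hD s).mp hs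
    rw [SetLike.mem_coe, Subgroup.mem_subgroupOf, e]
    exact nGL_mem D hD i (hB.hsimp i hi)
  · -- sq_mem
    intro s hs
    obtain ⟨i, hi, e⟩ := (mem_bnS_iff D hD s).mp hs
    rw [Subgroup.mem_subgroupOf, Subgroup.coe_mul, e]
    exact hHB (hsq i hi)
  · -- inj
    intro s hs s' hs' hss
    obtain ⟨i, hi, e⟩ := (mem_bnS_iff D hD s).mp hs
    obtain ⟨j, hj, e'⟩ := (mem_bnS_iff D hD s').mp hs'
    rw [Subgroup.mem_subgroupOf, Subgroup.coe_mul, Subgroup.coe_inv, e, e'] at hss
    by_cases hij : D.simple i = D.simple j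
    · apply Subtype.ext
      rw [e, e']
      unfold nGL
      rw [hij]
    · exfalso
      have hmemB : (1 : GL D.Idx F) * nWordGL D hD [i, j] ∈ D.borelSubgroup F := by
        have e1 : (1 : GL D.Idx F) * nWordGL D hD [i, j] =
            (nGL D hD i * nGL D hD i) * ((nGL D hD i)⁻¹ * nGL D hD j) := by
          rw [nWordGL_cons, nWordGL_cons, nWordGL_nil]
          group
        rw [e1]
        exact mul_mem (hHB (hsq i hi)) hss
      have hl : ∀ k ∈ [i, j], k < D.rank := by
        intro k hk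
        simp only [List.mem_cons, List.not_mem_nil, or_false] at hk
        rcases hk with rfl | rfl
        · exact hi
        · exact hj
      have hp := pos_of_conj_mem_borel D hD hB hT hTri hNeg hconj 1 (one_mem _) [i, j] hl
        (D.simple j) (hB.hsimp j hj)
        (mul_mem (mul_mem hmemB (hUB (Subgroup.subset_closure ⟨_, 1, hB.hsimpPos j hj, rfl⟩)))
          (inv_mem hmemB))
      have e2 : permW D [i, j] (D.simple j) = D.neg (D.reflectRoot i (D.simple j)) := by
        change D.reflectRoot i (D.reflectRoot j (D.simple j)) = _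
        rw [reflect_simple, hB.hnr i hi _ (hB.hsimp j hj)]
      rw [e2] at hp
      exact hB.hnegpos _ (hB.hreflPos i hi _ (hB.hsimpPos j hj) (fun h => hij h.symm)) hp
  · -- closure_sup
    apply le_antisymm
    · apply sup_le
      · rw [Subgroup.closure_le]
        intro s hs
        obtain ⟨i, hi, e⟩ := (mem_bnS_iff D hD s).mp hs
        rw [SetLike.mem_coe, Subgroup.mem_subgroupOf, e]
        exact nGL_mem D hD i (hB.hsimp i hi)
      · exact inf_le_right
    · intro x hx
      rw [Subgroup.mem_subgroupOf] at hx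
      obtain ⟨h, hh, l, hl, e⟩ := mem_monomial_decomp D hD hB hS hNH _ hx
      obtain ⟨y, hy, ey⟩ := nWordGL_mem_closure (F := F) D hD l hl
      have ex : x = y * (y⁻¹ * x) := by group
      rw [ex]
      apply mul_mem (Subgroup.mem_sup_left hy)
      apply Subgroup.mem_sup_right
      have hc : ((y⁻¹ * x : ↥(D.group F)) : GL D.Idx F) = (nWordGL D hD l)⁻¹ * h * nWordGL D hD l := by
        rw [Subgroup.coe_mul, Subgroup.coe_inv, ey, e]
        group
      have hW := hNH (nWordGL_mem (F := F) D hD l fun k hk => hB.hsimp k (hl k hk))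
      have hmem : (nWordGL D hD l)⁻¹ * h * nWordGL D hD l ∈ D.diagonalSubgroup F := by
        have := (Subgroup.mem_normalizer_iff.mp (inv_mem hW) h).mp hh
        rwa [inv_inv] at this
      rw [Subgroup.mem_inf]
      constructor
      · rw [Subgroup.mem_subgroupOf, hc]
        exact hHB hmem
      · rw [Subgroup.mem_subgroupOf, hc]
        exact hHN hmem
  · -- mul_mem_union
    intro s hs n hn b hb
    obtain ⟨i, hi, e⟩ := (mem_bnS_iff D hD s).mp hs
    rw [Subgroup.mem_subgroupOf] at hn hb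
    rcases bn_mul_mem D hD hB hU hT hconj hS hNH i hi _ hn _ hb with
      ⟨b₁, hb₁, b₂, hb₂, eq⟩ | ⟨b₁, hb₁, b₂, hb₂, eq⟩
    · left
      rw [DoubleCoset.mem_doubleCoset]
      refine ⟨⟨b₁, hBG hb₁⟩, hb₁, ⟨b₂, hBG hb₂⟩, hb₂, ?_⟩
      apply Subtype.ext
      simp only [Subgroup.coe_mul, e]
      exact eq
    · right
      rw [DoubleCoset.mem_doubleCoset]
      refine ⟨⟨b₁, hBG hb₁⟩, hb₁, ⟨b₂, hBG hb₂⟩, hb₂, ?_⟩
      apply Subtype.ext
      simp only [Subgroup.coe_mul, e]
      exact eq
  · -- conj_ne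
    intro s hs himg
    obtain ⟨i, hi, e⟩ := (mem_bnS_iff D hD s).mp hs
    have hsi := hB.hsimp i hi
    have hxB : (⟨xU D hD (D.simple i) 1, xU_mem_group D hD _ _⟩ : ↥(D.group F)) ∈
        ((D.borelSubgroup F).subgroupOf (D.group F) : Set ↥(D.group F)) := by
      rw [SetLike.mem_coe, Subgroup.mem_subgroupOf]
      exact hUB (Subgroup.subset_closure ⟨_, 1, hB.hsimpPos i hi, rfl⟩)
    have h1 : s * ⟨xU D hD (D.simple i) 1, xU_mem_group D hD _ _⟩ * s ∈
        ((D.borelSubgroup F).subgroupOf (D.group F) : Set ↥(D.group F)) := by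
      rw [← himg]
      exact ⟨_, hxB, rfl⟩
    rw [SetLike.mem_coe, Subgroup.mem_subgroupOf] at h1
    simp only [Subgroup.coe_mul, e] at h1
    obtain ⟨η, hη, hcη⟩ := hconj i hi (D.simple i) hsi
    have e1 : nGL D hD i * xU D hD (D.simple i) 1 * (nGL D hD i)⁻¹ =
        xU D hD (D.neg (D.simple i)) (η : F) := by
      apply Units.ext
      simp only [Units.val_mul, xU_val, nGL_val]
      rw [hcη, mul_assoc, ← nGL_val D hD i, Units.mul_inv, mul_one, reflect_simple, mul_one]
    have h2 : xU D hD (D.neg (D.simple i)) (η : F) ∈ D.borelSubgroup F := by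
      have e2 : xU D hD (D.neg (D.simple i)) (η : F) =
          (nGL D hD i * xU D hD (D.simple i) 1 * nGL D hD i) * (nGL D hD i * nGL D hD i)⁻¹ := by
        rw [← e1]
        group
      rw [e2]
      exact mul_mem h1 (inv_mem (hHB (hsq i hi)))
    have hnegr : D.IsNegRoot (D.neg (D.simple i)) := by
      rcases hB.hpn _ (hB.hnv _ hsi) with h | h
      · exact absurd h (hB.hnegpos _ (hB.hsimpPos i hi))
      · exact h
    have h3 : xU D hD (D.neg (D.simple i)) (η : F) ∈ D.negUnipotent F :=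
      Subgroup.subset_closure ⟨_, _, hnegr, rfl⟩
    have h4 : xU D hD (D.neg (D.simple i)) (η : F) = 1 := by
      have hbot := (borel_inf_neg (F := F) D hT hTri hNeg).1
      rw [← Subgroup.mem_bot, ← hbot]
      exact ⟨h2, h3⟩
    have h5 := xU_eq_one D hD hB _ (hB.hnv _ hsi) _ h4
    rcases hη with rfl | rfl <;> simp at h5

end

end Cfsg.Agent.Helper18
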