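import Cfsg.Agent.Lib.Helper18.ChevTorus

set_option autoImplicit false

namespace Cfsg.Agent.Helper18

open Cfsg.Lie

section

variable {F : Type*} [Field F] (D : ChevalleyDatum)

theorem diag_comm {tbl : List ℕ} (hT : TorusData D tbl) (a b : GL D.Idx F)
    (ha : a ∈ D.diagonalSubgroup F) (hb : b ∈ D.diagonalSubgroup F) : a * b = b * a := by
  obtain ⟨c, _, hac⟩ := mem_diag_eq_torMat D hT a ha
  obtain ⟨c', _, hbc⟩ := mem_diag_eq_torMat D hT b hb
  apply Units.ext
  rw [Units.val_mul, Units.val_mul, hac, hbc, torMat_mul, torMat_mul]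
  congr 1
  funext i
  exact mul_comm _ _

/-- `B = UH` is solvable as soon as `U` is. -/
theorem borel_solvable {tbl : List ℕ} (hT : TorusData D tbl)
    (hU : Group.IsSolvable ↥(D.posUnipotent F)) : Group.IsSolvable ↥(D.borelSubgroup F) := by
  have hUB : D.posUnipotent F ≤ D.borelSubgroup F := le_sup_left
  have hHB : D.diagonalSubgroup F ≤ D.borelSubgroup F := le_sup_right
  have hnorm : D.borelSubgroup F ≤ Subgroup.normalizer (D.posUnipotent F : Set (GL D.Idx F)) :=
    sup_le Subgroup.le_normalizer (diag_le_normalizer D hT)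
  have hN : ((D.posUnipotent F).subgroupOf (D.borelSubgroup F)).Normal :=
    (Subgroup.normal_subgroupOf_iff_le_normalizer hUB).mpr hnorm
  have hsup : (D.posUnipotent F).subgroupOf (D.borelSubgroup F) ⊔
      (D.diagonalSubgroup F).subgroupOf (D.borelSubgroup F) = ⊤ := by
    rw [← Subgroup.subgroupOf_sup hUB hHB]
    change (D.borelSubgroup F).subgroupOf (D.borelSubgroup F) = ⊤
    ext x
    simp [Subgroup.mem_subgroupOf]
  have hK : Group.IsSolvable ↥((D.diagonalSubgroup F).subgroupOf (D.borelSubgroup F)) := by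
    apply Group.isSolvable_of_comm
    rintro ⟨⟨a, haB⟩, ha⟩ ⟨⟨b, hbB⟩, hb⟩
    apply Subtype.ext
    apply Subtype.ext
    exact diag_comm D hT a b ha hb
  have hN' : Group.IsSolvable ↥((D.posUnipotent F).subgroupOf (D.borelSubgroup F)) :=
    Group.isSolvable_of_isSolvable_injective
      (f := (Subgroup.subgroupOfEquivOfLe hUB).toMonoidHom) (Subgroup.subgroupOfEquivOfLe hUB).injective
  have hmap : ((D.diagonalSubgroup F).subgroupOf (D.borelSubgroup F)).map
      (QuotientGroup.mk' ((D.posUnipotent F).subgroupOf (D.borelSubgroup F))) = ⊤ := by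
    have h1 := congrArg (Subgroup.map
      (QuotientGroup.mk' ((D.posUnipotent F).subgroupOf (D.borelSubgroup F)))) hsup
    rw [Subgroup.map_sup, QuotientGroup.map_mk'_self, bot_sup_eq, ← MonoidHom.range_eq_map,
      MonoidHom.range_eq_top.2 (QuotientGroup.mk'_surjective _)] at h1
    exact h1
  have hQ : Group.IsSolvable (↥(D.borelSubgroup F) ⧸
      ((D.posUnipotent F).subgroupOf (D.borelSubgroup F))) := by
    apply Group.isSolvable_of_surjective
      (f := (QuotientGroup.mk' ((D.posUnipotent F).subgroupOf (D.borelSubgroup F))).comp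
        ((D.diagonalSubgroup F).subgroupOf (D.borelSubgroup F)).subtype)
    intro q
    have hq : q ∈ ((D.diagonalSubgroup F).subgroupOf (D.borelSubgroup F)).map
        (QuotientGroup.mk' ((D.posUnipotent F).subgroupOf (D.borelSubgroup F))) := by
      rw [hmap]; exact Subgroup.mem_top q
    obtain ⟨k, hk, rfl⟩ := Subgroup.mem_map.1 hq
    exact ⟨⟨k, hk⟩, rfl⟩
  exact Group.isSolvable_of_ker_le_range
    ((D.posUnipotent F).subgroupOf (D.borelSubgroup F)).subtype
    (QuotientGroup.mk' ((D.posUnipotent F).subgroupOf (D.borelSubgroup F)))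
    (by rw [QuotientGroup.ker_mk', Subgroup.range_subtype])

end

end Cfsg.Agent.Helper18
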