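import Cfsg.Agent.Lib.Helper18.ChevBNPair2
import Cfsg.Agent.Lib.Helper6.BNBruhat

set_option autoImplicit false

namespace Cfsg.Agent.Helper18

open Cfsg.Lie Cfsg.Agent.S1043 Cfsg.Agent.Helper17
open scoped Pointwise

section

variable {F : Type*} [Field F] (D : ChevalleyDatum) (hD : Good D)

/-- The generators of `U_w⁻`, for `w` the image of `n`. -/
def UwSet (n : GL D.Idx F) : Set (GL D.Idx F) :=
  {x : GL D.Idx F | ∃ (r : ℕ) (t : F), D.IsPosRoot r ∧
    (D.rootSubgroup F r).map (MulAut.conj n).toMonoidHom ≤ D.negUnipotent F ∧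
    (x : Matrix D.Idx D.Idx F) = D.x F r t}

/-- The subgroup `U_w⁻`. -/
def Uw (n : GL D.Idx F) : Subgroup (GL D.Idx F) := Subgroup.closure (UwSet D n)

theorem Uw_le_pos (n : GL D.Idx F) : Uw D n ≤ D.posUnipotent F := by
  unfold Uw ChevalleyDatum.posUnipotent
  apply Subgroup.closure_mono
  rintro g ⟨r, t, hr, _, hg⟩
  exact ⟨r, t, hr, hg⟩

theorem conj_Uw_mem_neg (n : GL D.Idx F) (y : GL D.Idx F) (hy : y ∈ Uw D n) :
    n * y * n⁻¹ ∈ D.negUnipotent F := by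
  have key : Uw D n ≤ (D.negUnipotent F).comap (MulAut.conj n).toMonoidHom := by
    unfold Uw
    rw [Subgroup.closure_le]
    rintro g ⟨r, t, _, hle, hg⟩
    have hgr : g ∈ D.rootSubgroup F r := Subgroup.subset_closure ⟨t, hg⟩
    exact hle (Subgroup.mem_map_of_mem _ hgr)
  exact key hy

/-- Deleting two letters of a word that sends a fundamental root to a negative root. -/
theorem nWordGL_deletion (hB : BNFacts D) (hS : ∀ i < D.rank, ConjGoalS' F D i)
    (hNH : D.monomialSubgroup F ≤ Subgroup.normalizer (D.diagonalSubgroup F : Set (GL D.Idx F)))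
    (l₁ : List ℕ) (j : ℕ) (hl₁ : ∀ i ∈ l₁, i < D.rank) (hj : j < D.rank)
    (hnp : ¬ D.IsPosRoot (permW D l₁ (D.simple j))) :
    ∃ h₁ ∈ D.diagonalSubgroup F, ∃ l' : List ℕ, (∀ i ∈ l', i < D.rank) ∧
      l'.length < l₁.length ∧ nWordGL (F := F) D hD (l₁ ++ [j]) = h₁ * nWordGL D hD l' := by
  have hsj := hB.hsimp j hj
  obtain ⟨a, i, b, rfl, hbi⟩ := deletion_point hB l₁ hl₁ (D.simple j) (hB.hsimpPos j hj) hnp
  have hi : i < D.rank := hl₁ i (by simp)
  have ha : ∀ x ∈ a, x < D.rank := fun x hx => hl₁ x (by simp [hx])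
  have hb : ∀ x ∈ b, x < D.rank := fun x hx => hl₁ x (by simp [hx])
  have hab : ∀ x ∈ a ++ b, x < D.rank := by
    intro x hx
    rcases List.mem_append.mp hx with hx | hx
    · exact ha x hx
    · exact hb x hx
  have hcj := nWordGL_conj_nrGL (F := F) D hD hB hS b hb (D.simple j) hsj
  rw [hbi, ← nGL_eq_nrGL, ← nGL_eq_nrGL] at hcj
  have ea : nWordGL (F := F) D hD ((a ++ i :: b) ++ [j]) =
      nWordGL D hD a * nGL D hD i * (nWordGL D hD b * nGL D hD j) := by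
    rw [nWordGL_append, nWordGL_append, nWordGL_cons, nWordGL_cons, nWordGL_nil]
    group
  have hlen : (a ++ b).length < (a ++ i :: b).length := by
    simp only [List.length_append, List.length_cons]
    omega
  rcases hcj with h' | h'
  · have e3 : nWordGL (F := F) D hD b * nGL D hD j = nGL D hD i * nWordGL D hD b := by
      rw [← h']
      group
    refine ⟨nWordGL D hD a * (nGL D hD i * nGL D hD i) * (nWordGL D hD a)⁻¹, ?_, a ++ b, hab, hlen, ?_⟩
    · have hsq : nGL (F := F) D hD i * nGL D hD i ∈ D.diagonalSubgroup F := by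
        have h4 := nrGL_inv_sq_mem (F := F) D hD (D.simple i) (hB.hsimp i hi)
        rw [← nGL_eq_nrGL] at h4
        have e4 : nGL (F := F) D hD i * nGL D hD i = ((nGL D hD i)⁻¹ * (nGL D hD i)⁻¹)⁻¹ := by
          rw [mul_inv_rev, inv_inv]
        rw [e4]
        exact inv_mem h4
      have hWa := hNH (nWordGL_mem (F := F) D hD a (fun x hx => hB.hsimp x (ha x hx)))
      exact (Subgroup.mem_normalizer_iff.mp hWa _).mp hsq
    · rw [ea, e3, nWordGL_append]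
      group
  · have e3 : nWordGL (F := F) D hD b * nGL D hD j = (nGL D hD i)⁻¹ * nWordGL D hD b := by
      rw [← h']
      group
    refine ⟨1, one_mem _, a ++ b, hab, hlen, ?_⟩
    rw [ea, e3, nWordGL_append]
    group

/-- The condition defining the generators of `U_w⁻`, in terms of the action on the roots. -/
theorem map_rootSubgroup_le_neg_iff (hB : BNFacts D) {tbl : List ℕ} (hT : TorusData D tbl)
    (hTri : TriOK D) (hNeg : NegTriOK D)
    (hconj : ∀ i < D.rank, ∀ s < D.nroots, ConjGoal' F D i s)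
    (h : GL D.Idx F) (hh : h ∈ D.diagonalSubgroup F) (l : List ℕ) (hl : ∀ i ∈ l, i < D.rank)
    (r : ℕ) (hr : r < D.nroots) :
    (D.rootSubgroup F r).map (MulAut.conj (h * nWordGL D hD l)).toMonoidHom ≤ D.negUnipotent F ↔
      ¬ D.IsPosRoot (permW D l r) := by
  obtain ⟨c, hc0, hc⟩ := conj_N_xU D hD hB hT hconj h hh l hl r hr
  have hlt := permW_lt hB l hl r hr
  constructor
  · intro hle hpos
    have h1 : xU D hD (permW D l r) (c * 1) ∈ D.negUnipotent F := by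
      rw [← hc 1]
      exact hle (Subgroup.mem_map_of_mem _ (xU_mem_rootSubgroup D hD r 1))
    have h2 : xU D hD (permW D l r) (c * 1) ∈ D.borelSubgroup F :=
      Subgroup.mem_sup_left (Subgroup.subset_closure ⟨_, _, hpos, rfl⟩)
    have hbot := (borel_inf_neg (F := F) D hT hTri hNeg).1
    have h3 : xU D hD (permW D l r) (c * 1) = 1 := by
      rw [← Subgroup.mem_bot, ← hbot]
      exact ⟨h2, h1⟩
    have h4 := xU_eq_one D hD hB _ hlt _ h3
    rw [mul_one] at h4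
    exact hc0 h4
  · intro hnp
    have hneg : D.IsNegRoot (permW D l r) := (hB.hpn _ hlt).resolve_left hnp
    rw [Subgroup.map_le_iff_le_comap]
    unfold ChevalleyDatum.rootSubgroup
    rw [Subgroup.closure_le]
    rintro g ⟨t, hg⟩
    have hgx : g = xU D hD r t := Units.ext hg
    change (h * nWordGL D hD l) * g * (h * nWordGL D hD l)⁻¹ ∈ D.negUnipotent F
    rw [hgx, hc t]
    exact Subgroup.subset_closure ⟨_, _, hneg, rfl⟩

/-- The generators of `U_w⁻` in terms of the action on the roots. -/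
theorem UwSet_gen (hB : BNFacts D) {tbl : List ℕ} (hT : TorusData D tbl)
    (hTri : TriOK D) (hNeg : NegTriOK D)
    (hconj : ∀ i < D.rank, ∀ s < D.nroots, ConjGoal' F D i s)
    (h : GL D.Idx F) (hh : h ∈ D.diagonalSubgroup F) (l : List ℕ) (hl : ∀ i ∈ l, i < D.rank)
    (g : GL D.Idx F) (hg : g ∈ UwSet D (h * nWordGL D hD l)) :
    ∃ (r : ℕ) (t : F), D.IsPosRoot r ∧ ¬ D.IsPosRoot (permW D l r) ∧ g = xU D hD r t := by
  obtain ⟨r, t, hr, hle, hg⟩ := hg
  exact ⟨r, t, hr,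
    (map_rootSubgroup_le_neg_iff D hD hB hT hTri hNeg hconj h hh l hl r hr.1).mp hle, Units.ext hg⟩

theorem xU_mem_Uw (hB : BNFacts D) {tbl : List ℕ} (hT : TorusData D tbl)
    (hTri : TriOK D) (hNeg : NegTriOK D)
    (hconj : ∀ i < D.rank, ∀ s < D.nroots, ConjGoal' F D i s)
    (h : GL D.Idx F) (hh : h ∈ D.diagonalSubgroup F) (l : List ℕ) (hl : ∀ i ∈ l, i < D.rank)
    (r : ℕ) (hr : D.IsPosRoot r) (hnp : ¬ D.IsPosRoot (permW D l r)) (t : F) :
    xU D hD r t ∈ Uw D (h * nWordGL D hD l) :=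
  Subgroup.subset_closure ⟨r, t, hr,
    (map_rootSubgroup_le_neg_iff D hD hB hT hTri hNeg hconj h hh l hl r hr.1).mpr hnp, rfl⟩

/-- If `w'` keeps `p_j` positive then `U_{w'}⁻ ≤ U_j`. -/
theorem Uw_le_Ui (hB : BNFacts D) {tbl : List ℕ} (hT : TorusData D tbl)
    (hTri : TriOK D) (hNeg : NegTriOK D)
    (hconj : ∀ i < D.rank, ∀ s < D.nroots, ConjGoal' F D i s)
    (h : GL D.Idx F) (hh : h ∈ D.diagonalSubgroup F) (l₁ : List ℕ) (hl₁ : ∀ i ∈ l₁, i < D.rank)
    (j : ℕ) (hpos : D.IsPosRoot (permW D l₁ (D.simple j))) :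
    Uw D (h * nWordGL D hD l₁) ≤ Ui (F := F) D j := by
  unfold Uw
  rw [Subgroup.closure_le]
  intro g hg
  obtain ⟨r, t, hr, hnp, rfl⟩ := UwSet_gen D hD hB hT hTri hNeg hconj h hh l₁ hl₁ g hg
  apply xU_mem_Ui D hD j r t hr
  rintro rfl
  exact hnp hpos

/-- `n_j⁻¹ U_{w'}⁻ n_j ≤ U_{w' s_j}⁻` when `w'` keeps `p_j` positive. -/
theorem conj_Uw_step (hB : BNFacts D) (hU : UiFacts D) {tbl : List ℕ} (hT : TorusData D tbl)
    (hTri : TriOK D) (hNeg : NegTriOK D)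
    (hconj : ∀ i < D.rank, ∀ s < D.nroots, ConjGoal' F D i s)
    (h : GL D.Idx F) (hh : h ∈ D.diagonalSubgroup F) (l₁ : List ℕ) (hl₁ : ∀ i ∈ l₁, i < D.rank)
    (j : ℕ) (hj : j < D.rank) (hpos : D.IsPosRoot (permW D l₁ (D.simple j)))
    (y : GL D.Idx F) (hy : y ∈ Uw D (h * nWordGL D hD l₁)) :
    (nGL D hD j)⁻¹ * y * nGL D hD j ∈ Uw D (h * nWordGL D hD (l₁ ++ [j])) := by
  have hsj := hB.hsimp j hj
  have hl : ∀ i ∈ l₁ ++ [j], i < D.rank := by
    intro i hi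
    rcases List.mem_append.mp hi with hi | hi
    · exact hl₁ i hi
    · rw [List.mem_singleton] at hi
      rw [hi]
      exact hj
  have hsq : (nGL (F := F) D hD j)⁻¹ * (nGL D hD j)⁻¹ ∈ D.diagonalSubgroup F := by
    have h4 := nrGL_inv_sq_mem (F := F) D hD (D.simple j) hsj
    rwa [← nGL_eq_nrGL] at h4
  have hinvw : ((nGL (F := F) D hD j)⁻¹ * (nGL D hD j)⁻¹) * nWordGL D hD [j] = (nGL D hD j)⁻¹ := by
    rw [nWordGL_cons, nWordGL_nil]
    group
  have hlj : ∀ i ∈ [j], i < D.rank := by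
    intro i hi
    rw [List.mem_singleton] at hi
    rw [hi]
    exact hj
  have key : Uw D (h * nWordGL D hD l₁) ≤ (Uw D (h * nWordGL D hD (l₁ ++ [j]))).comap
      (MulAut.conj (nGL D hD j)⁻¹).toMonoidHom := by
    conv_lhs => rw [Uw]
    rw [Subgroup.closure_le]
    intro g hg
    obtain ⟨r, t, hr, hnp, rfl⟩ := UwSet_gen D hD hB hT hTri hNeg hconj h hh l₁ hl₁ g hg
    have hne : r ≠ D.simple j := by
      rintro rfl
      exact hnp hpos
    obtain ⟨c, _, hc⟩ := conj_N_xU D hD hB hT hconj _ hsq [j] hlj r hr.1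
    suffices hsuff : (nGL D hD j)⁻¹ * xU D hD r t * ((nGL D hD j)⁻¹)⁻¹ ∈
        Uw D (h * nWordGL D hD (l₁ ++ [j])) from hsuff
    have e := hc t
    rw [hinvw] at e
    rw [e]
    have hr' : D.IsPosRoot (permW D [j] r) := hB.hreflPos j hj r hr hne
    apply xU_mem_Uw D hD hB hT hTri hNeg hconj h hh (l₁ ++ [j]) hl _ hr'
    rw [permW_append]
    have : permW D [j] (permW D [j] r) = r := hU.hinvol j hj r hr.1
    rw [this]
    exact hnp
  have h8 : (nGL D hD j)⁻¹ * y * ((nGL D hD j)⁻¹)⁻¹ ∈ Uw D (h * nWordGL D hD (l₁ ++ [j])) := key hy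
  rwa [inv_inv] at h8

theorem xU_simple_mem_Uw_step (hB : BNFacts D) {tbl : List ℕ} (hT : TorusData D tbl)
    (hTri : TriOK D) (hNeg : NegTriOK D)
    (hconj : ∀ i < D.rank, ∀ s < D.nroots, ConjGoal' F D i s)
    (h : GL D.Idx F) (hh : h ∈ D.diagonalSubgroup F) (l₁ : List ℕ) (hl₁ : ∀ i ∈ l₁, i < D.rank)
    (j : ℕ) (hj : j < D.rank) (hpos : D.IsPosRoot (permW D l₁ (D.simple j))) (t : F) :
    xU D hD (D.simple j) t ∈ Uw D (h * nWordGL D hD (l₁ ++ [j])) := by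
  have hsj := hB.hsimp j hj
  have hl : ∀ i ∈ l₁ ++ [j], i < D.rank := by
    intro i hi
    rcases List.mem_append.mp hi with hi | hi
    · exact hl₁ i hi
    · rw [List.mem_singleton] at hi
      rw [hi]
      exact hj
  apply xU_mem_Uw D hD hB hT hTri hNeg hconj h hh (l₁ ++ [j]) hl _ (hB.hsimpPos j hj)
  rw [permW_append]
  have : permW D [j] (D.simple j) = D.neg (D.simple j) := reflect_simple D j
  rw [this, permW_neg hB l₁ hl₁ _ hsj]
  exact hB.hnegpos _ hpos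

include hD in
/-- One step of the decomposition `U = (U ∩ n⁻¹ U n) U_w⁻`, in a refined form. -/
theorem Uw_step_decomp (hB : BNFacts D) (hU : UiFacts D) {tbl : List ℕ} (hT : TorusData D tbl)
    (hTri : TriOK D) (hNeg : NegTriOK D)
    (hconj : ∀ i < D.rank, ∀ s < D.nroots, ConjGoal' F D i s)
    (h : GL D.Idx F) (hh : h ∈ D.diagonalSubgroup F) (l₁ : List ℕ) (hl₁ : ∀ i ∈ l₁, i < D.rank)
    (j : ℕ) (hj : j < D.rank) (hpos : D.IsPosRoot (permW D l₁ (D.simple j)))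
    (hIH : ∀ u ∈ D.posUnipotent F, ∃ u₁ ∈ D.posUnipotent F, ∃ u₂ ∈ Uw D (h * nWordGL D hD l₁),
      u = u₁ * u₂ ∧ (h * nWordGL D hD l₁) * u₁ * (h * nWordGL D hD l₁)⁻¹ ∈ D.posUnipotent F)
    (u : GL D.Idx F) (hu : u ∈ D.posUnipotent F) :
    ∃ u₁ ∈ D.posUnipotent F, ∃ y₂ ∈ Uw D (h * nWordGL D hD l₁), ∃ t : F,
      u = u₁ * ((nGL D hD j)⁻¹ * y₂ * nGL D hD j * xU D hD (D.simple j) t) ∧
      (h * nWordGL D hD (l₁ ++ [j])) * u₁ * (h * nWordGL D hD (l₁ ++ [j]))⁻¹ ∈ D.posUnipotent F := by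
  set n' : GL D.Idx F := h * nWordGL D hD l₁ with hn'
  have hn : h * nWordGL D hD (l₁ ++ [j]) = n' * nGL D hD j := by
    rw [nWordGL_append, nWordGL_cons, nWordGL_nil, mul_one, hn', mul_assoc]
  rw [hn]
  obtain ⟨hNj, hsup⟩ := Ui_facts D hD hB hU hT hconj j hj
  have hnj := nGL_mem_normalizer_Ui D hD hB hU hT hconj j hj
  have hUs : ((D.posUnipotent F : Subgroup (GL D.Idx F)) : Set (GL D.Idx F)) =
      (Ui (F := F) D j : Set (GL D.Idx F)) * (D.rootSubgroup F (D.simple j) : Set (GL D.Idx F)) := by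
    rw [← hsup]
    exact Subgroup.coe_mul_of_right_le_normalizer_left _ _ (le_trans le_sup_left hNj)
  have hu' : u ∈ ((D.posUnipotent F : Subgroup (GL D.Idx F)) : Set (GL D.Idx F)) := hu
  rw [hUs] at hu'
  obtain ⟨y, hy, x, hx, rfl⟩ := hu'
  obtain ⟨t, rfl⟩ := mem_rootSubgroup D hD _ x hx
  have hy' : nGL D hD j * y * (nGL D hD j)⁻¹ ∈ Ui (F := F) D j :=
    (Subgroup.mem_normalizer_iff.mp hnj y).mp hy
  obtain ⟨y₁, hy₁, y₂, hy₂, ey, hny₁⟩ := hIH _ (Ui_le_pos D j hy')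
  have hUw_le := Uw_le_Ui D hD hB hT hTri hNeg hconj h hh l₁ hl₁ j hpos
  rw [← hn'] at hUw_le
  have hy₁' : y₁ ∈ Ui (F := F) D j := by
    have : y₁ = (nGL D hD j * y * (nGL D hD j)⁻¹) * y₂⁻¹ := by
      rw [ey]
      group
    rw [this]
    exact mul_mem hy' (inv_mem (hUw_le hy₂))
  have hnjinv : (nGL D hD j)⁻¹ ∈ Subgroup.normalizer (Ui (F := F) D j : Set (GL D.Idx F)) :=
    inv_mem hnj
  have hu₁ : (nGL D hD j)⁻¹ * y₁ * nGL D hD j ∈ Ui (F := F) D j := by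
    have := (Subgroup.mem_normalizer_iff.mp hnjinv y₁).mp hy₁'
    rwa [inv_inv] at this
  refine ⟨(nGL D hD j)⁻¹ * y₁ * nGL D hD j, Ui_le_pos D j hu₁, y₂, hy₂, t, ?_, ?_⟩
  · have : y = (nGL D hD j)⁻¹ * (y₁ * y₂) * nGL D hD j := by
      rw [← ey]
      group
    rw [this]
    group
  · have : n' * nGL D hD j * ((nGL D hD j)⁻¹ * y₁ * nGL D hD j) * (n' * nGL D hD j)⁻¹ =
        n' * y₁ * n'⁻¹ := by group
    rw [this]
    exact hny₁

include hD in
/-- `U = (U ∩ n⁻¹ U n) U_w⁻`. -/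
theorem Uw_decomp (hB : BNFacts D) (hU : UiFacts D) {tbl : List ℕ} (hT : TorusData D tbl)
    (hTri : TriOK D) (hNeg : NegTriOK D)
    (hconj : ∀ i < D.rank, ∀ s < D.nroots, ConjGoal' F D i s)
    (hS : ∀ i < D.rank, ConjGoalS' F D i)
    (hNH : D.monomialSubgroup F ≤ Subgroup.normalizer (D.diagonalSubgroup F : Set (GL D.Idx F))) :
    ∀ k : ℕ, ∀ l : List ℕ, l.length ≤ k → (∀ i ∈ l, i < D.rank) →
      ∀ h ∈ D.diagonalSubgroup F, ∀ u ∈ D.posUnipotent F,
        ∃ u₁ ∈ D.posUnipotent F, ∃ u₂ ∈ Uw D (h * nWordGL D hD l), u = u₁ * u₂ ∧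
          (h * nWordGL D hD l) * u₁ * (h * nWordGL D hD l)⁻¹ ∈ D.posUnipotent F := by
  intro k
  induction k with
  | zero =>
    intro l hlen _ h hh u hu
    have : l = [] := List.length_eq_zero_iff.mp (Nat.le_zero.mp hlen)
    subst this
    refine ⟨u, hu, 1, one_mem _, (mul_one u).symm, ?_⟩
    rw [nWordGL_nil, mul_one]
    exact conj_mem_posUnipotent D hT h hh u hu
  | succ k ih =>
    intro l hlen hl h hh u hu
    rcases List.eq_nil_or_concat' l with rfl | ⟨l₁, j, rfl⟩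
    · refine ⟨u, hu, 1, one_mem _, (mul_one u).symm, ?_⟩
      rw [nWordGL_nil, mul_one]
      exact conj_mem_posUnipotent D hT h hh u hu
    · have hj : j < D.rank := hl j (by simp)
      have hl₁ : ∀ i ∈ l₁, i < D.rank := fun i hi => hl i (by simp [hi])
      have hlen₁ : l₁.length ≤ k := by
        simp only [List.length_append, List.length_cons, List.length_nil] at hlen
        omega
      by_cases hpos : D.IsPosRoot (permW D l₁ (D.simple j))
      · -- the length goes up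
        obtain ⟨u₁, hu₁, y₂, hy₂, t, e, hnu₁⟩ :=
          Uw_step_decomp D hD hB hU hT hTri hNeg hconj h hh l₁ hl₁ j hj hpos
            (ih l₁ hlen₁ hl₁ h hh) u hu
        exact ⟨u₁, hu₁, _, mul_mem
          (conj_Uw_step D hD hB hU hT hTri hNeg hconj h hh l₁ hl₁ j hj hpos y₂ hy₂)
          (xU_simple_mem_Uw_step D hD hB hT hTri hNeg hconj h hh l₁ hl₁ j hj hpos t), e, hnu₁⟩
      · -- the length goes down: a shorter word gives the same element
        obtain ⟨h₁, hh₁, l', hl', hlen', e⟩ := nWordGL_deletion D hD hB hS hNH l₁ j hl₁ hj hpos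
        have e' : h * nWordGL D hD (l₁ ++ [j]) = (h * h₁) * nWordGL D hD l' := by
          rw [e, mul_assoc]
        rw [e']
        exact ih l' (by omega) hl' (h * h₁) (mul_mem hh hh₁) u hu

include hD in
/-- Statement S1100, first part. -/
theorem bruhat_nf_exists (hB : BNFacts D) (hU : UiFacts D) {tbl : List ℕ} (hT : TorusData D tbl)
    (hTri : TriOK D) (hNeg : NegTriOK D)
    (hconj : ∀ i < D.rank, ∀ s < D.nroots, ConjGoal' F D i s)
    (hS : ∀ i < D.rank, ConjGoalS' F D i)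
    (hNH : D.monomialSubgroup F ≤ Subgroup.normalizer (D.diagonalSubgroup F : Set (GL D.Idx F)))
    (g : GL D.Idx F) (hg : g ∈ D.group F) :
    ∃ b ∈ D.borelSubgroup F, ∃ n ∈ D.monomialSubgroup F, ∃ u ∈ Uw D n, g = b * n * u := by
  obtain ⟨P, hPB, hPN, _⟩ := bnPair_exists D hD hB hU hT hTri hNeg hconj hS hNH
  obtain ⟨n₀, hn₀, hgC⟩ := Cfsg.Agent.Helper6.bruhat_exists P ⟨g, hg⟩
  obtain ⟨b₁, hb₁, b₂, hb₂, e⟩ := (Cfsg.Agent.Helper6.mem_C P).mp hgC
  rw [hPB, Subgroup.mem_subgroupOf] at hb₁ hb₂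
  rw [hPN, Subgroup.mem_subgroupOf] at hn₀
  have e' : g = (b₁ : GL D.Idx F) * (n₀ : GL D.Idx F) * (b₂ : GL D.Idx F) := by
    have := congrArg (Subtype.val) e
    simpa using this
  have hBs : ((D.borelSubgroup F : Subgroup (GL D.Idx F)) : Set (GL D.Idx F)) =
      (D.posUnipotent F : Set (GL D.Idx F)) * (D.diagonalSubgroup F : Set (GL D.Idx F)) :=
    Subgroup.coe_mul_of_right_le_normalizer_left _ _ (diag_le_normalizer D hT)
  have hb₂' : ((b₂ : GL D.Idx F))⁻¹ ∈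
      ((D.borelSubgroup F : Subgroup (GL D.Idx F)) : Set (GL D.Idx F)) := inv_mem hb₂
  rw [hBs] at hb₂'
  obtain ⟨u₀, hu₀, k, hk, ek⟩ := hb₂'
  have hHN : D.diagonalSubgroup F ≤ D.monomialSubgroup F := le_sup_left
  have hn : (n₀ : GL D.Idx F) * k⁻¹ ∈ D.monomialSubgroup F := mul_mem hn₀ (inv_mem (hHN hk))
  obtain ⟨h, hh, l, hl, enl⟩ := mem_monomial_decomp D hD hB hS hNH _ hn
  obtain ⟨u₁, hu₁, u₂, hu₂, eu, hnu₁⟩ :=
    Uw_decomp D hD hB hU hT hTri hNeg hconj hS hNH l.length l le_rfl hl h hh u₀⁻¹ (inv_mem hu₀)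
  rw [← enl] at hu₂ hnu₁
  refine ⟨(b₁ : GL D.Idx F) * (((n₀ : GL D.Idx F) * k⁻¹) * u₁ * ((n₀ : GL D.Idx F) * k⁻¹)⁻¹),
    mul_mem hb₁ (Subgroup.mem_sup_left hnu₁), (n₀ : GL D.Idx F) * k⁻¹, hn, u₂, hu₂, ?_⟩
  have eb : (b₂ : GL D.Idx F) = k⁻¹ * u₀⁻¹ := by
    have : (b₂ : GL D.Idx F) = (((b₂ : GL D.Idx F))⁻¹)⁻¹ := (inv_inv _).symm
    rw [this, ← ek, mul_inv_rev]
  rw [e', eb, eu]
  group

include hD in
/-- Statement S1100, second part. -/
theorem bruhat_nf_unique (hB : BNFacts D) (hU : UiFacts D) {tbl : List ℕ} (hT : TorusData D tbl)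
    (hTri : TriOK D) (hNeg : NegTriOK D)
    (hconj : ∀ i < D.rank, ∀ s < D.nroots, ConjGoal' F D i s)
    (hS : ∀ i < D.rank, ConjGoalS' F D i)
    (hNH : D.monomialSubgroup F ≤ Subgroup.normalizer (D.diagonalSubgroup F : Set (GL D.Idx F)))
    (b b' n n' u u' : GL D.Idx F) (hb : b ∈ D.borelSubgroup F) (hb' : b' ∈ D.borelSubgroup F)
    (hn : n ∈ D.monomialSubgroup F) (hn' : n' ∈ D.monomialSubgroup F)
    (hu : u ∈ Uw D n) (hu' : u' ∈ Uw D n') (e : b * n * u = b' * n' * u') :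
    n⁻¹ * n' ∈ D.diagonalSubgroup F ∧ (n = n' → b = b' ∧ u = u') := by
  have hBG : D.borelSubgroup F ≤ D.group F := borel_le D hD
  have hNG : D.monomialSubgroup F ≤ D.group F := monomial_le D hD
  have hUB : D.posUnipotent F ≤ D.borelSubgroup F := le_sup_left
  constructor
  · obtain ⟨P, hPB, hPN, _⟩ := bnPair_exists D hD hB hU hT hTri hNeg hconj hS hNH
    have huB := hUB (Uw_le_pos D n hu)
    have hu'B := hUB (Uw_le_pos D n' hu')
    have hmemB : ∀ x : GL D.Idx F, ∀ hx : x ∈ D.borelSubgroup F,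
        (⟨x, hBG hx⟩ : ↥(D.group F)) ∈ P.B := by
      intro x hx
      rw [hPB, Subgroup.mem_subgroupOf]
      exact hx
    have hmemN : ∀ x : GL D.Idx F, ∀ hx : x ∈ D.monomialSubgroup F,
        (⟨x, hNG hx⟩ : ↥(D.group F)) ∈ P.N := by
      intro x hx
      rw [hPN, Subgroup.mem_subgroupOf]
      exact hx
    have hC : Cfsg.Agent.Helper6.C P ⟨n, hNG hn⟩ = Cfsg.Agent.Helper6.C P ⟨n', hNG hn'⟩ := by
      apply Cfsg.Agent.Helper6.C_eq_of_mem_of_mem P
        (g := (⟨b, hBG hb⟩ : ↥(D.group F)) * ⟨n, hNG hn⟩ * ⟨u, hBG huB⟩)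
      · exact (Cfsg.Agent.Helper6.mem_C P).mpr ⟨_, hmemB b hb, _, hmemB u huB, rfl⟩
      · refine (Cfsg.Agent.Helper6.mem_C P).mpr ⟨_, hmemB b' hb', _, hmemB u' hu'B, ?_⟩
        apply Subtype.ext
        exact e
    have h1 := Cfsg.Agent.Helper6.bruhat_unique P (hmemN n hn) (hmemN n' hn') hC
    rw [hPB, Subgroup.mem_subgroupOf] at h1
    have h2 : n⁻¹ * n' ∈ D.borelSubgroup F := h1
    have h3 : n⁻¹ * n' ∈ D.monomialSubgroup F := mul_mem (inv_mem hn) hn'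
    rw [← (borel_inf_monomial (F := F) D hD hB hT hTri hNeg hconj hS hNH).2]
    exact ⟨h2, h3⟩
  · rintro rfl
    have h1 : n * (u * u'⁻¹) * n⁻¹ = b⁻¹ * b' := by
      have : b' = b * n * u * u'⁻¹ * n⁻¹ := by
        rw [e]
        group
      rw [this]
      group
    have h2 : n * (u * u'⁻¹) * n⁻¹ ∈ D.negUnipotent F :=
      conj_Uw_mem_neg D n _ (mul_mem hu (inv_mem hu'))
    have h3 : n * (u * u'⁻¹) * n⁻¹ ∈ D.borelSubgroup F := by
      rw [h1]
      exact mul_mem (inv_mem hb) hb'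
    have hbot := (borel_inf_neg (F := F) D hT hTri hNeg).1
    have h4 : n * (u * u'⁻¹) * n⁻¹ = 1 := by
      rw [← Subgroup.mem_bot, ← hbot]
      exact ⟨h3, h2⟩
    have h5 : u = u' := by
      have : u * u'⁻¹ = n⁻¹ * (n * (u * u'⁻¹) * n⁻¹) * n := by group
      rw [h4] at this
      have h6 : u * u'⁻¹ = 1 := by
        rw [this]
        group
      exact mul_inv_eq_one.mp h6
    refine ⟨?_, h5⟩
    rw [h4] at h1
    have h7 : b⁻¹ * b' = 1 := h1.symm
    have := inv_mul_eq_one.mp h7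
    exact this

end

end Cfsg.Agent.Helper18
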