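import Cfsg.Agent.Lib.Helper18.ChevUCard

set_option autoImplicit false

namespace Cfsg.Agent.Helper18

open Cfsg.Lie Cfsg.Agent.S1043 Cfsg.Agent.Helper17
open scoped Pointwise

section

variable {F : Type*} [Field F] (D : ChevalleyDatum) (hD : Good D)

/-- A conjugate of a non-trivial root element by `h n_w` lies in `B` only if `w` sends the root to
a positive root. -/
theorem pos_of_conj_mem_borel' (hB : BNFacts D) {tbl : List ℕ} (hT : TorusData D tbl) (hTri : TriOK D)
    (hNeg : NegTriOK D) (hconj : ∀ i < D.rank, ∀ s < D.nroots, ConjGoal' F D i s)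
    (h : GL D.Idx F) (hh : h ∈ D.diagonalSubgroup F) (l : List ℕ) (hl : ∀ i ∈ l, i < D.rank)
    (s : ℕ) (hs : s < D.nroots) (a : F) (ha : a ≠ 0)
    (hmem : (h * nWordGL D hD l) * xU D hD s a * (h * nWordGL D hD l)⁻¹ ∈ D.borelSubgroup F) :
    D.IsPosRoot (permW D l s) := by
  obtain ⟨c, hc0, hc⟩ := conj_N_xU D hD hB hT hconj h hh l hl s hs
  have hlt := permW_lt hB l hl s hs
  by_contra hnp
  have hneg : D.IsNegRoot (permW D l s) := (hB.hpn _ hlt).resolve_left hnp
  rw [hc a] at hmem
  have hV : xU D hD (permW D l s) (c * a) ∈ D.negUnipotent F :=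
    Subgroup.subset_closure ⟨_, _, hneg, rfl⟩
  have hbot := (borel_inf_neg (F := F) D hT hTri hNeg).1
  have h0 : xU D hD (permW D l s) (c * a) = 1 := by
    rw [← Subgroup.mem_bot, ← hbot]
    exact ⟨hmem, hV⟩
  exact mul_ne_zero hc0 ha (xU_eq_one D hD hB _ hlt _ h0)

include hD in
/-- Words with the same permutation of the roots give the same coset of `H`. -/
theorem coset_of_perm_eq (hB : BNFacts D) {tbl : List ℕ} (hT : TorusData D tbl) (hTri : TriOK D)
    (hNeg : NegTriOK D) (hconj : ∀ i < D.rank, ∀ s < D.nroots, ConjGoal' F D i s)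
    (hS : ∀ i < D.rank, ConjGoalS' F D i)
    (hNH : D.monomialSubgroup F ≤ Subgroup.normalizer (D.diagonalSubgroup F : Set (GL D.Idx F)))
    (a b : List ℕ) (ha : ∀ i ∈ a, i < D.rank) (hb : ∀ i ∈ b, i < D.rank)
    (hab : ∀ s < D.nroots, permW D a s = permW D b s) :
    ∃ k ∈ D.diagonalSubgroup F, nWordGL (F := F) D hD a = nWordGL D hD b * k := by
  have hUB : D.posUnipotent F ≤ D.borelSubgroup F := le_sup_left
  have hma : nWordGL (F := F) D hD a ∈ D.monomialSubgroup F :=
    nWordGL_mem D hD a (fun x hx => hB.hsimp x (ha x hx))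
  have hmb : nWordGL (F := F) D hD b ∈ D.monomialSubgroup F :=
    nWordGL_mem D hD b (fun x hx => hB.hsimp x (hb x hx))
  have hm : (nWordGL (F := F) D hD b)⁻¹ * nWordGL D hD a ∈ D.monomialSubgroup F :=
    mul_mem (inv_mem hmb) hma
  obtain ⟨h', hh', c, hc, em⟩ := mem_monomial_decomp D hD hB hS hNH _ hm
  have hpos : ∀ s, D.IsPosRoot s → D.IsPosRoot (permW D c s) := by
    intro s hs
    apply pos_of_conj_mem_borel D hD hB hT hTri hNeg hconj h' hh' c hc s hs.1
    rw [← em]
    obtain ⟨ca, _, hca⟩ := conj_N_xU D hD hB hT hconj 1 (one_mem _) a ha s hs.1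
    obtain ⟨cb, hcb0, hcb⟩ := conj_N_xU D hD hB hT hconj 1 (one_mem _) b hb s hs.1
    have e1 := hca 1
    have e2 := hcb (cb⁻¹ * (ca * 1))
    rw [one_mul] at e1 e2
    rw [hab s hs.1] at e1
    rw [mul_inv_cancel_left₀ hcb0] at e2
    have e3 : (nWordGL D hD b)⁻¹ * nWordGL D hD a * xU D hD s 1 *
        ((nWordGL D hD b)⁻¹ * nWordGL D hD a)⁻¹ = xU D hD s (cb⁻¹ * (ca * 1)) := by
      have : nWordGL D hD a * xU D hD s 1 * (nWordGL D hD a)⁻¹ =
          nWordGL D hD b * xU D hD s (cb⁻¹ * (ca * 1)) * (nWordGL D hD b)⁻¹ := by rw [e1, e2]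
      calc (nWordGL D hD b)⁻¹ * nWordGL D hD a * xU D hD s 1 *
            ((nWordGL D hD b)⁻¹ * nWordGL D hD a)⁻¹
          = (nWordGL D hD b)⁻¹ * (nWordGL D hD a * xU D hD s 1 * (nWordGL D hD a)⁻¹) *
              nWordGL D hD b := by group
        _ = xU D hD s (cb⁻¹ * (ca * 1)) := by rw [this]; group
    rw [e3]
    exact hUB (Subgroup.subset_closure ⟨_, _, hs, rfl⟩)
  have hcH := nWordGL_mem_diag D hD hB hT hTri hNeg hconj hS hNH c.length c le_rfl hc hpos
  refine ⟨(nWordGL D hD b)⁻¹ * nWordGL D hD a, ?_, by group⟩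
  rw [em]
  exact mul_mem hh' hcH

/-- Words in the same coset of `H` send the same roots to positive roots. -/
theorem pos_of_coset (hB : BNFacts D) {tbl : List ℕ} (hT : TorusData D tbl) (hTri : TriOK D)
    (hNeg : NegTriOK D) (hconj : ∀ i < D.rank, ∀ s < D.nroots, ConjGoal' F D i s)
    (a b : List ℕ) (ha : ∀ i ∈ a, i < D.rank) (hb : ∀ i ∈ b, i < D.rank)
    (k : GL D.Idx F) (hk : k ∈ D.diagonalSubgroup F)
    (e : nWordGL (F := F) D hD a = nWordGL D hD b * k) (s : ℕ) (hs : s < D.nroots)
    (hp : D.IsPosRoot (permW D b s)) : D.IsPosRoot (permW D a s) := by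
  have hUB : D.posUnipotent F ≤ D.borelSubgroup F := le_sup_left
  apply pos_of_conj_mem_borel D hD hB hT hTri hNeg hconj 1 (one_mem _) a ha s hs
  obtain ⟨c, _, hc⟩ := conj_N_xU D hD hB hT hconj k hk [] (fun i hi => absurd hi List.not_mem_nil) s hs
  obtain ⟨cb, _, hcb⟩ := conj_N_xU D hD hB hT hconj 1 (one_mem _) b hb s hs
  have e1 := hc 1
  rw [nWordGL_nil, mul_one] at e1
  have e1' : k * xU D hD s 1 * k⁻¹ = xU D hD s (c * 1) := e1
  have e2 := hcb (c * 1)
  rw [one_mul] at e2
  have e3 : (1 * nWordGL D hD a) * xU D hD s 1 * (1 * nWordGL D hD a)⁻¹ =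
      xU D hD (permW D b s) (cb * (c * 1)) := by
    rw [one_mul, e, ← e2, ← e1']
    group
  rw [e3]
  exact hUB (Subgroup.subset_closure ⟨_, _, hp, rfl⟩)

end

/-! ### Table facts about a list of words representing the Weyl group -/

/-- The set of roots sent to positive roots, as a number. -/
def posKey (D : ChevalleyDatum) (tbls : List ℕ) (l : List ℕ) : ℕ :=
  ((List.range D.nroots).map fun s => if D.IsPosRoot (pPermW tbls l s) then 2 ^ s else 0).sum

def allNe (a : ℕ) : List ℕ → Bool
  | [] => true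
  | b :: t => (a != b) && allNe a t

def nodupB : List ℕ → Bool
  | [] => true
  | a :: t => allNe a t && nodupB t

theorem allNe_sound (a : ℕ) (l : List ℕ) (h : allNe a l = true) : a ∉ l := by
  induction l with
  | nil => exact List.not_mem_nil
  | cons b t ih =>
    rw [allNe, Bool.and_eq_true, bne_iff_ne] at h
    rw [List.mem_cons, not_or]
    exact ⟨h.1, ih h.2⟩

theorem nodupB_sound (l : List ℕ) (h : nodupB l = true) : l.Nodup := by
  induction l with
  | nil => exact List.nodup_nil
  | cons a t ih =>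
    rw [nodupB, Bool.and_eq_true] at h
    exact List.nodup_cons.mpr ⟨allNe_sound a t h.1, ih h.2⟩

/-- Closure of the list of words under left multiplication by the generators, up to the
permutation of the roots; `nxt` lists the positions of the products. -/
def closureCheck (D : ChevalleyDatum) (tbls : List ℕ) (R nxt : List (List ℕ)) : Bool :=
  (List.range R.length).all fun k => (List.range D.rank).all fun i =>
    decide (lget (lget nxt k []) i 0 < R.length) &&
      (List.range D.nroots).all fun s =>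
        pPermW tbls (i :: lget R k []) s == pPermW tbls (lget R (lget (lget nxt k []) i 0) []) s

/-- All the table facts about a list of words representing the Weyl group. -/
structure CellData (D : ChevalleyDatum) (tbls : List ℕ) (R : List (List ℕ)) : Prop where
  hperm : ∀ i < D.rank, permCheck D i (lget tbls i 0) = true
  hred : ∀ l ∈ R, redAux D tbls [] l = true
  hnil : [] ∈ R
  hclosed : ∀ l ∈ R, ∀ i < D.rank, ∃ l' ∈ R, ∀ s < D.nroots,
    pPermW tbls (i :: l) s = pPermW tbls l' s
  hkeys : (R.map (posKey D tbls)).Nodup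

def cellCheck (D : ChevalleyDatum) (tbls : List ℕ) (R nxt : List (List ℕ)) : Bool :=
  R.all (redAux D tbls []) && R.contains [] && closureCheck D tbls R nxt &&
    nodupB (R.map (posKey D tbls))

theorem cellData_of_check (D : ChevalleyDatum) (tbls : List ℕ) (R nxt : List (List ℕ))
    (hperm : ∀ i < D.rank, permCheck D i (lget tbls i 0) = true)
    (h : cellCheck D tbls R nxt = true) : CellData D tbls R := by
  rw [cellCheck, Bool.and_eq_true, Bool.and_eq_true, Bool.and_eq_true] at h
  obtain ⟨⟨⟨h1, h2⟩, h3⟩, h4⟩ := h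
  refine ⟨hperm, ?_, ?_, ?_, nodupB_sound _ h4⟩
  · intro l hl
    exact List.all_eq_true.mp h1 l hl
  · exact List.contains_iff_mem.mp h2
  · intro l hl i hi
    obtain ⟨k, hk, rfl⟩ := List.getElem_of_mem hl
    rw [closureCheck, List.all_eq_true] at h3
    have h5 := h3 k (List.mem_range.mpr hk)
    rw [List.all_eq_true] at h5
    have h6 := h5 i (List.mem_range.mpr hi)
    rw [Bool.and_eq_true, decide_eq_true_eq, List.all_eq_true] at h6
    obtain ⟨h7, h8⟩ := h6
    have e1 : lget R k [] = R[k] := by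
      rw [lget_eq_getD, List.getD_eq_getElem _ _ hk]
    have e2 : lget R (lget (lget nxt k []) i 0) [] = R[lget (lget nxt k []) i 0] := by
      rw [lget_eq_getD, List.getD_eq_getElem _ _ h7]
    refine ⟨R[lget (lget nxt k []) i 0], List.getElem_mem _, fun s hs => ?_⟩
    have h9 := h8 s (List.mem_range.mpr hs)
    rw [beq_iff_eq, e1, e2] at h9
    exact h9

theorem redAux_valid (D : ChevalleyDatum) (tbls : List ℕ) :
    ∀ rest pre : List ℕ, redAux D tbls pre rest = true → ∀ i ∈ rest, i < D.rank := by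
  intro rest
  induction rest with
  | nil => intro _ _ i hi; exact absurd hi List.not_mem_nil
  | cons j rest ih =>
    intro pre hred i hi
    rw [redAux, Bool.and_eq_true, Bool.and_eq_true, decide_eq_true_eq] at hred
    rcases List.mem_cons.mp hi with rfl | hi
    · exact hred.1.1
    · exact ih _ hred.2 i hi

section

variable {F : Type*} [Field F] (D : ChevalleyDatum) (hD : Good D)

/-- `U_w⁻` depends on the word only. -/
theorem Uw_eq_of_word (hB : BNFacts D) {tbl : List ℕ} (hT : TorusData D tbl)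
    (hTri : TriOK D) (hNeg : NegTriOK D)
    (hconj : ∀ i < D.rank, ∀ s < D.nroots, ConjGoal' F D i s)
    (h h' : GL D.Idx F) (hh : h ∈ D.diagonalSubgroup F) (hh' : h' ∈ D.diagonalSubgroup F)
    (l : List ℕ) (hl : ∀ i ∈ l, i < D.rank) :
    Uw D (h * nWordGL D hD l) ≤ Uw D (h' * nWordGL D hD l) := by
  conv_lhs => rw [Uw]
  rw [Subgroup.closure_le]
  intro g hg
  obtain ⟨r, t, hr, hnp, rfl⟩ := UwSet_gen D hD hB hT hTri hNeg hconj h hh l hl g hg
  exact xU_mem_Uw D hD hB hT hTri hNeg hconj h' hh' l hl r hr hnp t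

include hD in
theorem Uw_word_card (hB : BNFacts D) (hU : UiFacts D) {tbl : List ℕ} (hT : TorusData D tbl)
    (hTri : TriOK D) (hNeg : NegTriOK D)
    (hconj : ∀ i < D.rank, ∀ s < D.nroots, ConjGoal' F D i s)
    (hS : ∀ i < D.rank, ConjGoalS' F D i)
    (hNH : D.monomialSubgroup F ≤ Subgroup.normalizer (D.diagonalSubgroup F : Set (GL D.Idx F)))
    (tbls : List ℕ) (hperm : ∀ i < D.rank, permCheck D i (lget tbls i 0) = true)
    (l : List ℕ) (hred : redAux D tbls [] l = true) :
    Nat.card (Uw D ((1 : GL D.Idx F) * nWordGL D hD l)) = Nat.card F ^ l.length := by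
  have h1 := Uw_card_word D hD hB hU hT hTri hNeg hconj hS hNH tbls hperm 1 (one_mem _) l []
    (fun i hi => absurd hi List.not_mem_nil) hred
  rw [List.nil_append] at h1
  have h2 : Uw D ((1 : GL D.Idx F) * nWordGL D hD []) = ⊥ := by
    rw [eq_bot_iff]
    unfold Uw
    rw [Subgroup.closure_le]
    intro g hg
    obtain ⟨r, t, hr, hnp, _⟩ := UwSet_gen D hD hB hT hTri hNeg hconj 1 (one_mem _) []
      (fun i hi => absurd hi List.not_mem_nil) g hg
    exact absurd hr hnp
  rw [h2, Subgroup.card_bot, Nat.one_mul] at h1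
  exact h1

include hD in
/-- Every word is equivalent, modulo `H`, to a word of the list. -/
theorem exists_rep (hB : BNFacts D) {tbl : List ℕ} (hT : TorusData D tbl) (hTri : TriOK D)
    (hNeg : NegTriOK D) (hconj : ∀ i < D.rank, ∀ s < D.nroots, ConjGoal' F D i s)
    (hS : ∀ i < D.rank, ConjGoalS' F D i)
    (hNH : D.monomialSubgroup F ≤ Subgroup.normalizer (D.diagonalSubgroup F : Set (GL D.Idx F)))
    (tbls : List ℕ) (R : List (List ℕ)) (hC : CellData D tbls R)
    (l' : List ℕ) (hl' : ∀ i ∈ l', i < D.rank) :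
    ∃ l ∈ R, ∃ k ∈ D.diagonalSubgroup F, nWordGL (F := F) D hD l' = nWordGL D hD l * k := by
  induction l' with
  | nil => exact ⟨[], hC.hnil, 1, one_mem _, (mul_one _).symm⟩
  | cons i l' ih =>
    have hi : i < D.rank := hl' i List.mem_cons_self
    obtain ⟨l, hlR, k, hk, e⟩ := ih fun j hj => hl' j (List.mem_cons_of_mem _ hj)
    have hl : ∀ j ∈ l, j < D.rank := redAux_valid D tbls l [] (hC.hred l hlR)
    have hil : ∀ j ∈ i :: l, j < D.rank := by
      intro j hj
      rcases List.mem_cons.mp hj with rfl | hj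
      · exact hi
      · exact hl j hj
    obtain ⟨l'', hl''R, hperm'⟩ := hC.hclosed l hlR i hi
    have hl'' : ∀ j ∈ l'', j < D.rank := redAux_valid D tbls l'' [] (hC.hred l'' hl''R)
    have hab : ∀ s < D.nroots, permW D (i :: l) s = permW D l'' s := by
      intro s hs
      rw [← pPermW_eq_permW D hB tbls hC.hperm (i :: l) hil s hs,
        ← pPermW_eq_permW D hB tbls hC.hperm l'' hl'' s hs]
      exact hperm' s hs
    obtain ⟨k', hk', e'⟩ := coset_of_perm_eq D hD hB hT hTri hNeg hconj hS hNH (i :: l) l'' hil hl'' hab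
    refine ⟨l'', hl''R, k' * k, mul_mem hk' hk, ?_⟩
    rw [nWordGL_cons, e, ← mul_assoc, ← nWordGL_cons, e', mul_assoc]

include hD in
/-- The order of the group as a sum over the Bruhat cells. -/
theorem group_card_cells [Finite F] (hB : BNFacts D) (hU : UiFacts D) {tbl : List ℕ}
    (hT : TorusData D tbl) (hTri : TriOK D)
    (hNeg : NegTriOK D) (hconj : ∀ i < D.rank, ∀ s < D.nroots, ConjGoal' F D i s)
    (hS : ∀ i < D.rank, ConjGoalS' F D i)
    (hNH : D.monomialSubgroup F ≤ Subgroup.normalizer (D.diagonalSubgroup F : Set (GL D.Idx F)))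
    (tbls : List ℕ) (R : List (List ℕ)) (hC : CellData D tbls R) :
    Nat.card ↥(D.group F) =
      Nat.card ↥(D.borelSubgroup F) * (R.map fun l => Nat.card F ^ l.length).sum := by
  have hBG : D.borelSubgroup F ≤ D.group F := borel_le D hD
  have hNG : D.monomialSubgroup F ≤ D.group F := monomial_le D hD
  have hUB : D.posUnipotent F ≤ D.borelSubgroup F := le_sup_left
  have hHB : D.diagonalSubgroup F ≤ D.borelSubgroup F := le_sup_right
  have hvalid : ∀ l ∈ R, ∀ j ∈ l, j < D.rank := fun l hl => redAux_valid D tbls l [] (hC.hred l hl)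
  have hnN : ∀ l ∈ R, nWordGL (F := F) D hD l ∈ D.monomialSubgroup F := fun l hl =>
    nWordGL_mem D hD l (fun x hx => hB.hsimp x (hvalid l hl x hx))
  let Φ : (Σ k : Fin R.length, ↥(D.borelSubgroup F) × ↥(Uw D ((1 : GL D.Idx F) * nWordGL D hD R[k]))) →
      ↥(D.group F) := fun p =>
    ⟨(p.2.1 : GL D.Idx F) * nWordGL D hD R[p.1] * (p.2.2 : GL D.Idx F),
      mul_mem (mul_mem (hBG p.2.1.2) (hNG (hnN _ (List.getElem_mem _))))
        (hBG (hUB (Uw_le_pos D _ p.2.2.2)))⟩
  have hΦ : Function.Bijective Φ := by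
    constructor
    · rintro ⟨k, b, ⟨u, hu0⟩⟩ ⟨k', b', ⟨u', hu0'⟩⟩ e
      have e1 : (b : GL D.Idx F) * nWordGL D hD R[k] * u =
          (b' : GL D.Idx F) * nWordGL D hD R[k'] * u' := congrArg Subtype.val e
      have hu : u ∈ Uw D (nWordGL D hD R[k]) := by
        rwa [one_mul] at hu0
      have hu' : u' ∈ Uw D (nWordGL D hD R[k']) := by
        rwa [one_mul] at hu0'
      have hRk : R[k] ∈ R := List.getElem_mem _
      have hRk' : R[k'] ∈ R := List.getElem_mem _
      obtain ⟨h1, h2⟩ := bruhat_nf_unique D hD hB hU hT hTri hNeg hconj hS hNH _ _ _ _ _ _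
        b.2 b'.2 (hnN _ hRk) (hnN _ hRk') hu hu' e1
      -- the two words have the same positivity pattern
      have hiff : ∀ s < D.nroots, (D.IsPosRoot (permW D R[k] s) ↔ D.IsPosRoot (permW D R[k'] s)) := by
        intro s hs
        constructor
        · intro hp
          exact pos_of_coset D hD hB hT hTri hNeg hconj R[k'] R[k] (hvalid _ hRk') (hvalid _ hRk)
            ((nWordGL D hD R[k])⁻¹ * nWordGL D hD R[k']) h1 (by group) s hs hp
        · intro hp
          exact pos_of_coset D hD hB hT hTri hNeg hconj R[k] R[k'] (hvalid _ hRk) (hvalid _ hRk')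
            ((nWordGL D hD R[k])⁻¹ * nWordGL D hD R[k'])⁻¹ (inv_mem h1) (by group) s hs hp
      have hkey : posKey D tbls R[k] = posKey D tbls R[k'] := by
        unfold posKey
        congr 1
        apply List.map_congr_left
        intro s hs
        have hs' := List.mem_range.mp hs
        rw [pPermW_eq_permW D hB tbls hC.hperm _ (hvalid _ hRk) s hs',
          pPermW_eq_permW D hB tbls hC.hperm _ (hvalid _ hRk') s hs']
        exact if_congr (hiff s hs') rfl rfl
      have hk1 : k.val < (R.map (posKey D tbls)).length := by rw [List.length_map]; exact k.2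
      have hk2 : k'.val < (R.map (posKey D tbls)).length := by rw [List.length_map]; exact k'.2
      have hkk : k.val = k'.val := by
        apply (List.Nodup.getElem_inj_iff hC.hkeys (hi := hk1) (hj := hk2)).mp
        rw [List.getElem_map, List.getElem_map]
        exact hkey
      obtain rfl : k = k' := Fin.ext hkk
      obtain ⟨hb, huu⟩ := h2 rfl
      obtain rfl : b = b' := Subtype.ext hb
      obtain rfl : u = u' := huu
      rfl
    · rintro ⟨g, hg⟩
      obtain ⟨b, hb, n, hn, u, hu, e⟩ := bruhat_nf_exists D hD hB hU hT hTri hNeg hconj hS hNH g hg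
      obtain ⟨h, hh, l', hl', en⟩ := mem_monomial_decomp D hD hB hS hNH n hn
      obtain ⟨l, hlR, k, hk, el⟩ := exists_rep D hD hB hT hTri hNeg hconj hS hNH tbls R hC l' hl'
      obtain ⟨i, hi, rfl⟩ := List.getElem_of_mem hlR
      have hnl := hnN _ hlR
      -- `n = h'' * n_l` with `h''` in `H`
      have hk' : nWordGL D hD R[i] * k * (nWordGL D hD R[i])⁻¹ ∈ D.diagonalSubgroup F :=
        ((Subgroup.mem_normalizer_iff.mp (hNH hnl)) k).mp hk
      have en' : n = (h * (nWordGL D hD R[i] * k * (nWordGL D hD R[i])⁻¹)) * nWordGL D hD R[i] := by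
        rw [en, el]
        group
      have hu2 : u ∈ Uw D ((1 : GL D.Idx F) * nWordGL D hD R[i]) := by
        rw [en'] at hu
        exact Uw_eq_of_word D hD hB hT hTri hNeg hconj _ 1 (mul_mem hh hk') (one_mem _) R[i]
          (hvalid _ hlR) hu
      refine ⟨⟨⟨i, hi⟩, ⟨b * (h * (nWordGL D hD R[i] * k * (nWordGL D hD R[i])⁻¹)),
        mul_mem hb (hHB (mul_mem hh hk'))⟩, ⟨u, hu2⟩⟩, ?_⟩
      apply Subtype.ext
      change b * (h * (nWordGL D hD R[i] * k * (nWordGL D hD R[i])⁻¹)) * nWordGL D hD R[i] * u = g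
      rw [e, en']
      group
  rw [← Nat.card_congr (Equiv.ofBijective Φ hΦ), Nat.card_sigma]
  have hterm : ∀ k : Fin R.length,
      Nat.card (↥(D.borelSubgroup F) × ↥(Uw D ((1 : GL D.Idx F) * nWordGL D hD R[k]))) =
        Nat.card ↥(D.borelSubgroup F) * Nat.card F ^ R[k].length := by
    intro k
    rw [Nat.card_prod, Uw_word_card D hD hB hU hT hTri hNeg hconj hS hNH tbls hC.hperm R[k]
      (hC.hred _ (List.getElem_mem _))]
  rw [Finset.sum_congr rfl (fun k _ => hterm k), ← Finset.mul_sum]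
  congr 1
  exact Fin.sum_univ_fun_getElem R (fun l => Nat.card F ^ l.length)

/-- `|B| = |U| |H|`. -/
theorem borel_card {tbl : List ℕ} (hT : TorusData D tbl) (hTri : TriOK D) :
    Nat.card ↥(D.borelSubgroup F) =
      Nat.card ↥(D.posUnipotent F) * Nat.card ↥(D.diagonalSubgroup F) := by
  have hUB : D.posUnipotent F ≤ D.borelSubgroup F := le_sup_left
  have hHB : D.diagonalSubgroup F ≤ D.borelSubgroup F := le_sup_right
  have hBs : ((D.borelSubgroup F : Subgroup (GL D.Idx F)) : Set (GL D.Idx F)) =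
      (D.posUnipotent F : Set (GL D.Idx F)) * (D.diagonalSubgroup F : Set (GL D.Idx F)) :=
    Subgroup.coe_mul_of_right_le_normalizer_left _ _ (diag_le_normalizer D hT)
  let Ψ : ↥(D.posUnipotent F) × ↥(D.diagonalSubgroup F) → ↥(D.borelSubgroup F) := fun p =>
    ⟨(p.1 : GL D.Idx F) * (p.2 : GL D.Idx F), mul_mem (hUB p.1.2) (hHB p.2.2)⟩
  have hΨ : Function.Bijective Ψ := by
    constructor
    · rintro ⟨u, h⟩ ⟨u', h'⟩ e
      have e1 : (u : GL D.Idx F) * (h : GL D.Idx F) = (u' : GL D.Idx F) * (h' : GL D.Idx F) :=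
        congrArg Subtype.val e
      have e2 : ((u' : GL D.Idx F))⁻¹ * (u : GL D.Idx F) = (h' : GL D.Idx F) * ((h : GL D.Idx F))⁻¹ := by
        have : (u : GL D.Idx F) = (u' : GL D.Idx F) * (h' : GL D.Idx F) * ((h : GL D.Idx F))⁻¹ := by
          rw [← e1]
          group
        rw [this]
        group
      have h1 : ((u' : GL D.Idx F))⁻¹ * (u : GL D.Idx F) ∈ D.posUnipotent F ⊓ D.diagonalSubgroup F := by
        apply Subgroup.mem_inf.mpr
        refine ⟨mul_mem (inv_mem u'.2) u.2, ?_⟩
        rw [e2]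
        exact mul_mem h'.2 (inv_mem h.2)
      rw [pos_inf_diag (F := F) D hT hTri, Subgroup.mem_bot] at h1
      have hu : (u : GL D.Idx F) = (u' : GL D.Idx F) := (inv_mul_eq_one.mp h1).symm
      have hh : (h : GL D.Idx F) = (h' : GL D.Idx F) := by
        rw [hu] at e1
        exact mul_left_cancel e1
      exact Prod.ext (Subtype.ext hu) (Subtype.ext hh)
    · rintro ⟨b, hb⟩
      have hb' : b ∈ ((D.borelSubgroup F : Subgroup (GL D.Idx F)) : Set (GL D.Idx F)) := hb
      rw [hBs] at hb'
      obtain ⟨u, hu, h, hh, rfl⟩ := hb'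
      exact ⟨⟨⟨u, hu⟩, ⟨h, hh⟩⟩, rfl⟩
  rw [← Nat.card_prod]
  exact (Nat.card_congr (Equiv.ofBijective Ψ hΨ)).symm

end

end Cfsg.Agent.Helper18
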