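import Cfsg.Agent.Lib.Helper18.ChevAdd

set_option autoImplicit false

namespace Cfsg.Agent.Helper18

open Cfsg.Lie

section

variable {F : Type*} [Field F] (D : ChevalleyDatum)

/-- The right-hand side of the commutator formula, with parameters the two variables. -/
def commWordLP (r s : ℕ) : List (ℕ × LP) :=
  (D.commTerms r s).map fun c => (c.1, [(c.2.1 * (-1) ^ c.2.2.1, (c.2.2.1 : ℤ), (c.2.2.2 : ℤ))])

/-- Kernel check of the commutator formula for the pair `(r, s)`. -/
def commCheck (r s : ℕ) : Bool :=
  ((D.commTerms r s).all fun c => decide (1 ≤ c.2.2.1) && decide (1 ≤ c.2.2.2)) &&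
    wordEqCheck D [(s, [(1, 0, 1)]), (r, [(1, 1, 0)])]
      ([(r, [(1, 1, 0)]), (s, [(1, 0, 1)])] ++ commWordLP D r s)

theorem wordMat_all_zero (w : List (ℕ × F)) (h : ∀ p ∈ w, p.2 = 0) : D.wordMat F w = 1 := by
  induction w with
  | nil => simp [ChevalleyDatum.wordMat]
  | cons p w ih =>
    have h1 : D.wordMat F (p :: w) = D.x F p.1 p.2 * D.wordMat F w := by
      simp [ChevalleyDatum.wordMat]
    rw [h1, ih fun q hq => h q (List.mem_cons_of_mem _ hq), h p List.mem_cons_self, x_zero, one_mul]

theorem comm_of_check (r s : ℕ) (h : commCheck D r s = true) (t u : F) :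
    D.x F s u * D.x F r t = D.x F r t * D.x F s u * D.wordMat F (D.commWord F r s t u) := by
  rw [commCheck, Bool.and_eq_true, List.all_eq_true] at h
  obtain ⟨hpos, h⟩ := h
  by_cases h1 : t = 0
  · have : D.wordMat F (D.commWord F r s t u) = 1 := by
      apply wordMat_all_zero
      intro p hp
      simp only [ChevalleyDatum.commWord, List.mem_map] at hp
      obtain ⟨c, hc, rfl⟩ := hp
      have := hpos c hc
      simp only [Bool.and_eq_true, decide_eq_true_eq] at this
      simp only [h1, neg_zero]
      rw [zero_pow (by omega), mul_zero, zero_mul]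
    rw [this, h1, x_zero, mul_one, one_mul, mul_one]
  by_cases h2 : u = 0
  · have : D.wordMat F (D.commWord F r s t u) = 1 := by
      apply wordMat_all_zero
      intro p hp
      simp only [ChevalleyDatum.commWord, List.mem_map] at hp
      obtain ⟨c, hc, rfl⟩ := hp
      have := hpos c hc
      simp only [Bool.and_eq_true, decide_eq_true_eq] at this
      simp only [h2]
      rw [zero_pow (by omega), mul_zero]
    rw [this, h2, x_zero, mul_one, one_mul, mul_one]
  have key := wordMat_eq_of_check D (Units.mk0 t h1) (Units.mk0 u h2) _ _ h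
  have e1 : D.wordMat F (evalWord (Units.mk0 t h1) (Units.mk0 u h2) [(s, [(1, 0, 1)]), (r, [(1, 1, 0)])]) =
      D.x F s u * D.x F r t := by
    simp [ChevalleyDatum.wordMat, evalWord, LP.eval, LP.evalMono]
  have e2 : evalWord (Units.mk0 t h1) (Units.mk0 u h2) (commWordLP D r s) = D.commWord F r s t u := by
    simp only [evalWord, commWordLP, ChevalleyDatum.commWord, List.map_map]
    apply List.map_congr_left
    intro c _
    simp only [Function.comp, LP.eval, LP.evalMono, List.map_cons, List.map_nil, List.sum_cons,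
      List.sum_nil, add_zero, Units.val_mul, Units.val_zpow_eq_zpow_val, Units.val_mk0, zpow_natCast,
      Int.cast_mul, Int.cast_pow, Int.cast_neg, Int.cast_one]
    congr 1
    rw [neg_pow t]
    simp only [Units.val_pow_eq_pow_val, Units.val_mk0]
    ring
  have e3 : D.wordMat F (evalWord (Units.mk0 t h1) (Units.mk0 u h2)
      ([(r, [(1, 1, 0)]), (s, [(1, 0, 1)])] ++ commWordLP D r s)) =
      D.x F r t * D.x F s u * D.wordMat F (D.commWord F r s t u) := by
    have : evalWord (Units.mk0 t h1) (Units.mk0 u h2)
        ([(r, [(1, 1, 0)]), (s, [(1, 0, 1)])] ++ commWordLP D r s) =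
        [(r, t), (s, u)] ++ D.commWord F r s t u := by
      rw [← e2]
      simp [evalWord, LP.eval, LP.evalMono]
    rw [this]
    simp [ChevalleyDatum.wordMat, mul_assoc]
  rw [← e1, key, e3]

end

end Cfsg.Agent.Helper18
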