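import Cfsg.Agent.Lib.Helper18.ChevSparse

set_option autoImplicit false

namespace Cfsg.Agent.Helper18

open Cfsg.Lie

section

variable {F : Type*} [Field F] (D : ChevalleyDatum)

/-- The word `n_r(1)` with Laurent-polynomial parameters. -/
def nWordOne (r : ℕ) : List (ℕ × LP) := [(r, LP.ofInt 1), (D.neg r, LP.ofInt (-1)), (r, LP.ofInt 1)]

theorem nWord_one_eq (r : ℕ) : D.nWord r (1 : F) = evalWord 1 1 (nWordOne D r) := by
  simp [ChevalleyDatum.nWord, evalWord, nWordOne]

/-- Columns of the signed monomial matrix of statement S1095. -/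
def monoCol (i : ℕ) (η : ℕ → ℤ) (k : ℕ) : SV :=
  if k < D.rank then [(k, LP.ofInt 1), (i, LP.ofInt (-(D.cartan k (D.simple i))))]
  else [(D.rank + D.reflectRoot i (k - D.rank), LP.ofInt (η (k - D.rank)))]

/-- The signed monomial matrix of statement S1095. -/
def monoMat (i : ℕ) (η : ℕ → ℤ) : Matrix D.Idx D.Idx F :=
  Matrix.of (fun (row col : D.Idx) =>
        Sum.elim
          (fun j' : Fin D.rank => Sum.elim
            (fun j : Fin D.rank => (if j' = j then (1 : F) else 0) - (if (j' : ℕ) = i then ((D.cartan j (D.simple i) : ℤ) : F) else 0))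
            (fun _ => (0 : F)) col)
          (fun s' : Fin D.nroots => Sum.elim
            (fun _ => (0 : F))
            (fun s : Fin D.nroots => if (s' : ℕ) = D.reflectRoot i s then ((η s : ℤ) : F) else 0) col)
          row)

theorem monoMat_col (a b : Fˣ) (i : ℕ) (hi : i < D.rank) (η : ℕ → ℤ) (row col : D.Idx) :
    monoMat (F := F) D i η row col = SV.coeff a b (monoCol D i η (code D col)) (code D row) := by
  rcases col with j | s
  · have hj : code D (Sum.inl j : D.Idx) < D.rank := j.2
    rw [monoCol, if_pos hj]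
    rcases row with j' | s'
    · simp only [monoMat, Matrix.of_apply, Sum.elim_inl, code, SV.coeff_cons, SV.coeff_nil, LP.eval_ofInt,
        Int.cast_one, Int.cast_neg, add_zero]
      by_cases h1 : j' = j
      · subst h1
        by_cases h2 : (j' : ℕ) = i
        · have h2' : i = (j' : ℕ) := h2.symm
          rw [if_pos rfl, if_pos h2, if_pos rfl, if_pos h2', sub_eq_add_neg]
        · have h2' : ¬ (i = (j' : ℕ)) := fun h => h2 h.symm
          rw [if_pos rfl, if_neg h2, if_pos rfl, if_neg h2', sub_zero, add_zero]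
      · have h1' : ¬ ((j : ℕ) = (j' : ℕ)) := fun h => h1 (Fin.ext h.symm)
        by_cases h2 : (j' : ℕ) = i
        · have h2' : i = (j' : ℕ) := h2.symm
          rw [if_neg h1, if_pos h2, if_neg h1', if_pos h2', zero_sub, zero_add]
        · have h2' : ¬ (i = (j' : ℕ)) := fun h => h2 h.symm
          rw [if_neg h1, if_neg h2, if_neg h1', if_neg h2', sub_zero, add_zero]
    · have h1 : ¬ ((j : ℕ) = D.rank + (s' : ℕ)) := by have := j.2; omega
      have h2 : ¬ (i = D.rank + (s' : ℕ)) := by omega
      simp [monoMat, code, h1, h2]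
  · have hs : ¬ (code D (Sum.inr s : D.Idx) < D.rank) := by simp only [code]; omega
    have hs' : code D (Sum.inr s : D.Idx) - D.rank = s.val := by simp only [code]; omega
    rw [monoCol, if_neg hs, hs']
    rcases row with j' | s'
    · have h1 : ¬ (D.rank + D.reflectRoot i s = (j' : ℕ)) := by have := j'.2; omega
      simp [monoMat, code, h1]
    · simp only [monoMat, Matrix.of_apply, Sum.elim_inr, code, SV.coeff_cons, SV.coeff_nil, LP.eval_ofInt,
        add_zero]
      by_cases h : (s' : ℕ) = D.reflectRoot i s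
      · simp [h]
      · have h' : ¬ (D.rank + D.reflectRoot i s = D.rank + (s' : ℕ)) := by omega
        rw [if_neg h, if_neg h']

/-- Check that `n_{p_i}(1)` is the signed monomial matrix with signs `η`. -/
def nCheck (i : ℕ) (η : ℕ → ℤ) : Bool :=
  (List.range (D.rank + D.nroots)).all fun k =>
    SV.vecEq (applyWord D (nWordOne D (D.simple i)) (basisVec k)) (monoCol D i η k)

theorem nMat_eq_of_check (i : ℕ) (hi : i < D.rank) (η : ℕ → ℤ) (h : nCheck D i η = true) :
    D.nMat F (D.simple i) 1 = monoMat D i η := by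
  apply mat_eq_of_mulVec_single
  intro col
  rw [ChevalleyDatum.nMat, nWord_one_eq, ← toVec_basisVec D 1 1 col, applyWord_sound]
  rw [nCheck, List.all_eq_true] at h
  rw [toVec_eq_of_vecEq D 1 1 _ _ (h _ (List.mem_range.mpr (code_lt D col)))]
  funext row
  rw [toVec_basisVec, Matrix.mulVec_single_one]
  exact (monoMat_col D 1 1 i hi η row col).symm

/-! ### Kernel-friendly versions of the table functions -/

/-- Kernel-friendly `chainEntry`. -/
def fChainEntry (r s : ℕ) : List (ℕ × ℤ) :=
  match (rowFind D r s).head? with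
  | none => []
  | some e => e.2.toList

theorem fChainEntry_eq (r s : ℕ) : fChainEntry D r s = D.chainEntry r s := by
  rw [fChainEntry, ChevalleyDatum.chainEntry, rowFind_eq', List.head?_filter]
  generalize List.find? (fun e => decide (e.1 = s)) (D.chain.getD r #[]).toList = o
  cases o <;> rfl

/-- Kernel-friendly `simple`. -/
def fSimple (i : ℕ) : ℕ := lget D.simpleIdx.toList i 0

theorem fSimple_eq (i : ℕ) : fSimple D i = D.simple i := by
  rw [fSimple, ChevalleyDatum.simple, array_getD_eq]

/-- Kernel-friendly `neg`. -/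
def fNeg (r : ℕ) : ℕ := lget D.negIdx.toList r 0

theorem fNeg_eq (r : ℕ) : fNeg D r = D.neg r := by
  rw [fNeg, ChevalleyDatum.neg, array_getD_eq]

/-- Kernel-friendly `cartan`. -/
def fCartan (i s : ℕ) : ℤ := lget (lget D.cartanSR.toList i #[]).toList s 0

theorem fCartan_eq (i s : ℕ) : fCartan D i s = D.cartan i s := by
  rw [fCartan, ChevalleyDatum.cartan, array_getD_eq, array_getD_eq]

/-- Kernel-friendly `chainRoot`. -/
def fChainRoot (r s i : ℕ) : Option ℕ := ((fChainEntry D r s)[i - 1]?).map Prod.fst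

theorem fChainRoot_eq (r s i : ℕ) : fChainRoot D r s i = D.chainRoot r s i := by
  rw [fChainRoot, ChevalleyDatum.chainRoot, fChainEntry_eq]

/-- Kernel-friendly `reflectRoot`. -/
def fReflectRoot (i s : ℕ) : ℕ :=
  let p := fSimple D i
  let A := fCartan D i s
  if s = p then fNeg D p
  else if s = fNeg D p then p
  else if 0 < A then (fChainRoot D (fNeg D p) s A.toNat).getD s
  else if A < 0 then (fChainRoot D p s (-A).toNat).getD s
  else s

theorem fReflectRoot_eq (i s : ℕ) : fReflectRoot D i s = D.reflectRoot i s := by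
  simp only [fReflectRoot, ChevalleyDatum.reflectRoot, fSimple_eq, fNeg_eq, fCartan_eq, fChainRoot_eq]

/-- Signs from a bit mask: bit `s` set means `η s = -1`. -/
def etaOf (m : ℕ) (s : ℕ) : ℤ := if Nat.testBit m s then -1 else 1

theorem etaOf_cases (m s : ℕ) : etaOf m s = 1 ∨ etaOf m s = -1 := by
  unfold etaOf
  split_ifs
  · right; rfl
  · left; rfl

/-- Kernel-friendly columns of the signed monomial matrix. -/
def fMonoCol (i : ℕ) (η : ℕ → ℤ) (k : ℕ) : SV :=
  if k < D.rank then [(k, LP.ofInt 1), (i, LP.ofInt (-(fCartan D k (fSimple D i))))]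
  else [(D.rank + fReflectRoot D i (k - D.rank), LP.ofInt (η (k - D.rank)))]

theorem fMonoCol_eq (i : ℕ) (η : ℕ → ℤ) (k : ℕ) : fMonoCol D i η k = monoCol D i η k := by
  simp only [fMonoCol, monoCol, fCartan_eq, fSimple_eq, fReflectRoot_eq]

/-- Kernel-friendly check that `n_{p_i}(1)` is the signed monomial matrix with signs `η`. -/
def fnCheck (i : ℕ) (η : ℕ → ℤ) : Bool :=
  (List.range (D.rank + D.nroots)).all fun k =>
    SV.vecEq (applyWord D [(fSimple D i, LP.ofInt 1), (fNeg D (fSimple D i), LP.ofInt (-1)), (fSimple D i, LP.ofInt 1)]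
      (basisVec k)) (fMonoCol D i η k)

theorem fnCheck_eq (i : ℕ) (η : ℕ → ℤ) : fnCheck D i η = nCheck D i η := by
  simp only [fnCheck, nCheck, nWordOne, fSimple_eq, fNeg_eq, fMonoCol_eq]

/-- The sign conditions of statement S1095 (apart from `η s = ±1`). -/
def SignProp (i : ℕ) (η : ℕ → ℤ) : Prop :=
  η (D.simple i) = -1 ∧ η (D.neg (D.simple i)) = -1 ∧
    (∀ s < D.nroots, η s * η (D.reflectRoot i s) = (-1) ^ (D.cartan i s).natAbs ∧ η s * η (D.neg s) = 1)

/-- Kernel-friendly check of the sign conditions. -/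
def fSignCheck (i : ℕ) (η : ℕ → ℤ) : Bool :=
  (η (fSimple D i) == -1) && (η (fNeg D (fSimple D i)) == -1) &&
    (List.range D.nroots).all fun s =>
      (η s * η (fReflectRoot D i s) == (-1) ^ (fCartan D i s).natAbs) && (η s * η (fNeg D s) == 1)

theorem signProp_of_check (i : ℕ) (η : ℕ → ℤ) (h : fSignCheck D i η = true) : SignProp D i η := by
  simp only [fSignCheck, Bool.and_eq_true, beq_iff_eq, List.all_eq_true, List.mem_range, fSimple_eq,
    fNeg_eq, fReflectRoot_eq, fCartan_eq] at h
  exact ⟨h.1.1, h.1.2, h.2⟩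

/-- The conclusion of statement S1095 for one datum and one fundamental root. -/
def NGoal (F : Type*) [Field F] (D : ChevalleyDatum) (i : ℕ) : Prop :=
  ∃ η : ℕ → ℤ, (∀ s < D.nroots, η s = 1 ∨ η s = -1) ∧ η (D.simple i) = -1 ∧ η (D.neg (D.simple i)) = -1 ∧
      (∀ s < D.nroots, η s * η (D.reflectRoot i s) = (-1) ^ (D.cartan i s).natAbs ∧ η s * η (D.neg s) = 1) ∧
      D.nMat F (D.simple i) 1 = monoMat D i η

theorem nGoal_of_checks (i : ℕ) (hi : i < D.rank) (m : ℕ) (h1 : fSignCheck D i (etaOf m) = true)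
    (h2 : fnCheck D i (etaOf m) = true) : NGoal F D i := by
  obtain ⟨hb, hc, hd⟩ := signProp_of_check D i _ h1
  rw [fnCheck_eq] at h2
  exact ⟨etaOf m, fun s _ => etaOf_cases m s, hb, hc, hd, nMat_eq_of_check D i hi _ h2⟩

end

end Cfsg.Agent.Helper18
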