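import Cfsg.Agent.Lib.Helper18.ChevComm
import Cfsg.Agent.Lib.Helper18.ChevN

set_option autoImplicit false

namespace Cfsg.Agent.Helper18

open Cfsg.Lie

/-- The commutator formula for the pair `(r, s)` over `F`. -/
def CommOK (F : Type*) [Field F] (D : ChevalleyDatum) (r s : ℕ) : Prop :=
  ∀ t u : F, D.x F s u * D.x F r t = D.x F r t * D.x F s u * D.wordMat F (D.commWord F r s t u)

section

variable {F : Type*} [Field F] (D : ChevalleyDatum)

/-- Kernel-friendly `chainM`. -/
def fChainM (r s i : ℕ) : ℤ := (((fChainEntry D r s)[i - 1]?).map Prod.snd).getD 0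

theorem fChainM_eq (r s i : ℕ) : fChainM D r s i = D.chainM r s i := by
  rw [fChainM, ChevalleyDatum.chainM, fChainEntry_eq]

/-- Kernel-friendly `commTerms`. -/
def fCommTerms (r s : ℕ) : List (ℕ × ℤ × ℕ × ℕ) :=
  let rs := fChainRoot D r s 1
  let cands : List (Option ℕ × ℤ × ℕ × ℕ) :=
    [ (fChainRoot D r s 1, fChainM D r s 1, 1, 1),
      (fChainRoot D r s 2, fChainM D r s 2, 2, 1),
      (fChainRoot D s r 2, fChainM D s r 2, 1, 2),
      (fChainRoot D r s 3, fChainM D r s 3, 3, 1),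
      (fChainRoot D s r 3, - fChainM D s r 3, 1, 3),
      ((fChainRoot D r s 3).bind fun k => fChainRoot D k s 1, (rs.map fun k => fChainM D k r 2 / 3).getD 0, 3, 2),
      ((fChainRoot D s r 3).bind fun k => fChainRoot D k r 1, (rs.map fun k => -2 * fChainM D k s 2 / 3).getD 0, 2, 3) ]
  cands.filterMap fun c => c.1.map fun k => (k, c.2)

theorem fCommTerms_eq (r s : ℕ) : fCommTerms D r s = D.commTerms r s := by
  simp only [fCommTerms, ChevalleyDatum.commTerms, fChainRoot_eq, fChainM_eq]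

/-- The commutator terms of `(r, s)` transported by the `i`-th fundamental reflection with signs `η`. -/
def stepTerms (i : ℕ) (η : ℕ → ℤ) (r s : ℕ) : List (ℕ × ℤ × ℕ × ℕ) :=
  (fCommTerms D r s).map fun c =>
    (fReflectRoot D i c.1, η c.1 * η r ^ c.2.2.1 * η s ^ c.2.2.2 * c.2.1, c.2.2.1, c.2.2.2)

/-- Table check for one conjugation step of the commutator formula. -/
def stepCheck (i : ℕ) (η : ℕ → ℤ) (r s : ℕ) : Bool :=
  (fCommTerms D (fReflectRoot D i r) (fReflectRoot D i s) == stepTerms D i η r s) &&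
    (fCommTerms D r s).all fun c => decide (c.1 < D.nroots)

theorem wordMat_cons (p : ℕ × F) (w : List (ℕ × F)) :
    D.wordMat F (p :: w) = D.x F p.1 p.2 * D.wordMat F w := by
  simp [ChevalleyDatum.wordMat]

theorem wordMat_nil : D.wordMat F ([] : List (ℕ × F)) = 1 := by
  simp [ChevalleyDatum.wordMat]

theorem n_mul_wordMat (n : Matrix D.Idx D.Idx F) (i : ℕ) (η : ℕ → ℤ)
    (hconj : ∀ s < D.nroots, ∀ t : F,
      n * D.x F s t = D.x F (D.reflectRoot i s) ((η s : F) * t) * n)
    (w : List (ℕ × F)) (hw : ∀ p ∈ w, p.1 < D.nroots) :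
    n * D.wordMat F w =
      D.wordMat F (w.map fun p => (D.reflectRoot i p.1, (η p.1 : F) * p.2)) * n := by
  induction w with
  | nil => simp [wordMat_nil]
  | cons p w ih =>
    rw [List.map_cons, wordMat_cons, wordMat_cons, ← mul_assoc, hconj p.1 (hw p List.mem_cons_self) p.2,
      mul_assoc, ih fun q hq => hw q (List.mem_cons_of_mem _ hq), ← mul_assoc]

theorem sign_pow_aux (a : ℤ) (ha : a = 1 ∨ a = -1) (k : ℕ) (t : F) :
    ((a : ℤ) : F) ^ k * (-(((a : ℤ) : F) * t)) ^ k = (-t) ^ k := by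
  rw [← mul_pow]
  congr 1
  rcases ha with rfl | rfl <;> simp

theorem sign_pow_aux' (a : ℤ) (ha : a = 1 ∨ a = -1) (k : ℕ) (t : F) :
    ((a : ℤ) : F) ^ k * ((((a : ℤ) : F) * t)) ^ k = t ^ k := by
  rw [← mul_pow]
  congr 1
  rcases ha with rfl | rfl <;> simp

/-- One conjugation step: the formula for `(w_i r, w_i s)` gives the formula for `(r, s)`. -/
theorem comm_step (n : Matrix D.Idx D.Idx F) (hn : IsUnit n) (i : ℕ) (η : ℕ → ℤ)
    (hη : ∀ s, η s = 1 ∨ η s = -1)
    (hconj : ∀ s < D.nroots, ∀ t : F,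
      n * D.x F s t = D.x F (D.reflectRoot i s) ((η s : F) * t) * n)
    (r s : ℕ) (hr : r < D.nroots) (hs : s < D.nroots) (hstep : stepCheck D i η r s = true)
    (H : CommOK F D (D.reflectRoot i r) (D.reflectRoot i s)) : CommOK F D r s := by
  intro t u
  rw [stepCheck, Bool.and_eq_true, beq_iff_eq, List.all_eq_true] at hstep
  obtain ⟨hterms, hlt⟩ := hstep
  simp only [fCommTerms_eq, fReflectRoot_eq, stepTerms] at hterms hlt
  obtain ⟨m, hm1⟩ := hn.exists_left_inv
  have hinj : ∀ A B : Matrix D.Idx D.Idx F, n * A = n * B → A = B := by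
    intro A B h
    have := congrArg (fun M => m * M) h
    simpa only [← mul_assoc, hm1, one_mul] using this
  apply hinj
  have hw : ∀ p ∈ D.commWord F r s t u, p.1 < D.nroots := by
    intro p hp
    simp only [ChevalleyDatum.commWord, List.mem_map] at hp
    obtain ⟨c, hc, rfl⟩ := hp
    simpa using hlt c hc
  have e1 : n * (D.x F s u * D.x F r t) =
      D.x F (D.reflectRoot i s) ((η s : F) * u) * D.x F (D.reflectRoot i r) ((η r : F) * t) * n := by
    rw [← mul_assoc, hconj s hs u, mul_assoc, hconj r hr t, ← mul_assoc]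
  have e2 : n * (D.x F r t * D.x F s u * D.wordMat F (D.commWord F r s t u)) =
      D.x F (D.reflectRoot i r) ((η r : F) * t) * D.x F (D.reflectRoot i s) ((η s : F) * u) *
        D.wordMat F ((D.commWord F r s t u).map fun p => (D.reflectRoot i p.1, (η p.1 : F) * p.2)) * n := by
    rw [← mul_assoc, ← mul_assoc, hconj r hr t, mul_assoc (D.x F _ _) n, hconj s hs u, ← mul_assoc,
      mul_assoc _ n, n_mul_wordMat D n i η hconj _ hw, ← mul_assoc]
  rw [e1, e2, H ((η r : F) * t) ((η s : F) * u)]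
  congr 2
  rw [ChevalleyDatum.commWord, hterms, ChevalleyDatum.commWord, List.map_map, List.map_map]
  refine congrArg (D.wordMat F) ?_
  apply List.map_congr_left
  intro c _
  simp only [Function.comp]
  congr 1
  push_cast
  have h1 := sign_pow_aux (F := F) (η r) (hη r) c.2.2.1 t
  have h2 := sign_pow_aux' (F := F) (η s) (hη s) c.2.2.2 u
  calc ((η c.1 : ℤ) : F) * ((η r : ℤ) : F) ^ c.2.2.1 * ((η s : ℤ) : F) ^ c.2.2.2 * ((c.2.1 : ℤ) : F) *
        (-(((η r : ℤ) : F) * t)) ^ c.2.2.1 * (((η s : ℤ) : F) * u) ^ c.2.2.2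
      = ((η c.1 : ℤ) : F) * ((c.2.1 : ℤ) : F) *
          (((η r : ℤ) : F) ^ c.2.2.1 * (-(((η r : ℤ) : F) * t)) ^ c.2.2.1) *
          (((η s : ℤ) : F) ^ c.2.2.2 * (((η s : ℤ) : F) * u) ^ c.2.2.2) := by ring
    _ = ((η c.1 : ℤ) : F) * (((c.2.1 : ℤ) : F) * (-t) ^ c.2.2.1 * u ^ c.2.2.2) := by
        rw [h1, h2]; ring

/-- Certificate check for one pair: `cert r s = 8 * depth + (index of the fundamental reflection to apply)`. -/
def pairOK (η : ℕ → ℕ → ℤ) (cert : ℕ → ℕ → ℕ) (r s : ℕ) : Bool :=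
  if cert r s / 8 = 0 then
    ((List.range D.rank).any fun i => fSimple D i == r) && decide (D.nroots / 2 ≤ s)
  else
    decide (cert r s % 8 < D.rank) && decide (fReflectRoot D (cert r s % 8) r < D.nroots) &&
      decide (fReflectRoot D (cert r s % 8) s < D.nroots) &&
      (fReflectRoot D (cert r s % 8) s != fReflectRoot D (cert r s % 8) r) &&
      (fReflectRoot D (cert r s % 8) s != fNeg D (fReflectRoot D (cert r s % 8) r)) &&
      decide (cert (fReflectRoot D (cert r s % 8) r) (fReflectRoot D (cert r s % 8) s) / 8 < cert r s / 8) &&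
      stepCheck D (cert r s % 8) (η (cert r s % 8)) r s

/-- The certificate check for all partners of one root. -/
def rowOK (η : ℕ → ℕ → ℤ) (cert : ℕ → ℕ → ℕ) (r : ℕ) : Bool :=
  (List.range D.nroots).all fun s => (s == r) || (s == fNeg D r) || pairOK D η cert r s

theorem pairOK_of_rowOK (η : ℕ → ℕ → ℤ) (cert : ℕ → ℕ → ℕ) (r : ℕ) (h : rowOK D η cert r = true)
    (s : ℕ) (hs : s < D.nroots) (h1 : s ≠ r) (h2 : s ≠ D.neg r) : pairOK D η cert r s = true := by
  rw [rowOK, List.all_eq_true] at h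
  have := h s (List.mem_range.mpr hs)
  simp only [Bool.or_eq_true, beq_iff_eq, fNeg_eq] at this
  rcases this with (h | h) | h
  · exact absurd h h1
  · exact absurd h h2
  · exact h

/-- The commutator formula for all pairs, from the certified fundamental pairs by conjugation. -/
theorem commOK_of_cert (η : ℕ → ℕ → ℤ) (cert : ℕ → ℕ → ℕ)
    (hη : ∀ i s, η i s = 1 ∨ η i s = -1)
    (hunit : ∀ i < D.rank, IsUnit (D.nMat F (D.simple i) 1))
    (hconj : ∀ i < D.rank, ∀ s < D.nroots, ∀ t : F, D.nMat F (D.simple i) 1 * D.x F s t =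
      D.x F (D.reflectRoot i s) ((η i s : F) * t) * D.nMat F (D.simple i) 1)
    (hpos : ∀ s < D.nroots, D.nroots / 2 ≤ s → D.IsPosRoot s)
    (hbase : ∀ i < D.rank, ∀ s, D.IsPosRoot s → commCheck D (D.simple i) s = true)
    (hcert : ∀ r < D.nroots, ∀ s < D.nroots, s ≠ r → s ≠ D.neg r → pairOK D η cert r s = true) :
    ∀ r < D.nroots, ∀ s < D.nroots, s ≠ r → s ≠ D.neg r → CommOK F D r s := by
  have key : ∀ k : ℕ, ∀ r < D.nroots, ∀ s < D.nroots, s ≠ r → s ≠ D.neg r → cert r s / 8 = k →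
      CommOK F D r s := by
    intro k
    induction k using Nat.strong_induction_on with
    | _ k ih =>
      intro r hr s hs h1 h2 hk
      have hc := hcert r hr s hs h1 h2
      rw [pairOK] at hc
      by_cases h0 : cert r s / 8 = 0
      · rw [if_pos h0, Bool.and_eq_true, List.any_eq_true, decide_eq_true_eq] at hc
        obtain ⟨⟨i, hi, hir⟩, hsp⟩ := hc
        rw [beq_iff_eq, fSimple_eq] at hir
        rw [List.mem_range] at hi
        subst hir
        intro t u
        exact comm_of_check D _ _ (hbase i hi s (hpos s hs hsp)) t u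
      · rw [if_neg h0] at hc
        simp only [Bool.and_eq_true, decide_eq_true_eq, bne_iff_ne, ne_eq, fReflectRoot_eq, fNeg_eq] at hc
        obtain ⟨⟨⟨⟨⟨⟨hi, hr'⟩, hs'⟩, hne1⟩, hne2⟩, hlt⟩, hstep⟩ := hc
        have H := ih _ (by rw [← hk]; exact hlt) _ hr' _ hs' hne1 hne2 rfl
        exact comm_step D _ (hunit _ hi) _ (η _) (hη _) (hconj _ hi) r s hr hs hstep H
  intro r hr s hs h1 h2
  exact key _ r hr s hs h1 h2 rfl

end

end Cfsg.Agent.Helper18
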