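import Cfsg.Agent.Lib.Helper18.ChevN
import Cfsg.Agent.Lib.Helper18.ChevAdd

set_option autoImplicit false

namespace Cfsg.Agent.Helper18

open Cfsg.Lie

section

variable {F : Type*} [Field F] (D : ChevalleyDatum)

/-- Apply a matrix given by sparse columns to a sparse vector. -/
def applyCols (cols : ℕ → SV) (v : SV) : SV :=
  v.flatMap fun e => if e.1 < D.rank + D.nroots then SV.scale e.2 (cols e.1) else []

theorem applyCols_sound (a b : Fˣ) (M : Matrix D.Idx D.Idx F) (cols : ℕ → SV)
    (hM : ∀ row col, M row col = SV.coeff a b (cols (code D col)) (code D row)) (v : SV) :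
    Matrix.mulVec M (toVec D a b v) = toVec D a b (applyCols D cols v) := by
  funext row
  simp only [toVec, applyCols, SV.coeff_flatMap, Matrix.mulVec, dotProduct]
  induction v with
  | nil => simp
  | cons e v ih =>
    simp only [SV.coeff_cons, mul_add, Finset.sum_add_distrib, ih, List.map_cons, List.sum_cons]
    congr 1
    by_cases he : e.1 < D.rank + D.nroots
    · obtain ⟨col0, h0⟩ := exists_code_eq D e.1 he
      rw [sum_mul_ite_code D _ _ e.1 col0 h0, if_pos he, hM row col0, h0]
      simp only [SV.coeff_scale]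
    · rw [if_neg he]
      simp only [SV.coeff_nil]
      apply Finset.sum_eq_zero
      intro col _
      have : ¬ (e.1 = code D col) := fun h => he (h ▸ code_lt D col)
      rw [if_neg this, mul_zero]

theorem mulVec_single_eq_toVec (a b : Fˣ) (M : Matrix D.Idx D.Idx F) (cols : ℕ → SV)
    (hM : ∀ row col, M row col = SV.coeff a b (cols (code D col)) (code D row)) (col : D.Idx) :
    Matrix.mulVec M (Pi.single col 1) = toVec D a b (cols (code D col)) := by
  funext row
  rw [Matrix.mulVec_single_one]
  exact hM row col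

/-- Check of `M x_s(t) = x_{s'}(η t) M` for a matrix `M` given by sparse columns. -/
def conjCheck (cols : ℕ → SV) (s s' : ℕ) (η : ℤ) : Bool :=
  (List.range (D.rank + D.nroots)).all fun k =>
    SV.vecEq (applyCols D cols (applyX D s [(1, 1, 0)] (basisVec k))) (applyX D s' [(η, 1, 0)] (cols k))

theorem conj_of_check (M : Matrix D.Idx D.Idx F) (cols : ℕ → SV)
    (hM : ∀ (a b : Fˣ) row col, M row col = SV.coeff a b (cols (code D col)) (code D row))
    (s s' : ℕ) (η : ℤ) (h : conjCheck D cols s s' η = true) (t : F) :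
    M * D.x F s t = D.x F s' ((η : F) * t) * M := by
  by_cases ht : t = 0
  · rw [ht, mul_zero, x_zero, x_zero, mul_one, one_mul]
  obtain ⟨a, rfl⟩ : ∃ a : Fˣ, (a : F) = t := ⟨Units.mk0 t ht, rfl⟩
  apply mat_eq_of_mulVec_single
  intro col
  have e1 : LP.eval a (1 : Fˣ) [(1, 1, 0)] = (a : F) := by simp [LP.eval, LP.evalMono]
  have e2 : LP.eval a (1 : Fˣ) [(η, 1, 0)] = (η : F) * (a : F) := by simp [LP.eval, LP.evalMono]
  rw [← Matrix.mulVec_mulVec, ← Matrix.mulVec_mulVec, mulVec_single_eq_toVec D a 1 M cols (hM a 1) col,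
    ← toVec_basisVec D a 1 col, ← e2, ← e1, applyX_sound, applyX_sound,
    applyCols_sound D a 1 M cols (hM a 1)]
  apply toVec_eq_of_vecEq
  rw [conjCheck, List.all_eq_true] at h
  exact h _ (List.mem_range.mpr (code_lt D col))

/-- Decode a table packed in base 256. -/
def dec8 (P : ℕ) (s : ℕ) : ℕ := (P >>> (8 * s)) &&& 255

/-- Columns of the signed monomial matrix, from packed tables. -/
def pMonoCol (i : ℕ) (P m : ℕ) (k : ℕ) : SV :=
  if k < D.rank then [(k, LP.ofInt 1), (i, LP.ofInt (-(fCartan D k (fSimple D i))))]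
  else [(D.rank + dec8 P (k - D.rank), LP.ofInt (etaOf m (k - D.rank)))]

/-- The packed table `P` is the permutation of the roots induced by the `i`-th fundamental reflection. -/
def permCheck (i : ℕ) (P : ℕ) : Bool :=
  (List.range D.nroots).all fun s => dec8 P s == fReflectRoot D i s

theorem pMonoCol_eq (i : ℕ) (P m : ℕ) (h : permCheck D i P = true) (k : ℕ) (hk : k < D.rank + D.nroots) :
    pMonoCol D i P m k = monoCol D i (etaOf m) k := by
  rw [← fMonoCol_eq, pMonoCol, fMonoCol]
  split_ifs with h1
  · rfl
  · rw [permCheck, List.all_eq_true] at h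
    have := h (k - D.rank) (List.mem_range.mpr (by omega))
    rw [beq_iff_eq] at this
    rw [this]

theorem monoMat_pcol (a b : Fˣ) (i : ℕ) (hi : i < D.rank) (P m : ℕ) (h : permCheck D i P = true)
    (row col : D.Idx) :
    monoMat (F := F) D i (etaOf m) row col =
      SV.coeff a b (pMonoCol D i P m (code D col)) (code D row) := by
  rw [pMonoCol_eq D i P m h _ (code_lt D col)]
  exact monoMat_col D a b i hi _ row col

/-- The goal of statement S1031 for one fundamental root and one root. -/
theorem n_conj_of_checks (i : ℕ) (hi : i < D.rank) (P m : ℕ) (h1 : permCheck D i P = true)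
    (h2 : fnCheck D i (etaOf m) = true) (s : ℕ) (hs : s < D.nroots)
    (h3 : conjCheck D (pMonoCol D i P m) s (dec8 P s) (etaOf m s) = true) (t : F) :
    D.nMat F (D.simple i) 1 * D.x F s t =
      D.x F (D.reflectRoot i s) (((etaOf m s : ℤ) : F) * t) * D.nMat F (D.simple i) 1 := by
  rw [fnCheck_eq] at h2
  rw [nMat_eq_of_check D i hi _ h2]
  have hP : dec8 P s = D.reflectRoot i s := by
    rw [permCheck, List.all_eq_true] at h1
    have := h1 s (List.mem_range.mpr hs)
    rw [beq_iff_eq, fReflectRoot_eq] at this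
    exact this
  rw [← hP]
  exact conj_of_check D _ _ (fun a b row col => monoMat_pcol D a b i hi P m h1 row col) s _ _ h3 t

end

end Cfsg.Agent.Helper18
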