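import Cfsg.Agent.Lib.Helper18.HExp

set_option autoImplicit false

namespace Cfsg.Agent.Helper18

open Cfsg.Lie

section

variable {F : Type*} [Field F] (D : ChevalleyDatum)

/-- The exponent function `e` is additive along the chains of the root `r`. -/
def AddOK (e : ℕ → ℤ) (r : ℕ) : Prop :=
  e (D.negIdx.getD r 0) = - e r ∧
    ∀ en ∈ (D.chain.getD r #[]).toList, ∀ q ∈ en.2.toList.zipIdx, e q.1.1 = e en.1 + ((q.2 : ℤ) + 1) * e r

theorem chainCoeff_exp (e : ℕ → ℤ) (r s u : ℕ) (h : AddOK D e r) :
    ∀ km ∈ D.chainCoeff r s u, e u = e s + (km.1 : ℤ) * e r := by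
  intro km hkm
  simp only [ChevalleyDatum.chainCoeff, List.mem_flatMap, List.mem_map, List.mem_filter,
    decide_eq_true_eq] at hkm
  obtain ⟨en, ⟨hen, hs⟩, q, ⟨hq, hu⟩, rfl⟩ := hkm
  have := h.2 en hen q hq
  rw [hu, hs] at this
  rw [this]
  push_cast
  ring

theorem diagMat_mul_xMat (e : ℕ → ℤ) (r : Fin D.nroots) (h : AddOK D e r.val) (c : F) (hc : c ≠ 0) (u : F) :
    diagMat D e c * D.xMat F r u = D.xMat F r (c ^ (e r.val) * u) * diagMat D e c := by
  ext row col
  rw [diagMat, Matrix.diagonal_mul, Matrix.mul_diagonal]
  rcases col with i | s <;> rcases row with i' | u'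
  · simp [ChevalleyDatum.xMat]
  · simp only [ChevalleyDatum.xMat, Matrix.of_apply, Sum.elim_inr, Sum.elim_inl]
    by_cases hu : u' = r
    · subst hu
      simp only [if_true]
      ring
    · simp [hu]
  · simp only [ChevalleyDatum.xMat, Matrix.of_apply, Sum.elim_inr, Sum.elim_inl]
    by_cases hs : s = r
    · simp [hs]
    · simp only [if_neg hs]
      by_cases hn : s.val = D.negIdx.getD r.val 0
      · simp only [if_pos hn, one_mul]
        have he : e s.val = - e r.val := by rw [hn]; exact h.1
        rw [he, zpow_neg]
        field_simp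
      · simp only [if_neg hn]
        simp
  · simp only [ChevalleyDatum.xMat, Matrix.of_apply, Sum.elim_inr]
    by_cases hs : s = r
    · subst hs
      simp only [if_true]
      by_cases hu : u' = s
      · subst hu; simp [mul_comm]
      · simp [hu]
    · simp only [if_neg hs]
      by_cases hn : s.val = D.negIdx.getD r.val 0
      · simp only [if_pos hn]
        have he : e s.val = - e r.val := by rw [hn]; exact h.1
        by_cases hu : u' = s
        · subst hu; simp [mul_comm]
        · simp only [if_neg hu]
          by_cases hur : u' = r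
          · subst hur
            simp only [if_true]
            rw [he, zpow_neg]
            field_simp
          · simp [hur]
      · simp only [if_neg hn]
        rw [mul_add, add_mul]
        congr 1
        · by_cases hu : u' = s
          · subst hu; simp [mul_comm]
          · simp [hu]
        · rw [← List.sum_map_mul_left, ← List.sum_map_mul_right]
          congr 1
          apply List.map_congr_left
          intro km hkm
          have hk := chainCoeff_exp D e r.val s.val u'.val h km hkm
          have h1 : c ^ e u'.val = c ^ e s.val * (c ^ e r.val) ^ km.1 := by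
            rw [hk, zpow_add₀ hc, zpow_mul', zpow_natCast]
          rw [h1, mul_pow]
          ring

theorem diagMat_mul_x (e : ℕ → ℤ) (r : ℕ) (h : AddOK D e r) (c : F) (hc : c ≠ 0) (u : F) :
    diagMat D e c * D.x F r u = D.x F r (c ^ (e r) * u) * diagMat D e c := by
  unfold ChevalleyDatum.x
  split_ifs with hr
  · exact diagMat_mul_xMat D e ⟨r, hr⟩ h c hc u
  · rw [mul_one, one_mul]


/-! ### Kernel checks for `AddOK` -/

/-- Walk a chain entry, checking additivity of `e` along it. -/
def chainOK (e : ℕ → ℤ) (es er : ℤ) : List (ℕ × ℤ) → ℤ → Bool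
  | [], _ => true
  | q :: l, k => decide (e q.1 = es + k * er) && chainOK e es er l (k + 1)

theorem chainOK_sound (e : ℕ → ℤ) (es er : ℤ) (l : List (ℕ × ℤ)) (n : ℕ)
    (h : chainOK e es er l ((n : ℤ) + 1) = true) :
    ∀ q ∈ l.zipIdx n, e q.1.1 = es + ((q.2 : ℤ) + 1) * er := by
  induction l generalizing n with
  | nil => simp
  | cons a l ih =>
    intro q hq
    rw [List.zipIdx_cons, List.mem_cons] at hq
    simp only [chainOK, Bool.and_eq_true, decide_eq_true_eq] at h
    rcases hq with rfl | hq
    · exact h.1
    · apply ih (n + 1) _ q hq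
      have : ((n + 1 : ℕ) : ℤ) + 1 = (n : ℤ) + 1 + 1 := by push_cast; ring
      rw [this]; exact h.2

/-- Kernel check of `AddOK`. -/
def addOKCheck (e : ℕ → ℤ) (r : ℕ) : Bool :=
  decide (e (fNeg D r) = - e r) &&
    (rowOf D r).all fun en => chainOK e (e en.1) (e r) en.2.toList 1

theorem addOK_of_check (e : ℕ → ℤ) (r : ℕ) (h : addOKCheck D e r = true) : AddOK D e r := by
  simp only [addOKCheck, Bool.and_eq_true, decide_eq_true_eq, List.all_eq_true] at h
  refine ⟨?_, ?_⟩
  · rw [← h.1, fNeg_eq]; rfl
  · intro en hen q hq
    have hen' : en ∈ rowOf D r := by rw [rowOf, ← array_getD_eq]; exact hen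
    have := h.2 en hen'
    exact chainOK_sound e (e en.1) (e r) en.2.toList 0 (by simpa using this) q hq

/-- Exponent function from a packed table, cut off outside the roots. -/
def eIn (E : ℕ) (s : ℕ) : ℤ := if s < D.nroots then decExp E s else 0

/-- Walk a list of integers comparing with `e`. -/
def rowMatch (e : ℕ → ℤ) : List ℤ → ℕ → Bool
  | [], _ => true
  | a :: l, k => decide (e k = a) && rowMatch e l (k + 1)

theorem rowMatch_sound (e : ℕ → ℤ) (l : List ℤ) (k : ℕ) (h : rowMatch e l k = true) (s : ℕ) (hs : s < l.length) :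
    e (k + s) = lget l s 0 := by
  induction l generalizing k s with
  | nil => simp at hs
  | cons a l ih =>
    simp only [rowMatch, Bool.and_eq_true, decide_eq_true_eq] at h
    cases s with
    | zero => simpa [lget] using h.1
    | succ s =>
      have := ih (k + 1) h.2 s (by simpa using hs)
      rw [lget, ← this]
      congr 1; omega

/-- The packed table `E` gives the Cartan integers of the `i`-th fundamental root. -/
def cartanMatch (i : ℕ) (E : ℕ) : Bool :=
  decide ((lget D.cartanSR.toList i #[]).toList.length = D.nroots) &&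
    rowMatch (decExp E) (lget D.cartanSR.toList i #[]).toList 0

theorem eIn_eq_cartan (i : ℕ) (E : ℕ) (h : cartanMatch D i E = true) :
    eIn D E = fun s => D.cartan i s := by
  simp only [cartanMatch, Bool.and_eq_true, decide_eq_true_eq] at h
  funext s
  rw [← fCartan_eq, fCartan, eIn]
  split_ifs with hs
  · have := rowMatch_sound (decExp E) _ 0 h.2 s (by rw [h.1]; exact hs)
    rwa [Nat.zero_add] at this
  · rw [lget_eq_getD, List.getD_eq_default]
    rw [h.1]; omega

/-- All the checks for conjugating root elements by `h_{p_i}(c)`. -/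
def simpleConjCheck (i : ℕ) (E : ℕ) : Bool :=
  cartanMatch D i E && (List.range D.nroots).all fun s => addOKCheck D (eIn D E) s

theorem addOK_cartan (i : ℕ) (E : ℕ) (h : simpleConjCheck D i E = true) (s : ℕ) (hs : s < D.nroots) :
    AddOK D (fun s => D.cartan i s) s := by
  simp only [simpleConjCheck, Bool.and_eq_true, List.all_eq_true, List.mem_range] at h
  rw [← eIn_eq_cartan D i E h.1]
  exact addOK_of_check D _ s (h.2 s hs)

theorem hMat_simple_mul_x (i : ℕ) (E : ℕ) (h1 : hSimpleCheck D i = true) (h2 : simpleConjCheck D i E = true)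
    (s : ℕ) (hs : s < D.nroots) (c : F) (hc : c ≠ 0) (t : F) :
    D.hMat F (D.simple i) c * D.x F s t = D.x F s (c ^ (D.cartan i s) * t) * D.hMat F (D.simple i) c := by
  rw [hMat_simple_of_check D i h1 c hc]
  exact diagMat_mul_x D (fun s => D.cartan i s) s (addOK_cartan D i E h2 s hs) c hc t

end

end Cfsg.Agent.Helper18
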