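import Cfsg.Agent.Lib.Helper18.ChevSubfield

set_option autoImplicit false

universe u

namespace Cfsg.Agent.Helper18

open Cfsg.Lie Cfsg.Agent.S1043 Cfsg.Agent.Helper17

/-- A model in `Type` of the fixed field of an automorphism of order `r` of a finite field. -/
theorem exists_subfield_model {F : Type u} [Field F] [Fintype F] (σ : F ≃+* F) (r : ℕ) (hσ : orderOf σ = r) :
    ∃ (F₀ : Type) (_ : Field F₀) (_ : Fintype F₀) (ι : F₀ →+* F),
      Fintype.card F = Fintype.card F₀ ^ r ∧ ∀ t : F, t ∈ ι.range ↔ σ t = t := by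
  classical
  let G : Subgroup (F ≃+* F) := Subgroup.zpowers σ
  let K : Subfield F := FixedPoints.subfield G F
  have hmemK : ∀ t : F, t ∈ K ↔ σ t = t := by
    intro t
    constructor
    · intro h
      exact h ⟨σ, Subgroup.mem_zpowers σ⟩
    · intro h g
      obtain ⟨g, k, rfl⟩ := g
      change (σ ^ k) t = t
      have hinv : σ.symm t = t := by
        have := congrArg σ.symm h
        rw [RingEquiv.symm_apply_apply] at this
        exact this.symm
      induction k using Int.induction_on with
      | zero => rfl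
      | succ n ih =>
        rw [zpow_add, zpow_one]
        change (σ ^ (n : ℤ)) (σ t) = t
        rw [h]
        exact ih
      | pred n ih =>
        rw [zpow_sub, zpow_one]
        change (σ ^ (-(n : ℤ))) (σ⁻¹ t) = t
        have : σ⁻¹ t = t := hinv
        rw [this]
        exact ih
  have : Finite (F ≃+* F) :=
    Finite.of_injective (fun e : F ≃+* F => (e : F → F)) DFunLike.coe_injective
  have : Fintype G := Fintype.ofFinite G
  have hrank : Module.finrank K F = r := by
    rw [FixedPoints.finrank_eq_card G F, ← hσ, Fintype.card_eq_nat_card, Nat.card_zpowers]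
  have : Fintype K := Fintype.ofFinite K
  have hcard : Fintype.card F = Fintype.card K ^ r := by
    rw [← hrank]
    exact Module.card_eq_pow_finrank
  refine ⟨Shrink.{0} K, inferInstance, Fintype.ofEquiv K (equivShrink.{0, u} K),
    (K.subtype).comp (Shrink.ringEquiv.{0, u} K).toRingHom, ?_, ?_⟩
  · rw [hcard]
    congr 1
    exact Fintype.card_congr (equivShrink.{0, u} K)
  · intro t
    rw [← hmemK]
    constructor
    · rintro ⟨x, rfl⟩
      exact (Shrink.ringEquiv.{0, u} K x).2
    · intro h
      exact ⟨(Shrink.ringEquiv.{0, u} K).symm ⟨t, h⟩, by simp⟩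

theorem xMat_map₂ {F₀ F : Type*} [Field F₀] [Field F] (D : ChevalleyDatum) (f : F₀ →+* F)
    (r : Fin D.nroots) (t : F₀) : (D.xMat F₀ r t).map f = D.xMat F r (f t) := by
  ext row col
  rcases col with i | s <;> rcases row with i' | u
  · simp only [ChevalleyDatum.xMat, Matrix.map_apply, Matrix.of_apply]
    split_ifs <;> simp
  · simp only [ChevalleyDatum.xMat, Matrix.map_apply, Matrix.of_apply]
    split_ifs <;> simp
  · simp only [ChevalleyDatum.xMat, Matrix.map_apply, Matrix.of_apply]
    split_ifs <;> simp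
  · simp only [ChevalleyDatum.xMat, Matrix.map_apply, Matrix.of_apply]
    split_ifs <;> simp [map_list_sum, List.map_map, Function.comp_def]

theorem x_map₂ {F₀ F : Type*} [Field F₀] [Field F] (D : ChevalleyDatum) (f : F₀ →+* F) (r : ℕ) (t : F₀) :
    (D.x F₀ r t).map f = D.x F r (f t) := by
  unfold ChevalleyDatum.x
  split_ifs with h
  · exact xMat_map₂ D f ⟨r, h⟩ t
  · simp

section

variable {F₀ F : Type*} [Field F₀] [Field F] (D : ChevalleyDatum) (ι : F₀ →+* F)

/-- Base change of invertible matrices along a field embedding. -/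
noncomputable def glMap : GL D.Idx F₀ →* GL D.Idx F := Units.map (RingHom.mapMatrix ι).toMonoidHom

theorem glMap_val (g : GL D.Idx F₀) :
    ((glMap D ι g : GL D.Idx F) : Matrix D.Idx D.Idx F) = (g : Matrix D.Idx D.Idx F₀).map ι := rfl

theorem glMap_injective : Function.Injective (glMap D ι) := by
  intro a b h
  apply Units.ext
  ext i j
  have h1 := congrArg Units.val h
  rw [glMap_val, glMap_val] at h1
  have h2 := congrFun (congrFun h1 i) j
  rw [Matrix.map_apply, Matrix.map_apply] at h2
  exact ι.injective h2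

/-- The image of the group over `F₀` is the subgroup generated by the root elements with parameters in the image of `F₀`. -/
theorem map_group_glMap (hD : Good D) (σ : F →+* F) (hι : ∀ t : F, t ∈ ι.range ↔ σ t = t) :
    (D.group F₀).map (glMap D ι) = Lf D σ := by
  apply le_antisymm
  · rw [Subgroup.map_le_iff_le_comap]
    conv_lhs => rw [ChevalleyDatum.group]
    rw [Subgroup.closure_le]
    rintro g ⟨r, t, hg⟩
    rw [SetLike.mem_coe, Subgroup.mem_comap]
    apply Subgroup.subset_closure
    refine ⟨r.val, ι t, (hι _).mp ⟨t, rfl⟩, ?_⟩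
    rw [glMap_val, hg, xMat_map₂, ChevalleyDatum.x, dif_pos r.2]
  · rw [Lf, Subgroup.closure_le]
    rintro g ⟨s, t, ht, hg⟩
    obtain ⟨t₀, rfl⟩ := (hι t).mpr ht
    rw [SetLike.mem_coe, Subgroup.mem_map]
    refine ⟨xU D hD s t₀, xU_mem_group D hD s t₀, ?_⟩
    apply Units.ext
    rw [glMap_val, xU_val, hg]
    exact x_map₂ D ι s t₀

end

section

variable {F : Type*} [Field F] (D : ChevalleyDatum) (hD : Good D)

/-- A field automorphism of the group is the entrywise application of the field automorphism. -/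
theorem fieldAut_eq_sigGL (φ : ↥(D.group F) ≃* ↥(D.group F)) (σ : F ≃+* F)
    (h : ∀ (g : ↥(D.group F)) (r : ℕ) (t : F), r < D.nroots →
      ((g : GL D.Idx F) : Matrix D.Idx D.Idx F) = D.x F r t →
        ((φ g : GL D.Idx F) : Matrix D.Idx D.Idx F) = D.x F r (σ t))
    (g : ↥(D.group F)) : ((φ g : ↥(D.group F)) : GL D.Idx F) = sigGL D (σ : F →+* F) g := by
  obtain ⟨g, hg⟩ := g
  have key : ∀ (x : GL D.Idx F) (hx : x ∈ D.group F),
      ((φ ⟨x, hx⟩ : ↥(D.group F)) : GL D.Idx F) = sigGL D (σ : F →+* F) x := by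
    intro x hx
    refine Subgroup.closure_induction (p := fun x hx =>
      ((φ ⟨x, hx⟩ : ↥(D.group F)) : GL D.Idx F) = sigGL D (σ : F →+* F) x) ?_ ?_ ?_ ?_ hx
    · intro x hx'
      obtain ⟨r, t, hxr⟩ := hx'
      apply Units.ext
      have e1 : D.x F r.val t = D.xMat F r t := by rw [ChevalleyDatum.x, dif_pos r.2]
      have h' := h ⟨x, Subgroup.subset_closure ⟨r, t, hxr⟩⟩ r.val t r.2 (hxr.trans e1.symm)
      rw [sigGL_val]
      refine h'.trans ?_
      rw [hxr, ChevalleyDatum.x, dif_pos r.2]
      exact (Cfsg.Agent.S1080.xMat_map D (σ : F →+* F) r t).symm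
    · have : (⟨1, Subgroup.one_mem _⟩ : ↥(D.group F)) = 1 := rfl
      change ((φ ⟨1, Subgroup.one_mem _⟩ : ↥(D.group F)) : GL D.Idx F) = _
      rw [this, map_one, map_one]
      rfl
    · intro x y hx hy ihx ihy
      have : (⟨x * y, Subgroup.mul_mem _ hx hy⟩ : ↥(D.group F)) = ⟨x, hx⟩ * ⟨y, hy⟩ := rfl
      change ((φ ⟨x * y, Subgroup.mul_mem _ hx hy⟩ : ↥(D.group F)) : GL D.Idx F) = _
      rw [this, map_mul, Subgroup.coe_mul, ihx, ihy, map_mul]
    · intro x hx ihx
      have : (⟨x⁻¹, Subgroup.inv_mem _ hx⟩ : ↥(D.group F)) = (⟨x, hx⟩ : ↥(D.group F))⁻¹ := rfl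
      change ((φ ⟨x⁻¹, Subgroup.inv_mem _ hx⟩ : ↥(D.group F)) : GL D.Idx F) = _
      rw [this, map_inv, Subgroup.coe_inv, ihx, map_inv]
  exact key g hg

include hD

/-- The order of a field automorphism of the group is the order of the field automorphism. -/
theorem fieldAut_order (hB : BNFacts D) (hn : 0 < D.nroots)
    (φ : ↥(D.group F) ≃* ↥(D.group F)) (σ : F ≃+* F)
    (h : ∀ (g : ↥(D.group F)) (r : ℕ) (t : F), r < D.nroots →
      ((g : GL D.Idx F) : Matrix D.Idx D.Idx F) = D.x F r t →
        ((φ g : GL D.Idx F) : Matrix D.Idx D.Idx F) = D.x F r (σ t))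
    (r : ℕ) (hr : r.Prime) (ho : orderOf φ = r) : orderOf σ = r := by
  -- `φ ^ k` acts on `x_0(t)` through `σ ^ k`
  have hpow : ∀ (k : ℕ) (t : F),
      (((φ ^ k) ⟨xU D hD 0 t, xU_mem_group D hD 0 t⟩ : ↥(D.group F)) : GL D.Idx F) =
        xU D hD 0 ((σ ^ k) t) := by
    intro k
    induction k with
    | zero => intro t; rfl
    | succ k ih =>
      intro t
      rw [pow_succ', pow_succ']
      change ((φ ((φ ^ k) ⟨xU D hD 0 t, xU_mem_group D hD 0 t⟩) : ↥(D.group F)) : GL D.Idx F) =
        xU D hD 0 (σ ((σ ^ k) t))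
      apply Units.ext
      rw [h _ 0 ((σ ^ k) t) hn (by rw [ih t]; rfl)]
      rfl
  have h1 : σ ^ r = 1 := by
    apply RingEquiv.ext
    intro t
    have e := hpow r t
    rw [← ho, pow_orderOf_eq_one] at e
    have e' : xU D hD 0 t = xU D hD 0 ((σ ^ orderOf φ) t) := e
    have := xU_inj D hD hB 0 hn _ _ e'
    rw [ho] at this
    exact this.symm
  have h2 : σ ≠ 1 := by
    rintro rfl
    have : φ = 1 := by
      apply MulEquiv.ext
      intro g
      apply Subtype.ext
      rw [fieldAut_eq_sigGL D φ 1 h g]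
      apply Units.ext
      rw [sigGL_val]
      ext i j
      rfl
    rw [this, orderOf_one] at ho
    exact hr.one_lt.ne' ho.symm
  have h3 := orderOf_dvd_of_pow_eq_one h1
  rcases (Nat.dvd_prime hr).mp h3 with h4 | h4
  · exact absurd (orderOf_eq_one_iff.mp h4) h2
  · exact h4

end

section

variable {F : Type*} [Field F] (D : ChevalleyDatum) (hD : Good D) (f : F →+* F)

theorem list_prod_zpow (l : List ℕ) (g : ℕ → F) (n : ℤ) :
    ((l.map g).prod) ^ n = (l.map fun i => g i ^ n).prod := by
  induction l with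
  | nil => simp
  | cons a l ih => rw [List.map_cons, List.prod_cons, mul_zpow, ih, List.map_cons, List.prod_cons]

theorem list_prod_comm (l m : List ℕ) (g : ℕ → ℕ → F) :
    (l.map fun j => (m.map fun i => g i j).prod).prod =
      (m.map fun i => (l.map fun j => g i j).prod).prod := by
  induction l with
  | nil => simp
  | cons a l ih =>
    simp only [List.map_cons, List.prod_cons]
    rw [ih, ← List.prod_map_mul]

/-- Kernel check: `B` is a right inverse of the Cartan matrix of the fundamental roots. -/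
def cartanInvCheck (B : List (List ℤ)) : Bool :=
  (List.range D.rank).all fun i => (List.range D.rank).all fun k =>
    decide (((List.range D.rank).map fun j => D.cartan i (D.simple j) * lget (lget B j []) k 0).sum =
      if i = k then 1 else 0)

theorem tor_param_eq (B : List (List ℤ)) (hB : cartanInvCheck D B = true) (c : ℕ → F) (hc : ∀ i, c i ≠ 0)
    (k : ℕ) (hk : k < D.rank) :
    c k = ((List.range D.rank).map fun j => (chi D c (D.simple j)) ^ lget (lget B j []) k 0).prod := by
  have hB' : ∀ i < D.rank, ((List.range D.rank).map fun j =>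
      D.cartan i (D.simple j) * lget (lget B j []) k 0).sum = if i = k then 1 else 0 := by
    intro i hi
    simp only [cartanInvCheck, List.all_eq_true, List.mem_range, decide_eq_true_eq] at hB
    exact hB i hi k hk
  have h1 : ∀ j, (chi D c (D.simple j)) ^ lget (lget B j []) k 0 =
      ((List.range D.rank).map fun i => c i ^ (D.cartan i (D.simple j) * lget (lget B j []) k 0)).prod := by
    intro j
    rw [chi, list_prod_zpow]
    congr 1
    apply List.map_congr_left
    intro i _
    rw [zpow_mul]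
  simp only [h1]
  rw [list_prod_comm]
  have h2 : ∀ i ∈ List.range D.rank, ((List.range D.rank).map fun j =>
      c i ^ (D.cartan i (D.simple j) * lget (lget B j []) k 0)).prod = c i ^ (if i = k then (1:ℤ) else 0) := by
    intro i hi
    rw [← zpow_list_sum (c i) (hc i), hB' i (List.mem_range.mp hi)]
  rw [List.map_congr_left h2]
  rw [prod_range_single D.rank k _ hk]
  · rw [if_pos rfl, zpow_one]
  · intro i _ hik
    rw [if_neg hik, zpow_zero]

include hD

/-- A `σ`-fixed element of `H` lies in `L` when the Cartan matrix is invertible over the integers. -/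
theorem fixed_diag_mem_Lf {tbl : List ℕ} (hT : TorusData D tbl) (B : List (List ℤ))
    (hBc : cartanInvCheck D B = true) (hsimple : ∀ j < D.rank, D.simple j < D.nroots)
    (h : GL D.Idx F) (hh : h ∈ D.diagonalSubgroup F) (hfix : sigGL D f h = h) : h ∈ Lf D f := by
  obtain ⟨c, hc, hhc⟩ := mem_diag_eq_torMat D hT h hh
  have hchi : ∀ s (hs : s < D.nroots), f (chi D c s) = chi D c s := by
    intro s hs
    have h1 := congrArg Units.val hfix
    rw [sigGL_val, hhc] at h1
    have h2 := congrFun (congrFun h1 (Sum.inr ⟨s, hs⟩)) (Sum.inr ⟨s, hs⟩)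
    rw [Matrix.map_apply, torMat, Matrix.diagonal_apply_eq] at h2
    exact h2
  have hcfix : ∀ k < D.rank, f (c k) = c k := by
    intro k hk
    rw [tor_param_eq D B hBc c hc k hk, map_list_prod, List.map_map]
    congr 1
    apply List.map_congr_left
    intro j hj
    rw [Function.comp_apply, map_zpow₀, hchi _ (hsimple j (List.mem_range.mp hj))]
  have e : h = wordGL D hD ((List.range D.rank).flatMap fun i => D.hWord (D.simple i) (c i)) := by
    apply Units.ext
    rw [wordGL_val, torMat_eq_wordMat D hT.simp c (fun i _ => hc i)]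
    exact hhc
  rw [e]
  apply wordGL_mem
  intro p hp
  obtain ⟨i, hi, hp⟩ := List.mem_flatMap.mp hp
  rw [List.mem_range] at hi
  apply xU_mem_Lf
  have hci := hcfix i hi
  simp only [ChevalleyDatum.hWord, ChevalleyDatum.nWord, List.cons_append, List.nil_append, List.mem_cons,
    List.not_mem_nil, or_false] at hp
  rcases hp with rfl | rfl | rfl | rfl | rfl | rfl
  · exact hci
  · show f (-(c i)⁻¹) = -(c i)⁻¹
    rw [map_neg, map_inv₀, hci]
  · exact hci
  · show f (-1) = -1
    rw [map_neg, map_one]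
  · show f (-(-1 : F)⁻¹) = -(-1 : F)⁻¹
    rw [map_neg, map_inv₀, map_neg, map_one]
  · show f (-1) = -1
    rw [map_neg, map_one]

theorem Lf_le_group : Lf D f ≤ D.group F := by
  rw [Lf, Subgroup.closure_le]
  rintro x ⟨s, t, _, hx⟩
  have hxe : x = xU D hD s t := Units.ext hx
  rw [hxe]
  exact xU_mem_group D hD s t

theorem sigGL_fix_of_mem_Lf (g : GL D.Idx F) (hg : g ∈ Lf D f) : sigGL D f g = g := by
  have key : Lf D f ≤ (sigGL D f).eqLocus (MonoidHom.id _) := by
    rw [Lf, Subgroup.closure_le]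
    rintro x ⟨s, t, ht, hx⟩
    have hxe : x = xU D hD s t := Units.ext hx
    show sigGL D f x = x
    rw [hxe, sigGL_xU, ht]
  exact key hg

/-- The `σ`-fixed points of the group are exactly `L`. -/
theorem fixed_iff_mem_Lf (hB : BNFacts D) (hU : UiFacts D) {tbl : List ℕ} (hT : TorusData D tbl)
    (hTri : TriOK D) (hNeg : NegTriOK D)
    (hconj : ∀ i < D.rank, ∀ s < D.nroots, ConjGoal' F D i s)
    (hS : ∀ i < D.rank, ConjGoalS' F D i)
    (hNH : D.monomialSubgroup F ≤ Subgroup.normalizer (D.diagonalSubgroup F : Set (GL D.Idx F)))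
    {f' : ℕ → ℤ} (hUP : UProdData D f')
    (hcomm : ∀ r < D.nroots, ∀ s < D.nroots, s ≠ r → s ≠ D.neg r → CommOK F D r s)
    (B : List (List ℤ)) (hBc : cartanInvCheck D B = true)
    (g : GL D.Idx F) : (g ∈ D.group F ∧ sigGL D f g = g) ↔ g ∈ Lf D f := by
  constructor
  · rintro ⟨hg, hfix⟩
    obtain ⟨y, hy, h, hh, hhfix, rfl⟩ := fixed_decomp D hD f hB hU hT hTri hNeg hconj hS hNH hUP hcomm
      g hg hfix
    exact mul_mem hy (fixed_diag_mem_Lf D hD f hT B hBc hB.hsimp h hh hhfix)
  · intro hg
    exact ⟨Lf_le_group D hD f hg, sigGL_fix_of_mem_Lf D hD f g hg⟩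

end

section

variable {F : Type*} [Field F] (D : ChevalleyDatum) (hD : Good D)

include hD in
/-- The fixed points of a field automorphism form a copy of the group over the fixed field. -/
theorem fieldAut_fixed_equiv (hB : BNFacts D) (hU : UiFacts D) {tbl : List ℕ} (hT : TorusData D tbl)
    (hTri : TriOK D) (hNeg : NegTriOK D)
    (hconj : ∀ i < D.rank, ∀ s < D.nroots, ConjGoal' F D i s)
    (hS : ∀ i < D.rank, ConjGoalS' F D i)
    (hNH : D.monomialSubgroup F ≤ Subgroup.normalizer (D.diagonalSubgroup F : Set (GL D.Idx F)))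
    {f' : ℕ → ℤ} (hUP : UProdData D f')
    (hcomm : ∀ r < D.nroots, ∀ s < D.nroots, s ≠ r → s ≠ D.neg r → CommOK F D r s)
    (B : List (List ℤ)) (hBc : cartanInvCheck D B = true)
    (φ : ↥(D.group F) ≃* ↥(D.group F)) (σ : F ≃+* F)
    (h : ∀ (g : ↥(D.group F)) (r : ℕ) (t : F), r < D.nroots →
      ((g : GL D.Idx F) : Matrix D.Idx D.Idx F) = D.x F r t →
        ((φ g : GL D.Idx F) : Matrix D.Idx D.Idx F) = D.x F r (σ t))
    {F₀ : Type*} [Field F₀] (ι : F₀ →+* F) (hι : ∀ t : F, t ∈ ι.range ↔ σ t = t) :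
    Nonempty (↥((MulEquiv.toMonoidHom φ).eqLocus (MonoidHom.id ↥(D.group F))) ≃* ↥(D.group F₀)) := by
  have hE : ((MulEquiv.toMonoidHom φ).eqLocus (MonoidHom.id ↥(D.group F))).map (D.group F).subtype =
      Lf D (σ : F →+* F) := by
    ext x
    rw [← fixed_iff_mem_Lf D hD (σ : F →+* F) hB hU hT hTri hNeg hconj hS hNH hUP hcomm B hBc x]
    constructor
    · rintro ⟨g, hg, rfl⟩
      refine ⟨g.2, ?_⟩
      have h1 : φ g = g := hg
      have h2 := fieldAut_eq_sigGL D φ σ h g
      rw [h1] at h2
      exact h2.symm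
    · rintro ⟨hx, hfix⟩
      refine ⟨⟨x, hx⟩, ?_, rfl⟩
      show φ ⟨x, hx⟩ = ⟨x, hx⟩
      apply Subtype.ext
      rw [fieldAut_eq_sigGL D φ σ h ⟨x, hx⟩]
      exact hfix
  have e1 := Subgroup.equivMapOfInjective
    ((MulEquiv.toMonoidHom φ).eqLocus (MonoidHom.id ↥(D.group F))) (D.group F).subtype
    (Subgroup.subtype_injective _)
  have e2 := MulEquiv.subgroupCongr hE
  have e3 := MulEquiv.subgroupCongr (map_group_glMap D ι hD (σ : F →+* F) hι).symm
  have e4 := Subgroup.equivMapOfInjective (D.group F₀) (glMap D ι) (glMap_injective D ι)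
  exact ⟨((e1.trans e2).trans e3).trans e4.symm⟩

end

end Cfsg.Agent.Helper18
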