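import Cfsg.Agent.Lib.Helper18.ChevConj
import Cfsg.Agent.S1043

set_option autoImplicit false

namespace Cfsg.Agent.Helper18

open Cfsg.Lie Cfsg.Agent.S1043

section

variable {F : Type*} [Field F] (D : ChevalleyDatum)

/-- A signed permutation matrix, given on the codes of the basis vectors. -/
def spMat (π : ℕ → ℕ) (ε : ℕ → ℤ) : Matrix D.Idx D.Idx F :=
  Matrix.of fun row col => if π (code D col) = code D row then ((ε (code D col) : ℤ) : F) else 0

/-- The columns of a signed permutation matrix. -/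
def spCol (π : ℕ → ℕ) (ε : ℕ → ℤ) (k : ℕ) : SV := [(π k, LP.ofInt (ε k))]

theorem spMat_col (a b : Fˣ) (π : ℕ → ℕ) (ε : ℕ → ℤ) (row col : D.Idx) :
    spMat (F := F) D π ε row col = SV.coeff a b (spCol π ε (code D col)) (code D row) := by
  simp [spMat, spCol, SV.coeff_cons, LP.eval_ofInt]

theorem spMat_mul_spMat (π π' : ℕ → ℕ) (ε ε' : ℕ → ℤ)
    (h : ∀ k < D.rank + D.nroots, π' k < D.rank + D.nroots ∧ π (π' k) = k ∧ ε (π' k) * ε' k = 1)
    (hinj : ∀ k < D.rank + D.nroots, ∀ k' < D.rank + D.nroots, π k = π k' → k = k') :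
    spMat (F := F) D π ε * spMat D π' ε' = 1 := by
  ext row col
  rw [Matrix.mul_apply]
  obtain ⟨h1, h2, h3⟩ := h (code D col) (code_lt D col)
  obtain ⟨mid₀, hmid⟩ := exists_code_eq D (π' (code D col)) h1
  rw [Finset.sum_eq_single mid₀]
  · simp only [spMat, Matrix.of_apply, hmid, if_true, h2]
    by_cases hrc : row = col
    · subst hrc
      rw [if_pos rfl, Matrix.one_apply_eq, ← Int.cast_mul, h3, Int.cast_one]
    · have : ¬ (code D col = code D row) := fun e => hrc (code_injective D e).symm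
      rw [if_neg this, zero_mul, Matrix.one_apply_ne hrc]
  · intro mid _ hne
    have : ¬ (π' (code D col) = code D mid) := fun e => hne (code_injective D (hmid.trans e)).symm
    simp only [spMat, Matrix.of_apply, if_neg this, mul_zero]
  · intro hmem
    exact absurd (Finset.mem_univ _) hmem

/-- The table facts about a pair of mutually inverse signed permutations. -/
def spInvCheck (P S P' S' : ℕ) : Bool :=
  (List.range (D.rank + D.nroots)).all fun k =>
    decide (dec8 P' k < D.rank + D.nroots) && (dec8 P (dec8 P' k) == k) &&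
      (etaOf S (dec8 P' k) * etaOf S' k == 1) &&
    decide (dec8 P k < D.rank + D.nroots) && (dec8 P' (dec8 P k) == k) &&
      (etaOf S' (dec8 P k) * etaOf S k == 1)

theorem spInv_facts (P S P' S' : ℕ) (h : spInvCheck D P S P' S' = true) :
    (∀ k < D.rank + D.nroots, dec8 P' k < D.rank + D.nroots ∧ dec8 P (dec8 P' k) = k ∧
      etaOf S (dec8 P' k) * etaOf S' k = 1) ∧
    (∀ k < D.rank + D.nroots, dec8 P k < D.rank + D.nroots ∧ dec8 P' (dec8 P k) = k ∧
      etaOf S' (dec8 P k) * etaOf S k = 1) := by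
  simp only [spInvCheck, Bool.and_eq_true, List.all_eq_true, List.mem_range, decide_eq_true_eq,
    beq_iff_eq] at h
  refine ⟨fun k hk => ?_, fun k hk => ?_⟩
  · obtain ⟨⟨⟨⟨⟨h1, h2⟩, h3⟩, _⟩, _⟩, _⟩ := h k hk
    exact ⟨h1, h2, h3⟩
  · obtain ⟨⟨⟨⟨⟨_, _⟩, _⟩, h4⟩, h5⟩, h6⟩ := h k hk
    exact ⟨h4, h5, h6⟩

/-- The element of the general linear group given by a checked signed permutation. -/
noncomputable def spGL (P S P' S' : ℕ) (h : spInvCheck D P S P' S' = true) : GL D.Idx F :=
  ⟨spMat D (dec8 P) (etaOf S), spMat D (dec8 P') (etaOf S'),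
    spMat_mul_spMat D _ _ _ _ (spInv_facts D P S P' S' h).1 (fun k hk k' hk' e => by
      have h1 := ((spInv_facts D P S P' S' h).2 k hk).2.1
      have h2 := ((spInv_facts D P S P' S' h).2 k' hk').2.1
      rw [← h1, ← h2, e]),
    spMat_mul_spMat D _ _ _ _ (spInv_facts D P S P' S' h).2 (fun k hk k' hk' e => by
      have h1 := ((spInv_facts D P S P' S' h).1 k hk).2.1
      have h2 := ((spInv_facts D P S P' S' h).1 k' hk').2.1
      rw [← h1, ← h2, e])⟩

theorem spGL_val (P S P' S' : ℕ) (h : spInvCheck D P S P' S' = true) :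
    ((spGL (F := F) D P S P' S' h : GL D.Idx F) : Matrix D.Idx D.Idx F) =
      spMat D (dec8 P) (etaOf S) := rfl

variable (hD : Good D)

include hD in
/-- Conjugation by an element permuting the root elements maps the Chevalley group onto itself. -/
theorem map_conj_group (Mg : GL D.Idx F) (R R' : ℕ → ℕ) (η : ℕ → ℤ)
    (hη : ∀ s, η s = 1 ∨ η s = -1)
    (hconj : ∀ s < D.nroots, ∀ t : F, (Mg : Matrix D.Idx D.Idx F) * D.x F s t =
      D.x F (R s) ((η s : F) * t) * (Mg : Matrix D.Idx D.Idx F))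
    (hR' : ∀ s < D.nroots, R' s < D.nroots ∧ R (R' s) = s) :
    (D.group F).map (MulAut.conj Mg).toMonoidHom = D.group F := by
  have hc : ∀ s < D.nroots, ∀ t : F, Mg * xU D hD s t * Mg⁻¹ = xU D hD (R s) ((η s : F) * t) := by
    intro s hs t
    apply Units.ext
    rw [Units.val_mul, Units.val_mul, xU_val, hconj s hs t, mul_assoc, Units.mul_inv, mul_one, xU_val]
  apply le_antisymm
  · rw [Subgroup.map_le_iff_le_comap]
    conv_lhs => rw [ChevalleyDatum.group]
    rw [Subgroup.closure_le]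
    rintro g ⟨r, t, hg⟩
    rw [SetLike.mem_coe, Subgroup.mem_comap]
    change Mg * g * Mg⁻¹ ∈ D.group F
    have eg : g = xU D hD r.val t := by
      apply Units.ext
      rw [hg, xU_val, ChevalleyDatum.x, dif_pos r.2]
    rw [eg, hc r.val r.2 t]
    exact xU_mem_group D hD _ _
  · conv_lhs => rw [ChevalleyDatum.group]
    rw [Subgroup.closure_le]
    rintro g ⟨r, t, hg⟩
    have eg : g = xU D hD r.val t := by
      apply Units.ext
      rw [hg, xU_val, ChevalleyDatum.x, dif_pos r.2]
    obtain ⟨h1, h2⟩ := hR' r.val r.2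
    rw [SetLike.mem_coe, Subgroup.mem_map]
    refine ⟨xU D hD (R' r.val) ((η (R' r.val) : F) * t), xU_mem_group D hD _ _, ?_⟩
    change Mg * xU D hD (R' r.val) ((η (R' r.val) : F) * t) * Mg⁻¹ = g
    rw [hc _ h1, h2, eg]
    congr 1
    rcases hη (R' r.val) with e | e <;> rw [e] <;> simp

/-- The automorphism of the Chevalley group induced by conjugation. -/
noncomputable def conjAut (Mg : GL D.Idx F)
    (hmap : (D.group F).map (MulAut.conj Mg).toMonoidHom = D.group F) :
    ↥(D.group F) ≃* ↥(D.group F) :=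
  ((MulAut.conj Mg).subgroupMap (D.group F)).trans (MulEquiv.subgroupCongr hmap)

theorem conjAut_val (Mg : GL D.Idx F)
    (hmap : (D.group F).map (MulAut.conj Mg).toMonoidHom = D.group F) (g : ↥(D.group F)) :
    ((conjAut D Mg hmap g : GL D.Idx F) : Matrix D.Idx D.Idx F) =
      (Mg : Matrix D.Idx D.Idx F) * ((g : GL D.Idx F) : Matrix D.Idx D.Idx F) *
        ((Mg⁻¹ : GL D.Idx F) : Matrix D.Idx D.Idx F) := by
  rfl


include hD in
/-- Existence of the graph automorphism from the kernel-checked table facts. -/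
theorem graph_aut_exists (P S P' S' R R' : ℕ) (ρ : List ℕ)
    (h1 : spInvCheck D P S P' S' = true)
    (h2 : ∀ s < D.nroots,
      conjCheck D (spCol (dec8 P) (etaOf S)) s (dec8 R s) (etaOf S (D.rank + s)) = true)
    (h3 : ∀ s < D.nroots, dec8 R' s < D.nroots ∧ dec8 R (dec8 R' s) = s)
    (h4 : ∀ i < D.rank, (D.simple i < D.nroots ∧ D.neg (D.simple i) < D.nroots) ∧
      (dec8 R (D.simple i) = D.simple (ρ.getD i 0) ∧ etaOf S (D.rank + D.simple i) = 1) ∧
      (dec8 R (D.neg (D.simple i)) = D.neg (D.simple (ρ.getD i 0)) ∧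
        etaOf S (D.rank + D.neg (D.simple i)) = 1)) :
    ∃ α : ↥(D.group F) ≃* ↥(D.group F), ∀ (g : ↥(D.group F)) (i : ℕ) (t : F), i < D.rank →
      (((g : GL D.Idx F) : Matrix D.Idx D.Idx F) = D.x F (D.simple i) t →
        ((α g : GL D.Idx F) : Matrix D.Idx D.Idx F) = D.x F (D.simple (ρ.getD i 0)) t) ∧
      (((g : GL D.Idx F) : Matrix D.Idx D.Idx F) = D.x F (D.neg (D.simple i)) t →
        ((α g : GL D.Idx F) : Matrix D.Idx D.Idx F) = D.x F (D.neg (D.simple (ρ.getD i 0))) t) := by
  have hconj : ∀ s < D.nroots, ∀ t : F,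
      ((spGL (F := F) D P S P' S' h1 : GL D.Idx F) : Matrix D.Idx D.Idx F) * D.x F s t =
        D.x F (dec8 R s) (((etaOf S (D.rank + s) : ℤ) : F) * t) *
          ((spGL (F := F) D P S P' S' h1 : GL D.Idx F) : Matrix D.Idx D.Idx F) := by
    intro s hs t
    rw [spGL_val]
    exact conj_of_check D _ _ (fun a b row col => spMat_col D a b _ _ row col) s _ _ (h2 s hs) t
  have hmap := map_conj_group D hD (spGL (F := F) D P S P' S' h1) (dec8 R) (dec8 R')
    (fun s => etaOf S (D.rank + s)) (fun s => etaOf_cases _ _) hconj h3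
  refine ⟨conjAut D _ hmap, fun g i t hi => ?_⟩
  obtain ⟨⟨hs1, hs2⟩, ⟨e1, e2⟩, ⟨e3, e4⟩⟩ := h4 i hi
  constructor
  · intro hg
    rw [conjAut_val, hg, hconj _ hs1 t, mul_assoc, Units.mul_inv, mul_one, e1, e2]
    simp
  · intro hg
    rw [conjAut_val, hg, hconj _ hs2 t, mul_assoc, Units.mul_inv, mul_one, e3, e4]
    simp

end

end Cfsg.Agent.Helper18
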