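import Cfsg.Agent.Lib.Helper18.ChevN

set_option autoImplicit false

namespace Cfsg.Agent.Helper18

open Cfsg.Lie

section

variable {F : Type*} [Field F] (D : ChevalleyDatum)

/-- General column check: the matrix of a word equals a matrix given by sparse columns. -/
theorem wordMat_eq_of_cols (a b : Fˣ) (w : List (ℕ × LP)) (M : Matrix D.Idx D.Idx F) (cols : ℕ → SV)
    (hM : ∀ row col, M row col = SV.coeff a b (cols (code D col)) (code D row))
    (h : ((List.range (D.rank + D.nroots)).all fun k =>
      SV.vecEq (applyWord D w (basisVec k)) (cols k)) = true) :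
    D.wordMat F (evalWord a b w) = M := by
  apply mat_eq_of_mulVec_single
  intro col
  rw [← toVec_basisVec D a b col, applyWord_sound]
  rw [List.all_eq_true] at h
  rw [toVec_eq_of_vecEq D a b _ _ (h _ (List.mem_range.mpr (code_lt D col)))]
  funext row
  rw [toVec_basisVec, Matrix.mulVec_single_one]
  exact (hM row col).symm

/-- The word `h_r(c)` with `c` the first variable. -/
def hWordLP (r : ℕ) : List (ℕ × LP) :=
  [(r, [(1, 1, 0)]), (fNeg D r, [(-1, -1, 0)]), (r, [(1, 1, 0)]),
    (r, [(-1, 0, 0)]), (fNeg D r, [(1, 0, 0)]), (r, [(-1, 0, 0)])]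

theorem hWord_eq (r : ℕ) (a b : Fˣ) : D.hWord r (a : F) = evalWord a b (hWordLP D r) := by
  simp [ChevalleyDatum.hWord, ChevalleyDatum.nWord, evalWord, hWordLP, fNeg_eq, LP.eval, LP.evalMono]

/-- Columns of a diagonal matrix with entries `1` on the `h`-part and `c ^ e s` on `e_s`. -/
def diagCol (e : ℕ → ℤ) (k : ℕ) : SV :=
  if k < D.rank then [(k, [(1, 0, 0)])] else [(k, [(1, e (k - D.rank), 0)])]

/-- The diagonal matrix with entries `1` on the `h`-part and `c ^ e s` on `e_s`. -/
def diagMat (e : ℕ → ℤ) (c : F) : Matrix D.Idx D.Idx F :=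
  Matrix.diagonal (Sum.elim (fun _ => (1 : F)) (fun s : Fin D.nroots => c ^ (e s)))

theorem diagMat_col (a b : Fˣ) (e : ℕ → ℤ) (row col : D.Idx) :
    diagMat D e (a : F) row col = SV.coeff a b (diagCol D e (code D col)) (code D row) := by
  rcases col with j | s
  · have hj : code D (Sum.inl j : D.Idx) < D.rank := j.2
    rw [diagCol, if_pos hj]
    by_cases h : row = Sum.inl j
    · subst h
      simp [diagMat, LP.eval, LP.evalMono]
    · have h' : ¬ (code D (Sum.inl j : D.Idx) = code D row) := fun h' => h (code_injective D h').symm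
      rw [diagMat, Matrix.diagonal_apply_ne _ h]
      simp [h']
  · have hs : ¬ (code D (Sum.inr s : D.Idx) < D.rank) := by simp only [code]; omega
    have hs' : code D (Sum.inr s : D.Idx) - D.rank = s.val := by simp only [code]; omega
    rw [diagCol, if_neg hs, hs']
    by_cases h : row = Sum.inr s
    · subst h
      simp [diagMat, LP.eval, LP.evalMono]
    · have h' : ¬ (code D (Sum.inr s : D.Idx) = code D row) := fun h' => h (code_injective D h').symm
      rw [diagMat, Matrix.diagonal_apply_ne _ h]
      simp [h']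

/-- Check that `h_r(c)` is the diagonal matrix with exponents `e`. -/
def hCheck (r : ℕ) (e : ℕ → ℤ) : Bool :=
  (List.range (D.rank + D.nroots)).all fun k =>
    SV.vecEq (applyWord D (hWordLP D r) (basisVec k)) (diagCol D e k)

theorem hMat_eq_of_check (r : ℕ) (e : ℕ → ℤ) (h : hCheck D r e = true) (c : F) (hc : c ≠ 0) :
    D.hMat F r c = diagMat D e c := by
  obtain ⟨a, rfl⟩ : ∃ a : Fˣ, (a : F) = c := ⟨Units.mk0 c hc, rfl⟩
  rw [ChevalleyDatum.hMat, hWord_eq D r a 1]
  exact wordMat_eq_of_cols D a 1 _ _ _ (diagMat_col D a 1 e) h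

/-- Kernel-friendly check for `h_{p_i}(c)` (fundamental root). -/
def hSimpleCheck (i : ℕ) : Bool := hCheck D (fSimple D i) (fCartan D i)

theorem hMat_simple_of_check (i : ℕ) (h : hSimpleCheck D i = true) (c : F) (hc : c ≠ 0) :
    D.hMat F (D.simple i) c =
      Matrix.diagonal (Sum.elim (fun _ => (1 : F)) (fun s : Fin D.nroots => c ^ (D.cartan i s))) := by
  have h' : hCheck D (D.simple i) (fun s => D.cartan i s) = true := by
    have e1 : fCartan D i = fun s => D.cartan i s := funext (fCartan_eq D i)
    rw [← fSimple_eq, ← e1]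
    exact h
  exact hMat_eq_of_check D _ _ h' c hc

end

end Cfsg.Agent.Helper18
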