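import Cfsg.Agent.Lib.Helper18.ChevBNPair2
import Cfsg.Agent.Lib.Helper6.BNBasic

set_option autoImplicit false

namespace Cfsg.Agent.Helper18

open Cfsg.Lie Cfsg.Agent.S1043 Cfsg.Agent.Helper17
open scoped Pointwise

section

variable {F : Type*} [Field F] (D : ChevalleyDatum)

theorem bIdx_injective : Function.Injective (bIdx D) := by
  intro a b h
  rcases a with i | s <;> rcases b with j | u
  · simp only [bIdx] at h
    have : i.val = j.val := by omega
    rw [Fin.ext this]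
  · exfalso
    have := i.2
    simp only [bIdx] at h
    split_ifs at h <;> omega
  · exfalso
    have := j.2
    simp only [bIdx] at h
    split_ifs at h <;> omega
  · simp only [bIdx] at h
    have : s.val = u.val := by split_ifs at h <;> omega
    rw [Fin.ext this]

/-- The diagonal is multiplicative on triangular matrices. -/
theorem dep0_mul_diag {S T : Matrix D.Idx D.Idx F} (hS : Dep D 0 S) (hT : Dep D 0 T) (a : D.Idx) :
    (S * T) a a = S a a * T a a := by
  rw [Matrix.mul_apply]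
  apply Finset.sum_eq_single a
  · intro b _ hba
    by_cases h1 : bIdx D a < bIdx D b
    · rw [hS a b (by omega), zero_mul]
    · by_cases h2 : bIdx D b < bIdx D a
      · rw [hT b a (by omega), mul_zero]
      · exfalso
        exact hba (bIdx_injective D (by omega))
  · intro h
    exact absurd (Finset.mem_univ a) h

theorem dep0_pow {T : Matrix D.Idx D.Idx F} (hT : Dep D 0 T) (m : ℕ) : Dep D 0 (T ^ m) := by
  have := dep_pow' hT m
  rwa [zero_mul] at this

theorem dep0_pow_diag {T : Matrix D.Idx D.Idx F} (hT : Dep D 0 T) (m : ℕ) (a : D.Idx) :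
    (T ^ m) a a = (T a a) ^ m := by
  induction m with
  | zero => rw [pow_zero, pow_zero, Matrix.one_apply_eq]
  | succ m ih => rw [pow_succ, pow_succ, dep0_mul_diag D (dep0_pow D hT m) hT, ih]

theorem dep0_torMat (c : ℕ → F) : Dep D 0 (torMat D c) := by
  intro i j hij
  have : i ≠ j := by
    rintro rfl
    omega
  rw [torMat, Matrix.diagonal_apply_ne _ this]

/-- A diagonal element times a unitriangular element that is conjugate to a unitriangular
element is trivial. -/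
theorem diag_eq_one_of_conj {tbl : List ℕ} (hT : TorusData D tbl) (hTri : TriOK D)
    (k v₁ v₂ n : GL D.Idx F) (hk : k ∈ D.diagonalSubgroup F) (hv₁ : v₁ ∈ D.posUnipotent F)
    (hv₂ : v₂ ∈ D.posUnipotent F) (h : k * v₂ = n * v₁ * n⁻¹) : k = 1 := by
  obtain ⟨c, hc, hkc⟩ := mem_diag_eq_torMat D hT k hk
  have hd₁ : Dep D 1 ((v₁ : Matrix D.Idx D.Idx F) - 1) := posUnipotent_le_depSubgroup hTri hv₁
  have hd₂ : Dep D 1 ((v₂ : Matrix D.Idx D.Idx F) - 1) := posUnipotent_le_depSubgroup hTri hv₂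
  set m := D.rank + D.nroots with hm
  have hnil : ((v₁ : Matrix D.Idx D.Idx F) - 1) ^ m = 0 :=
    eq_zero_of_dep le_rfl (dep_pow hd₁ m)
  set M : Matrix D.Idx D.Idx F := (k : Matrix D.Idx D.Idx F) * (v₂ : Matrix D.Idx D.Idx F) with hM
  have hMn : M = (n : Matrix D.Idx D.Idx F) * (v₁ : Matrix D.Idx D.Idx F) *
      ((n⁻¹ : GL D.Idx F) : Matrix D.Idx D.Idx F) := by
    have := congrArg (fun g : GL D.Idx F => (g : Matrix D.Idx D.Idx F)) h
    simpa only [Units.val_mul] using this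
  have hT1 : M - 1 = (n : Matrix D.Idx D.Idx F) * ((v₁ : Matrix D.Idx D.Idx F) - 1) *
      ((n⁻¹ : GL D.Idx F) : Matrix D.Idx D.Idx F) := by
    rw [hMn, mul_sub, sub_mul, mul_one]
    congr 1
    rw [← Units.val_mul, mul_inv_cancel, Units.val_one]
  have hTm : (M - 1) ^ m = 0 := by
    rw [hT1, Units.conj_pow, hnil, mul_zero, zero_mul]
  have hv0 : Dep D 0 (v₂ : Matrix D.Idx D.Idx F) := dep_zero_of_sub_one hd₂
  have hk0 : Dep D 0 (k : Matrix D.Idx D.Idx F) := by rw [hkc]; exact dep0_torMat D c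
  have hM0 : Dep D 0 (M - 1) := dep_sub (by simpa using dep_mul hk0 hv0) dep_one
  have hdiag : ∀ a : D.Idx, (k : Matrix D.Idx D.Idx F) a a = 1 := by
    intro a
    have h1 := dep0_pow_diag D hM0 m a
    rw [hTm, Matrix.zero_apply] at h1
    have h2 : (M - 1) a a = 0 := by
      by_contra hne
      exact pow_ne_zero m hne h1.symm
    have hv : (v₂ : Matrix D.Idx D.Idx F) a a = 1 := by
      have := hd₂ a a (by omega)
      rwa [Matrix.sub_apply, Matrix.one_apply_eq, sub_eq_zero] at this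
    rw [Matrix.sub_apply, Matrix.one_apply_eq, hM, dep0_mul_diag D hk0 hv0, hv, mul_one,
      sub_eq_zero] at h2
    exact h2
  apply Units.ext
  ext i j
  by_cases hij : i = j
  · subst hij
    rw [hdiag i, Units.val_one, Matrix.one_apply_eq]
  · rw [hkc, torMat, Matrix.diagonal_apply_ne _ hij, Units.val_one]
    exact (Matrix.one_apply_ne hij).symm

/-- Conjugating an element of `H` by an element of `B` changes it by an element of `U`. -/
theorem borel_conj_diag {tbl : List ℕ} (hT : TorusData D tbl) (b h : GL D.Idx F)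
    (hb : b ∈ D.borelSubgroup F) (hh : h ∈ D.diagonalSubgroup F) :
    ∃ v ∈ D.posUnipotent F, b * h * b⁻¹ = h * v := by
  have hBs : ((D.borelSubgroup F : Subgroup (GL D.Idx F)) : Set (GL D.Idx F)) =
      (D.posUnipotent F : Set (GL D.Idx F)) * (D.diagonalSubgroup F : Set (GL D.Idx F)) :=
    Subgroup.coe_mul_of_right_le_normalizer_left _ _ (diag_le_normalizer D hT)
  have hb' : b ∈ ((D.borelSubgroup F : Subgroup (GL D.Idx F)) : Set (GL D.Idx F)) := hb
  rw [hBs] at hb'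
  obtain ⟨u, hu, k, hk, rfl⟩ := hb'
  refine ⟨h⁻¹ * u * h⁻¹⁻¹ * u⁻¹, mul_mem (conj_mem_posUnipotent D hT _ (inv_mem hh) u hu)
    (inv_mem hu), ?_⟩
  have e : k * h * k⁻¹ = h := by
    rw [diag_comm D hT k h hk hh, mul_inv_cancel_right]
  calc u * k * h * (u * k)⁻¹ = u * (k * h * k⁻¹) * u⁻¹ := by group
    _ = u * h * u⁻¹ := by rw [e]
    _ = h * (h⁻¹ * u * h⁻¹⁻¹ * u⁻¹) := by group

end

section

variable {F : Type*} [Field F] (D : ChevalleyDatum) (hD : Good D)

include hD in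
/-- Statement S1046 for one datum. -/
theorem diag_conj_monomial (hB : BNFacts D) (hU : UiFacts D) {tbl : List ℕ} (hT : TorusData D tbl)
    (hTri : TriOK D) (hNeg : NegTriOK D)
    (hconj : ∀ i < D.rank, ∀ s < D.nroots, ConjGoal' F D i s)
    (hS : ∀ i < D.rank, ConjGoalS' F D i)
    (hNH : D.monomialSubgroup F ≤ Subgroup.normalizer (D.diagonalSubgroup F : Set (GL D.Idx F)))
    (h₁ h₂ g : GL D.Idx F) (h1 : h₁ ∈ D.diagonalSubgroup F) (h2 : h₂ ∈ D.diagonalSubgroup F)
    (hg : g ∈ D.group F) (hc : g * h₁ * g⁻¹ = h₂) :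
    ∃ n ∈ D.monomialSubgroup F, n * h₁ * n⁻¹ = h₂ := by
  obtain ⟨P, hPB, hPN, _⟩ := bnPair_exists D hD hB hU hT hTri hNeg hconj hS hNH
  obtain ⟨n, hn, hgC⟩ := Cfsg.Agent.Helper6.bruhat_exists P ⟨g, hg⟩
  obtain ⟨b, hb, b', hb', e⟩ := (Cfsg.Agent.Helper6.mem_C P).mp hgC
  rw [hPB, Subgroup.mem_subgroupOf] at hb hb'
  rw [hPN, Subgroup.mem_subgroupOf] at hn
  have e' : g = (b : GL D.Idx F) * (n : GL D.Idx F) * (b' : GL D.Idx F) := by
    have := congrArg (Subtype.val) e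
    simpa using this
  obtain ⟨v₁, hv₁, e₁⟩ := borel_conj_diag D hT (b' : GL D.Idx F) h₁ hb' h1
  obtain ⟨v₂, hv₂, e₂⟩ := borel_conj_diag D hT ((b : GL D.Idx F))⁻¹ h₂ (inv_mem hb) h2
  have hk₁ : (n : GL D.Idx F) * h₁ * (n : GL D.Idx F)⁻¹ ∈ D.diagonalSubgroup F :=
    ((Subgroup.mem_normalizer_iff.mp (hNH hn)) h₁).mp h1
  refine ⟨(n : GL D.Idx F), hn, ?_⟩
  set N : GL D.Idx F := (n : GL D.Idx F) with hNdef
  set b₁ : GL D.Idx F := (b : GL D.Idx F) with hb₁
  set b₂ : GL D.Idx F := (b' : GL D.Idx F) with hb₂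
  have key : ((N * h₁ * N⁻¹)⁻¹ * h₂) * v₂ = N * v₁ * N⁻¹ := by
    have h3 : N * (b₂ * h₁ * b₂⁻¹) * N⁻¹ = b₁⁻¹ * h₂ * b₁⁻¹⁻¹ := by
      rw [← hc, e']
      group
    rw [e₁, e₂] at h3
    have h4 : N * v₁ * N⁻¹ = (N * h₁ * N⁻¹)⁻¹ * (N * (h₁ * v₁) * N⁻¹) := by group
    rw [h4, h3]
    group
  have hone := diag_eq_one_of_conj D hT hTri _ v₁ v₂ N (mul_mem (inv_mem hk₁) h2) hv₁ hv₂ key
  have h5 : (N * h₁ * N⁻¹) * ((N * h₁ * N⁻¹)⁻¹ * h₂) = (N * h₁ * N⁻¹) * 1 := by rw [hone]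
  rw [mul_inv_cancel_left, mul_one] at h5
  exact h5.symm

end

end Cfsg.Agent.Helper18
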