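import Cfsg.Agent.Lib.Helper18.ChevConj
import Cfsg.Agent.S1043

set_option autoImplicit false

namespace Cfsg.Agent.Helper18

open Cfsg.Lie Cfsg.Agent.S1043

/-- The conclusion of statement S1031 for one datum, fundamental root and root. -/
def ConjGoal' (F : Type*) [Field F] (D : ChevalleyDatum) (i s : ℕ) : Prop :=
  ∃ η : ℤ, (η = 1 ∨ η = -1) ∧
    ∀ t : F, D.nMat F (D.simple i) 1 * D.x F s t =
      D.x F (D.reflectRoot i s) ((η : F) * t) * D.nMat F (D.simple i) 1

section

variable {F : Type*} [Field F] (D : ChevalleyDatum) (hD : Good D)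

/-- The element `n_{p_i}(1)` of the general linear group. -/
noncomputable def nGL (i : ℕ) : GL D.Idx F :=
  xU D hD (D.simple i) 1 * xU D hD (D.neg (D.simple i)) (-1) * xU D hD (D.simple i) 1

theorem nGL_val (i : ℕ) :
    ((nGL (F := F) D hD i : GL D.Idx F) : Matrix D.Idx D.Idx F) = D.nMat F (D.simple i) 1 := by
  simp [nGL, ChevalleyDatum.nMat, ChevalleyDatum.nWord, ChevalleyDatum.wordMat, mul_assoc]

theorem nGL_mem (i : ℕ) (hi : D.simple i < D.nroots) : nGL (F := F) D hD i ∈ D.monomialSubgroup F :=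
  Subgroup.mem_sup_right (Subgroup.subset_closure ⟨D.simple i, hi, nGL_val D hD i⟩)

/-- The product of the `n_{p_i}(1)` along a word. -/
noncomputable def nWordGL (l : List ℕ) : GL D.Idx F := (l.map (nGL D hD)).prod

theorem nWordGL_mem (l : List ℕ) (hl : ∀ i ∈ l, D.simple i < D.nroots) :
    nWordGL (F := F) D hD l ∈ D.monomialSubgroup F := by
  induction l with
  | nil => exact Subgroup.one_mem _
  | cons i l ih =>
    rw [nWordGL, List.map_cons, List.prod_cons]
    exact Subgroup.mul_mem _ (nGL_mem D hD i (hl i List.mem_cons_self))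
      (ih fun j hj => hl j (List.mem_cons_of_mem _ hj))

/-- The permutation of the roots induced by a word in the fundamental reflections. -/
def permW (l : List ℕ) (s : ℕ) : ℕ := l.foldr (fun i acc => D.reflectRoot i acc) s

theorem nWordGL_conj (hrefl : ∀ i < D.rank, ∀ s < D.nroots, D.reflectRoot i s < D.nroots)
    (hconj : ∀ i < D.rank, ∀ s < D.nroots, ConjGoal' F D i s)
    (l : List ℕ) (hl : ∀ i ∈ l, i < D.rank) (s : ℕ) (hs : s < D.nroots) :
    permW D l s < D.nroots ∧ ∃ η : ℤ, (η = 1 ∨ η = -1) ∧ ∀ t : F,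
      ((nWordGL D hD l : GL D.Idx F) : Matrix D.Idx D.Idx F) * D.x F s t =
        D.x F (permW D l s) ((η : F) * t) * ((nWordGL D hD l : GL D.Idx F) : Matrix D.Idx D.Idx F) := by
  induction l with
  | nil =>
    refine ⟨hs, 1, Or.inl rfl, fun t => ?_⟩
    simp [nWordGL, permW]
  | cons i l ih =>
    obtain ⟨hlt, η, hη, h⟩ := ih fun j hj => hl j (List.mem_cons_of_mem _ hj)
    have hi : i < D.rank := hl i List.mem_cons_self
    obtain ⟨η', hη', h'⟩ := hconj i hi (permW D l s) hlt
    refine ⟨hrefl i hi _ hlt, η' * η, ?_, fun t => ?_⟩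
    · rcases hη with rfl | rfl <;> rcases hη' with rfl | rfl <;> simp
    · have e1 : ((nWordGL D hD (i :: l) : GL D.Idx F) : Matrix D.Idx D.Idx F) =
          D.nMat F (D.simple i) 1 * ((nWordGL D hD l : GL D.Idx F) : Matrix D.Idx D.Idx F) := by
        rw [nWordGL, List.map_cons, List.prod_cons, Units.val_mul, nGL_val]
        rfl
      have e2 : permW D (i :: l) s = D.reflectRoot i (permW D l s) := rfl
      rw [e1, e2, mul_assoc, h t, ← mul_assoc, h' ((η : F) * t), mul_assoc]
      congr 2
      push_cast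
      ring

theorem longest_conj (hrefl : ∀ i < D.rank, ∀ s < D.nroots, D.reflectRoot i s < D.nroots)
    (hconj : ∀ i < D.rank, ∀ s < D.nroots, ConjGoal' F D i s)
    (l : List ℕ) (hl : ∀ i ∈ l, i < D.rank)
    (hpn : ∀ s, D.IsPosRoot s → D.IsNegRoot (permW D l s))
    (hnp : ∀ r, D.IsNegRoot r → D.IsPosRoot (permW D l r) ∧ permW D l (permW D l r) = r) :
    (D.posUnipotent F).map (MulAut.conj (nWordGL D hD l)).toMonoidHom = D.negUnipotent F := by
  apply le_antisymm
  · rw [Subgroup.map_le_iff_le_comap]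
    conv_lhs => rw [ChevalleyDatum.posUnipotent]
    rw [Subgroup.closure_le]
    rintro y ⟨s, t, hpos, hy⟩
    rw [SetLike.mem_coe, Subgroup.mem_comap]
    change nWordGL D hD l * y * (nWordGL D hD l)⁻¹ ∈ D.negUnipotent F
    obtain ⟨_, η, _, h⟩ := nWordGL_conj D hD hrefl hconj l hl s hpos.1
    apply Subgroup.subset_closure
    refine ⟨permW D l s, (η : F) * t, hpn s hpos, ?_⟩
    rw [Units.val_mul, Units.val_mul, hy, h t, mul_assoc, Units.mul_inv, mul_one]
  · conv_lhs => rw [ChevalleyDatum.negUnipotent]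
    rw [Subgroup.closure_le]
    rintro y ⟨r, t, hneg, hy⟩
    obtain ⟨hpos, hinv⟩ := hnp r hneg
    obtain ⟨_, η, hη, h⟩ := nWordGL_conj D hD hrefl hconj l hl (permW D l r) hpos.1
    rw [SetLike.mem_coe, Subgroup.mem_map]
    refine ⟨xU D hD (permW D l r) ((η : F) * t), ?_, ?_⟩
    · exact Subgroup.subset_closure ⟨permW D l r, (η : F) * t, hpos, rfl⟩
    · change nWordGL D hD l * xU D hD (permW D l r) ((η : F) * t) * (nWordGL D hD l)⁻¹ = y
      apply Units.ext
      rw [Units.val_mul, Units.val_mul, xU_val, h ((η : F) * t), mul_assoc, Units.mul_inv, mul_one,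
        hinv, hy]
      congr 1
      rcases hη with rfl | rfl <;> simp

/-! ### Kernel check of the table facts -/

/-- The permutation of the roots induced by a word, from packed tables. -/
def pPermW (tbls : List ℕ) (l : List ℕ) (s : ℕ) : ℕ :=
  l.foldr (fun i acc => dec8 (lget tbls i 0) acc) s

/-- All the table facts needed for the longest element. -/
def longestCheck (tbls : List ℕ) (l : List ℕ) : Bool :=
  ((List.range D.rank).all fun i =>
      decide (fSimple D i < D.nroots) &&
        (List.range D.nroots).all fun s => decide (dec8 (lget tbls i 0) s < D.nroots)) &&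
    (l.all fun i => decide (i < D.rank)) &&
    (List.range D.nroots).all fun s =>
      (!(decide (D.IsPosRoot s)) || decide (D.IsNegRoot (pPermW tbls l s))) &&
        (!(decide (D.IsNegRoot s)) ||
          (decide (D.IsPosRoot (pPermW tbls l s)) && pPermW tbls l (pPermW tbls l s) == s))

include hD in
theorem longest_of_check (tbls : List ℕ) (l : List ℕ)
    (hperm : ∀ i < D.rank, permCheck D i (lget tbls i 0) = true)
    (hconj : ∀ i < D.rank, ∀ s < D.nroots, ConjGoal' F D i s)
    (h : longestCheck D tbls l = true) :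
    ∃ n ∈ D.monomialSubgroup F,
      (D.posUnipotent F).map (MulAut.conj n).toMonoidHom = D.negUnipotent F := by
  simp only [longestCheck, Bool.and_eq_true, List.all_eq_true, List.mem_range, decide_eq_true_eq,
    Bool.or_eq_true, Bool.not_eq_true', decide_eq_false_iff_not, beq_iff_eq] at h
  obtain ⟨⟨h1, h2⟩, h3⟩ := h
  have hP : ∀ i < D.rank, ∀ s < D.nroots, dec8 (lget tbls i 0) s = D.reflectRoot i s := by
    intro i hi s hs
    have := hperm i hi
    rw [permCheck, List.all_eq_true] at this
    have := this s (List.mem_range.mpr hs)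
    rwa [beq_iff_eq, fReflectRoot_eq] at this
  have hrefl : ∀ i < D.rank, ∀ s < D.nroots, D.reflectRoot i s < D.nroots := by
    intro i hi s hs
    rw [← hP i hi s hs]
    exact (h1 i hi).2 s hs
  have hW : ∀ (l' : List ℕ), (∀ i ∈ l', i < D.rank) → ∀ s < D.nroots,
      pPermW tbls l' s = permW D l' s ∧ permW D l' s < D.nroots := by
    intro l' hl'
    induction l' with
    | nil => intro s hs; exact ⟨rfl, hs⟩
    | cons i l' ih =>
      intro s hs
      obtain ⟨e, hlt⟩ := ih (fun j hj => hl' j (List.mem_cons_of_mem _ hj)) s hs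
      have hi : i < D.rank := hl' i List.mem_cons_self
      have e1 : pPermW tbls (i :: l') s = dec8 (lget tbls i 0) (pPermW tbls l' s) := rfl
      have e2 : permW D (i :: l') s = D.reflectRoot i (permW D l' s) := rfl
      rw [e1, e2, e, hP i hi _ hlt]
      exact ⟨rfl, hrefl i hi _ hlt⟩
  have hWl := hW l h2
  refine ⟨nWordGL D hD l, nWordGL_mem D hD l (fun i hi => ?_), longest_conj D hD hrefl hconj l h2 ?_ ?_⟩
  · rw [← fSimple_eq]; exact (h1 i (h2 i hi)).1
  · intro s hpos
    have := (h3 s hpos.1).1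
    rw [← (hWl s hpos.1).1]
    rcases this with h' | h'
    · exact absurd hpos h'
    · exact h'
  · intro r hneg
    have := (h3 r hneg.1).2
    rcases this with h' | h'
    · exact absurd hneg h'
    · obtain ⟨e, hlt⟩ := hWl r hneg.1
      rw [← e]
      refine ⟨h'.1, ?_⟩
      have e' := (hWl (pPermW tbls l r) (by rw [e]; exact hlt)).1
      rw [← e', h'.2]

end

end Cfsg.Agent.Helper18
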