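import Cfsg.Agent.Lib.Helper18.ChevDiagConj
import Cfsg.Agent.Lib.Helper17.ChevTriGen

set_option autoImplicit false

namespace Cfsg.Agent.Helper18

open Cfsg.Lie

section

variable {F : Type*} [Field F] (D : ChevalleyDatum)

theorem wordMat_append' (u v : List (ℕ × F)) :
    D.wordMat F (u ++ v) = D.wordMat F u * D.wordMat F v := by
  simp [ChevalleyDatum.wordMat]

theorem wordMat_flatMap (l : List ℕ) (f : ℕ → List (ℕ × F)) :
    D.wordMat F (l.flatMap f) = (l.map fun i => D.wordMat F (f i)).prod := by
  induction l with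
  | nil => simp [ChevalleyDatum.wordMat]
  | cons a l ih =>
    rw [List.flatMap_cons, List.map_cons, List.prod_cons, ← ih, wordMat_append']

/-- A product of diagonal matrices `diagMat`. -/
theorem prod_diagMat (l : List ℕ) (e : ℕ → ℕ → ℤ) (c : ℕ → F) :
    (l.map fun i => diagMat D (e i) (c i)).prod =
      Matrix.diagonal (Sum.elim (fun _ => (1 : F))
        (fun s : Fin D.nroots => (l.map fun i => c i ^ e i s).prod)) := by
  induction l with
  | nil =>
    simp only [List.map_nil, List.prod_nil]
    rw [← Matrix.diagonal_one]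
    congr 1
    funext i
    rcases i with i | s <;> rfl
  | cons a l ih =>
    rw [List.map_cons, List.prod_cons, ih, diagMat, Matrix.diagonal_mul_diagonal]
    congr 1
    funext i
    rcases i with i | s
    · simp
    · simp

/-- The torus element with parameters `c i` on the fundamental roots. -/
def torMat (c : ℕ → F) : Matrix D.Idx D.Idx F :=
  Matrix.diagonal (Sum.elim (fun _ => (1 : F))
    (fun s : Fin D.nroots => ((List.range D.rank).map fun i => c i ^ D.cartan i s).prod))

theorem torMat_eq_prod (c : ℕ → F) :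
    torMat D c = ((List.range D.rank).map fun i => diagMat D (fun s => D.cartan i s) (c i)).prod := by
  rw [prod_diagMat]
  rfl

theorem torMat_eq_wordMat (hchk : ∀ i < D.rank, hSimpleCheck D i = true) (c : ℕ → F)
    (hc : ∀ i < D.rank, c i ≠ 0) :
    D.wordMat F ((List.range D.rank).flatMap fun i => D.hWord (D.simple i) (c i)) = torMat D c := by
  rw [wordMat_flatMap, torMat_eq_prod]
  congr 1
  apply List.map_congr_left
  intro i hi
  rw [List.mem_range] at hi
  exact hMat_simple_of_check D i (hchk i hi) (c i) (hc i hi)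

theorem torMat_mul (c c' : ℕ → F) : torMat D c * torMat D c' = torMat D (fun i => c i * c' i) := by
  rw [torMat, torMat, torMat, Matrix.diagonal_mul_diagonal]
  congr 1
  funext i
  rcases i with i | s
  · simp
  · simp only [Sum.elim_inr]
    rw [← List.prod_map_mul]
    congr 1
    apply List.map_congr_left
    intro i _
    rw [mul_zpow]

theorem torMat_one : torMat D (fun _ => (1 : F)) = 1 := by
  rw [torMat, ← Matrix.diagonal_one]
  congr 1
  funext i
  rcases i with i | s
  · rfl
  · simp

theorem prod_diag_mul_x (l : List ℕ) (s : ℕ) (hadd : ∀ i ∈ l, AddOK D (fun s => D.cartan i s) s)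
    (c : ℕ → F) (hc : ∀ i, c i ≠ 0) (u : F) :
    (l.map fun i => diagMat D (fun s => D.cartan i s) (c i)).prod * D.x F s u =
      D.x F s ((l.map fun i => c i ^ D.cartan i s).prod * u) *
        (l.map fun i => diagMat D (fun s => D.cartan i s) (c i)).prod := by
  induction l generalizing u with
  | nil => simp
  | cons a l ih =>
    simp only [List.map_cons, List.prod_cons]
    rw [mul_assoc, ih (fun i hi => hadd i (List.mem_cons_of_mem _ hi)), ← mul_assoc,
      diagMat_mul_x D _ s (hadd a List.mem_cons_self) (c a) (hc a), mul_assoc, mul_assoc]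

/-- The value of the character of the root `s` on the torus element with parameters `c`. -/
def chi (c : ℕ → F) (s : ℕ) : F := ((List.range D.rank).map fun i => c i ^ D.cartan i s).prod

theorem torMat_mul_x (s : ℕ) (hadd : ∀ i < D.rank, AddOK D (fun s => D.cartan i s) s)
    (c : ℕ → F) (hc : ∀ i, c i ≠ 0) (u : F) :
    torMat D c * D.x F s u = D.x F s (chi D c s * u) * torMat D c := by
  rw [torMat_eq_prod]
  exact prod_diag_mul_x D _ s (fun i hi => hadd i (List.mem_range.mp hi)) c hc u

/-! ### Linearity of the exponents -/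

/-- `Σ_i a_i e_{p_i}(s)`, walking the coefficient list. -/
def dotExpI (tbl : List ℕ) (s : ℕ) : List ℤ → ℕ → ℤ
  | [], _ => 0
  | a :: as, i => a * decExp (lget tbl (fSimple D i) 0) s + dotExpI tbl s as (i + 1)

theorem dotExpI_eq (tbl : List ℕ) (s : ℕ) (a : List ℤ) (k : ℕ) :
    dotExpI D tbl s a k =
      ((List.range a.length).map fun j => lget a j 0 * decExp (lget tbl (fSimple D (k + j)) 0) s).sum := by
  induction a generalizing k with
  | nil => simp [dotExpI]
  | cons x a ih =>
    rw [dotExpI, ih, List.length_cons, List.range_succ_eq_map, List.map_cons, List.sum_cons,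
      List.map_map]
    congr 1
    congr 1
    apply List.map_congr_left
    intro j _
    simp only [Function.comp, lget]
    congr 4
    omega

/-- The coefficients of the coroot of `r` on the fundamental coroots. -/
def corootRow (r : ℕ) : List ℤ := (lget D.coroot.toList r #[]).toList

/-- Kernel check: the exponents of `h_r` are the combination of those of the `h_{p_i}` given by the coroot. -/
def linCheck (tbl : List ℕ) (r : ℕ) : Bool :=
  decide ((corootRow D r).length = D.rank) &&
    (List.range D.nroots).all fun s =>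
      decide (decExp (lget tbl r 0) s = dotExpI D tbl s (corootRow D r) 0)

/-- All the kernel-checked facts about the diagonal elements. -/
structure TorusData (tbl : List ℕ) : Prop where
  hall : ∀ r < D.nroots, hCheck D r (decExp (lget tbl r 0)) = true
  simp : ∀ i < D.rank, hSimpleCheck D i = true
  conj : ∀ i < D.rank, simpleConjCheck D i (lget tbl (fSimple D i) 0) = true
  lin : ∀ r < D.nroots, linCheck D tbl r = true

theorem zpow_list_sum (t : F) (ht : t ≠ 0) (l : List ℕ) (f : ℕ → ℤ) :
    t ^ (l.map f).sum = (l.map fun j => t ^ f j).prod := by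
  induction l with
  | nil => simp
  | cons a l ih => rw [List.map_cons, List.sum_cons, zpow_add₀ ht, ih, List.map_cons, List.prod_cons]

theorem TorusData.cartan_eq {tbl : List ℕ} (hT : TorusData D tbl) (i : ℕ) (hi : i < D.rank) (s : ℕ)
    (hs : s < D.nroots) : decExp (lget tbl (fSimple D i) 0) s = D.cartan i s := by
  have h := hT.conj i hi
  simp only [simpleConjCheck, Bool.and_eq_true] at h
  have := congrFun (eIn_eq_cartan D i _ h.1) s
  rwa [eIn, if_pos hs] at this

theorem TorusData.addOK {tbl : List ℕ} (hT : TorusData D tbl) (i : ℕ) (hi : i < D.rank) (s : ℕ)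
    (hs : s < D.nroots) : AddOK D (fun s => D.cartan i s) s :=
  addOK_cartan D i _ (hT.conj i hi) s hs

theorem hMat_eq_torMat {tbl : List ℕ} (hT : TorusData D tbl) (r : ℕ) (hr : r < D.nroots) (t : F)
    (ht : t ≠ 0) : D.hMat F r t = torMat D (fun i => t ^ (lget (corootRow D r) i 0)) := by
  rw [hMat_eq_of_check D r _ (hT.hall r hr) t ht, diagMat, torMat]
  congr 1
  funext i
  rcases i with i | s
  · rfl
  · simp only [Sum.elim_inr]
    have hlin := hT.lin r hr
    simp only [linCheck, Bool.and_eq_true, decide_eq_true_eq, List.all_eq_true, List.mem_range] at hlin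
    rw [hlin.2 s.val s.2, dotExpI_eq, hlin.1, zpow_list_sum t ht]
    congr 1
    apply List.map_congr_left
    intro j hj
    rw [List.mem_range] at hj
    rw [Nat.zero_add, hT.cartan_eq D j hj s.val s.2, zpow_mul]

theorem mem_diag_eq_torMat {tbl : List ℕ} (hT : TorusData D tbl) (g : GL D.Idx F)
    (hg : g ∈ D.diagonalSubgroup F) :
    ∃ c : ℕ → F, (∀ i, c i ≠ 0) ∧ (g : Matrix D.Idx D.Idx F) = torMat D c := by
  unfold ChevalleyDatum.diagonalSubgroup at hg
  induction hg using Subgroup.closure_induction with
  | mem x hx =>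
    obtain ⟨r, t, hr, ht, hx⟩ := hx
    exact ⟨_, fun i => zpow_ne_zero _ ht, hx.trans (hMat_eq_torMat D hT r hr t ht)⟩
  | one => exact ⟨fun _ => 1, fun _ => one_ne_zero, by rw [torMat_one]; rfl⟩
  | mul x y _ _ hx hy =>
    obtain ⟨c, hc, hx⟩ := hx
    obtain ⟨c', hc', hy⟩ := hy
    exact ⟨fun i => c i * c' i, fun i => mul_ne_zero (hc i) (hc' i), by
      rw [Units.val_mul, hx, hy, torMat_mul]⟩
  | inv x _ hx =>
    obtain ⟨c, hc, hx⟩ := hx
    refine ⟨fun i => (c i)⁻¹, fun i => inv_ne_zero (hc i), ?_⟩
    have h1 : torMat D (fun i => (c i)⁻¹) * (x : Matrix D.Idx D.Idx F) = 1 := by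
      rw [hx, torMat_mul]
      have : (fun i => (c i)⁻¹ * c i) = fun _ => (1 : F) := by
        funext i
        exact inv_mul_cancel₀ (hc i)
      rw [this, torMat_one]
    exact Units.inv_eq_of_mul_eq_one_left h1

theorem conj_mem_posUnipotent {tbl : List ℕ} (hT : TorusData D tbl) (g : GL D.Idx F)
    (hg : g ∈ D.diagonalSubgroup F) (y : GL D.Idx F) (hy : y ∈ D.posUnipotent F) :
    g * y * g⁻¹ ∈ D.posUnipotent F := by
  obtain ⟨c, hc, hgc⟩ := mem_diag_eq_torMat D hT g hg
  have key : D.posUnipotent F ≤ (D.posUnipotent F).comap (MulAut.conj g).toMonoidHom := by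
    conv_lhs => rw [ChevalleyDatum.posUnipotent]
    rw [Subgroup.closure_le]
    rintro y ⟨r, t, hpos, hy⟩
    rw [SetLike.mem_coe, Subgroup.mem_comap]
    change g * y * g⁻¹ ∈ D.posUnipotent F
    apply Subgroup.subset_closure
    refine ⟨r, chi D c r * t, hpos, ?_⟩
    rw [Units.val_mul, Units.val_mul, hy, hgc,
      torMat_mul_x D r (fun i hi => hT.addOK D i hi r hpos.1) c hc t, mul_assoc, ← hgc,
      Units.mul_inv, mul_one]
  exact key hy

theorem diag_le_normalizer {tbl : List ℕ} (hT : TorusData D tbl) :
    D.diagonalSubgroup F ≤ Subgroup.normalizer (D.posUnipotent F : Set (GL D.Idx F)) := by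
  intro g hg
  rw [Subgroup.mem_normalizer_iff]
  intro y
  constructor
  · exact conj_mem_posUnipotent D hT g hg y
  · intro h
    have := conj_mem_posUnipotent D hT g⁻¹ (inv_mem hg) _ h
    simpa [mul_assoc] using this

theorem pos_inf_diag {tbl : List ℕ} (hT : TorusData D tbl) (hTri : Cfsg.Agent.Helper17.TriOK D) :
    D.posUnipotent F ⊓ D.diagonalSubgroup F = ⊥ := by
  rw [eq_bot_iff]
  rintro g ⟨hU, hH⟩
  rw [Subgroup.mem_bot]
  obtain ⟨c, hc, hgc⟩ := mem_diag_eq_torMat D hT g hH
  have hdep : Cfsg.Agent.Helper17.Dep D 1 ((g : Matrix D.Idx D.Idx F) - 1) :=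
    Cfsg.Agent.Helper17.posUnipotent_le_depSubgroup hTri hU
  apply Units.ext
  ext i j
  by_cases hij : i = j
  · subst hij
    have := hdep i i (by omega)
    rw [Matrix.sub_apply, sub_eq_zero] at this
    rw [this]
    rfl
  · rw [hgc, torMat, Matrix.diagonal_apply_ne _ hij]
    exact (Matrix.one_apply_ne hij).symm

end

end Cfsg.Agent.Helper18
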