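import Cfsg.Agent.Lib.Helper18.ChevLongest
import Cfsg.Agent.Lib.Helper18.ChevTorus

set_option autoImplicit false

namespace Cfsg.Agent.Helper18

open Cfsg.Lie Cfsg.Agent.S1043

/-- Statement S1031 for one datum and fundamental root, with the sign function exposed. -/
def ConjGoalS' (F : Type*) [Field F] (D : ChevalleyDatum) (i : ℕ) : Prop :=
  ∃ η : ℕ → ℤ, (∀ s, η s = 1 ∨ η s = -1) ∧ (∀ s < D.nroots, η s * η (D.neg s) = 1) ∧
    ∀ s < D.nroots, ∀ t : F, D.nMat F (D.simple i) 1 * D.x F s t =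
      D.x F (D.reflectRoot i s) ((η s : F) * t) * D.nMat F (D.simple i) 1

theorem mem_normalizer_of_conj_of_sq {G : Type*} [Group G] (H : Subgroup G) (g : G)
    (h1 : ∀ h ∈ H, g * h * g⁻¹ ∈ H) (h2 : g⁻¹ * g⁻¹ ∈ H) :
    g ∈ Subgroup.normalizer (H : Set G) := by
  rw [Subgroup.mem_normalizer_iff]
  intro h
  constructor
  · exact h1 h
  · intro hh
    have := h1 _ (mul_mem (mul_mem h2 hh) (inv_mem h2))
    have e : g * (g⁻¹ * g⁻¹ * (g * h * g⁻¹) * (g⁻¹ * g⁻¹)⁻¹) * g⁻¹ = h := by group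
    rwa [e] at this

section

variable {F : Type*} [Field F] (D : ChevalleyDatum) (hD : Good D)

/-- The element `h_r(t)` of the general linear group. -/
noncomputable def hGL (r : ℕ) (t : F) : GL D.Idx F :=
  (xU D hD r t * xU D hD (D.neg r) (-t⁻¹) * xU D hD r t) *
    (xU D hD r (-1) * xU D hD (D.neg r) (-(-1 : F)⁻¹) * xU D hD r (-1))

theorem hGL_val (r : ℕ) (t : F) :
    ((hGL D hD r t : GL D.Idx F) : Matrix D.Idx D.Idx F) = D.hMat F r t := by
  simp [hGL, ChevalleyDatum.hMat, ChevalleyDatum.hWord, ChevalleyDatum.nWord, ChevalleyDatum.wordMat,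
    mul_assoc]

theorem hGL_mem (r : ℕ) (hr : r < D.nroots) (t : F) (ht : t ≠ 0) :
    hGL D hD r t ∈ D.diagonalSubgroup F :=
  Subgroup.subset_closure ⟨r, t, hr, ht, hGL_val D hD r t⟩

include hD in
theorem mem_diag_of_prod (L : List (ℕ × F)) (hL : ∀ p ∈ L, p.1 < D.nroots ∧ p.2 ≠ 0)
    (g : GL D.Idx F)
    (hg : (g : Matrix D.Idx D.Idx F) = (L.map fun p => D.hMat F p.1 p.2).prod) :
    g ∈ D.diagonalSubgroup F := by
  induction L generalizing g with
  | nil =>
    have : g = 1 := Units.ext (by simpa using hg)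
    rw [this]
    exact one_mem _
  | cons p L ih =>
    have hp := hL p List.mem_cons_self
    have h0 := hGL_mem D hD p.1 hp.1 p.2 hp.2
    have e : g = hGL D hD p.1 p.2 * ((hGL D hD p.1 p.2)⁻¹ * g) := by group
    rw [e]
    refine mul_mem h0 (ih (fun q hq => hL q (List.mem_cons_of_mem _ hq)) _ ?_)
    rw [Units.val_mul, hg, List.map_cons, List.prod_cons, ← hGL_val D hD, ← mul_assoc, Units.inv_mul,
      one_mul]

omit hD in
theorem nMat_mul_prod_hMat (i : ℕ)
    (hcomm : ∀ j < D.rank, ∀ t : F, t ≠ 0 → D.nMat F (D.simple i) 1 * D.hMat F (D.simple j) t =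
      D.hMat F (D.reflectRoot i (D.simple j)) t * D.nMat F (D.simple i) 1)
    (l : List ℕ) (hl : ∀ j ∈ l, j < D.rank) (c : ℕ → F) (hc : ∀ j, c j ≠ 0) :
    D.nMat F (D.simple i) 1 * (l.map fun j => D.hMat F (D.simple j) (c j)).prod =
      (l.map fun j => D.hMat F (D.reflectRoot i (D.simple j)) (c j)).prod * D.nMat F (D.simple i) 1 := by
  induction l with
  | nil => simp
  | cons j l ih =>
    rw [List.map_cons, List.prod_cons, List.map_cons, List.prod_cons, ← mul_assoc,
      hcomm j (hl j List.mem_cons_self) (c j) (hc j), mul_assoc,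
      ih (fun k hk => hl k (List.mem_cons_of_mem _ hk)), mul_assoc]

theorem nGL_conj_diag (i : ℕ) {tbl : List ℕ} (hT : TorusData D tbl)
    (hcomm : ∀ j < D.rank, ∀ t : F, t ≠ 0 → D.nMat F (D.simple i) 1 * D.hMat F (D.simple j) t =
      D.hMat F (D.reflectRoot i (D.simple j)) t * D.nMat F (D.simple i) 1)
    (hrefl : ∀ j < D.rank, D.reflectRoot i (D.simple j) < D.nroots)
    (h : GL D.Idx F) (hh : h ∈ D.diagonalSubgroup F) :
    nGL D hD i * h * (nGL D hD i)⁻¹ ∈ D.diagonalSubgroup F := by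
  obtain ⟨c, hc, hhc⟩ := mem_diag_eq_torMat D hT h hh
  have e : (h : Matrix D.Idx D.Idx F) =
      ((List.range D.rank).map fun j => D.hMat F (D.simple j) (c j)).prod := by
    rw [hhc, ← torMat_eq_wordMat D hT.simp c (fun j _ => hc j), wordMat_flatMap]
    rfl
  apply mem_diag_of_prod D hD ((List.range D.rank).map fun j => (D.reflectRoot i (D.simple j), c j))
  · intro p hp
    simp only [List.mem_map, List.mem_range] at hp
    obtain ⟨j, hj, rfl⟩ := hp
    exact ⟨hrefl j hj, hc j⟩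
  · rw [Units.val_mul, Units.val_mul, nGL_val, e,
      nMat_mul_prod_hMat D i hcomm _ (fun j hj => List.mem_range.mp hj) c hc, mul_assoc,
      ← nGL_val D hD i, Units.mul_inv, mul_one, List.map_map]
    rfl

/-- The element `n_r(1)` of the general linear group, for any root `r`. -/
noncomputable def nrGL (r : ℕ) : GL D.Idx F :=
  xU D hD r 1 * xU D hD (D.neg r) (-1) * xU D hD r 1

theorem nrGL_val (r : ℕ) :
    ((nrGL (F := F) D hD r : GL D.Idx F) : Matrix D.Idx D.Idx F) = D.nMat F r 1 := by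
  simp [nrGL, ChevalleyDatum.nMat, ChevalleyDatum.nWord, ChevalleyDatum.wordMat, mul_assoc]

theorem nrGL_inv (r : ℕ) :
    (nrGL (F := F) D hD r)⁻¹ = xU D hD r (-1) * xU D hD (D.neg r) 1 * xU D hD r (-1) := by
  rw [nrGL, mul_inv_rev, mul_inv_rev, xU_inv, xU_inv, neg_neg, mul_assoc]

theorem nrGL_inv_sq_mem (r : ℕ) (hr : r < D.nroots) :
    (nrGL (F := F) D hD r)⁻¹ * (nrGL (F := F) D hD r)⁻¹ ∈ D.diagonalSubgroup F := by
  have h := hGL_mem (F := F) D hD r hr (-1) (neg_ne_zero.mpr one_ne_zero)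
  have e : hGL (F := F) D hD r (-1) = (nrGL (F := F) D hD r)⁻¹ * (nrGL (F := F) D hD r)⁻¹ := by
    rw [nrGL_inv, hGL]
    have : (-(-1 : F)⁻¹) = 1 := by simp
    rw [this]
  rwa [e] at h

theorem nGL_mem_normalizer (i : ℕ) (hi : D.simple i < D.nroots) {tbl : List ℕ} (hT : TorusData D tbl)
    (hcomm : ∀ j < D.rank, ∀ t : F, t ≠ 0 → D.nMat F (D.simple i) 1 * D.hMat F (D.simple j) t =
      D.hMat F (D.reflectRoot i (D.simple j)) t * D.nMat F (D.simple i) 1)
    (hrefl : ∀ j < D.rank, D.reflectRoot i (D.simple j) < D.nroots) :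
    nGL D hD i ∈ Subgroup.normalizer (D.diagonalSubgroup F : Set (GL D.Idx F)) :=
  mem_normalizer_of_conj_of_sq _ _ (nGL_conj_diag D hD i hT hcomm hrefl)
    (nrGL_inv_sq_mem D hD (D.simple i) hi)

theorem conj_xU (i : ℕ) (η : ℕ → ℤ)
    (hconj : ∀ s < D.nroots, ∀ t : F, D.nMat F (D.simple i) 1 * D.x F s t =
      D.x F (D.reflectRoot i s) ((η s : F) * t) * D.nMat F (D.simple i) 1)
    (s : ℕ) (hs : s < D.nroots) (t : F) :
    nGL D hD i * xU D hD s t * (nGL D hD i)⁻¹ = xU D hD (D.reflectRoot i s) ((η s : F) * t) := by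
  apply Units.ext
  rw [Units.val_mul, Units.val_mul, xU_val, nGL_val, hconj s hs t, mul_assoc, ← nGL_val D hD i,
    Units.mul_inv, mul_one, xU_val]

theorem conj_nrGL (i : ℕ) (hS : ConjGoalS' F D i)
    (hnv : ∀ s < D.nroots, D.neg s < D.nroots)
    (hnr : ∀ s < D.nroots, D.reflectRoot i (D.neg s) = D.neg (D.reflectRoot i s))
    (s : ℕ) (hs : s < D.nroots) :
    nGL D hD i * nrGL D hD s * (nGL D hD i)⁻¹ = nrGL (F := F) D hD (D.reflectRoot i s) ∨
      nGL D hD i * nrGL D hD s * (nGL D hD i)⁻¹ = (nrGL (F := F) D hD (D.reflectRoot i s))⁻¹ := by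
  obtain ⟨η, hη, hηn, hconj⟩ := hS
  have e : nGL (F := F) D hD i * nrGL D hD s * (nGL D hD i)⁻¹ =
      (nGL (F := F) D hD i * xU D hD s 1 * (nGL D hD i)⁻¹) *
        (nGL (F := F) D hD i * xU D hD (D.neg s) (-1) * (nGL D hD i)⁻¹) *
          (nGL (F := F) D hD i * xU D hD s 1 * (nGL D hD i)⁻¹) := by
    rw [nrGL]; group
  rw [e, conj_xU D hD i η hconj s hs, conj_xU D hD i η hconj (D.neg s) (hnv s hs), hnr s hs]
  have hn := hηn s hs
  rcases hη s with h1 | h1
  · left
    have h2 : η (D.neg s) = 1 := by rw [h1, one_mul] at hn; exact hn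
    rw [h1, h2, nrGL]
    simp
  · right
    have h2 : η (D.neg s) = -1 := by
      rw [h1] at hn
      linarith
    rw [h1, h2, nrGL_inv]
    simp

theorem nrGL_permW_mem {tbl : List ℕ} (hT : TorusData D tbl)
    (hsimp : ∀ i < D.rank, D.simple i < D.nroots)
    (hrefl : ∀ i < D.rank, ∀ s < D.nroots, D.reflectRoot i s < D.nroots)
    (hcomm : ∀ i < D.rank, ∀ j < D.rank, ∀ t : F, t ≠ 0 →
      D.nMat F (D.simple i) 1 * D.hMat F (D.simple j) t =
        D.hMat F (D.reflectRoot i (D.simple j)) t * D.nMat F (D.simple i) 1)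
    (hS : ∀ i < D.rank, ConjGoalS' F D i)
    (hnv : ∀ s < D.nroots, D.neg s < D.nroots)
    (hnr : ∀ i < D.rank, ∀ s < D.nroots, D.reflectRoot i (D.neg s) = D.neg (D.reflectRoot i s))
    (l : List ℕ) (hl : ∀ i ∈ l, i < D.rank) (j : ℕ) (hj : j < D.rank) :
    permW D l (D.simple j) < D.nroots ∧
      nrGL D hD (permW D l (D.simple j)) ∈
        Subgroup.normalizer (D.diagonalSubgroup F : Set (GL D.Idx F)) := by
  have hsimpN : ∀ i < D.rank, nGL D hD i ∈
      Subgroup.normalizer (D.diagonalSubgroup F : Set (GL D.Idx F)) := fun i hi =>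
    nGL_mem_normalizer D hD i (hsimp i hi) hT (hcomm i hi) (fun k hk => hrefl i hi _ (hsimp k hk))
  induction l with
  | nil => exact ⟨hsimp j hj, hsimpN j hj⟩
  | cons i l ih =>
    obtain ⟨hlt, hmem⟩ := ih fun k hk => hl k (List.mem_cons_of_mem _ hk)
    have hi : i < D.rank := hl i List.mem_cons_self
    have e2 : permW D (i :: l) (D.simple j) = D.reflectRoot i (permW D l (D.simple j)) := rfl
    rw [e2]
    refine ⟨hrefl i hi _ hlt, ?_⟩
    have hc := Subgroup.mul_mem _ (Subgroup.mul_mem _ (hsimpN i hi) hmem)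
      (Subgroup.inv_mem _ (hsimpN i hi))
    rcases conj_nrGL D hD i (hS i hi) hnv (hnr i hi) _ hlt with h' | h'
    · rwa [h'] at hc
    · rw [h'] at hc
      exact (Subgroup.inv_mem_iff _).mp hc

/-! ### Kernel check of the table facts -/

/-- All the table facts needed for the normality of `H` in `N`. -/
def orbitCheck (tbls : List ℕ) (orb : List (ℕ × List ℕ)) : Bool :=
  ((List.range D.rank).all fun i =>
      decide (fSimple D i < D.nroots) &&
        (List.range D.nroots).all fun s => decide (dec8 (lget tbls i 0) s < D.nroots)) &&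
    ((List.range D.nroots).all fun s =>
      decide (fNeg D s < D.nroots) &&
        (List.range D.rank).all fun i =>
          dec8 (lget tbls i 0) (fNeg D s) == fNeg D (dec8 (lget tbls i 0) s)) &&
    (List.range D.nroots).all fun r =>
      decide ((lget orb r (0, [])).1 < D.rank) &&
        ((lget orb r (0, [])).2.all fun i => decide (i < D.rank)) &&
          (pPermW tbls (lget orb r (0, [])).2 (fSimple D (lget orb r (0, [])).1) == r)

include hD in
theorem diag_normal_of_check {tbl : List ℕ} (hT : TorusData D tbl) (tbls : List ℕ)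
    (orb : List (ℕ × List ℕ))
    (hperm : ∀ i < D.rank, permCheck D i (lget tbls i 0) = true)
    (hcomm : ∀ i < D.rank, ∀ j < D.rank, ∀ t : F, t ≠ 0 →
      D.nMat F (D.simple i) 1 * D.hMat F (D.simple j) t =
        D.hMat F (D.reflectRoot i (D.simple j)) t * D.nMat F (D.simple i) 1)
    (hS : ∀ i < D.rank, ConjGoalS' F D i)
    (h : orbitCheck D tbls orb = true) :
    ((D.diagonalSubgroup F).subgroupOf (D.monomialSubgroup F)).Normal := by
  simp only [orbitCheck, Bool.and_eq_true, List.all_eq_true, List.mem_range, decide_eq_true_eq,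
    beq_iff_eq] at h
  obtain ⟨⟨h1, h2⟩, h3⟩ := h
  have hP : ∀ i < D.rank, ∀ s < D.nroots, dec8 (lget tbls i 0) s = D.reflectRoot i s := by
    intro i hi s hs
    have := hperm i hi
    rw [permCheck, List.all_eq_true] at this
    have := this s (List.mem_range.mpr hs)
    rwa [beq_iff_eq, fReflectRoot_eq] at this
  have hsimp : ∀ i < D.rank, D.simple i < D.nroots := by
    intro i hi
    rw [← fSimple_eq]
    exact (h1 i hi).1
  have hrefl : ∀ i < D.rank, ∀ s < D.nroots, D.reflectRoot i s < D.nroots := by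
    intro i hi s hs
    rw [← hP i hi s hs]
    exact (h1 i hi).2 s hs
  have hnv : ∀ s < D.nroots, D.neg s < D.nroots := by
    intro s hs
    rw [← fNeg_eq]
    exact (h2 s hs).1
  have hnr : ∀ i < D.rank, ∀ s < D.nroots, D.reflectRoot i (D.neg s) = D.neg (D.reflectRoot i s) := by
    intro i hi s hs
    have := (h2 s hs).2 i hi
    rw [fNeg_eq, fNeg_eq, hP i hi _ (hnv s hs), hP i hi s hs] at this
    exact this
  have hW : ∀ (l' : List ℕ), (∀ i ∈ l', i < D.rank) → ∀ s < D.nroots,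
      pPermW tbls l' s = permW D l' s ∧ permW D l' s < D.nroots := by
    intro l' hl'
    induction l' with
    | nil => intro s hs; exact ⟨rfl, hs⟩
    | cons i l' ih =>
      intro s hs
      obtain ⟨e, hlt⟩ := ih (fun j hj => hl' j (List.mem_cons_of_mem _ hj)) s hs
      have hi : i < D.rank := hl' i List.mem_cons_self
      have e1 : pPermW tbls (i :: l') s = dec8 (lget tbls i 0) (pPermW tbls l' s) := rfl
      have e2 : permW D (i :: l') s = D.reflectRoot i (permW D l' s) := rfl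
      rw [e1, e2, e, hP i hi _ hlt]
      exact ⟨rfl, hrefl i hi _ hlt⟩
  have hHN : D.diagonalSubgroup F ≤ D.monomialSubgroup F := le_sup_left
  rw [Subgroup.normal_subgroupOf_iff_le_normalizer hHN]
  unfold ChevalleyDatum.monomialSubgroup
  apply sup_le Subgroup.le_normalizer
  rw [Subgroup.closure_le]
  rintro g ⟨r, hr, hg⟩
  have eg : g = nrGL D hD r := Units.ext (hg.trans (nrGL_val D hD r).symm)
  obtain ⟨⟨hj, hl⟩, hr'⟩ := h3 r hr
  have e := (hW _ hl (fSimple D (lget orb r (0, [])).1) (by rw [fSimple_eq]; exact hsimp _ hj)).1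
  rw [hr', fSimple_eq] at e
  rw [SetLike.mem_coe, eg, e]
  exact (nrGL_permW_mem D hD hT hsimp hrefl hcomm hS hnv hnr _ hl _ hj).2

end

end Cfsg.Agent.Helper18
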