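import Cfsg.Agent.Lib.Helper18.HExp

set_option autoImplicit false

namespace Cfsg.Agent.Helper18

open Cfsg.Lie

section

variable {F : Type*} [Field F] (D : ChevalleyDatum)

/-- A signed monomial matrix intertwines two diagonal matrices whose exponents correspond under the reflection. -/
theorem monoMat_mul_diagMat (i : ℕ) (η : ℕ → ℤ) (e₁ e₂ : ℕ → ℤ)
    (h : ∀ s < D.nroots, e₂ (D.reflectRoot i s) = e₁ s) (c : F) :
    monoMat D i η * diagMat D e₁ c = diagMat D e₂ c * monoMat (F := F) D i η := by
  ext row col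
  rw [diagMat, diagMat, Matrix.mul_diagonal, Matrix.diagonal_mul]
  rcases col with j | s <;> rcases row with j' | s'
  · simp [monoMat]
  · simp [monoMat]
  · simp [monoMat]
  · simp only [monoMat, Matrix.of_apply, Sum.elim_inr]
    by_cases hs : (s' : ℕ) = D.reflectRoot i s
    · rw [if_pos hs, hs, h s s.2, mul_comm]
    · rw [if_neg hs, zero_mul, mul_zero]

/-- Table check: the exponents of `h_{w_p(p_j)}` are those of `h_{p_j}` transported by `w_p`. -/
def reflCheck (tbl : List ℕ) (i j : ℕ) : Bool :=
  decide (fReflectRoot D i (fSimple D j) < D.nroots) &&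
    (List.range D.nroots).all fun s =>
      decExp (lget tbl (fReflectRoot D i (fSimple D j)) 0) (fReflectRoot D i s) == fCartan D j s

theorem n_h_comm (tbl : List ℕ) (i j : ℕ)
    (hN : ∃ η : ℕ → ℤ, D.nMat F (D.simple i) 1 = monoMat D i η)
    (hS : hSimpleCheck D j = true)
    (hA : ∀ r < D.nroots, hCheck D r (decExp (lget tbl r 0)) = true)
    (hR : reflCheck D tbl i j = true) (t : F) (ht : t ≠ 0) :
    D.nMat F (D.simple i) 1 * D.hMat F (D.simple j) t =
      D.hMat F (D.reflectRoot i (D.simple j)) t * D.nMat F (D.simple i) 1 := by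
  obtain ⟨η, hη⟩ := hN
  simp only [reflCheck, Bool.and_eq_true, decide_eq_true_eq, List.all_eq_true, List.mem_range,
    beq_iff_eq, fReflectRoot_eq, fSimple_eq, fCartan_eq] at hR
  obtain ⟨hlt, hexp⟩ := hR
  have h1 : D.hMat F (D.simple j) t = diagMat D (fun s => D.cartan j s) t :=
    hMat_simple_of_check D j hS t ht
  rw [hη, h1, hMat_eq_of_check D _ _ (hA _ hlt) t ht]
  exact monoMat_mul_diagMat D i η _ _ hexp t

end

end Cfsg.Agent.Helper18
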