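import Cfsg.Agent.Lib.Helper18.ConjData

set_option autoImplicit false
set_option maxRecDepth 100000
set_option Elab.async false

namespace Cfsg.Agent.Helper18

open Cfsg.Lie

theorem conjE6_0_0 : conjCheck chevE6 (pMonoCol chevE6 0 permE6_0 etaE6_0) 0 (dec8 permE6_0 0) (etaOf etaE6_0 0) = true := by
  decide +kernel

theorem conjE6_0_1 : conjCheck chevE6 (pMonoCol chevE6 0 permE6_0 etaE6_0) 1 (dec8 permE6_0 1) (etaOf etaE6_0 1) = true := by
  decide +kernel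

theorem conjE6_0_2 : conjCheck chevE6 (pMonoCol chevE6 0 permE6_0 etaE6_0) 2 (dec8 permE6_0 2) (etaOf etaE6_0 2) = true := by
  decide +kernel

theorem conjE6_0_3 : conjCheck chevE6 (pMonoCol chevE6 0 permE6_0 etaE6_0) 3 (dec8 permE6_0 3) (etaOf etaE6_0 3) = true := by
  decide +kernel

theorem conjE6_0_4 : conjCheck chevE6 (pMonoCol chevE6 0 permE6_0 etaE6_0) 4 (dec8 permE6_0 4) (etaOf etaE6_0 4) = true := by
  decide +kernel

theorem conjE6_0_5 : conjCheck chevE6 (pMonoCol chevE6 0 permE6_0 etaE6_0) 5 (dec8 permE6_0 5) (etaOf etaE6_0 5) = true := by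
  decide +kernel

theorem conjE6_0_6 : conjCheck chevE6 (pMonoCol chevE6 0 permE6_0 etaE6_0) 6 (dec8 permE6_0 6) (etaOf etaE6_0 6) = true := by
  decide +kernel

theorem conjE6_0_7 : conjCheck chevE6 (pMonoCol chevE6 0 permE6_0 etaE6_0) 7 (dec8 permE6_0 7) (etaOf etaE6_0 7) = true := by
  decide +kernel

theorem conjE6_0_8 : conjCheck chevE6 (pMonoCol chevE6 0 permE6_0 etaE6_0) 8 (dec8 permE6_0 8) (etaOf etaE6_0 8) = true := by
  decide +kernel

theorem conjE6_0_9 : conjCheck chevE6 (pMonoCol chevE6 0 permE6_0 etaE6_0) 9 (dec8 permE6_0 9) (etaOf etaE6_0 9) = true := by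
  decide +kernel

theorem conjE6_0_10 : conjCheck chevE6 (pMonoCol chevE6 0 permE6_0 etaE6_0) 10 (dec8 permE6_0 10) (etaOf etaE6_0 10) = true := by
  decide +kernel

theorem conjE6_0_11 : conjCheck chevE6 (pMonoCol chevE6 0 permE6_0 etaE6_0) 11 (dec8 permE6_0 11) (etaOf etaE6_0 11) = true := by
  decide +kernel

theorem conjE6_0_12 : conjCheck chevE6 (pMonoCol chevE6 0 permE6_0 etaE6_0) 12 (dec8 permE6_0 12) (etaOf etaE6_0 12) = true := by
  decide +kernel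

theorem conjE6_0_13 : conjCheck chevE6 (pMonoCol chevE6 0 permE6_0 etaE6_0) 13 (dec8 permE6_0 13) (etaOf etaE6_0 13) = true := by
  decide +kernel

theorem conjE6_0_14 : conjCheck chevE6 (pMonoCol chevE6 0 permE6_0 etaE6_0) 14 (dec8 permE6_0 14) (etaOf etaE6_0 14) = true := by
  decide +kernel

theorem conjE6_0_15 : conjCheck chevE6 (pMonoCol chevE6 0 permE6_0 etaE6_0) 15 (dec8 permE6_0 15) (etaOf etaE6_0 15) = true := by
  decide +kernel

theorem conjE6_0_16 : conjCheck chevE6 (pMonoCol chevE6 0 permE6_0 etaE6_0) 16 (dec8 permE6_0 16) (etaOf etaE6_0 16) = true := by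
  decide +kernel

theorem conjE6_0_17 : conjCheck chevE6 (pMonoCol chevE6 0 permE6_0 etaE6_0) 17 (dec8 permE6_0 17) (etaOf etaE6_0 17) = true := by
  decide +kernel

theorem conjE6_0_18 : conjCheck chevE6 (pMonoCol chevE6 0 permE6_0 etaE6_0) 18 (dec8 permE6_0 18) (etaOf etaE6_0 18) = true := by
  decide +kernel

theorem conjE6_0_19 : conjCheck chevE6 (pMonoCol chevE6 0 permE6_0 etaE6_0) 19 (dec8 permE6_0 19) (etaOf etaE6_0 19) = true := by
  decide +kernel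

theorem conjE6_0_20 : conjCheck chevE6 (pMonoCol chevE6 0 permE6_0 etaE6_0) 20 (dec8 permE6_0 20) (etaOf etaE6_0 20) = true := by
  decide +kernel

theorem conjE6_0_21 : conjCheck chevE6 (pMonoCol chevE6 0 permE6_0 etaE6_0) 21 (dec8 permE6_0 21) (etaOf etaE6_0 21) = true := by
  decide +kernel

theorem conjE6_0_22 : conjCheck chevE6 (pMonoCol chevE6 0 permE6_0 etaE6_0) 22 (dec8 permE6_0 22) (etaOf etaE6_0 22) = true := by
  decide +kernel

theorem conjE6_0_23 : conjCheck chevE6 (pMonoCol chevE6 0 permE6_0 etaE6_0) 23 (dec8 permE6_0 23) (etaOf etaE6_0 23) = true := by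
  decide +kernel

theorem conjE6_0_24 : conjCheck chevE6 (pMonoCol chevE6 0 permE6_0 etaE6_0) 24 (dec8 permE6_0 24) (etaOf etaE6_0 24) = true := by
  decide +kernel

theorem conjE6_0_25 : conjCheck chevE6 (pMonoCol chevE6 0 permE6_0 etaE6_0) 25 (dec8 permE6_0 25) (etaOf etaE6_0 25) = true := by
  decide +kernel

theorem conjE6_0_26 : conjCheck chevE6 (pMonoCol chevE6 0 permE6_0 etaE6_0) 26 (dec8 permE6_0 26) (etaOf etaE6_0 26) = true := by
  decide +kernel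

theorem conjE6_0_27 : conjCheck chevE6 (pMonoCol chevE6 0 permE6_0 etaE6_0) 27 (dec8 permE6_0 27) (etaOf etaE6_0 27) = true := by
  decide +kernel

theorem conjE6_0_28 : conjCheck chevE6 (pMonoCol chevE6 0 permE6_0 etaE6_0) 28 (dec8 permE6_0 28) (etaOf etaE6_0 28) = true := by
  decide +kernel

theorem conjE6_0_29 : conjCheck chevE6 (pMonoCol chevE6 0 permE6_0 etaE6_0) 29 (dec8 permE6_0 29) (etaOf etaE6_0 29) = true := by
  decide +kernel

theorem conjE6_0_30 : conjCheck chevE6 (pMonoCol chevE6 0 permE6_0 etaE6_0) 30 (dec8 permE6_0 30) (etaOf etaE6_0 30) = true := by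
  decide +kernel

theorem conjE6_0_31 : conjCheck chevE6 (pMonoCol chevE6 0 permE6_0 etaE6_0) 31 (dec8 permE6_0 31) (etaOf etaE6_0 31) = true := by
  decide +kernel

theorem conjE6_0_32 : conjCheck chevE6 (pMonoCol chevE6 0 permE6_0 etaE6_0) 32 (dec8 permE6_0 32) (etaOf etaE6_0 32) = true := by
  decide +kernel

theorem conjE6_0_33 : conjCheck chevE6 (pMonoCol chevE6 0 permE6_0 etaE6_0) 33 (dec8 permE6_0 33) (etaOf etaE6_0 33) = true := by
  decide +kernel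

theorem conjE6_0_34 : conjCheck chevE6 (pMonoCol chevE6 0 permE6_0 etaE6_0) 34 (dec8 permE6_0 34) (etaOf etaE6_0 34) = true := by
  decide +kernel

theorem conjE6_0_35 : conjCheck chevE6 (pMonoCol chevE6 0 permE6_0 etaE6_0) 35 (dec8 permE6_0 35) (etaOf etaE6_0 35) = true := by
  decide +kernel

theorem conjE6_0_36 : conjCheck chevE6 (pMonoCol chevE6 0 permE6_0 etaE6_0) 36 (dec8 permE6_0 36) (etaOf etaE6_0 36) = true := by
  decide +kernel

theorem conjE6_0_37 : conjCheck chevE6 (pMonoCol chevE6 0 permE6_0 etaE6_0) 37 (dec8 permE6_0 37) (etaOf etaE6_0 37) = true := by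
  decide +kernel

theorem conjE6_0_38 : conjCheck chevE6 (pMonoCol chevE6 0 permE6_0 etaE6_0) 38 (dec8 permE6_0 38) (etaOf etaE6_0 38) = true := by
  decide +kernel

theorem conjE6_0_39 : conjCheck chevE6 (pMonoCol chevE6 0 permE6_0 etaE6_0) 39 (dec8 permE6_0 39) (etaOf etaE6_0 39) = true := by
  decide +kernel

theorem conjE6_0_40 : conjCheck chevE6 (pMonoCol chevE6 0 permE6_0 etaE6_0) 40 (dec8 permE6_0 40) (etaOf etaE6_0 40) = true := by
  decide +kernel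

theorem conjE6_0_41 : conjCheck chevE6 (pMonoCol chevE6 0 permE6_0 etaE6_0) 41 (dec8 permE6_0 41) (etaOf etaE6_0 41) = true := by
  decide +kernel

theorem conjE6_0_42 : conjCheck chevE6 (pMonoCol chevE6 0 permE6_0 etaE6_0) 42 (dec8 permE6_0 42) (etaOf etaE6_0 42) = true := by
  decide +kernel

theorem conjE6_0_43 : conjCheck chevE6 (pMonoCol chevE6 0 permE6_0 etaE6_0) 43 (dec8 permE6_0 43) (etaOf etaE6_0 43) = true := by
  decide +kernel

theorem conjE6_0_44 : conjCheck chevE6 (pMonoCol chevE6 0 permE6_0 etaE6_0) 44 (dec8 permE6_0 44) (etaOf etaE6_0 44) = true := by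
  decide +kernel

theorem conjE6_0_45 : conjCheck chevE6 (pMonoCol chevE6 0 permE6_0 etaE6_0) 45 (dec8 permE6_0 45) (etaOf etaE6_0 45) = true := by
  decide +kernel

theorem conjE6_0_46 : conjCheck chevE6 (pMonoCol chevE6 0 permE6_0 etaE6_0) 46 (dec8 permE6_0 46) (etaOf etaE6_0 46) = true := by
  decide +kernel

theorem conjE6_0_47 : conjCheck chevE6 (pMonoCol chevE6 0 permE6_0 etaE6_0) 47 (dec8 permE6_0 47) (etaOf etaE6_0 47) = true := by
  decide +kernel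

theorem conjE6_0_48 : conjCheck chevE6 (pMonoCol chevE6 0 permE6_0 etaE6_0) 48 (dec8 permE6_0 48) (etaOf etaE6_0 48) = true := by
  decide +kernel

theorem conjE6_0_49 : conjCheck chevE6 (pMonoCol chevE6 0 permE6_0 etaE6_0) 49 (dec8 permE6_0 49) (etaOf etaE6_0 49) = true := by
  decide +kernel

theorem conjE6_0_50 : conjCheck chevE6 (pMonoCol chevE6 0 permE6_0 etaE6_0) 50 (dec8 permE6_0 50) (etaOf etaE6_0 50) = true := by
  decide +kernel

theorem conjE6_0_51 : conjCheck chevE6 (pMonoCol chevE6 0 permE6_0 etaE6_0) 51 (dec8 permE6_0 51) (etaOf etaE6_0 51) = true := by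
  decide +kernel

theorem conjE6_0_52 : conjCheck chevE6 (pMonoCol chevE6 0 permE6_0 etaE6_0) 52 (dec8 permE6_0 52) (etaOf etaE6_0 52) = true := by
  decide +kernel

theorem conjE6_0_53 : conjCheck chevE6 (pMonoCol chevE6 0 permE6_0 etaE6_0) 53 (dec8 permE6_0 53) (etaOf etaE6_0 53) = true := by
  decide +kernel

theorem conjE6_0_54 : conjCheck chevE6 (pMonoCol chevE6 0 permE6_0 etaE6_0) 54 (dec8 permE6_0 54) (etaOf etaE6_0 54) = true := by
  decide +kernel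

theorem conjE6_0_55 : conjCheck chevE6 (pMonoCol chevE6 0 permE6_0 etaE6_0) 55 (dec8 permE6_0 55) (etaOf etaE6_0 55) = true := by
  decide +kernel

theorem conjE6_0_56 : conjCheck chevE6 (pMonoCol chevE6 0 permE6_0 etaE6_0) 56 (dec8 permE6_0 56) (etaOf etaE6_0 56) = true := by
  decide +kernel

theorem conjE6_0_57 : conjCheck chevE6 (pMonoCol chevE6 0 permE6_0 etaE6_0) 57 (dec8 permE6_0 57) (etaOf etaE6_0 57) = true := by
  decide +kernel

theorem conjE6_0_58 : conjCheck chevE6 (pMonoCol chevE6 0 permE6_0 etaE6_0) 58 (dec8 permE6_0 58) (etaOf etaE6_0 58) = true := by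
  decide +kernel

theorem conjE6_0_59 : conjCheck chevE6 (pMonoCol chevE6 0 permE6_0 etaE6_0) 59 (dec8 permE6_0 59) (etaOf etaE6_0 59) = true := by
  decide +kernel

theorem conjE6_0_60 : conjCheck chevE6 (pMonoCol chevE6 0 permE6_0 etaE6_0) 60 (dec8 permE6_0 60) (etaOf etaE6_0 60) = true := by
  decide +kernel

theorem conjE6_0_61 : conjCheck chevE6 (pMonoCol chevE6 0 permE6_0 etaE6_0) 61 (dec8 permE6_0 61) (etaOf etaE6_0 61) = true := by
  decide +kernel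

theorem conjE6_0_62 : conjCheck chevE6 (pMonoCol chevE6 0 permE6_0 etaE6_0) 62 (dec8 permE6_0 62) (etaOf etaE6_0 62) = true := by
  decide +kernel

theorem conjE6_0_63 : conjCheck chevE6 (pMonoCol chevE6 0 permE6_0 etaE6_0) 63 (dec8 permE6_0 63) (etaOf etaE6_0 63) = true := by
  decide +kernel

theorem conjE6_0_64 : conjCheck chevE6 (pMonoCol chevE6 0 permE6_0 etaE6_0) 64 (dec8 permE6_0 64) (etaOf etaE6_0 64) = true := by
  decide +kernel

theorem conjE6_0_65 : conjCheck chevE6 (pMonoCol chevE6 0 permE6_0 etaE6_0) 65 (dec8 permE6_0 65) (etaOf etaE6_0 65) = true := by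
  decide +kernel

theorem conjE6_0_66 : conjCheck chevE6 (pMonoCol chevE6 0 permE6_0 etaE6_0) 66 (dec8 permE6_0 66) (etaOf etaE6_0 66) = true := by
  decide +kernel

theorem conjE6_0_67 : conjCheck chevE6 (pMonoCol chevE6 0 permE6_0 etaE6_0) 67 (dec8 permE6_0 67) (etaOf etaE6_0 67) = true := by
  decide +kernel

theorem conjE6_0_68 : conjCheck chevE6 (pMonoCol chevE6 0 permE6_0 etaE6_0) 68 (dec8 permE6_0 68) (etaOf etaE6_0 68) = true := by
  decide +kernel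

theorem conjE6_0_69 : conjCheck chevE6 (pMonoCol chevE6 0 permE6_0 etaE6_0) 69 (dec8 permE6_0 69) (etaOf etaE6_0 69) = true := by
  decide +kernel

theorem conjE6_0_70 : conjCheck chevE6 (pMonoCol chevE6 0 permE6_0 etaE6_0) 70 (dec8 permE6_0 70) (etaOf etaE6_0 70) = true := by
  decide +kernel

theorem conjE6_0_71 : conjCheck chevE6 (pMonoCol chevE6 0 permE6_0 etaE6_0) 71 (dec8 permE6_0 71) (etaOf etaE6_0 71) = true := by
  decide +kernel

theorem conjE6_0_from0 (s : ℕ) (h1 : 0 ≤ s) (h2 : s < 72) : conjCheck chevE6 (pMonoCol chevE6 0 permE6_0 etaE6_0) s (dec8 permE6_0 s) (etaOf etaE6_0 s) = true := by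
  have h : s = 0 ∨ s = 1 ∨ s = 2 ∨ s = 3 ∨ s = 4 ∨ s = 5 ∨ s = 6 ∨ s = 7 ∨ s = 8 ∨ s = 9 ∨ s = 10 ∨ s = 11 ∨ s = 12 ∨ s = 13 ∨ s = 14 ∨ s = 15 ∨ s = 16 ∨ s = 17 ∨ s = 18 ∨ s = 19 ∨ s = 20 ∨ s = 21 ∨ s = 22 ∨ s = 23 ∨ s = 24 ∨ s = 25 ∨ s = 26 ∨ s = 27 ∨ s = 28 ∨ s = 29 ∨ s = 30 ∨ s = 31 ∨ s = 32 ∨ s = 33 ∨ s = 34 ∨ s = 35 ∨ s = 36 ∨ s = 37 ∨ s = 38 ∨ s = 39 ∨ s = 40 ∨ s = 41 ∨ s = 42 ∨ s = 43 ∨ s = 44 ∨ s = 45 ∨ s = 46 ∨ s = 47 ∨ s = 48 ∨ s = 49 ∨ s = 50 ∨ s = 51 ∨ s = 52 ∨ s = 53 ∨ s = 54 ∨ s = 55 ∨ s = 56 ∨ s = 57 ∨ s = 58 ∨ s = 59 ∨ s = 60 ∨ s = 61 ∨ s = 62 ∨ s = 63 ∨ s = 64 ∨ s = 65 ∨ s = 66 ∨ s = 67 ∨ s = 68 ∨ s = 69 ∨ s = 70 ∨ s = 71 := by omega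
  rcases h with rfl | rfl | rfl | rfl | rfl | rfl | rfl | rfl | rfl | rfl | rfl | rfl | rfl | rfl | rfl | rfl | rfl | rfl | rfl | rfl | rfl | rfl | rfl | rfl | rfl | rfl | rfl | rfl | rfl | rfl | rfl | rfl | rfl | rfl | rfl | rfl | rfl | rfl | rfl | rfl | rfl | rfl | rfl | rfl | rfl | rfl | rfl | rfl | rfl | rfl | rfl | rfl | rfl | rfl | rfl | rfl | rfl | rfl | rfl | rfl | rfl | rfl | rfl | rfl | rfl | rfl | rfl | rfl | rfl | rfl | rfl | rfl
  exacts [conjE6_0_0, conjE6_0_1, conjE6_0_2, conjE6_0_3, conjE6_0_4, conjE6_0_5, conjE6_0_6, conjE6_0_7, conjE6_0_8, conjE6_0_9, conjE6_0_10, conjE6_0_11, conjE6_0_12, conjE6_0_13, conjE6_0_14, conjE6_0_15, conjE6_0_16, conjE6_0_17, conjE6_0_18, conjE6_0_19, conjE6_0_20, conjE6_0_21, conjE6_0_22, conjE6_0_23, conjE6_0_24, conjE6_0_25, conjE6_0_26, conjE6_0_27, conjE6_0_28, conjE6_0_29, conjE6_0_30, conjE6_0_31, conjE6_0_32, conjE6_0_33, conjE6_0_34, conjE6_0_35, conjE6_0_36,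 conjE6_0_37, conjE6_0_38, conjE6_0_39, conjE6_0_40, conjE6_0_41, conjE6_0_42, conjE6_0_43, conjE6_0_44, conjE6_0_45, conjE6_0_46, conjE6_0_47, conjE6_0_48, conjE6_0_49, conjE6_0_50, conjE6_0_51, conjE6_0_52, conjE6_0_53, conjE6_0_54, conjE6_0_55, conjE6_0_56, conjE6_0_57, conjE6_0_58, conjE6_0_59, conjE6_0_60, conjE6_0_61, conjE6_0_62, conjE6_0_63, conjE6_0_64, conjE6_0_65, conjE6_0_66, conjE6_0_67, conjE6_0_68, conjE6_0_69, conjE6_0_70, conjE6_0_71]

theorem conjE6_1_0 : conjCheck chevE6 (pMonoCol chevE6 1 permE6_1 etaE6_1) 0 (dec8 permE6_1 0) (etaOf etaE6_1 0) = true := by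
  decide +kernel

theorem conjE6_1_1 : conjCheck chevE6 (pMonoCol chevE6 1 permE6_1 etaE6_1) 1 (dec8 permE6_1 1) (etaOf etaE6_1 1) = true := by
  decide +kernel

theorem conjE6_1_2 : conjCheck chevE6 (pMonoCol chevE6 1 permE6_1 etaE6_1) 2 (dec8 permE6_1 2) (etaOf etaE6_1 2) = true := by
  decide +kernel

theorem conjE6_1_3 : conjCheck chevE6 (pMonoCol chevE6 1 permE6_1 etaE6_1) 3 (dec8 permE6_1 3) (etaOf etaE6_1 3) = true := by
  decide +kernel

theorem conjE6_1_4 : conjCheck chevE6 (pMonoCol chevE6 1 permE6_1 etaE6_1) 4 (dec8 permE6_1 4) (etaOf etaE6_1 4) = true := by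
  decide +kernel

theorem conjE6_1_5 : conjCheck chevE6 (pMonoCol chevE6 1 permE6_1 etaE6_1) 5 (dec8 permE6_1 5) (etaOf etaE6_1 5) = true := by
  decide +kernel

theorem conjE6_1_6 : conjCheck chevE6 (pMonoCol chevE6 1 permE6_1 etaE6_1) 6 (dec8 permE6_1 6) (etaOf etaE6_1 6) = true := by
  decide +kernel

theorem conjE6_1_7 : conjCheck chevE6 (pMonoCol chevE6 1 permE6_1 etaE6_1) 7 (dec8 permE6_1 7) (etaOf etaE6_1 7) = true := by
  decide +kernel

theorem conjE6_1_8 : conjCheck chevE6 (pMonoCol chevE6 1 permE6_1 etaE6_1) 8 (dec8 permE6_1 8) (etaOf etaE6_1 8) = true := by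
  decide +kernel

theorem conjE6_1_9 : conjCheck chevE6 (pMonoCol chevE6 1 permE6_1 etaE6_1) 9 (dec8 permE6_1 9) (etaOf etaE6_1 9) = true := by
  decide +kernel

theorem conjE6_1_10 : conjCheck chevE6 (pMonoCol chevE6 1 permE6_1 etaE6_1) 10 (dec8 permE6_1 10) (etaOf etaE6_1 10) = true := by
  decide +kernel

theorem conjE6_1_11 : conjCheck chevE6 (pMonoCol chevE6 1 permE6_1 etaE6_1) 11 (dec8 permE6_1 11) (etaOf etaE6_1 11) = true := by
  decide +kernel

theorem conjE6_1_12 : conjCheck chevE6 (pMonoCol chevE6 1 permE6_1 etaE6_1) 12 (dec8 permE6_1 12) (etaOf etaE6_1 12) = true := by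
  decide +kernel

theorem conjE6_1_13 : conjCheck chevE6 (pMonoCol chevE6 1 permE6_1 etaE6_1) 13 (dec8 permE6_1 13) (etaOf etaE6_1 13) = true := by
  decide +kernel

theorem conjE6_1_14 : conjCheck chevE6 (pMonoCol chevE6 1 permE6_1 etaE6_1) 14 (dec8 permE6_1 14) (etaOf etaE6_1 14) = true := by
  decide +kernel

theorem conjE6_1_15 : conjCheck chevE6 (pMonoCol chevE6 1 permE6_1 etaE6_1) 15 (dec8 permE6_1 15) (etaOf etaE6_1 15) = true := by
  decide +kernel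

theorem conjE6_1_16 : conjCheck chevE6 (pMonoCol chevE6 1 permE6_1 etaE6_1) 16 (dec8 permE6_1 16) (etaOf etaE6_1 16) = true := by
  decide +kernel

theorem conjE6_1_17 : conjCheck chevE6 (pMonoCol chevE6 1 permE6_1 etaE6_1) 17 (dec8 permE6_1 17) (etaOf etaE6_1 17) = true := by
  decide +kernel

theorem conjE6_1_18 : conjCheck chevE6 (pMonoCol chevE6 1 permE6_1 etaE6_1) 18 (dec8 permE6_1 18) (etaOf etaE6_1 18) = true := by
  decide +kernel

theorem conjE6_1_19 : conjCheck chevE6 (pMonoCol chevE6 1 permE6_1 etaE6_1) 19 (dec8 permE6_1 19) (etaOf etaE6_1 19) = true := by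
  decide +kernel

theorem conjE6_1_20 : conjCheck chevE6 (pMonoCol chevE6 1 permE6_1 etaE6_1) 20 (dec8 permE6_1 20) (etaOf etaE6_1 20) = true := by
  decide +kernel

theorem conjE6_1_21 : conjCheck chevE6 (pMonoCol chevE6 1 permE6_1 etaE6_1) 21 (dec8 permE6_1 21) (etaOf etaE6_1 21) = true := by
  decide +kernel

theorem conjE6_1_22 : conjCheck chevE6 (pMonoCol chevE6 1 permE6_1 etaE6_1) 22 (dec8 permE6_1 22) (etaOf etaE6_1 22) = true := by
  decide +kernel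

theorem conjE6_1_23 : conjCheck chevE6 (pMonoCol chevE6 1 permE6_1 etaE6_1) 23 (dec8 permE6_1 23) (etaOf etaE6_1 23) = true := by
  decide +kernel

theorem conjE6_1_24 : conjCheck chevE6 (pMonoCol chevE6 1 permE6_1 etaE6_1) 24 (dec8 permE6_1 24) (etaOf etaE6_1 24) = true := by
  decide +kernel

theorem conjE6_1_25 : conjCheck chevE6 (pMonoCol chevE6 1 permE6_1 etaE6_1) 25 (dec8 permE6_1 25) (etaOf etaE6_1 25) = true := by
  decide +kernel

theorem conjE6_1_26 : conjCheck chevE6 (pMonoCol chevE6 1 permE6_1 etaE6_1) 26 (dec8 permE6_1 26) (etaOf etaE6_1 26) = true := by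
  decide +kernel

theorem conjE6_1_27 : conjCheck chevE6 (pMonoCol chevE6 1 permE6_1 etaE6_1) 27 (dec8 permE6_1 27) (etaOf etaE6_1 27) = true := by
  decide +kernel

theorem conjE6_1_28 : conjCheck chevE6 (pMonoCol chevE6 1 permE6_1 etaE6_1) 28 (dec8 permE6_1 28) (etaOf etaE6_1 28) = true := by
  decide +kernel

theorem conjE6_1_29 : conjCheck chevE6 (pMonoCol chevE6 1 permE6_1 etaE6_1) 29 (dec8 permE6_1 29) (etaOf etaE6_1 29) = true := by
  decide +kernel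

theorem conjE6_1_30 : conjCheck chevE6 (pMonoCol chevE6 1 permE6_1 etaE6_1) 30 (dec8 permE6_1 30) (etaOf etaE6_1 30) = true := by
  decide +kernel

theorem conjE6_1_31 : conjCheck chevE6 (pMonoCol chevE6 1 permE6_1 etaE6_1) 31 (dec8 permE6_1 31) (etaOf etaE6_1 31) = true := by
  decide +kernel

theorem conjE6_1_32 : conjCheck chevE6 (pMonoCol chevE6 1 permE6_1 etaE6_1) 32 (dec8 permE6_1 32) (etaOf etaE6_1 32) = true := by
  decide +kernel

theorem conjE6_1_33 : conjCheck chevE6 (pMonoCol chevE6 1 permE6_1 etaE6_1) 33 (dec8 permE6_1 33) (etaOf etaE6_1 33) = true := by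
  decide +kernel

theorem conjE6_1_34 : conjCheck chevE6 (pMonoCol chevE6 1 permE6_1 etaE6_1) 34 (dec8 permE6_1 34) (etaOf etaE6_1 34) = true := by
  decide +kernel

theorem conjE6_1_35 : conjCheck chevE6 (pMonoCol chevE6 1 permE6_1 etaE6_1) 35 (dec8 permE6_1 35) (etaOf etaE6_1 35) = true := by
  decide +kernel

theorem conjE6_1_36 : conjCheck chevE6 (pMonoCol chevE6 1 permE6_1 etaE6_1) 36 (dec8 permE6_1 36) (etaOf etaE6_1 36) = true := by
  decide +kernel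

theorem conjE6_1_37 : conjCheck chevE6 (pMonoCol chevE6 1 permE6_1 etaE6_1) 37 (dec8 permE6_1 37) (etaOf etaE6_1 37) = true := by
  decide +kernel

theorem conjE6_1_38 : conjCheck chevE6 (pMonoCol chevE6 1 permE6_1 etaE6_1) 38 (dec8 permE6_1 38) (etaOf etaE6_1 38) = true := by
  decide +kernel

theorem conjE6_1_39 : conjCheck chevE6 (pMonoCol chevE6 1 permE6_1 etaE6_1) 39 (dec8 permE6_1 39) (etaOf etaE6_1 39) = true := by
  decide +kernel

theorem conjE6_1_40 : conjCheck chevE6 (pMonoCol chevE6 1 permE6_1 etaE6_1) 40 (dec8 permE6_1 40) (etaOf etaE6_1 40) = true := by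
  decide +kernel

theorem conjE6_1_41 : conjCheck chevE6 (pMonoCol chevE6 1 permE6_1 etaE6_1) 41 (dec8 permE6_1 41) (etaOf etaE6_1 41) = true := by
  decide +kernel

theorem conjE6_1_42 : conjCheck chevE6 (pMonoCol chevE6 1 permE6_1 etaE6_1) 42 (dec8 permE6_1 42) (etaOf etaE6_1 42) = true := by
  decide +kernel

theorem conjE6_1_43 : conjCheck chevE6 (pMonoCol chevE6 1 permE6_1 etaE6_1) 43 (dec8 permE6_1 43) (etaOf etaE6_1 43) = true := by
  decide +kernel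

theorem conjE6_1_44 : conjCheck chevE6 (pMonoCol chevE6 1 permE6_1 etaE6_1) 44 (dec8 permE6_1 44) (etaOf etaE6_1 44) = true := by
  decide +kernel

theorem conjE6_1_45 : conjCheck chevE6 (pMonoCol chevE6 1 permE6_1 etaE6_1) 45 (dec8 permE6_1 45) (etaOf etaE6_1 45) = true := by
  decide +kernel

theorem conjE6_1_46 : conjCheck chevE6 (pMonoCol chevE6 1 permE6_1 etaE6_1) 46 (dec8 permE6_1 46) (etaOf etaE6_1 46) = true := by
  decide +kernel

theorem conjE6_1_47 : conjCheck chevE6 (pMonoCol chevE6 1 permE6_1 etaE6_1) 47 (dec8 permE6_1 47) (etaOf etaE6_1 47) = true := by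
  decide +kernel

theorem conjE6_1_48 : conjCheck chevE6 (pMonoCol chevE6 1 permE6_1 etaE6_1) 48 (dec8 permE6_1 48) (etaOf etaE6_1 48) = true := by
  decide +kernel

theorem conjE6_1_49 : conjCheck chevE6 (pMonoCol chevE6 1 permE6_1 etaE6_1) 49 (dec8 permE6_1 49) (etaOf etaE6_1 49) = true := by
  decide +kernel

theorem conjE6_1_50 : conjCheck chevE6 (pMonoCol chevE6 1 permE6_1 etaE6_1) 50 (dec8 permE6_1 50) (etaOf etaE6_1 50) = true := by
  decide +kernel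

theorem conjE6_1_51 : conjCheck chevE6 (pMonoCol chevE6 1 permE6_1 etaE6_1) 51 (dec8 permE6_1 51) (etaOf etaE6_1 51) = true := by
  decide +kernel

theorem conjE6_1_52 : conjCheck chevE6 (pMonoCol chevE6 1 permE6_1 etaE6_1) 52 (dec8 permE6_1 52) (etaOf etaE6_1 52) = true := by
  decide +kernel

theorem conjE6_1_53 : conjCheck chevE6 (pMonoCol chevE6 1 permE6_1 etaE6_1) 53 (dec8 permE6_1 53) (etaOf etaE6_1 53) = true := by
  decide +kernel

theorem conjE6_1_54 : conjCheck chevE6 (pMonoCol chevE6 1 permE6_1 etaE6_1) 54 (dec8 permE6_1 54) (etaOf etaE6_1 54) = true := by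
  decide +kernel

theorem conjE6_1_55 : conjCheck chevE6 (pMonoCol chevE6 1 permE6_1 etaE6_1) 55 (dec8 permE6_1 55) (etaOf etaE6_1 55) = true := by
  decide +kernel

theorem conjE6_1_56 : conjCheck chevE6 (pMonoCol chevE6 1 permE6_1 etaE6_1) 56 (dec8 permE6_1 56) (etaOf etaE6_1 56) = true := by
  decide +kernel

theorem conjE6_1_57 : conjCheck chevE6 (pMonoCol chevE6 1 permE6_1 etaE6_1) 57 (dec8 permE6_1 57) (etaOf etaE6_1 57) = true := by
  decide +kernel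

theorem conjE6_1_58 : conjCheck chevE6 (pMonoCol chevE6 1 permE6_1 etaE6_1) 58 (dec8 permE6_1 58) (etaOf etaE6_1 58) = true := by
  decide +kernel

theorem conjE6_1_59 : conjCheck chevE6 (pMonoCol chevE6 1 permE6_1 etaE6_1) 59 (dec8 permE6_1 59) (etaOf etaE6_1 59) = true := by
  decide +kernel

theorem conjE6_1_60 : conjCheck chevE6 (pMonoCol chevE6 1 permE6_1 etaE6_1) 60 (dec8 permE6_1 60) (etaOf etaE6_1 60) = true := by
  decide +kernel

theorem conjE6_1_61 : conjCheck chevE6 (pMonoCol chevE6 1 permE6_1 etaE6_1) 61 (dec8 permE6_1 61) (etaOf etaE6_1 61) = true := by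
  decide +kernel

theorem conjE6_1_62 : conjCheck chevE6 (pMonoCol chevE6 1 permE6_1 etaE6_1) 62 (dec8 permE6_1 62) (etaOf etaE6_1 62) = true := by
  decide +kernel

theorem conjE6_1_63 : conjCheck chevE6 (pMonoCol chevE6 1 permE6_1 etaE6_1) 63 (dec8 permE6_1 63) (etaOf etaE6_1 63) = true := by
  decide +kernel

theorem conjE6_1_64 : conjCheck chevE6 (pMonoCol chevE6 1 permE6_1 etaE6_1) 64 (dec8 permE6_1 64) (etaOf etaE6_1 64) = true := by
  decide +kernel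

theorem conjE6_1_65 : conjCheck chevE6 (pMonoCol chevE6 1 permE6_1 etaE6_1) 65 (dec8 permE6_1 65) (etaOf etaE6_1 65) = true := by
  decide +kernel

theorem conjE6_1_66 : conjCheck chevE6 (pMonoCol chevE6 1 permE6_1 etaE6_1) 66 (dec8 permE6_1 66) (etaOf etaE6_1 66) = true := by
  decide +kernel

theorem conjE6_1_67 : conjCheck chevE6 (pMonoCol chevE6 1 permE6_1 etaE6_1) 67 (dec8 permE6_1 67) (etaOf etaE6_1 67) = true := by
  decide +kernel

theorem conjE6_1_68 : conjCheck chevE6 (pMonoCol chevE6 1 permE6_1 etaE6_1) 68 (dec8 permE6_1 68) (etaOf etaE6_1 68) = true := by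
  decide +kernel

theorem conjE6_1_69 : conjCheck chevE6 (pMonoCol chevE6 1 permE6_1 etaE6_1) 69 (dec8 permE6_1 69) (etaOf etaE6_1 69) = true := by
  decide +kernel

theorem conjE6_1_70 : conjCheck chevE6 (pMonoCol chevE6 1 permE6_1 etaE6_1) 70 (dec8 permE6_1 70) (etaOf etaE6_1 70) = true := by
  decide +kernel

theorem conjE6_1_71 : conjCheck chevE6 (pMonoCol chevE6 1 permE6_1 etaE6_1) 71 (dec8 permE6_1 71) (etaOf etaE6_1 71) = true := by
  decide +kernel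

theorem conjE6_1_from0 (s : ℕ) (h1 : 0 ≤ s) (h2 : s < 72) : conjCheck chevE6 (pMonoCol chevE6 1 permE6_1 etaE6_1) s (dec8 permE6_1 s) (etaOf etaE6_1 s) = true := by
  have h : s = 0 ∨ s = 1 ∨ s = 2 ∨ s = 3 ∨ s = 4 ∨ s = 5 ∨ s = 6 ∨ s = 7 ∨ s = 8 ∨ s = 9 ∨ s = 10 ∨ s = 11 ∨ s = 12 ∨ s = 13 ∨ s = 14 ∨ s = 15 ∨ s = 16 ∨ s = 17 ∨ s = 18 ∨ s = 19 ∨ s = 20 ∨ s = 21 ∨ s = 22 ∨ s = 23 ∨ s = 24 ∨ s = 25 ∨ s = 26 ∨ s = 27 ∨ s = 28 ∨ s = 29 ∨ s = 30 ∨ s = 31 ∨ s = 32 ∨ s = 33 ∨ s = 34 ∨ s = 35 ∨ s = 36 ∨ s = 37 ∨ s = 38 ∨ s = 39 ∨ s = 40 ∨ s = 41 ∨ s = 42 ∨ s = 43 ∨ s = 44 ∨ s = 45 ∨ s = 46 ∨ s = 47 ∨ s = 48 ∨ s = 49 ∨ s = 50 ∨ s = 51 ∨ s = 52 ∨ s = 53 ∨ s = 54 ∨ s = 55 ∨ s = 56 ∨ s = 57 ∨ s = 58 ∨ s = 59 ∨ s = 60 ∨ s = 61 ∨ s = 62 ∨ s = 63 ∨ s = 64 ∨ s = 65 ∨ s = 66 ∨ s = 67 ∨ s = 68 ∨ s = 69 ∨ s = 70 ∨ s = 71 := by omega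
  rcases h with rfl | rfl | rfl | rfl | rfl | rfl | rfl | rfl | rfl | rfl | rfl | rfl | rfl | rfl | rfl | rfl | rfl | rfl | rfl | rfl | rfl | rfl | rfl | rfl | rfl | rfl | rfl | rfl | rfl | rfl | rfl | rfl | rfl | rfl | rfl | rfl | rfl | rfl | rfl | rfl | rfl | rfl | rfl | rfl | rfl | rfl | rfl | rfl | rfl | rfl | rfl | rfl | rfl | rfl | rfl | rfl | rfl | rfl | rfl | rfl | rfl | rfl | rfl | rfl | rfl | rfl | rfl | rfl | rfl | rfl | rfl | rfl
  exacts [conjE6_1_0, conjE6_1_1, conjE6_1_2, conjE6_1_3, conjE6_1_4, conjE6_1_5, conjE6_1_6, conjE6_1_7, conjE6_1_8, conjE6_1_9, conjE6_1_10, conjE6_1_11, conjE6_1_12, conjE6_1_13, conjE6_1_14, conjE6_1_15, conjE6_1_16, conjE6_1_17, conjE6_1_18, conjE6_1_19, conjE6_1_20, conjE6_1_21, conjE6_1_22, conjE6_1_23, conjE6_1_24, conjE6_1_25, conjE6_1_26, conjE6_1_27, conjE6_1_28, conjE6_1_29, conjE6_1_30, conjE6_1_31, conjE6_1_32, conjE6_1_33, conjE6_1_34, conjE6_1_35, conjE6_1_36,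 conjE6_1_37, conjE6_1_38, conjE6_1_39, conjE6_1_40, conjE6_1_41, conjE6_1_42, conjE6_1_43, conjE6_1_44, conjE6_1_45, conjE6_1_46, conjE6_1_47, conjE6_1_48, conjE6_1_49, conjE6_1_50, conjE6_1_51, conjE6_1_52, conjE6_1_53, conjE6_1_54, conjE6_1_55, conjE6_1_56, conjE6_1_57, conjE6_1_58, conjE6_1_59, conjE6_1_60, conjE6_1_61, conjE6_1_62, conjE6_1_63, conjE6_1_64, conjE6_1_65, conjE6_1_66, conjE6_1_67, conjE6_1_68, conjE6_1_69, conjE6_1_70, conjE6_1_71]

theorem conjE6_2_0 : conjCheck chevE6 (pMonoCol chevE6 2 permE6_2 etaE6_2) 0 (dec8 permE6_2 0) (etaOf etaE6_2 0) = true := by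
  decide +kernel

theorem conjE6_2_1 : conjCheck chevE6 (pMonoCol chevE6 2 permE6_2 etaE6_2) 1 (dec8 permE6_2 1) (etaOf etaE6_2 1) = true := by
  decide +kernel

theorem conjE6_2_2 : conjCheck chevE6 (pMonoCol chevE6 2 permE6_2 etaE6_2) 2 (dec8 permE6_2 2) (etaOf etaE6_2 2) = true := by
  decide +kernel

theorem conjE6_2_3 : conjCheck chevE6 (pMonoCol chevE6 2 permE6_2 etaE6_2) 3 (dec8 permE6_2 3) (etaOf etaE6_2 3) = true := by
  decide +kernel

theorem conjE6_2_4 : conjCheck chevE6 (pMonoCol chevE6 2 permE6_2 etaE6_2) 4 (dec8 permE6_2 4) (etaOf etaE6_2 4) = true := by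
  decide +kernel

theorem conjE6_2_5 : conjCheck chevE6 (pMonoCol chevE6 2 permE6_2 etaE6_2) 5 (dec8 permE6_2 5) (etaOf etaE6_2 5) = true := by
  decide +kernel

theorem conjE6_2_6 : conjCheck chevE6 (pMonoCol chevE6 2 permE6_2 etaE6_2) 6 (dec8 permE6_2 6) (etaOf etaE6_2 6) = true := by
  decide +kernel

theorem conjE6_2_7 : conjCheck chevE6 (pMonoCol chevE6 2 permE6_2 etaE6_2) 7 (dec8 permE6_2 7) (etaOf etaE6_2 7) = true := by
  decide +kernel

theorem conjE6_2_8 : conjCheck chevE6 (pMonoCol chevE6 2 permE6_2 etaE6_2) 8 (dec8 permE6_2 8) (etaOf etaE6_2 8) = true := by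
  decide +kernel

theorem conjE6_2_9 : conjCheck chevE6 (pMonoCol chevE6 2 permE6_2 etaE6_2) 9 (dec8 permE6_2 9) (etaOf etaE6_2 9) = true := by
  decide +kernel

theorem conjE6_2_10 : conjCheck chevE6 (pMonoCol chevE6 2 permE6_2 etaE6_2) 10 (dec8 permE6_2 10) (etaOf etaE6_2 10) = true := by
  decide +kernel

theorem conjE6_2_11 : conjCheck chevE6 (pMonoCol chevE6 2 permE6_2 etaE6_2) 11 (dec8 permE6_2 11) (etaOf etaE6_2 11) = true := by
  decide +kernel

theorem conjE6_2_12 : conjCheck chevE6 (pMonoCol chevE6 2 permE6_2 etaE6_2) 12 (dec8 permE6_2 12) (etaOf etaE6_2 12) = true := by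
  decide +kernel

theorem conjE6_2_13 : conjCheck chevE6 (pMonoCol chevE6 2 permE6_2 etaE6_2) 13 (dec8 permE6_2 13) (etaOf etaE6_2 13) = true := by
  decide +kernel

theorem conjE6_2_14 : conjCheck chevE6 (pMonoCol chevE6 2 permE6_2 etaE6_2) 14 (dec8 permE6_2 14) (etaOf etaE6_2 14) = true := by
  decide +kernel

theorem conjE6_2_15 : conjCheck chevE6 (pMonoCol chevE6 2 permE6_2 etaE6_2) 15 (dec8 permE6_2 15) (etaOf etaE6_2 15) = true := by
  decide +kernel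

theorem conjE6_2_16 : conjCheck chevE6 (pMonoCol chevE6 2 permE6_2 etaE6_2) 16 (dec8 permE6_2 16) (etaOf etaE6_2 16) = true := by
  decide +kernel

theorem conjE6_2_17 : conjCheck chevE6 (pMonoCol chevE6 2 permE6_2 etaE6_2) 17 (dec8 permE6_2 17) (etaOf etaE6_2 17) = true := by
  decide +kernel

theorem conjE6_2_18 : conjCheck chevE6 (pMonoCol chevE6 2 permE6_2 etaE6_2) 18 (dec8 permE6_2 18) (etaOf etaE6_2 18) = true := by
  decide +kernel

theorem conjE6_2_19 : conjCheck chevE6 (pMonoCol chevE6 2 permE6_2 etaE6_2) 19 (dec8 permE6_2 19) (etaOf etaE6_2 19) = true := by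
  decide +kernel

theorem conjE6_2_20 : conjCheck chevE6 (pMonoCol chevE6 2 permE6_2 etaE6_2) 20 (dec8 permE6_2 20) (etaOf etaE6_2 20) = true := by
  decide +kernel

theorem conjE6_2_21 : conjCheck chevE6 (pMonoCol chevE6 2 permE6_2 etaE6_2) 21 (dec8 permE6_2 21) (etaOf etaE6_2 21) = true := by
  decide +kernel

theorem conjE6_2_22 : conjCheck chevE6 (pMonoCol chevE6 2 permE6_2 etaE6_2) 22 (dec8 permE6_2 22) (etaOf etaE6_2 22) = true := by
  decide +kernel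

theorem conjE6_2_23 : conjCheck chevE6 (pMonoCol chevE6 2 permE6_2 etaE6_2) 23 (dec8 permE6_2 23) (etaOf etaE6_2 23) = true := by
  decide +kernel

theorem conjE6_2_24 : conjCheck chevE6 (pMonoCol chevE6 2 permE6_2 etaE6_2) 24 (dec8 permE6_2 24) (etaOf etaE6_2 24) = true := by
  decide +kernel

theorem conjE6_2_25 : conjCheck chevE6 (pMonoCol chevE6 2 permE6_2 etaE6_2) 25 (dec8 permE6_2 25) (etaOf etaE6_2 25) = true := by
  decide +kernel

theorem conjE6_2_26 : conjCheck chevE6 (pMonoCol chevE6 2 permE6_2 etaE6_2) 26 (dec8 permE6_2 26) (etaOf etaE6_2 26) = true := by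
  decide +kernel

theorem conjE6_2_27 : conjCheck chevE6 (pMonoCol chevE6 2 permE6_2 etaE6_2) 27 (dec8 permE6_2 27) (etaOf etaE6_2 27) = true := by
  decide +kernel

theorem conjE6_2_28 : conjCheck chevE6 (pMonoCol chevE6 2 permE6_2 etaE6_2) 28 (dec8 permE6_2 28) (etaOf etaE6_2 28) = true := by
  decide +kernel

theorem conjE6_2_29 : conjCheck chevE6 (pMonoCol chevE6 2 permE6_2 etaE6_2) 29 (dec8 permE6_2 29) (etaOf etaE6_2 29) = true := by
  decide +kernel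

theorem conjE6_2_30 : conjCheck chevE6 (pMonoCol chevE6 2 permE6_2 etaE6_2) 30 (dec8 permE6_2 30) (etaOf etaE6_2 30) = true := by
  decide +kernel

theorem conjE6_2_31 : conjCheck chevE6 (pMonoCol chevE6 2 permE6_2 etaE6_2) 31 (dec8 permE6_2 31) (etaOf etaE6_2 31) = true := by
  decide +kernel

theorem conjE6_2_32 : conjCheck chevE6 (pMonoCol chevE6 2 permE6_2 etaE6_2) 32 (dec8 permE6_2 32) (etaOf etaE6_2 32) = true := by
  decide +kernel

theorem conjE6_2_33 : conjCheck chevE6 (pMonoCol chevE6 2 permE6_2 etaE6_2) 33 (dec8 permE6_2 33) (etaOf etaE6_2 33) = true := by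
  decide +kernel

theorem conjE6_2_34 : conjCheck chevE6 (pMonoCol chevE6 2 permE6_2 etaE6_2) 34 (dec8 permE6_2 34) (etaOf etaE6_2 34) = true := by
  decide +kernel

theorem conjE6_2_35 : conjCheck chevE6 (pMonoCol chevE6 2 permE6_2 etaE6_2) 35 (dec8 permE6_2 35) (etaOf etaE6_2 35) = true := by
  decide +kernel

theorem conjE6_2_36 : conjCheck chevE6 (pMonoCol chevE6 2 permE6_2 etaE6_2) 36 (dec8 permE6_2 36) (etaOf etaE6_2 36) = true := by
  decide +kernel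

theorem conjE6_2_37 : conjCheck chevE6 (pMonoCol chevE6 2 permE6_2 etaE6_2) 37 (dec8 permE6_2 37) (etaOf etaE6_2 37) = true := by
  decide +kernel

theorem conjE6_2_38 : conjCheck chevE6 (pMonoCol chevE6 2 permE6_2 etaE6_2) 38 (dec8 permE6_2 38) (etaOf etaE6_2 38) = true := by
  decide +kernel

theorem conjE6_2_39 : conjCheck chevE6 (pMonoCol chevE6 2 permE6_2 etaE6_2) 39 (dec8 permE6_2 39) (etaOf etaE6_2 39) = true := by
  decide +kernel

theorem conjE6_2_40 : conjCheck chevE6 (pMonoCol chevE6 2 permE6_2 etaE6_2) 40 (dec8 permE6_2 40) (etaOf etaE6_2 40) = true := by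
  decide +kernel

theorem conjE6_2_41 : conjCheck chevE6 (pMonoCol chevE6 2 permE6_2 etaE6_2) 41 (dec8 permE6_2 41) (etaOf etaE6_2 41) = true := by
  decide +kernel

theorem conjE6_2_42 : conjCheck chevE6 (pMonoCol chevE6 2 permE6_2 etaE6_2) 42 (dec8 permE6_2 42) (etaOf etaE6_2 42) = true := by
  decide +kernel

theorem conjE6_2_43 : conjCheck chevE6 (pMonoCol chevE6 2 permE6_2 etaE6_2) 43 (dec8 permE6_2 43) (etaOf etaE6_2 43) = true := by
  decide +kernel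

theorem conjE6_2_44 : conjCheck chevE6 (pMonoCol chevE6 2 permE6_2 etaE6_2) 44 (dec8 permE6_2 44) (etaOf etaE6_2 44) = true := by
  decide +kernel

theorem conjE6_2_45 : conjCheck chevE6 (pMonoCol chevE6 2 permE6_2 etaE6_2) 45 (dec8 permE6_2 45) (etaOf etaE6_2 45) = true := by
  decide +kernel

theorem conjE6_2_46 : conjCheck chevE6 (pMonoCol chevE6 2 permE6_2 etaE6_2) 46 (dec8 permE6_2 46) (etaOf etaE6_2 46) = true := by
  decide +kernel

theorem conjE6_2_47 : conjCheck chevE6 (pMonoCol chevE6 2 permE6_2 etaE6_2) 47 (dec8 permE6_2 47) (etaOf etaE6_2 47) = true := by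
  decide +kernel

theorem conjE6_2_48 : conjCheck chevE6 (pMonoCol chevE6 2 permE6_2 etaE6_2) 48 (dec8 permE6_2 48) (etaOf etaE6_2 48) = true := by
  decide +kernel

theorem conjE6_2_49 : conjCheck chevE6 (pMonoCol chevE6 2 permE6_2 etaE6_2) 49 (dec8 permE6_2 49) (etaOf etaE6_2 49) = true := by
  decide +kernel

theorem conjE6_2_50 : conjCheck chevE6 (pMonoCol chevE6 2 permE6_2 etaE6_2) 50 (dec8 permE6_2 50) (etaOf etaE6_2 50) = true := by
  decide +kernel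

theorem conjE6_2_51 : conjCheck chevE6 (pMonoCol chevE6 2 permE6_2 etaE6_2) 51 (dec8 permE6_2 51) (etaOf etaE6_2 51) = true := by
  decide +kernel

theorem conjE6_2_52 : conjCheck chevE6 (pMonoCol chevE6 2 permE6_2 etaE6_2) 52 (dec8 permE6_2 52) (etaOf etaE6_2 52) = true := by
  decide +kernel

theorem conjE6_2_53 : conjCheck chevE6 (pMonoCol chevE6 2 permE6_2 etaE6_2) 53 (dec8 permE6_2 53) (etaOf etaE6_2 53) = true := by
  decide +kernel

theorem conjE6_2_54 : conjCheck chevE6 (pMonoCol chevE6 2 permE6_2 etaE6_2) 54 (dec8 permE6_2 54) (etaOf etaE6_2 54) = true := by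
  decide +kernel

theorem conjE6_2_55 : conjCheck chevE6 (pMonoCol chevE6 2 permE6_2 etaE6_2) 55 (dec8 permE6_2 55) (etaOf etaE6_2 55) = true := by
  decide +kernel

theorem conjE6_2_56 : conjCheck chevE6 (pMonoCol chevE6 2 permE6_2 etaE6_2) 56 (dec8 permE6_2 56) (etaOf etaE6_2 56) = true := by
  decide +kernel

theorem conjE6_2_57 : conjCheck chevE6 (pMonoCol chevE6 2 permE6_2 etaE6_2) 57 (dec8 permE6_2 57) (etaOf etaE6_2 57) = true := by
  decide +kernel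

theorem conjE6_2_58 : conjCheck chevE6 (pMonoCol chevE6 2 permE6_2 etaE6_2) 58 (dec8 permE6_2 58) (etaOf etaE6_2 58) = true := by
  decide +kernel

theorem conjE6_2_59 : conjCheck chevE6 (pMonoCol chevE6 2 permE6_2 etaE6_2) 59 (dec8 permE6_2 59) (etaOf etaE6_2 59) = true := by
  decide +kernel

theorem conjE6_2_60 : conjCheck chevE6 (pMonoCol chevE6 2 permE6_2 etaE6_2) 60 (dec8 permE6_2 60) (etaOf etaE6_2 60) = true := by
  decide +kernel

theorem conjE6_2_61 : conjCheck chevE6 (pMonoCol chevE6 2 permE6_2 etaE6_2) 61 (dec8 permE6_2 61) (etaOf etaE6_2 61) = true := by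
  decide +kernel

theorem conjE6_2_62 : conjCheck chevE6 (pMonoCol chevE6 2 permE6_2 etaE6_2) 62 (dec8 permE6_2 62) (etaOf etaE6_2 62) = true := by
  decide +kernel

theorem conjE6_2_63 : conjCheck chevE6 (pMonoCol chevE6 2 permE6_2 etaE6_2) 63 (dec8 permE6_2 63) (etaOf etaE6_2 63) = true := by
  decide +kernel

theorem conjE6_2_64 : conjCheck chevE6 (pMonoCol chevE6 2 permE6_2 etaE6_2) 64 (dec8 permE6_2 64) (etaOf etaE6_2 64) = true := by
  decide +kernel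

theorem conjE6_2_65 : conjCheck chevE6 (pMonoCol chevE6 2 permE6_2 etaE6_2) 65 (dec8 permE6_2 65) (etaOf etaE6_2 65) = true := by
  decide +kernel

theorem conjE6_2_66 : conjCheck chevE6 (pMonoCol chevE6 2 permE6_2 etaE6_2) 66 (dec8 permE6_2 66) (etaOf etaE6_2 66) = true := by
  decide +kernel

theorem conjE6_2_67 : conjCheck chevE6 (pMonoCol chevE6 2 permE6_2 etaE6_2) 67 (dec8 permE6_2 67) (etaOf etaE6_2 67) = true := by
  decide +kernel

theorem conjE6_2_68 : conjCheck chevE6 (pMonoCol chevE6 2 permE6_2 etaE6_2) 68 (dec8 permE6_2 68) (etaOf etaE6_2 68) = true := by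
  decide +kernel

theorem conjE6_2_69 : conjCheck chevE6 (pMonoCol chevE6 2 permE6_2 etaE6_2) 69 (dec8 permE6_2 69) (etaOf etaE6_2 69) = true := by
  decide +kernel

theorem conjE6_2_70 : conjCheck chevE6 (pMonoCol chevE6 2 permE6_2 etaE6_2) 70 (dec8 permE6_2 70) (etaOf etaE6_2 70) = true := by
  decide +kernel

theorem conjE6_2_71 : conjCheck chevE6 (pMonoCol chevE6 2 permE6_2 etaE6_2) 71 (dec8 permE6_2 71) (etaOf etaE6_2 71) = true := by
  decide +kernel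

theorem conjE6_2_from0 (s : ℕ) (h1 : 0 ≤ s) (h2 : s < 72) : conjCheck chevE6 (pMonoCol chevE6 2 permE6_2 etaE6_2) s (dec8 permE6_2 s) (etaOf etaE6_2 s) = true := by
  have h : s = 0 ∨ s = 1 ∨ s = 2 ∨ s = 3 ∨ s = 4 ∨ s = 5 ∨ s = 6 ∨ s = 7 ∨ s = 8 ∨ s = 9 ∨ s = 10 ∨ s = 11 ∨ s = 12 ∨ s = 13 ∨ s = 14 ∨ s = 15 ∨ s = 16 ∨ s = 17 ∨ s = 18 ∨ s = 19 ∨ s = 20 ∨ s = 21 ∨ s = 22 ∨ s = 23 ∨ s = 24 ∨ s = 25 ∨ s = 26 ∨ s = 27 ∨ s = 28 ∨ s = 29 ∨ s = 30 ∨ s = 31 ∨ s = 32 ∨ s = 33 ∨ s = 34 ∨ s = 35 ∨ s = 36 ∨ s = 37 ∨ s = 38 ∨ s = 39 ∨ s = 40 ∨ s = 41 ∨ s = 42 ∨ s = 43 ∨ s = 44 ∨ s = 45 ∨ s = 46 ∨ s = 47 ∨ s = 48 ∨ s = 49 ∨ s = 50 ∨ s = 51 ∨ s = 52 ∨ s = 53 ∨ s = 54 ∨ s = 55 ∨ s = 56 ∨ s = 57 ∨ s = 58 ∨ s = 59 ∨ s = 60 ∨ s = 61 ∨ s = 62 ∨ s = 63 ∨ s = 64 ∨ s = 65 ∨ s = 66 ∨ s = 67 ∨ s = 68 ∨ s = 69 ∨ s = 70 ∨ s = 71 := by omega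
  rcases h with rfl | rfl | rfl | rfl | rfl | rfl | rfl | rfl | rfl | rfl | rfl | rfl | rfl | rfl | rfl | rfl | rfl | rfl | rfl | rfl | rfl | rfl | rfl | rfl | rfl | rfl | rfl | rfl | rfl | rfl | rfl | rfl | rfl | rfl | rfl | rfl | rfl | rfl | rfl | rfl | rfl | rfl | rfl | rfl | rfl | rfl | rfl | rfl | rfl | rfl | rfl | rfl | rfl | rfl | rfl | rfl | rfl | rfl | rfl | rfl | rfl | rfl | rfl | rfl | rfl | rfl | rfl | rfl | rfl | rfl | rfl | rfl
  exacts [conjE6_2_0, conjE6_2_1, conjE6_2_2, conjE6_2_3, conjE6_2_4, conjE6_2_5, conjE6_2_6, conjE6_2_7, conjE6_2_8, conjE6_2_9, conjE6_2_10, conjE6_2_11, conjE6_2_12, conjE6_2_13, conjE6_2_14, conjE6_2_15, conjE6_2_16, conjE6_2_17, conjE6_2_18, conjE6_2_19, conjE6_2_20, conjE6_2_21, conjE6_2_22, conjE6_2_23, conjE6_2_24, conjE6_2_25, conjE6_2_26, conjE6_2_27, conjE6_2_28, conjE6_2_29, conjE6_2_30, conjE6_2_31, conjE6_2_32, conjE6_2_33, conjE6_2_34, conjE6_2_35, conjE6_2_36,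 conjE6_2_37, conjE6_2_38, conjE6_2_39, conjE6_2_40, conjE6_2_41, conjE6_2_42, conjE6_2_43, conjE6_2_44, conjE6_2_45, conjE6_2_46, conjE6_2_47, conjE6_2_48, conjE6_2_49, conjE6_2_50, conjE6_2_51, conjE6_2_52, conjE6_2_53, conjE6_2_54, conjE6_2_55, conjE6_2_56, conjE6_2_57, conjE6_2_58, conjE6_2_59, conjE6_2_60, conjE6_2_61, conjE6_2_62, conjE6_2_63, conjE6_2_64, conjE6_2_65, conjE6_2_66, conjE6_2_67, conjE6_2_68, conjE6_2_69, conjE6_2_70, conjE6_2_71]

end Cfsg.Agent.Helper18
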