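import Cfsg.Agent.Lib.Helper18.ConjData

set_option autoImplicit false
set_option maxRecDepth 100000
set_option Elab.async false

namespace Cfsg.Agent.Helper18

open Cfsg.Lie

theorem conjE6_3_0 : conjCheck chevE6 (pMonoCol chevE6 3 permE6_3 etaE6_3) 0 (dec8 permE6_3 0) (etaOf etaE6_3 0) = true := by
  decide +kernel

theorem conjE6_3_1 : conjCheck chevE6 (pMonoCol chevE6 3 permE6_3 etaE6_3) 1 (dec8 permE6_3 1) (etaOf etaE6_3 1) = true := by
  decide +kernel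

theorem conjE6_3_2 : conjCheck chevE6 (pMonoCol chevE6 3 permE6_3 etaE6_3) 2 (dec8 permE6_3 2) (etaOf etaE6_3 2) = true := by
  decide +kernel

theorem conjE6_3_3 : conjCheck chevE6 (pMonoCol chevE6 3 permE6_3 etaE6_3) 3 (dec8 permE6_3 3) (etaOf etaE6_3 3) = true := by
  decide +kernel

theorem conjE6_3_4 : conjCheck chevE6 (pMonoCol chevE6 3 permE6_3 etaE6_3) 4 (dec8 permE6_3 4) (etaOf etaE6_3 4) = true := by
  decide +kernel

theorem conjE6_3_5 : conjCheck chevE6 (pMonoCol chevE6 3 permE6_3 etaE6_3) 5 (dec8 permE6_3 5) (etaOf etaE6_3 5) = true := by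
  decide +kernel

theorem conjE6_3_6 : conjCheck chevE6 (pMonoCol chevE6 3 permE6_3 etaE6_3) 6 (dec8 permE6_3 6) (etaOf etaE6_3 6) = true := by
  decide +kernel

theorem conjE6_3_7 : conjCheck chevE6 (pMonoCol chevE6 3 permE6_3 etaE6_3) 7 (dec8 permE6_3 7) (etaOf etaE6_3 7) = true := by
  decide +kernel

theorem conjE6_3_8 : conjCheck chevE6 (pMonoCol chevE6 3 permE6_3 etaE6_3) 8 (dec8 permE6_3 8) (etaOf etaE6_3 8) = true := by
  decide +kernel

theorem conjE6_3_9 : conjCheck chevE6 (pMonoCol chevE6 3 permE6_3 etaE6_3) 9 (dec8 permE6_3 9) (etaOf etaE6_3 9) = true := by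
  decide +kernel

theorem conjE6_3_10 : conjCheck chevE6 (pMonoCol chevE6 3 permE6_3 etaE6_3) 10 (dec8 permE6_3 10) (etaOf etaE6_3 10) = true := by
  decide +kernel

theorem conjE6_3_11 : conjCheck chevE6 (pMonoCol chevE6 3 permE6_3 etaE6_3) 11 (dec8 permE6_3 11) (etaOf etaE6_3 11) = true := by
  decide +kernel

theorem conjE6_3_12 : conjCheck chevE6 (pMonoCol chevE6 3 permE6_3 etaE6_3) 12 (dec8 permE6_3 12) (etaOf etaE6_3 12) = true := by
  decide +kernel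

theorem conjE6_3_13 : conjCheck chevE6 (pMonoCol chevE6 3 permE6_3 etaE6_3) 13 (dec8 permE6_3 13) (etaOf etaE6_3 13) = true := by
  decide +kernel

theorem conjE6_3_14 : conjCheck chevE6 (pMonoCol chevE6 3 permE6_3 etaE6_3) 14 (dec8 permE6_3 14) (etaOf etaE6_3 14) = true := by
  decide +kernel

theorem conjE6_3_15 : conjCheck chevE6 (pMonoCol chevE6 3 permE6_3 etaE6_3) 15 (dec8 permE6_3 15) (etaOf etaE6_3 15) = true := by
  decide +kernel

theorem conjE6_3_16 : conjCheck chevE6 (pMonoCol chevE6 3 permE6_3 etaE6_3) 16 (dec8 permE6_3 16) (etaOf etaE6_3 16) = true := by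
  decide +kernel

theorem conjE6_3_17 : conjCheck chevE6 (pMonoCol chevE6 3 permE6_3 etaE6_3) 17 (dec8 permE6_3 17) (etaOf etaE6_3 17) = true := by
  decide +kernel

theorem conjE6_3_18 : conjCheck chevE6 (pMonoCol chevE6 3 permE6_3 etaE6_3) 18 (dec8 permE6_3 18) (etaOf etaE6_3 18) = true := by
  decide +kernel

theorem conjE6_3_19 : conjCheck chevE6 (pMonoCol chevE6 3 permE6_3 etaE6_3) 19 (dec8 permE6_3 19) (etaOf etaE6_3 19) = true := by
  decide +kernel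

theorem conjE6_3_20 : conjCheck chevE6 (pMonoCol chevE6 3 permE6_3 etaE6_3) 20 (dec8 permE6_3 20) (etaOf etaE6_3 20) = true := by
  decide +kernel

theorem conjE6_3_21 : conjCheck chevE6 (pMonoCol chevE6 3 permE6_3 etaE6_3) 21 (dec8 permE6_3 21) (etaOf etaE6_3 21) = true := by
  decide +kernel

theorem conjE6_3_22 : conjCheck chevE6 (pMonoCol chevE6 3 permE6_3 etaE6_3) 22 (dec8 permE6_3 22) (etaOf etaE6_3 22) = true := by
  decide +kernel

theorem conjE6_3_23 : conjCheck chevE6 (pMonoCol chevE6 3 permE6_3 etaE6_3) 23 (dec8 permE6_3 23) (etaOf etaE6_3 23) = true := by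
  decide +kernel

theorem conjE6_3_24 : conjCheck chevE6 (pMonoCol chevE6 3 permE6_3 etaE6_3) 24 (dec8 permE6_3 24) (etaOf etaE6_3 24) = true := by
  decide +kernel

theorem conjE6_3_25 : conjCheck chevE6 (pMonoCol chevE6 3 permE6_3 etaE6_3) 25 (dec8 permE6_3 25) (etaOf etaE6_3 25) = true := by
  decide +kernel

theorem conjE6_3_26 : conjCheck chevE6 (pMonoCol chevE6 3 permE6_3 etaE6_3) 26 (dec8 permE6_3 26) (etaOf etaE6_3 26) = true := by
  decide +kernel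

theorem conjE6_3_27 : conjCheck chevE6 (pMonoCol chevE6 3 permE6_3 etaE6_3) 27 (dec8 permE6_3 27) (etaOf etaE6_3 27) = true := by
  decide +kernel

theorem conjE6_3_28 : conjCheck chevE6 (pMonoCol chevE6 3 permE6_3 etaE6_3) 28 (dec8 permE6_3 28) (etaOf etaE6_3 28) = true := by
  decide +kernel

theorem conjE6_3_29 : conjCheck chevE6 (pMonoCol chevE6 3 permE6_3 etaE6_3) 29 (dec8 permE6_3 29) (etaOf etaE6_3 29) = true := by
  decide +kernel

theorem conjE6_3_30 : conjCheck chevE6 (pMonoCol chevE6 3 permE6_3 etaE6_3) 30 (dec8 permE6_3 30) (etaOf etaE6_3 30) = true := by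
  decide +kernel

theorem conjE6_3_31 : conjCheck chevE6 (pMonoCol chevE6 3 permE6_3 etaE6_3) 31 (dec8 permE6_3 31) (etaOf etaE6_3 31) = true := by
  decide +kernel

theorem conjE6_3_32 : conjCheck chevE6 (pMonoCol chevE6 3 permE6_3 etaE6_3) 32 (dec8 permE6_3 32) (etaOf etaE6_3 32) = true := by
  decide +kernel

theorem conjE6_3_33 : conjCheck chevE6 (pMonoCol chevE6 3 permE6_3 etaE6_3) 33 (dec8 permE6_3 33) (etaOf etaE6_3 33) = true := by
  decide +kernel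

theorem conjE6_3_34 : conjCheck chevE6 (pMonoCol chevE6 3 permE6_3 etaE6_3) 34 (dec8 permE6_3 34) (etaOf etaE6_3 34) = true := by
  decide +kernel

theorem conjE6_3_35 : conjCheck chevE6 (pMonoCol chevE6 3 permE6_3 etaE6_3) 35 (dec8 permE6_3 35) (etaOf etaE6_3 35) = true := by
  decide +kernel

theorem conjE6_3_36 : conjCheck chevE6 (pMonoCol chevE6 3 permE6_3 etaE6_3) 36 (dec8 permE6_3 36) (etaOf etaE6_3 36) = true := by
  decide +kernel

theorem conjE6_3_37 : conjCheck chevE6 (pMonoCol chevE6 3 permE6_3 etaE6_3) 37 (dec8 permE6_3 37) (etaOf etaE6_3 37) = true := by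
  decide +kernel

theorem conjE6_3_38 : conjCheck chevE6 (pMonoCol chevE6 3 permE6_3 etaE6_3) 38 (dec8 permE6_3 38) (etaOf etaE6_3 38) = true := by
  decide +kernel

theorem conjE6_3_39 : conjCheck chevE6 (pMonoCol chevE6 3 permE6_3 etaE6_3) 39 (dec8 permE6_3 39) (etaOf etaE6_3 39) = true := by
  decide +kernel

theorem conjE6_3_40 : conjCheck chevE6 (pMonoCol chevE6 3 permE6_3 etaE6_3) 40 (dec8 permE6_3 40) (etaOf etaE6_3 40) = true := by
  decide +kernel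

theorem conjE6_3_41 : conjCheck chevE6 (pMonoCol chevE6 3 permE6_3 etaE6_3) 41 (dec8 permE6_3 41) (etaOf etaE6_3 41) = true := by
  decide +kernel

theorem conjE6_3_42 : conjCheck chevE6 (pMonoCol chevE6 3 permE6_3 etaE6_3) 42 (dec8 permE6_3 42) (etaOf etaE6_3 42) = true := by
  decide +kernel

theorem conjE6_3_43 : conjCheck chevE6 (pMonoCol chevE6 3 permE6_3 etaE6_3) 43 (dec8 permE6_3 43) (etaOf etaE6_3 43) = true := by
  decide +kernel

theorem conjE6_3_44 : conjCheck chevE6 (pMonoCol chevE6 3 permE6_3 etaE6_3) 44 (dec8 permE6_3 44) (etaOf etaE6_3 44) = true := by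
  decide +kernel

theorem conjE6_3_45 : conjCheck chevE6 (pMonoCol chevE6 3 permE6_3 etaE6_3) 45 (dec8 permE6_3 45) (etaOf etaE6_3 45) = true := by
  decide +kernel

theorem conjE6_3_46 : conjCheck chevE6 (pMonoCol chevE6 3 permE6_3 etaE6_3) 46 (dec8 permE6_3 46) (etaOf etaE6_3 46) = true := by
  decide +kernel

theorem conjE6_3_47 : conjCheck chevE6 (pMonoCol chevE6 3 permE6_3 etaE6_3) 47 (dec8 permE6_3 47) (etaOf etaE6_3 47) = true := by
  decide +kernel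

theorem conjE6_3_48 : conjCheck chevE6 (pMonoCol chevE6 3 permE6_3 etaE6_3) 48 (dec8 permE6_3 48) (etaOf etaE6_3 48) = true := by
  decide +kernel

theorem conjE6_3_49 : conjCheck chevE6 (pMonoCol chevE6 3 permE6_3 etaE6_3) 49 (dec8 permE6_3 49) (etaOf etaE6_3 49) = true := by
  decide +kernel

theorem conjE6_3_50 : conjCheck chevE6 (pMonoCol chevE6 3 permE6_3 etaE6_3) 50 (dec8 permE6_3 50) (etaOf etaE6_3 50) = true := by
  decide +kernel

theorem conjE6_3_51 : conjCheck chevE6 (pMonoCol chevE6 3 permE6_3 etaE6_3) 51 (dec8 permE6_3 51) (etaOf etaE6_3 51) = true := by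
  decide +kernel

theorem conjE6_3_52 : conjCheck chevE6 (pMonoCol chevE6 3 permE6_3 etaE6_3) 52 (dec8 permE6_3 52) (etaOf etaE6_3 52) = true := by
  decide +kernel

theorem conjE6_3_53 : conjCheck chevE6 (pMonoCol chevE6 3 permE6_3 etaE6_3) 53 (dec8 permE6_3 53) (etaOf etaE6_3 53) = true := by
  decide +kernel

theorem conjE6_3_54 : conjCheck chevE6 (pMonoCol chevE6 3 permE6_3 etaE6_3) 54 (dec8 permE6_3 54) (etaOf etaE6_3 54) = true := by
  decide +kernel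

theorem conjE6_3_55 : conjCheck chevE6 (pMonoCol chevE6 3 permE6_3 etaE6_3) 55 (dec8 permE6_3 55) (etaOf etaE6_3 55) = true := by
  decide +kernel

theorem conjE6_3_56 : conjCheck chevE6 (pMonoCol chevE6 3 permE6_3 etaE6_3) 56 (dec8 permE6_3 56) (etaOf etaE6_3 56) = true := by
  decide +kernel

theorem conjE6_3_57 : conjCheck chevE6 (pMonoCol chevE6 3 permE6_3 etaE6_3) 57 (dec8 permE6_3 57) (etaOf etaE6_3 57) = true := by
  decide +kernel

theorem conjE6_3_58 : conjCheck chevE6 (pMonoCol chevE6 3 permE6_3 etaE6_3) 58 (dec8 permE6_3 58) (etaOf etaE6_3 58) = true := by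
  decide +kernel

theorem conjE6_3_59 : conjCheck chevE6 (pMonoCol chevE6 3 permE6_3 etaE6_3) 59 (dec8 permE6_3 59) (etaOf etaE6_3 59) = true := by
  decide +kernel

theorem conjE6_3_60 : conjCheck chevE6 (pMonoCol chevE6 3 permE6_3 etaE6_3) 60 (dec8 permE6_3 60) (etaOf etaE6_3 60) = true := by
  decide +kernel

theorem conjE6_3_61 : conjCheck chevE6 (pMonoCol chevE6 3 permE6_3 etaE6_3) 61 (dec8 permE6_3 61) (etaOf etaE6_3 61) = true := by
  decide +kernel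

theorem conjE6_3_62 : conjCheck chevE6 (pMonoCol chevE6 3 permE6_3 etaE6_3) 62 (dec8 permE6_3 62) (etaOf etaE6_3 62) = true := by
  decide +kernel

theorem conjE6_3_63 : conjCheck chevE6 (pMonoCol chevE6 3 permE6_3 etaE6_3) 63 (dec8 permE6_3 63) (etaOf etaE6_3 63) = true := by
  decide +kernel

theorem conjE6_3_64 : conjCheck chevE6 (pMonoCol chevE6 3 permE6_3 etaE6_3) 64 (dec8 permE6_3 64) (etaOf etaE6_3 64) = true := by
  decide +kernel

theorem conjE6_3_65 : conjCheck chevE6 (pMonoCol chevE6 3 permE6_3 etaE6_3) 65 (dec8 permE6_3 65) (etaOf etaE6_3 65) = true := by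
  decide +kernel

theorem conjE6_3_66 : conjCheck chevE6 (pMonoCol chevE6 3 permE6_3 etaE6_3) 66 (dec8 permE6_3 66) (etaOf etaE6_3 66) = true := by
  decide +kernel

theorem conjE6_3_67 : conjCheck chevE6 (pMonoCol chevE6 3 permE6_3 etaE6_3) 67 (dec8 permE6_3 67) (etaOf etaE6_3 67) = true := by
  decide +kernel

theorem conjE6_3_68 : conjCheck chevE6 (pMonoCol chevE6 3 permE6_3 etaE6_3) 68 (dec8 permE6_3 68) (etaOf etaE6_3 68) = true := by
  decide +kernel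

theorem conjE6_3_69 : conjCheck chevE6 (pMonoCol chevE6 3 permE6_3 etaE6_3) 69 (dec8 permE6_3 69) (etaOf etaE6_3 69) = true := by
  decide +kernel

theorem conjE6_3_70 : conjCheck chevE6 (pMonoCol chevE6 3 permE6_3 etaE6_3) 70 (dec8 permE6_3 70) (etaOf etaE6_3 70) = true := by
  decide +kernel

theorem conjE6_3_71 : conjCheck chevE6 (pMonoCol chevE6 3 permE6_3 etaE6_3) 71 (dec8 permE6_3 71) (etaOf etaE6_3 71) = true := by
  decide +kernel

theorem conjE6_3_from0 (s : ℕ) (h1 : 0 ≤ s) (h2 : s < 72) : conjCheck chevE6 (pMonoCol chevE6 3 permE6_3 etaE6_3) s (dec8 permE6_3 s) (etaOf etaE6_3 s) = true := by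
  have h : s = 0 ∨ s = 1 ∨ s = 2 ∨ s = 3 ∨ s = 4 ∨ s = 5 ∨ s = 6 ∨ s = 7 ∨ s = 8 ∨ s = 9 ∨ s = 10 ∨ s = 11 ∨ s = 12 ∨ s = 13 ∨ s = 14 ∨ s = 15 ∨ s = 16 ∨ s = 17 ∨ s = 18 ∨ s = 19 ∨ s = 20 ∨ s = 21 ∨ s = 22 ∨ s = 23 ∨ s = 24 ∨ s = 25 ∨ s = 26 ∨ s = 27 ∨ s = 28 ∨ s = 29 ∨ s = 30 ∨ s = 31 ∨ s = 32 ∨ s = 33 ∨ s = 34 ∨ s = 35 ∨ s = 36 ∨ s = 37 ∨ s = 38 ∨ s = 39 ∨ s = 40 ∨ s = 41 ∨ s = 42 ∨ s = 43 ∨ s = 44 ∨ s = 45 ∨ s = 46 ∨ s = 47 ∨ s = 48 ∨ s = 49 ∨ s = 50 ∨ s = 51 ∨ s = 52 ∨ s = 53 ∨ s = 54 ∨ s = 55 ∨ s = 56 ∨ s = 57 ∨ s = 58 ∨ s = 59 ∨ s = 60 ∨ s = 61 ∨ s = 62 ∨ s = 63 ∨ s = 64 ∨ s = 65 ∨ s = 66 ∨ s = 67 ∨ s = 68 ∨ s = 69 ∨ s = 70 ∨ s = 71 := by omega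
  rcases h with rfl | rfl | rfl | rfl | rfl | rfl | rfl | rfl | rfl | rfl | rfl | rfl | rfl | rfl | rfl | rfl | rfl | rfl | rfl | rfl | rfl | rfl | rfl | rfl | rfl | rfl | rfl | rfl | rfl | rfl | rfl | rfl | rfl | rfl | rfl | rfl | rfl | rfl | rfl | rfl | rfl | rfl | rfl | rfl | rfl | rfl | rfl | rfl | rfl | rfl | rfl | rfl | rfl | rfl | rfl | rfl | rfl | rfl | rfl | rfl | rfl | rfl | rfl | rfl | rfl | rfl | rfl | rfl | rfl | rfl | rfl | rfl
  exacts [conjE6_3_0, conjE6_3_1, conjE6_3_2, conjE6_3_3, conjE6_3_4, conjE6_3_5, conjE6_3_6, conjE6_3_7, conjE6_3_8, conjE6_3_9, conjE6_3_10, conjE6_3_11, conjE6_3_12, conjE6_3_13, conjE6_3_14, conjE6_3_15, conjE6_3_16, conjE6_3_17, conjE6_3_18, conjE6_3_19, conjE6_3_20, conjE6_3_21, conjE6_3_22, conjE6_3_23, conjE6_3_24, conjE6_3_25, conjE6_3_26, conjE6_3_27, conjE6_3_28, conjE6_3_29, conjE6_3_30, conjE6_3_31, conjE6_3_32, conjE6_3_33, conjE6_3_34, conjE6_3_35, conjE6_3_36,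 conjE6_3_37, conjE6_3_38, conjE6_3_39, conjE6_3_40, conjE6_3_41, conjE6_3_42, conjE6_3_43, conjE6_3_44, conjE6_3_45, conjE6_3_46, conjE6_3_47, conjE6_3_48, conjE6_3_49, conjE6_3_50, conjE6_3_51, conjE6_3_52, conjE6_3_53, conjE6_3_54, conjE6_3_55, conjE6_3_56, conjE6_3_57, conjE6_3_58, conjE6_3_59, conjE6_3_60, conjE6_3_61, conjE6_3_62, conjE6_3_63, conjE6_3_64, conjE6_3_65, conjE6_3_66, conjE6_3_67, conjE6_3_68, conjE6_3_69, conjE6_3_70, conjE6_3_71]

theorem conjE6_4_0 : conjCheck chevE6 (pMonoCol chevE6 4 permE6_4 etaE6_4) 0 (dec8 permE6_4 0) (etaOf etaE6_4 0) = true := by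
  decide +kernel

theorem conjE6_4_1 : conjCheck chevE6 (pMonoCol chevE6 4 permE6_4 etaE6_4) 1 (dec8 permE6_4 1) (etaOf etaE6_4 1) = true := by
  decide +kernel

theorem conjE6_4_2 : conjCheck chevE6 (pMonoCol chevE6 4 permE6_4 etaE6_4) 2 (dec8 permE6_4 2) (etaOf etaE6_4 2) = true := by
  decide +kernel

theorem conjE6_4_3 : conjCheck chevE6 (pMonoCol chevE6 4 permE6_4 etaE6_4) 3 (dec8 permE6_4 3) (etaOf etaE6_4 3) = true := by
  decide +kernel

theorem conjE6_4_4 : conjCheck chevE6 (pMonoCol chevE6 4 permE6_4 etaE6_4) 4 (dec8 permE6_4 4) (etaOf etaE6_4 4) = true := by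
  decide +kernel

theorem conjE6_4_5 : conjCheck chevE6 (pMonoCol chevE6 4 permE6_4 etaE6_4) 5 (dec8 permE6_4 5) (etaOf etaE6_4 5) = true := by
  decide +kernel

theorem conjE6_4_6 : conjCheck chevE6 (pMonoCol chevE6 4 permE6_4 etaE6_4) 6 (dec8 permE6_4 6) (etaOf etaE6_4 6) = true := by
  decide +kernel

theorem conjE6_4_7 : conjCheck chevE6 (pMonoCol chevE6 4 permE6_4 etaE6_4) 7 (dec8 permE6_4 7) (etaOf etaE6_4 7) = true := by
  decide +kernel

theorem conjE6_4_8 : conjCheck chevE6 (pMonoCol chevE6 4 permE6_4 etaE6_4) 8 (dec8 permE6_4 8) (etaOf etaE6_4 8) = true := by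
  decide +kernel

theorem conjE6_4_9 : conjCheck chevE6 (pMonoCol chevE6 4 permE6_4 etaE6_4) 9 (dec8 permE6_4 9) (etaOf etaE6_4 9) = true := by
  decide +kernel

theorem conjE6_4_10 : conjCheck chevE6 (pMonoCol chevE6 4 permE6_4 etaE6_4) 10 (dec8 permE6_4 10) (etaOf etaE6_4 10) = true := by
  decide +kernel

theorem conjE6_4_11 : conjCheck chevE6 (pMonoCol chevE6 4 permE6_4 etaE6_4) 11 (dec8 permE6_4 11) (etaOf etaE6_4 11) = true := by
  decide +kernel

theorem conjE6_4_12 : conjCheck chevE6 (pMonoCol chevE6 4 permE6_4 etaE6_4) 12 (dec8 permE6_4 12) (etaOf etaE6_4 12) = true := by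
  decide +kernel

theorem conjE6_4_13 : conjCheck chevE6 (pMonoCol chevE6 4 permE6_4 etaE6_4) 13 (dec8 permE6_4 13) (etaOf etaE6_4 13) = true := by
  decide +kernel

theorem conjE6_4_14 : conjCheck chevE6 (pMonoCol chevE6 4 permE6_4 etaE6_4) 14 (dec8 permE6_4 14) (etaOf etaE6_4 14) = true := by
  decide +kernel

theorem conjE6_4_15 : conjCheck chevE6 (pMonoCol chevE6 4 permE6_4 etaE6_4) 15 (dec8 permE6_4 15) (etaOf etaE6_4 15) = true := by
  decide +kernel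

theorem conjE6_4_16 : conjCheck chevE6 (pMonoCol chevE6 4 permE6_4 etaE6_4) 16 (dec8 permE6_4 16) (etaOf etaE6_4 16) = true := by
  decide +kernel

theorem conjE6_4_17 : conjCheck chevE6 (pMonoCol chevE6 4 permE6_4 etaE6_4) 17 (dec8 permE6_4 17) (etaOf etaE6_4 17) = true := by
  decide +kernel

theorem conjE6_4_18 : conjCheck chevE6 (pMonoCol chevE6 4 permE6_4 etaE6_4) 18 (dec8 permE6_4 18) (etaOf etaE6_4 18) = true := by
  decide +kernel

theorem conjE6_4_19 : conjCheck chevE6 (pMonoCol chevE6 4 permE6_4 etaE6_4) 19 (dec8 permE6_4 19) (etaOf etaE6_4 19) = true := by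
  decide +kernel

theorem conjE6_4_20 : conjCheck chevE6 (pMonoCol chevE6 4 permE6_4 etaE6_4) 20 (dec8 permE6_4 20) (etaOf etaE6_4 20) = true := by
  decide +kernel

theorem conjE6_4_21 : conjCheck chevE6 (pMonoCol chevE6 4 permE6_4 etaE6_4) 21 (dec8 permE6_4 21) (etaOf etaE6_4 21) = true := by
  decide +kernel

theorem conjE6_4_22 : conjCheck chevE6 (pMonoCol chevE6 4 permE6_4 etaE6_4) 22 (dec8 permE6_4 22) (etaOf etaE6_4 22) = true := by
  decide +kernel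

theorem conjE6_4_23 : conjCheck chevE6 (pMonoCol chevE6 4 permE6_4 etaE6_4) 23 (dec8 permE6_4 23) (etaOf etaE6_4 23) = true := by
  decide +kernel

theorem conjE6_4_24 : conjCheck chevE6 (pMonoCol chevE6 4 permE6_4 etaE6_4) 24 (dec8 permE6_4 24) (etaOf etaE6_4 24) = true := by
  decide +kernel

theorem conjE6_4_25 : conjCheck chevE6 (pMonoCol chevE6 4 permE6_4 etaE6_4) 25 (dec8 permE6_4 25) (etaOf etaE6_4 25) = true := by
  decide +kernel

theorem conjE6_4_26 : conjCheck chevE6 (pMonoCol chevE6 4 permE6_4 etaE6_4) 26 (dec8 permE6_4 26) (etaOf etaE6_4 26) = true := by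
  decide +kernel

theorem conjE6_4_27 : conjCheck chevE6 (pMonoCol chevE6 4 permE6_4 etaE6_4) 27 (dec8 permE6_4 27) (etaOf etaE6_4 27) = true := by
  decide +kernel

theorem conjE6_4_28 : conjCheck chevE6 (pMonoCol chevE6 4 permE6_4 etaE6_4) 28 (dec8 permE6_4 28) (etaOf etaE6_4 28) = true := by
  decide +kernel

theorem conjE6_4_29 : conjCheck chevE6 (pMonoCol chevE6 4 permE6_4 etaE6_4) 29 (dec8 permE6_4 29) (etaOf etaE6_4 29) = true := by
  decide +kernel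

theorem conjE6_4_30 : conjCheck chevE6 (pMonoCol chevE6 4 permE6_4 etaE6_4) 30 (dec8 permE6_4 30) (etaOf etaE6_4 30) = true := by
  decide +kernel

theorem conjE6_4_31 : conjCheck chevE6 (pMonoCol chevE6 4 permE6_4 etaE6_4) 31 (dec8 permE6_4 31) (etaOf etaE6_4 31) = true := by
  decide +kernel

theorem conjE6_4_32 : conjCheck chevE6 (pMonoCol chevE6 4 permE6_4 etaE6_4) 32 (dec8 permE6_4 32) (etaOf etaE6_4 32) = true := by
  decide +kernel

theorem conjE6_4_33 : conjCheck chevE6 (pMonoCol chevE6 4 permE6_4 etaE6_4) 33 (dec8 permE6_4 33) (etaOf etaE6_4 33) = true := by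
  decide +kernel

theorem conjE6_4_34 : conjCheck chevE6 (pMonoCol chevE6 4 permE6_4 etaE6_4) 34 (dec8 permE6_4 34) (etaOf etaE6_4 34) = true := by
  decide +kernel

theorem conjE6_4_35 : conjCheck chevE6 (pMonoCol chevE6 4 permE6_4 etaE6_4) 35 (dec8 permE6_4 35) (etaOf etaE6_4 35) = true := by
  decide +kernel

theorem conjE6_4_36 : conjCheck chevE6 (pMonoCol chevE6 4 permE6_4 etaE6_4) 36 (dec8 permE6_4 36) (etaOf etaE6_4 36) = true := by
  decide +kernel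

theorem conjE6_4_37 : conjCheck chevE6 (pMonoCol chevE6 4 permE6_4 etaE6_4) 37 (dec8 permE6_4 37) (etaOf etaE6_4 37) = true := by
  decide +kernel

theorem conjE6_4_38 : conjCheck chevE6 (pMonoCol chevE6 4 permE6_4 etaE6_4) 38 (dec8 permE6_4 38) (etaOf etaE6_4 38) = true := by
  decide +kernel

theorem conjE6_4_39 : conjCheck chevE6 (pMonoCol chevE6 4 permE6_4 etaE6_4) 39 (dec8 permE6_4 39) (etaOf etaE6_4 39) = true := by
  decide +kernel

theorem conjE6_4_40 : conjCheck chevE6 (pMonoCol chevE6 4 permE6_4 etaE6_4) 40 (dec8 permE6_4 40) (etaOf etaE6_4 40) = true := by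
  decide +kernel

theorem conjE6_4_41 : conjCheck chevE6 (pMonoCol chevE6 4 permE6_4 etaE6_4) 41 (dec8 permE6_4 41) (etaOf etaE6_4 41) = true := by
  decide +kernel

theorem conjE6_4_42 : conjCheck chevE6 (pMonoCol chevE6 4 permE6_4 etaE6_4) 42 (dec8 permE6_4 42) (etaOf etaE6_4 42) = true := by
  decide +kernel

theorem conjE6_4_43 : conjCheck chevE6 (pMonoCol chevE6 4 permE6_4 etaE6_4) 43 (dec8 permE6_4 43) (etaOf etaE6_4 43) = true := by
  decide +kernel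

theorem conjE6_4_44 : conjCheck chevE6 (pMonoCol chevE6 4 permE6_4 etaE6_4) 44 (dec8 permE6_4 44) (etaOf etaE6_4 44) = true := by
  decide +kernel

theorem conjE6_4_45 : conjCheck chevE6 (pMonoCol chevE6 4 permE6_4 etaE6_4) 45 (dec8 permE6_4 45) (etaOf etaE6_4 45) = true := by
  decide +kernel

theorem conjE6_4_46 : conjCheck chevE6 (pMonoCol chevE6 4 permE6_4 etaE6_4) 46 (dec8 permE6_4 46) (etaOf etaE6_4 46) = true := by
  decide +kernel

theorem conjE6_4_47 : conjCheck chevE6 (pMonoCol chevE6 4 permE6_4 etaE6_4) 47 (dec8 permE6_4 47) (etaOf etaE6_4 47) = true := by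
  decide +kernel

theorem conjE6_4_48 : conjCheck chevE6 (pMonoCol chevE6 4 permE6_4 etaE6_4) 48 (dec8 permE6_4 48) (etaOf etaE6_4 48) = true := by
  decide +kernel

theorem conjE6_4_49 : conjCheck chevE6 (pMonoCol chevE6 4 permE6_4 etaE6_4) 49 (dec8 permE6_4 49) (etaOf etaE6_4 49) = true := by
  decide +kernel

theorem conjE6_4_50 : conjCheck chevE6 (pMonoCol chevE6 4 permE6_4 etaE6_4) 50 (dec8 permE6_4 50) (etaOf etaE6_4 50) = true := by
  decide +kernel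

theorem conjE6_4_51 : conjCheck chevE6 (pMonoCol chevE6 4 permE6_4 etaE6_4) 51 (dec8 permE6_4 51) (etaOf etaE6_4 51) = true := by
  decide +kernel

theorem conjE6_4_52 : conjCheck chevE6 (pMonoCol chevE6 4 permE6_4 etaE6_4) 52 (dec8 permE6_4 52) (etaOf etaE6_4 52) = true := by
  decide +kernel

theorem conjE6_4_53 : conjCheck chevE6 (pMonoCol chevE6 4 permE6_4 etaE6_4) 53 (dec8 permE6_4 53) (etaOf etaE6_4 53) = true := by
  decide +kernel

theorem conjE6_4_54 : conjCheck chevE6 (pMonoCol chevE6 4 permE6_4 etaE6_4) 54 (dec8 permE6_4 54) (etaOf etaE6_4 54) = true := by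
  decide +kernel

theorem conjE6_4_55 : conjCheck chevE6 (pMonoCol chevE6 4 permE6_4 etaE6_4) 55 (dec8 permE6_4 55) (etaOf etaE6_4 55) = true := by
  decide +kernel

theorem conjE6_4_56 : conjCheck chevE6 (pMonoCol chevE6 4 permE6_4 etaE6_4) 56 (dec8 permE6_4 56) (etaOf etaE6_4 56) = true := by
  decide +kernel

theorem conjE6_4_57 : conjCheck chevE6 (pMonoCol chevE6 4 permE6_4 etaE6_4) 57 (dec8 permE6_4 57) (etaOf etaE6_4 57) = true := by
  decide +kernel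

theorem conjE6_4_58 : conjCheck chevE6 (pMonoCol chevE6 4 permE6_4 etaE6_4) 58 (dec8 permE6_4 58) (etaOf etaE6_4 58) = true := by
  decide +kernel

theorem conjE6_4_59 : conjCheck chevE6 (pMonoCol chevE6 4 permE6_4 etaE6_4) 59 (dec8 permE6_4 59) (etaOf etaE6_4 59) = true := by
  decide +kernel

theorem conjE6_4_60 : conjCheck chevE6 (pMonoCol chevE6 4 permE6_4 etaE6_4) 60 (dec8 permE6_4 60) (etaOf etaE6_4 60) = true := by
  decide +kernel

theorem conjE6_4_61 : conjCheck chevE6 (pMonoCol chevE6 4 permE6_4 etaE6_4) 61 (dec8 permE6_4 61) (etaOf etaE6_4 61) = true := by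
  decide +kernel

theorem conjE6_4_62 : conjCheck chevE6 (pMonoCol chevE6 4 permE6_4 etaE6_4) 62 (dec8 permE6_4 62) (etaOf etaE6_4 62) = true := by
  decide +kernel

theorem conjE6_4_63 : conjCheck chevE6 (pMonoCol chevE6 4 permE6_4 etaE6_4) 63 (dec8 permE6_4 63) (etaOf etaE6_4 63) = true := by
  decide +kernel

theorem conjE6_4_64 : conjCheck chevE6 (pMonoCol chevE6 4 permE6_4 etaE6_4) 64 (dec8 permE6_4 64) (etaOf etaE6_4 64) = true := by
  decide +kernel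

theorem conjE6_4_65 : conjCheck chevE6 (pMonoCol chevE6 4 permE6_4 etaE6_4) 65 (dec8 permE6_4 65) (etaOf etaE6_4 65) = true := by
  decide +kernel

theorem conjE6_4_66 : conjCheck chevE6 (pMonoCol chevE6 4 permE6_4 etaE6_4) 66 (dec8 permE6_4 66) (etaOf etaE6_4 66) = true := by
  decide +kernel

theorem conjE6_4_67 : conjCheck chevE6 (pMonoCol chevE6 4 permE6_4 etaE6_4) 67 (dec8 permE6_4 67) (etaOf etaE6_4 67) = true := by
  decide +kernel

theorem conjE6_4_68 : conjCheck chevE6 (pMonoCol chevE6 4 permE6_4 etaE6_4) 68 (dec8 permE6_4 68) (etaOf etaE6_4 68) = true := by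
  decide +kernel

theorem conjE6_4_69 : conjCheck chevE6 (pMonoCol chevE6 4 permE6_4 etaE6_4) 69 (dec8 permE6_4 69) (etaOf etaE6_4 69) = true := by
  decide +kernel

theorem conjE6_4_70 : conjCheck chevE6 (pMonoCol chevE6 4 permE6_4 etaE6_4) 70 (dec8 permE6_4 70) (etaOf etaE6_4 70) = true := by
  decide +kernel

theorem conjE6_4_71 : conjCheck chevE6 (pMonoCol chevE6 4 permE6_4 etaE6_4) 71 (dec8 permE6_4 71) (etaOf etaE6_4 71) = true := by
  decide +kernel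

theorem conjE6_4_from0 (s : ℕ) (h1 : 0 ≤ s) (h2 : s < 72) : conjCheck chevE6 (pMonoCol chevE6 4 permE6_4 etaE6_4) s (dec8 permE6_4 s) (etaOf etaE6_4 s) = true := by
  have h : s = 0 ∨ s = 1 ∨ s = 2 ∨ s = 3 ∨ s = 4 ∨ s = 5 ∨ s = 6 ∨ s = 7 ∨ s = 8 ∨ s = 9 ∨ s = 10 ∨ s = 11 ∨ s = 12 ∨ s = 13 ∨ s = 14 ∨ s = 15 ∨ s = 16 ∨ s = 17 ∨ s = 18 ∨ s = 19 ∨ s = 20 ∨ s = 21 ∨ s = 22 ∨ s = 23 ∨ s = 24 ∨ s = 25 ∨ s = 26 ∨ s = 27 ∨ s = 28 ∨ s = 29 ∨ s = 30 ∨ s = 31 ∨ s = 32 ∨ s = 33 ∨ s = 34 ∨ s = 35 ∨ s = 36 ∨ s = 37 ∨ s = 38 ∨ s = 39 ∨ s = 40 ∨ s = 41 ∨ s = 42 ∨ s = 43 ∨ s = 44 ∨ s = 45 ∨ s = 46 ∨ s = 47 ∨ s = 48 ∨ s = 49 ∨ s = 50 ∨ s = 51 ∨ s = 52 ∨ s = 53 ∨ s = 54 ∨ s = 55 ∨ s = 56 ∨ s = 57 ∨ s = 58 ∨ s = 59 ∨ s = 60 ∨ s = 61 ∨ s = 62 ∨ s = 63 ∨ s = 64 ∨ s = 65 ∨ s = 66 ∨ s = 67 ∨ s = 68 ∨ s = 69 ∨ s = 70 ∨ s = 71 := by omega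
  rcases h with rfl | rfl | rfl | rfl | rfl | rfl | rfl | rfl | rfl | rfl | rfl | rfl | rfl | rfl | rfl | rfl | rfl | rfl | rfl | rfl | rfl | rfl | rfl | rfl | rfl | rfl | rfl | rfl | rfl | rfl | rfl | rfl | rfl | rfl | rfl | rfl | rfl | rfl | rfl | rfl | rfl | rfl | rfl | rfl | rfl | rfl | rfl | rfl | rfl | rfl | rfl | rfl | rfl | rfl | rfl | rfl | rfl | rfl | rfl | rfl | rfl | rfl | rfl | rfl | rfl | rfl | rfl | rfl | rfl | rfl | rfl | rfl
  exacts [conjE6_4_0, conjE6_4_1, conjE6_4_2, conjE6_4_3, conjE6_4_4, conjE6_4_5, conjE6_4_6, conjE6_4_7, conjE6_4_8, conjE6_4_9, conjE6_4_10, conjE6_4_11, conjE6_4_12, conjE6_4_13, conjE6_4_14, conjE6_4_15, conjE6_4_16, conjE6_4_17, conjE6_4_18, conjE6_4_19, conjE6_4_20, conjE6_4_21, conjE6_4_22, conjE6_4_23, conjE6_4_24, conjE6_4_25, conjE6_4_26, conjE6_4_27, conjE6_4_28, conjE6_4_29, conjE6_4_30, conjE6_4_31, conjE6_4_32, conjE6_4_33, conjE6_4_34, conjE6_4_35, conjE6_4_36,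 conjE6_4_37, conjE6_4_38, conjE6_4_39, conjE6_4_40, conjE6_4_41, conjE6_4_42, conjE6_4_43, conjE6_4_44, conjE6_4_45, conjE6_4_46, conjE6_4_47, conjE6_4_48, conjE6_4_49, conjE6_4_50, conjE6_4_51, conjE6_4_52, conjE6_4_53, conjE6_4_54, conjE6_4_55, conjE6_4_56, conjE6_4_57, conjE6_4_58, conjE6_4_59, conjE6_4_60, conjE6_4_61, conjE6_4_62, conjE6_4_63, conjE6_4_64, conjE6_4_65, conjE6_4_66, conjE6_4_67, conjE6_4_68, conjE6_4_69, conjE6_4_70, conjE6_4_71]

theorem conjE6_5_0 : conjCheck chevE6 (pMonoCol chevE6 5 permE6_5 etaE6_5) 0 (dec8 permE6_5 0) (etaOf etaE6_5 0) = true := by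
  decide +kernel

theorem conjE6_5_1 : conjCheck chevE6 (pMonoCol chevE6 5 permE6_5 etaE6_5) 1 (dec8 permE6_5 1) (etaOf etaE6_5 1) = true := by
  decide +kernel

theorem conjE6_5_2 : conjCheck chevE6 (pMonoCol chevE6 5 permE6_5 etaE6_5) 2 (dec8 permE6_5 2) (etaOf etaE6_5 2) = true := by
  decide +kernel

theorem conjE6_5_3 : conjCheck chevE6 (pMonoCol chevE6 5 permE6_5 etaE6_5) 3 (dec8 permE6_5 3) (etaOf etaE6_5 3) = true := by
  decide +kernel

theorem conjE6_5_4 : conjCheck chevE6 (pMonoCol chevE6 5 permE6_5 etaE6_5) 4 (dec8 permE6_5 4) (etaOf etaE6_5 4) = true := by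
  decide +kernel

theorem conjE6_5_5 : conjCheck chevE6 (pMonoCol chevE6 5 permE6_5 etaE6_5) 5 (dec8 permE6_5 5) (etaOf etaE6_5 5) = true := by
  decide +kernel

theorem conjE6_5_6 : conjCheck chevE6 (pMonoCol chevE6 5 permE6_5 etaE6_5) 6 (dec8 permE6_5 6) (etaOf etaE6_5 6) = true := by
  decide +kernel

theorem conjE6_5_7 : conjCheck chevE6 (pMonoCol chevE6 5 permE6_5 etaE6_5) 7 (dec8 permE6_5 7) (etaOf etaE6_5 7) = true := by
  decide +kernel

theorem conjE6_5_8 : conjCheck chevE6 (pMonoCol chevE6 5 permE6_5 etaE6_5) 8 (dec8 permE6_5 8) (etaOf etaE6_5 8) = true := by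
  decide +kernel

theorem conjE6_5_9 : conjCheck chevE6 (pMonoCol chevE6 5 permE6_5 etaE6_5) 9 (dec8 permE6_5 9) (etaOf etaE6_5 9) = true := by
  decide +kernel

theorem conjE6_5_10 : conjCheck chevE6 (pMonoCol chevE6 5 permE6_5 etaE6_5) 10 (dec8 permE6_5 10) (etaOf etaE6_5 10) = true := by
  decide +kernel

theorem conjE6_5_11 : conjCheck chevE6 (pMonoCol chevE6 5 permE6_5 etaE6_5) 11 (dec8 permE6_5 11) (etaOf etaE6_5 11) = true := by
  decide +kernel

theorem conjE6_5_12 : conjCheck chevE6 (pMonoCol chevE6 5 permE6_5 etaE6_5) 12 (dec8 permE6_5 12) (etaOf etaE6_5 12) = true := by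
  decide +kernel

theorem conjE6_5_13 : conjCheck chevE6 (pMonoCol chevE6 5 permE6_5 etaE6_5) 13 (dec8 permE6_5 13) (etaOf etaE6_5 13) = true := by
  decide +kernel

theorem conjE6_5_14 : conjCheck chevE6 (pMonoCol chevE6 5 permE6_5 etaE6_5) 14 (dec8 permE6_5 14) (etaOf etaE6_5 14) = true := by
  decide +kernel

theorem conjE6_5_15 : conjCheck chevE6 (pMonoCol chevE6 5 permE6_5 etaE6_5) 15 (dec8 permE6_5 15) (etaOf etaE6_5 15) = true := by
  decide +kernel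

theorem conjE6_5_16 : conjCheck chevE6 (pMonoCol chevE6 5 permE6_5 etaE6_5) 16 (dec8 permE6_5 16) (etaOf etaE6_5 16) = true := by
  decide +kernel

theorem conjE6_5_17 : conjCheck chevE6 (pMonoCol chevE6 5 permE6_5 etaE6_5) 17 (dec8 permE6_5 17) (etaOf etaE6_5 17) = true := by
  decide +kernel

theorem conjE6_5_18 : conjCheck chevE6 (pMonoCol chevE6 5 permE6_5 etaE6_5) 18 (dec8 permE6_5 18) (etaOf etaE6_5 18) = true := by
  decide +kernel

theorem conjE6_5_19 : conjCheck chevE6 (pMonoCol chevE6 5 permE6_5 etaE6_5) 19 (dec8 permE6_5 19) (etaOf etaE6_5 19) = true := by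
  decide +kernel

theorem conjE6_5_20 : conjCheck chevE6 (pMonoCol chevE6 5 permE6_5 etaE6_5) 20 (dec8 permE6_5 20) (etaOf etaE6_5 20) = true := by
  decide +kernel

theorem conjE6_5_21 : conjCheck chevE6 (pMonoCol chevE6 5 permE6_5 etaE6_5) 21 (dec8 permE6_5 21) (etaOf etaE6_5 21) = true := by
  decide +kernel

theorem conjE6_5_22 : conjCheck chevE6 (pMonoCol chevE6 5 permE6_5 etaE6_5) 22 (dec8 permE6_5 22) (etaOf etaE6_5 22) = true := by
  decide +kernel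

theorem conjE6_5_23 : conjCheck chevE6 (pMonoCol chevE6 5 permE6_5 etaE6_5) 23 (dec8 permE6_5 23) (etaOf etaE6_5 23) = true := by
  decide +kernel

theorem conjE6_5_24 : conjCheck chevE6 (pMonoCol chevE6 5 permE6_5 etaE6_5) 24 (dec8 permE6_5 24) (etaOf etaE6_5 24) = true := by
  decide +kernel

theorem conjE6_5_25 : conjCheck chevE6 (pMonoCol chevE6 5 permE6_5 etaE6_5) 25 (dec8 permE6_5 25) (etaOf etaE6_5 25) = true := by
  decide +kernel

theorem conjE6_5_26 : conjCheck chevE6 (pMonoCol chevE6 5 permE6_5 etaE6_5) 26 (dec8 permE6_5 26) (etaOf etaE6_5 26) = true := by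
  decide +kernel

theorem conjE6_5_27 : conjCheck chevE6 (pMonoCol chevE6 5 permE6_5 etaE6_5) 27 (dec8 permE6_5 27) (etaOf etaE6_5 27) = true := by
  decide +kernel

theorem conjE6_5_28 : conjCheck chevE6 (pMonoCol chevE6 5 permE6_5 etaE6_5) 28 (dec8 permE6_5 28) (etaOf etaE6_5 28) = true := by
  decide +kernel

theorem conjE6_5_29 : conjCheck chevE6 (pMonoCol chevE6 5 permE6_5 etaE6_5) 29 (dec8 permE6_5 29) (etaOf etaE6_5 29) = true := by
  decide +kernel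

theorem conjE6_5_30 : conjCheck chevE6 (pMonoCol chevE6 5 permE6_5 etaE6_5) 30 (dec8 permE6_5 30) (etaOf etaE6_5 30) = true := by
  decide +kernel

theorem conjE6_5_31 : conjCheck chevE6 (pMonoCol chevE6 5 permE6_5 etaE6_5) 31 (dec8 permE6_5 31) (etaOf etaE6_5 31) = true := by
  decide +kernel

theorem conjE6_5_32 : conjCheck chevE6 (pMonoCol chevE6 5 permE6_5 etaE6_5) 32 (dec8 permE6_5 32) (etaOf etaE6_5 32) = true := by
  decide +kernel

theorem conjE6_5_33 : conjCheck chevE6 (pMonoCol chevE6 5 permE6_5 etaE6_5) 33 (dec8 permE6_5 33) (etaOf etaE6_5 33) = true := by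
  decide +kernel

theorem conjE6_5_34 : conjCheck chevE6 (pMonoCol chevE6 5 permE6_5 etaE6_5) 34 (dec8 permE6_5 34) (etaOf etaE6_5 34) = true := by
  decide +kernel

theorem conjE6_5_35 : conjCheck chevE6 (pMonoCol chevE6 5 permE6_5 etaE6_5) 35 (dec8 permE6_5 35) (etaOf etaE6_5 35) = true := by
  decide +kernel

theorem conjE6_5_36 : conjCheck chevE6 (pMonoCol chevE6 5 permE6_5 etaE6_5) 36 (dec8 permE6_5 36) (etaOf etaE6_5 36) = true := by
  decide +kernel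

theorem conjE6_5_37 : conjCheck chevE6 (pMonoCol chevE6 5 permE6_5 etaE6_5) 37 (dec8 permE6_5 37) (etaOf etaE6_5 37) = true := by
  decide +kernel

theorem conjE6_5_38 : conjCheck chevE6 (pMonoCol chevE6 5 permE6_5 etaE6_5) 38 (dec8 permE6_5 38) (etaOf etaE6_5 38) = true := by
  decide +kernel

theorem conjE6_5_39 : conjCheck chevE6 (pMonoCol chevE6 5 permE6_5 etaE6_5) 39 (dec8 permE6_5 39) (etaOf etaE6_5 39) = true := by
  decide +kernel

theorem conjE6_5_40 : conjCheck chevE6 (pMonoCol chevE6 5 permE6_5 etaE6_5) 40 (dec8 permE6_5 40) (etaOf etaE6_5 40) = true := by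
  decide +kernel

theorem conjE6_5_41 : conjCheck chevE6 (pMonoCol chevE6 5 permE6_5 etaE6_5) 41 (dec8 permE6_5 41) (etaOf etaE6_5 41) = true := by
  decide +kernel

theorem conjE6_5_42 : conjCheck chevE6 (pMonoCol chevE6 5 permE6_5 etaE6_5) 42 (dec8 permE6_5 42) (etaOf etaE6_5 42) = true := by
  decide +kernel

theorem conjE6_5_43 : conjCheck chevE6 (pMonoCol chevE6 5 permE6_5 etaE6_5) 43 (dec8 permE6_5 43) (etaOf etaE6_5 43) = true := by
  decide +kernel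

theorem conjE6_5_44 : conjCheck chevE6 (pMonoCol chevE6 5 permE6_5 etaE6_5) 44 (dec8 permE6_5 44) (etaOf etaE6_5 44) = true := by
  decide +kernel

theorem conjE6_5_45 : conjCheck chevE6 (pMonoCol chevE6 5 permE6_5 etaE6_5) 45 (dec8 permE6_5 45) (etaOf etaE6_5 45) = true := by
  decide +kernel

theorem conjE6_5_46 : conjCheck chevE6 (pMonoCol chevE6 5 permE6_5 etaE6_5) 46 (dec8 permE6_5 46) (etaOf etaE6_5 46) = true := by
  decide +kernel

theorem conjE6_5_47 : conjCheck chevE6 (pMonoCol chevE6 5 permE6_5 etaE6_5) 47 (dec8 permE6_5 47) (etaOf etaE6_5 47) = true := by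
  decide +kernel

theorem conjE6_5_48 : conjCheck chevE6 (pMonoCol chevE6 5 permE6_5 etaE6_5) 48 (dec8 permE6_5 48) (etaOf etaE6_5 48) = true := by
  decide +kernel

theorem conjE6_5_49 : conjCheck chevE6 (pMonoCol chevE6 5 permE6_5 etaE6_5) 49 (dec8 permE6_5 49) (etaOf etaE6_5 49) = true := by
  decide +kernel

theorem conjE6_5_50 : conjCheck chevE6 (pMonoCol chevE6 5 permE6_5 etaE6_5) 50 (dec8 permE6_5 50) (etaOf etaE6_5 50) = true := by
  decide +kernel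

theorem conjE6_5_51 : conjCheck chevE6 (pMonoCol chevE6 5 permE6_5 etaE6_5) 51 (dec8 permE6_5 51) (etaOf etaE6_5 51) = true := by
  decide +kernel

theorem conjE6_5_52 : conjCheck chevE6 (pMonoCol chevE6 5 permE6_5 etaE6_5) 52 (dec8 permE6_5 52) (etaOf etaE6_5 52) = true := by
  decide +kernel

theorem conjE6_5_53 : conjCheck chevE6 (pMonoCol chevE6 5 permE6_5 etaE6_5) 53 (dec8 permE6_5 53) (etaOf etaE6_5 53) = true := by
  decide +kernel

theorem conjE6_5_54 : conjCheck chevE6 (pMonoCol chevE6 5 permE6_5 etaE6_5) 54 (dec8 permE6_5 54) (etaOf etaE6_5 54) = true := by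
  decide +kernel

theorem conjE6_5_55 : conjCheck chevE6 (pMonoCol chevE6 5 permE6_5 etaE6_5) 55 (dec8 permE6_5 55) (etaOf etaE6_5 55) = true := by
  decide +kernel

theorem conjE6_5_56 : conjCheck chevE6 (pMonoCol chevE6 5 permE6_5 etaE6_5) 56 (dec8 permE6_5 56) (etaOf etaE6_5 56) = true := by
  decide +kernel

theorem conjE6_5_57 : conjCheck chevE6 (pMonoCol chevE6 5 permE6_5 etaE6_5) 57 (dec8 permE6_5 57) (etaOf etaE6_5 57) = true := by
  decide +kernel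

theorem conjE6_5_58 : conjCheck chevE6 (pMonoCol chevE6 5 permE6_5 etaE6_5) 58 (dec8 permE6_5 58) (etaOf etaE6_5 58) = true := by
  decide +kernel

theorem conjE6_5_59 : conjCheck chevE6 (pMonoCol chevE6 5 permE6_5 etaE6_5) 59 (dec8 permE6_5 59) (etaOf etaE6_5 59) = true := by
  decide +kernel

theorem conjE6_5_60 : conjCheck chevE6 (pMonoCol chevE6 5 permE6_5 etaE6_5) 60 (dec8 permE6_5 60) (etaOf etaE6_5 60) = true := by
  decide +kernel

theorem conjE6_5_61 : conjCheck chevE6 (pMonoCol chevE6 5 permE6_5 etaE6_5) 61 (dec8 permE6_5 61) (etaOf etaE6_5 61) = true := by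
  decide +kernel

theorem conjE6_5_62 : conjCheck chevE6 (pMonoCol chevE6 5 permE6_5 etaE6_5) 62 (dec8 permE6_5 62) (etaOf etaE6_5 62) = true := by
  decide +kernel

theorem conjE6_5_63 : conjCheck chevE6 (pMonoCol chevE6 5 permE6_5 etaE6_5) 63 (dec8 permE6_5 63) (etaOf etaE6_5 63) = true := by
  decide +kernel

theorem conjE6_5_64 : conjCheck chevE6 (pMonoCol chevE6 5 permE6_5 etaE6_5) 64 (dec8 permE6_5 64) (etaOf etaE6_5 64) = true := by
  decide +kernel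

theorem conjE6_5_65 : conjCheck chevE6 (pMonoCol chevE6 5 permE6_5 etaE6_5) 65 (dec8 permE6_5 65) (etaOf etaE6_5 65) = true := by
  decide +kernel

theorem conjE6_5_66 : conjCheck chevE6 (pMonoCol chevE6 5 permE6_5 etaE6_5) 66 (dec8 permE6_5 66) (etaOf etaE6_5 66) = true := by
  decide +kernel

theorem conjE6_5_67 : conjCheck chevE6 (pMonoCol chevE6 5 permE6_5 etaE6_5) 67 (dec8 permE6_5 67) (etaOf etaE6_5 67) = true := by
  decide +kernel

theorem conjE6_5_68 : conjCheck chevE6 (pMonoCol chevE6 5 permE6_5 etaE6_5) 68 (dec8 permE6_5 68) (etaOf etaE6_5 68) = true := by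
  decide +kernel

theorem conjE6_5_69 : conjCheck chevE6 (pMonoCol chevE6 5 permE6_5 etaE6_5) 69 (dec8 permE6_5 69) (etaOf etaE6_5 69) = true := by
  decide +kernel

theorem conjE6_5_70 : conjCheck chevE6 (pMonoCol chevE6 5 permE6_5 etaE6_5) 70 (dec8 permE6_5 70) (etaOf etaE6_5 70) = true := by
  decide +kernel

theorem conjE6_5_71 : conjCheck chevE6 (pMonoCol chevE6 5 permE6_5 etaE6_5) 71 (dec8 permE6_5 71) (etaOf etaE6_5 71) = true := by
  decide +kernel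

theorem conjE6_5_from0 (s : ℕ) (h1 : 0 ≤ s) (h2 : s < 72) : conjCheck chevE6 (pMonoCol chevE6 5 permE6_5 etaE6_5) s (dec8 permE6_5 s) (etaOf etaE6_5 s) = true := by
  have h : s = 0 ∨ s = 1 ∨ s = 2 ∨ s = 3 ∨ s = 4 ∨ s = 5 ∨ s = 6 ∨ s = 7 ∨ s = 8 ∨ s = 9 ∨ s = 10 ∨ s = 11 ∨ s = 12 ∨ s = 13 ∨ s = 14 ∨ s = 15 ∨ s = 16 ∨ s = 17 ∨ s = 18 ∨ s = 19 ∨ s = 20 ∨ s = 21 ∨ s = 22 ∨ s = 23 ∨ s = 24 ∨ s = 25 ∨ s = 26 ∨ s = 27 ∨ s = 28 ∨ s = 29 ∨ s = 30 ∨ s = 31 ∨ s = 32 ∨ s = 33 ∨ s = 34 ∨ s = 35 ∨ s = 36 ∨ s = 37 ∨ s = 38 ∨ s = 39 ∨ s = 40 ∨ s = 41 ∨ s = 42 ∨ s = 43 ∨ s = 44 ∨ s = 45 ∨ s = 46 ∨ s = 47 ∨ s = 48 ∨ s = 49 ∨ s = 50 ∨ s = 51 ∨ s = 52 ∨ s = 53 ∨ s = 54 ∨ s = 55 ∨ s = 56 ∨ s = 57 ∨ s = 58 ∨ s = 59 ∨ s = 60 ∨ s = 61 ∨ s = 62 ∨ s = 63 ∨ s = 64 ∨ s = 65 ∨ s = 66 ∨ s = 67 ∨ s = 68 ∨ s = 69 ∨ s = 70 ∨ s = 71 := by omega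
  rcases h with rfl | rfl | rfl | rfl | rfl | rfl | rfl | rfl | rfl | rfl | rfl | rfl | rfl | rfl | rfl | rfl | rfl | rfl | rfl | rfl | rfl | rfl | rfl | rfl | rfl | rfl | rfl | rfl | rfl | rfl | rfl | rfl | rfl | rfl | rfl | rfl | rfl | rfl | rfl | rfl | rfl | rfl | rfl | rfl | rfl | rfl | rfl | rfl | rfl | rfl | rfl | rfl | rfl | rfl | rfl | rfl | rfl | rfl | rfl | rfl | rfl | rfl | rfl | rfl | rfl | rfl | rfl | rfl | rfl | rfl | rfl | rfl
  exacts [conjE6_5_0, conjE6_5_1, conjE6_5_2, conjE6_5_3, conjE6_5_4, conjE6_5_5, conjE6_5_6, conjE6_5_7, conjE6_5_8, conjE6_5_9, conjE6_5_10, conjE6_5_11, conjE6_5_12, conjE6_5_13, conjE6_5_14, conjE6_5_15, conjE6_5_16, conjE6_5_17, conjE6_5_18, conjE6_5_19, conjE6_5_20, conjE6_5_21, conjE6_5_22, conjE6_5_23, conjE6_5_24, conjE6_5_25, conjE6_5_26, conjE6_5_27, conjE6_5_28, conjE6_5_29, conjE6_5_30, conjE6_5_31, conjE6_5_32, conjE6_5_33, conjE6_5_34, conjE6_5_35, conjE6_5_36,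 conjE6_5_37, conjE6_5_38, conjE6_5_39, conjE6_5_40, conjE6_5_41, conjE6_5_42, conjE6_5_43, conjE6_5_44, conjE6_5_45, conjE6_5_46, conjE6_5_47, conjE6_5_48, conjE6_5_49, conjE6_5_50, conjE6_5_51, conjE6_5_52, conjE6_5_53, conjE6_5_54, conjE6_5_55, conjE6_5_56, conjE6_5_57, conjE6_5_58, conjE6_5_59, conjE6_5_60, conjE6_5_61, conjE6_5_62, conjE6_5_63, conjE6_5_64, conjE6_5_65, conjE6_5_66, conjE6_5_67, conjE6_5_68, conjE6_5_69, conjE6_5_70, conjE6_5_71]

end Cfsg.Agent.Helper18
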