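import Cfsg.Agent.Lib.Helper18.ConjData

set_option autoImplicit false
set_option maxRecDepth 100000
set_option Elab.async false

namespace Cfsg.Agent.Helper18

open Cfsg.Lie

theorem conjE7_0_0 : conjCheck chevE7 (pMonoCol chevE7 0 permE7_0 etaE7_0) 0 (dec8 permE7_0 0) (etaOf etaE7_0 0) = true := by
  decide +kernel

theorem conjE7_0_1 : conjCheck chevE7 (pMonoCol chevE7 0 permE7_0 etaE7_0) 1 (dec8 permE7_0 1) (etaOf etaE7_0 1) = true := by
  decide +kernel

theorem conjE7_0_2 : conjCheck chevE7 (pMonoCol chevE7 0 permE7_0 etaE7_0) 2 (dec8 permE7_0 2) (etaOf etaE7_0 2) = true := by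
  decide +kernel

theorem conjE7_0_3 : conjCheck chevE7 (pMonoCol chevE7 0 permE7_0 etaE7_0) 3 (dec8 permE7_0 3) (etaOf etaE7_0 3) = true := by
  decide +kernel

theorem conjE7_0_4 : conjCheck chevE7 (pMonoCol chevE7 0 permE7_0 etaE7_0) 4 (dec8 permE7_0 4) (etaOf etaE7_0 4) = true := by
  decide +kernel

theorem conjE7_0_5 : conjCheck chevE7 (pMonoCol chevE7 0 permE7_0 etaE7_0) 5 (dec8 permE7_0 5) (etaOf etaE7_0 5) = true := by
  decide +kernel

theorem conjE7_0_6 : conjCheck chevE7 (pMonoCol chevE7 0 permE7_0 etaE7_0) 6 (dec8 permE7_0 6) (etaOf etaE7_0 6) = true := by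
  decide +kernel

theorem conjE7_0_7 : conjCheck chevE7 (pMonoCol chevE7 0 permE7_0 etaE7_0) 7 (dec8 permE7_0 7) (etaOf etaE7_0 7) = true := by
  decide +kernel

theorem conjE7_0_8 : conjCheck chevE7 (pMonoCol chevE7 0 permE7_0 etaE7_0) 8 (dec8 permE7_0 8) (etaOf etaE7_0 8) = true := by
  decide +kernel

theorem conjE7_0_9 : conjCheck chevE7 (pMonoCol chevE7 0 permE7_0 etaE7_0) 9 (dec8 permE7_0 9) (etaOf etaE7_0 9) = true := by
  decide +kernel

theorem conjE7_0_10 : conjCheck chevE7 (pMonoCol chevE7 0 permE7_0 etaE7_0) 10 (dec8 permE7_0 10) (etaOf etaE7_0 10) = true := by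
  decide +kernel

theorem conjE7_0_11 : conjCheck chevE7 (pMonoCol chevE7 0 permE7_0 etaE7_0) 11 (dec8 permE7_0 11) (etaOf etaE7_0 11) = true := by
  decide +kernel

theorem conjE7_0_12 : conjCheck chevE7 (pMonoCol chevE7 0 permE7_0 etaE7_0) 12 (dec8 permE7_0 12) (etaOf etaE7_0 12) = true := by
  decide +kernel

theorem conjE7_0_13 : conjCheck chevE7 (pMonoCol chevE7 0 permE7_0 etaE7_0) 13 (dec8 permE7_0 13) (etaOf etaE7_0 13) = true := by
  decide +kernel

theorem conjE7_0_14 : conjCheck chevE7 (pMonoCol chevE7 0 permE7_0 etaE7_0) 14 (dec8 permE7_0 14) (etaOf etaE7_0 14) = true := by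
  decide +kernel

theorem conjE7_0_15 : conjCheck chevE7 (pMonoCol chevE7 0 permE7_0 etaE7_0) 15 (dec8 permE7_0 15) (etaOf etaE7_0 15) = true := by
  decide +kernel

theorem conjE7_0_16 : conjCheck chevE7 (pMonoCol chevE7 0 permE7_0 etaE7_0) 16 (dec8 permE7_0 16) (etaOf etaE7_0 16) = true := by
  decide +kernel

theorem conjE7_0_17 : conjCheck chevE7 (pMonoCol chevE7 0 permE7_0 etaE7_0) 17 (dec8 permE7_0 17) (etaOf etaE7_0 17) = true := by
  decide +kernel

theorem conjE7_0_18 : conjCheck chevE7 (pMonoCol chevE7 0 permE7_0 etaE7_0) 18 (dec8 permE7_0 18) (etaOf etaE7_0 18) = true := by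
  decide +kernel

theorem conjE7_0_19 : conjCheck chevE7 (pMonoCol chevE7 0 permE7_0 etaE7_0) 19 (dec8 permE7_0 19) (etaOf etaE7_0 19) = true := by
  decide +kernel

theorem conjE7_0_20 : conjCheck chevE7 (pMonoCol chevE7 0 permE7_0 etaE7_0) 20 (dec8 permE7_0 20) (etaOf etaE7_0 20) = true := by
  decide +kernel

theorem conjE7_0_21 : conjCheck chevE7 (pMonoCol chevE7 0 permE7_0 etaE7_0) 21 (dec8 permE7_0 21) (etaOf etaE7_0 21) = true := by
  decide +kernel

theorem conjE7_0_22 : conjCheck chevE7 (pMonoCol chevE7 0 permE7_0 etaE7_0) 22 (dec8 permE7_0 22) (etaOf etaE7_0 22) = true := by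
  decide +kernel

theorem conjE7_0_23 : conjCheck chevE7 (pMonoCol chevE7 0 permE7_0 etaE7_0) 23 (dec8 permE7_0 23) (etaOf etaE7_0 23) = true := by
  decide +kernel

theorem conjE7_0_24 : conjCheck chevE7 (pMonoCol chevE7 0 permE7_0 etaE7_0) 24 (dec8 permE7_0 24) (etaOf etaE7_0 24) = true := by
  decide +kernel

theorem conjE7_0_25 : conjCheck chevE7 (pMonoCol chevE7 0 permE7_0 etaE7_0) 25 (dec8 permE7_0 25) (etaOf etaE7_0 25) = true := by
  decide +kernel

theorem conjE7_0_26 : conjCheck chevE7 (pMonoCol chevE7 0 permE7_0 etaE7_0) 26 (dec8 permE7_0 26) (etaOf etaE7_0 26) = true := by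
  decide +kernel

theorem conjE7_0_27 : conjCheck chevE7 (pMonoCol chevE7 0 permE7_0 etaE7_0) 27 (dec8 permE7_0 27) (etaOf etaE7_0 27) = true := by
  decide +kernel

theorem conjE7_0_28 : conjCheck chevE7 (pMonoCol chevE7 0 permE7_0 etaE7_0) 28 (dec8 permE7_0 28) (etaOf etaE7_0 28) = true := by
  decide +kernel

theorem conjE7_0_29 : conjCheck chevE7 (pMonoCol chevE7 0 permE7_0 etaE7_0) 29 (dec8 permE7_0 29) (etaOf etaE7_0 29) = true := by
  decide +kernel

theorem conjE7_0_30 : conjCheck chevE7 (pMonoCol chevE7 0 permE7_0 etaE7_0) 30 (dec8 permE7_0 30) (etaOf etaE7_0 30) = true := by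
  decide +kernel

theorem conjE7_0_31 : conjCheck chevE7 (pMonoCol chevE7 0 permE7_0 etaE7_0) 31 (dec8 permE7_0 31) (etaOf etaE7_0 31) = true := by
  decide +kernel

theorem conjE7_0_32 : conjCheck chevE7 (pMonoCol chevE7 0 permE7_0 etaE7_0) 32 (dec8 permE7_0 32) (etaOf etaE7_0 32) = true := by
  decide +kernel

theorem conjE7_0_33 : conjCheck chevE7 (pMonoCol chevE7 0 permE7_0 etaE7_0) 33 (dec8 permE7_0 33) (etaOf etaE7_0 33) = true := by
  decide +kernel

theorem conjE7_0_34 : conjCheck chevE7 (pMonoCol chevE7 0 permE7_0 etaE7_0) 34 (dec8 permE7_0 34) (etaOf etaE7_0 34) = true := by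
  decide +kernel

theorem conjE7_0_35 : conjCheck chevE7 (pMonoCol chevE7 0 permE7_0 etaE7_0) 35 (dec8 permE7_0 35) (etaOf etaE7_0 35) = true := by
  decide +kernel

theorem conjE7_0_36 : conjCheck chevE7 (pMonoCol chevE7 0 permE7_0 etaE7_0) 36 (dec8 permE7_0 36) (etaOf etaE7_0 36) = true := by
  decide +kernel

theorem conjE7_0_37 : conjCheck chevE7 (pMonoCol chevE7 0 permE7_0 etaE7_0) 37 (dec8 permE7_0 37) (etaOf etaE7_0 37) = true := by
  decide +kernel

theorem conjE7_0_38 : conjCheck chevE7 (pMonoCol chevE7 0 permE7_0 etaE7_0) 38 (dec8 permE7_0 38) (etaOf etaE7_0 38) = true := by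
  decide +kernel

theorem conjE7_0_39 : conjCheck chevE7 (pMonoCol chevE7 0 permE7_0 etaE7_0) 39 (dec8 permE7_0 39) (etaOf etaE7_0 39) = true := by
  decide +kernel

theorem conjE7_0_40 : conjCheck chevE7 (pMonoCol chevE7 0 permE7_0 etaE7_0) 40 (dec8 permE7_0 40) (etaOf etaE7_0 40) = true := by
  decide +kernel

theorem conjE7_0_41 : conjCheck chevE7 (pMonoCol chevE7 0 permE7_0 etaE7_0) 41 (dec8 permE7_0 41) (etaOf etaE7_0 41) = true := by
  decide +kernel

theorem conjE7_0_42 : conjCheck chevE7 (pMonoCol chevE7 0 permE7_0 etaE7_0) 42 (dec8 permE7_0 42) (etaOf etaE7_0 42) = true := by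
  decide +kernel

theorem conjE7_0_43 : conjCheck chevE7 (pMonoCol chevE7 0 permE7_0 etaE7_0) 43 (dec8 permE7_0 43) (etaOf etaE7_0 43) = true := by
  decide +kernel

theorem conjE7_0_44 : conjCheck chevE7 (pMonoCol chevE7 0 permE7_0 etaE7_0) 44 (dec8 permE7_0 44) (etaOf etaE7_0 44) = true := by
  decide +kernel

theorem conjE7_0_45 : conjCheck chevE7 (pMonoCol chevE7 0 permE7_0 etaE7_0) 45 (dec8 permE7_0 45) (etaOf etaE7_0 45) = true := by
  decide +kernel

theorem conjE7_0_46 : conjCheck chevE7 (pMonoCol chevE7 0 permE7_0 etaE7_0) 46 (dec8 permE7_0 46) (etaOf etaE7_0 46) = true := by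
  decide +kernel

theorem conjE7_0_47 : conjCheck chevE7 (pMonoCol chevE7 0 permE7_0 etaE7_0) 47 (dec8 permE7_0 47) (etaOf etaE7_0 47) = true := by
  decide +kernel

theorem conjE7_0_48 : conjCheck chevE7 (pMonoCol chevE7 0 permE7_0 etaE7_0) 48 (dec8 permE7_0 48) (etaOf etaE7_0 48) = true := by
  decide +kernel

theorem conjE7_0_49 : conjCheck chevE7 (pMonoCol chevE7 0 permE7_0 etaE7_0) 49 (dec8 permE7_0 49) (etaOf etaE7_0 49) = true := by
  decide +kernel

theorem conjE7_0_50 : conjCheck chevE7 (pMonoCol chevE7 0 permE7_0 etaE7_0) 50 (dec8 permE7_0 50) (etaOf etaE7_0 50) = true := by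
  decide +kernel

theorem conjE7_0_51 : conjCheck chevE7 (pMonoCol chevE7 0 permE7_0 etaE7_0) 51 (dec8 permE7_0 51) (etaOf etaE7_0 51) = true := by
  decide +kernel

theorem conjE7_0_52 : conjCheck chevE7 (pMonoCol chevE7 0 permE7_0 etaE7_0) 52 (dec8 permE7_0 52) (etaOf etaE7_0 52) = true := by
  decide +kernel

theorem conjE7_0_53 : conjCheck chevE7 (pMonoCol chevE7 0 permE7_0 etaE7_0) 53 (dec8 permE7_0 53) (etaOf etaE7_0 53) = true := by
  decide +kernel

theorem conjE7_0_54 : conjCheck chevE7 (pMonoCol chevE7 0 permE7_0 etaE7_0) 54 (dec8 permE7_0 54) (etaOf etaE7_0 54) = true := by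
  decide +kernel

theorem conjE7_0_55 : conjCheck chevE7 (pMonoCol chevE7 0 permE7_0 etaE7_0) 55 (dec8 permE7_0 55) (etaOf etaE7_0 55) = true := by
  decide +kernel

theorem conjE7_0_56 : conjCheck chevE7 (pMonoCol chevE7 0 permE7_0 etaE7_0) 56 (dec8 permE7_0 56) (etaOf etaE7_0 56) = true := by
  decide +kernel

theorem conjE7_0_57 : conjCheck chevE7 (pMonoCol chevE7 0 permE7_0 etaE7_0) 57 (dec8 permE7_0 57) (etaOf etaE7_0 57) = true := by
  decide +kernel

theorem conjE7_0_58 : conjCheck chevE7 (pMonoCol chevE7 0 permE7_0 etaE7_0) 58 (dec8 permE7_0 58) (etaOf etaE7_0 58) = true := by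
  decide +kernel

theorem conjE7_0_59 : conjCheck chevE7 (pMonoCol chevE7 0 permE7_0 etaE7_0) 59 (dec8 permE7_0 59) (etaOf etaE7_0 59) = true := by
  decide +kernel

theorem conjE7_0_60 : conjCheck chevE7 (pMonoCol chevE7 0 permE7_0 etaE7_0) 60 (dec8 permE7_0 60) (etaOf etaE7_0 60) = true := by
  decide +kernel

theorem conjE7_0_61 : conjCheck chevE7 (pMonoCol chevE7 0 permE7_0 etaE7_0) 61 (dec8 permE7_0 61) (etaOf etaE7_0 61) = true := by
  decide +kernel

theorem conjE7_0_62 : conjCheck chevE7 (pMonoCol chevE7 0 permE7_0 etaE7_0) 62 (dec8 permE7_0 62) (etaOf etaE7_0 62) = true := by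
  decide +kernel

theorem conjE7_0_from0 (s : ℕ) (h1 : 0 ≤ s) (h2 : s < 63) : conjCheck chevE7 (pMonoCol chevE7 0 permE7_0 etaE7_0) s (dec8 permE7_0 s) (etaOf etaE7_0 s) = true := by
  have h : s = 0 ∨ s = 1 ∨ s = 2 ∨ s = 3 ∨ s = 4 ∨ s = 5 ∨ s = 6 ∨ s = 7 ∨ s = 8 ∨ s = 9 ∨ s = 10 ∨ s = 11 ∨ s = 12 ∨ s = 13 ∨ s = 14 ∨ s = 15 ∨ s = 16 ∨ s = 17 ∨ s = 18 ∨ s = 19 ∨ s = 20 ∨ s = 21 ∨ s = 22 ∨ s = 23 ∨ s = 24 ∨ s = 25 ∨ s = 26 ∨ s = 27 ∨ s = 28 ∨ s = 29 ∨ s = 30 ∨ s = 31 ∨ s = 32 ∨ s = 33 ∨ s = 34 ∨ s = 35 ∨ s = 36 ∨ s = 37 ∨ s = 38 ∨ s = 39 ∨ s = 40 ∨ s = 41 ∨ s = 42 ∨ s = 43 ∨ s = 44 ∨ s = 45 ∨ s = 46 ∨ s = 47 ∨ s = 48 ∨ s = 49 ∨ s = 50 ∨ s = 51 ∨ s = 52 ∨ s = 53 ∨ s = 54 ∨ s = 55 ∨ s = 56 ∨ s = 57 ∨ s = 58 ∨ s = 59 ∨ s = 60 ∨ s = 61 ∨ s = 62 := by omega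
  rcases h with rfl | rfl | rfl | rfl | rfl | rfl | rfl | rfl | rfl | rfl | rfl | rfl | rfl | rfl | rfl | rfl | rfl | rfl | rfl | rfl | rfl | rfl | rfl | rfl | rfl | rfl | rfl | rfl | rfl | rfl | rfl | rfl | rfl | rfl | rfl | rfl | rfl | rfl | rfl | rfl | rfl | rfl | rfl | rfl | rfl | rfl | rfl | rfl | rfl | rfl | rfl | rfl | rfl | rfl | rfl | rfl | rfl | rfl | rfl | rfl | rfl | rfl | rfl
  exacts [conjE7_0_0, conjE7_0_1, conjE7_0_2, conjE7_0_3, conjE7_0_4, conjE7_0_5, conjE7_0_6, conjE7_0_7, conjE7_0_8, conjE7_0_9, conjE7_0_10, conjE7_0_11, conjE7_0_12, conjE7_0_13, conjE7_0_14, conjE7_0_15, conjE7_0_16, conjE7_0_17, conjE7_0_18, conjE7_0_19, conjE7_0_20, conjE7_0_21, conjE7_0_22, conjE7_0_23, conjE7_0_24, conjE7_0_25, conjE7_0_26, conjE7_0_27, conjE7_0_28, conjE7_0_29, conjE7_0_30, conjE7_0_31, conjE7_0_32, conjE7_0_33, conjE7_0_34, conjE7_0_35, conjE7_0_36, conjE7_0_37, conjE7_0_38, conjE7_0_39, conjE7_0_40,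 conjE7_0_41, conjE7_0_42, conjE7_0_43, conjE7_0_44, conjE7_0_45, conjE7_0_46, conjE7_0_47, conjE7_0_48, conjE7_0_49, conjE7_0_50, conjE7_0_51, conjE7_0_52, conjE7_0_53, conjE7_0_54, conjE7_0_55, conjE7_0_56, conjE7_0_57, conjE7_0_58, conjE7_0_59, conjE7_0_60, conjE7_0_61, conjE7_0_62]

theorem conjE7_0_63 : conjCheck chevE7 (pMonoCol chevE7 0 permE7_0 etaE7_0) 63 (dec8 permE7_0 63) (etaOf etaE7_0 63) = true := by
  decide +kernel

theorem conjE7_0_64 : conjCheck chevE7 (pMonoCol chevE7 0 permE7_0 etaE7_0) 64 (dec8 permE7_0 64) (etaOf etaE7_0 64) = true := by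
  decide +kernel

theorem conjE7_0_65 : conjCheck chevE7 (pMonoCol chevE7 0 permE7_0 etaE7_0) 65 (dec8 permE7_0 65) (etaOf etaE7_0 65) = true := by
  decide +kernel

theorem conjE7_0_66 : conjCheck chevE7 (pMonoCol chevE7 0 permE7_0 etaE7_0) 66 (dec8 permE7_0 66) (etaOf etaE7_0 66) = true := by
  decide +kernel

theorem conjE7_0_67 : conjCheck chevE7 (pMonoCol chevE7 0 permE7_0 etaE7_0) 67 (dec8 permE7_0 67) (etaOf etaE7_0 67) = true := by
  decide +kernel

theorem conjE7_0_68 : conjCheck chevE7 (pMonoCol chevE7 0 permE7_0 etaE7_0) 68 (dec8 permE7_0 68) (etaOf etaE7_0 68) = true := by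
  decide +kernel

theorem conjE7_0_69 : conjCheck chevE7 (pMonoCol chevE7 0 permE7_0 etaE7_0) 69 (dec8 permE7_0 69) (etaOf etaE7_0 69) = true := by
  decide +kernel

theorem conjE7_0_70 : conjCheck chevE7 (pMonoCol chevE7 0 permE7_0 etaE7_0) 70 (dec8 permE7_0 70) (etaOf etaE7_0 70) = true := by
  decide +kernel

theorem conjE7_0_71 : conjCheck chevE7 (pMonoCol chevE7 0 permE7_0 etaE7_0) 71 (dec8 permE7_0 71) (etaOf etaE7_0 71) = true := by
  decide +kernel

theorem conjE7_0_72 : conjCheck chevE7 (pMonoCol chevE7 0 permE7_0 etaE7_0) 72 (dec8 permE7_0 72) (etaOf etaE7_0 72) = true := by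
  decide +kernel

theorem conjE7_0_73 : conjCheck chevE7 (pMonoCol chevE7 0 permE7_0 etaE7_0) 73 (dec8 permE7_0 73) (etaOf etaE7_0 73) = true := by
  decide +kernel

theorem conjE7_0_74 : conjCheck chevE7 (pMonoCol chevE7 0 permE7_0 etaE7_0) 74 (dec8 permE7_0 74) (etaOf etaE7_0 74) = true := by
  decide +kernel

theorem conjE7_0_75 : conjCheck chevE7 (pMonoCol chevE7 0 permE7_0 etaE7_0) 75 (dec8 permE7_0 75) (etaOf etaE7_0 75) = true := by
  decide +kernel

theorem conjE7_0_76 : conjCheck chevE7 (pMonoCol chevE7 0 permE7_0 etaE7_0) 76 (dec8 permE7_0 76) (etaOf etaE7_0 76) = true := by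
  decide +kernel

theorem conjE7_0_77 : conjCheck chevE7 (pMonoCol chevE7 0 permE7_0 etaE7_0) 77 (dec8 permE7_0 77) (etaOf etaE7_0 77) = true := by
  decide +kernel

theorem conjE7_0_78 : conjCheck chevE7 (pMonoCol chevE7 0 permE7_0 etaE7_0) 78 (dec8 permE7_0 78) (etaOf etaE7_0 78) = true := by
  decide +kernel

theorem conjE7_0_79 : conjCheck chevE7 (pMonoCol chevE7 0 permE7_0 etaE7_0) 79 (dec8 permE7_0 79) (etaOf etaE7_0 79) = true := by
  decide +kernel

theorem conjE7_0_80 : conjCheck chevE7 (pMonoCol chevE7 0 permE7_0 etaE7_0) 80 (dec8 permE7_0 80) (etaOf etaE7_0 80) = true := by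
  decide +kernel

theorem conjE7_0_81 : conjCheck chevE7 (pMonoCol chevE7 0 permE7_0 etaE7_0) 81 (dec8 permE7_0 81) (etaOf etaE7_0 81) = true := by
  decide +kernel

theorem conjE7_0_82 : conjCheck chevE7 (pMonoCol chevE7 0 permE7_0 etaE7_0) 82 (dec8 permE7_0 82) (etaOf etaE7_0 82) = true := by
  decide +kernel

theorem conjE7_0_83 : conjCheck chevE7 (pMonoCol chevE7 0 permE7_0 etaE7_0) 83 (dec8 permE7_0 83) (etaOf etaE7_0 83) = true := by
  decide +kernel

theorem conjE7_0_84 : conjCheck chevE7 (pMonoCol chevE7 0 permE7_0 etaE7_0) 84 (dec8 permE7_0 84) (etaOf etaE7_0 84) = true := by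
  decide +kernel

theorem conjE7_0_85 : conjCheck chevE7 (pMonoCol chevE7 0 permE7_0 etaE7_0) 85 (dec8 permE7_0 85) (etaOf etaE7_0 85) = true := by
  decide +kernel

theorem conjE7_0_86 : conjCheck chevE7 (pMonoCol chevE7 0 permE7_0 etaE7_0) 86 (dec8 permE7_0 86) (etaOf etaE7_0 86) = true := by
  decide +kernel

theorem conjE7_0_87 : conjCheck chevE7 (pMonoCol chevE7 0 permE7_0 etaE7_0) 87 (dec8 permE7_0 87) (etaOf etaE7_0 87) = true := by
  decide +kernel

theorem conjE7_0_88 : conjCheck chevE7 (pMonoCol chevE7 0 permE7_0 etaE7_0) 88 (dec8 permE7_0 88) (etaOf etaE7_0 88) = true := by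
  decide +kernel

theorem conjE7_0_89 : conjCheck chevE7 (pMonoCol chevE7 0 permE7_0 etaE7_0) 89 (dec8 permE7_0 89) (etaOf etaE7_0 89) = true := by
  decide +kernel

theorem conjE7_0_90 : conjCheck chevE7 (pMonoCol chevE7 0 permE7_0 etaE7_0) 90 (dec8 permE7_0 90) (etaOf etaE7_0 90) = true := by
  decide +kernel

theorem conjE7_0_91 : conjCheck chevE7 (pMonoCol chevE7 0 permE7_0 etaE7_0) 91 (dec8 permE7_0 91) (etaOf etaE7_0 91) = true := by
  decide +kernel

theorem conjE7_0_92 : conjCheck chevE7 (pMonoCol chevE7 0 permE7_0 etaE7_0) 92 (dec8 permE7_0 92) (etaOf etaE7_0 92) = true := by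
  decide +kernel

theorem conjE7_0_93 : conjCheck chevE7 (pMonoCol chevE7 0 permE7_0 etaE7_0) 93 (dec8 permE7_0 93) (etaOf etaE7_0 93) = true := by
  decide +kernel

theorem conjE7_0_94 : conjCheck chevE7 (pMonoCol chevE7 0 permE7_0 etaE7_0) 94 (dec8 permE7_0 94) (etaOf etaE7_0 94) = true := by
  decide +kernel

theorem conjE7_0_95 : conjCheck chevE7 (pMonoCol chevE7 0 permE7_0 etaE7_0) 95 (dec8 permE7_0 95) (etaOf etaE7_0 95) = true := by
  decide +kernel

theorem conjE7_0_96 : conjCheck chevE7 (pMonoCol chevE7 0 permE7_0 etaE7_0) 96 (dec8 permE7_0 96) (etaOf etaE7_0 96) = true := by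
  decide +kernel

theorem conjE7_0_97 : conjCheck chevE7 (pMonoCol chevE7 0 permE7_0 etaE7_0) 97 (dec8 permE7_0 97) (etaOf etaE7_0 97) = true := by
  decide +kernel

theorem conjE7_0_98 : conjCheck chevE7 (pMonoCol chevE7 0 permE7_0 etaE7_0) 98 (dec8 permE7_0 98) (etaOf etaE7_0 98) = true := by
  decide +kernel

theorem conjE7_0_99 : conjCheck chevE7 (pMonoCol chevE7 0 permE7_0 etaE7_0) 99 (dec8 permE7_0 99) (etaOf etaE7_0 99) = true := by
  decide +kernel

theorem conjE7_0_100 : conjCheck chevE7 (pMonoCol chevE7 0 permE7_0 etaE7_0) 100 (dec8 permE7_0 100) (etaOf etaE7_0 100) = true := by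
  decide +kernel

theorem conjE7_0_101 : conjCheck chevE7 (pMonoCol chevE7 0 permE7_0 etaE7_0) 101 (dec8 permE7_0 101) (etaOf etaE7_0 101) = true := by
  decide +kernel

theorem conjE7_0_102 : conjCheck chevE7 (pMonoCol chevE7 0 permE7_0 etaE7_0) 102 (dec8 permE7_0 102) (etaOf etaE7_0 102) = true := by
  decide +kernel

theorem conjE7_0_103 : conjCheck chevE7 (pMonoCol chevE7 0 permE7_0 etaE7_0) 103 (dec8 permE7_0 103) (etaOf etaE7_0 103) = true := by
  decide +kernel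

theorem conjE7_0_104 : conjCheck chevE7 (pMonoCol chevE7 0 permE7_0 etaE7_0) 104 (dec8 permE7_0 104) (etaOf etaE7_0 104) = true := by
  decide +kernel

theorem conjE7_0_105 : conjCheck chevE7 (pMonoCol chevE7 0 permE7_0 etaE7_0) 105 (dec8 permE7_0 105) (etaOf etaE7_0 105) = true := by
  decide +kernel

theorem conjE7_0_106 : conjCheck chevE7 (pMonoCol chevE7 0 permE7_0 etaE7_0) 106 (dec8 permE7_0 106) (etaOf etaE7_0 106) = true := by
  decide +kernel

theorem conjE7_0_107 : conjCheck chevE7 (pMonoCol chevE7 0 permE7_0 etaE7_0) 107 (dec8 permE7_0 107) (etaOf etaE7_0 107) = true := by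
  decide +kernel

theorem conjE7_0_108 : conjCheck chevE7 (pMonoCol chevE7 0 permE7_0 etaE7_0) 108 (dec8 permE7_0 108) (etaOf etaE7_0 108) = true := by
  decide +kernel

theorem conjE7_0_109 : conjCheck chevE7 (pMonoCol chevE7 0 permE7_0 etaE7_0) 109 (dec8 permE7_0 109) (etaOf etaE7_0 109) = true := by
  decide +kernel

theorem conjE7_0_110 : conjCheck chevE7 (pMonoCol chevE7 0 permE7_0 etaE7_0) 110 (dec8 permE7_0 110) (etaOf etaE7_0 110) = true := by
  decide +kernel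

theorem conjE7_0_111 : conjCheck chevE7 (pMonoCol chevE7 0 permE7_0 etaE7_0) 111 (dec8 permE7_0 111) (etaOf etaE7_0 111) = true := by
  decide +kernel

theorem conjE7_0_112 : conjCheck chevE7 (pMonoCol chevE7 0 permE7_0 etaE7_0) 112 (dec8 permE7_0 112) (etaOf etaE7_0 112) = true := by
  decide +kernel

theorem conjE7_0_113 : conjCheck chevE7 (pMonoCol chevE7 0 permE7_0 etaE7_0) 113 (dec8 permE7_0 113) (etaOf etaE7_0 113) = true := by
  decide +kernel

theorem conjE7_0_114 : conjCheck chevE7 (pMonoCol chevE7 0 permE7_0 etaE7_0) 114 (dec8 permE7_0 114) (etaOf etaE7_0 114) = true := by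
  decide +kernel

theorem conjE7_0_115 : conjCheck chevE7 (pMonoCol chevE7 0 permE7_0 etaE7_0) 115 (dec8 permE7_0 115) (etaOf etaE7_0 115) = true := by
  decide +kernel

theorem conjE7_0_116 : conjCheck chevE7 (pMonoCol chevE7 0 permE7_0 etaE7_0) 116 (dec8 permE7_0 116) (etaOf etaE7_0 116) = true := by
  decide +kernel

theorem conjE7_0_117 : conjCheck chevE7 (pMonoCol chevE7 0 permE7_0 etaE7_0) 117 (dec8 permE7_0 117) (etaOf etaE7_0 117) = true := by
  decide +kernel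

theorem conjE7_0_118 : conjCheck chevE7 (pMonoCol chevE7 0 permE7_0 etaE7_0) 118 (dec8 permE7_0 118) (etaOf etaE7_0 118) = true := by
  decide +kernel

theorem conjE7_0_119 : conjCheck chevE7 (pMonoCol chevE7 0 permE7_0 etaE7_0) 119 (dec8 permE7_0 119) (etaOf etaE7_0 119) = true := by
  decide +kernel

theorem conjE7_0_120 : conjCheck chevE7 (pMonoCol chevE7 0 permE7_0 etaE7_0) 120 (dec8 permE7_0 120) (etaOf etaE7_0 120) = true := by
  decide +kernel

theorem conjE7_0_121 : conjCheck chevE7 (pMonoCol chevE7 0 permE7_0 etaE7_0) 121 (dec8 permE7_0 121) (etaOf etaE7_0 121) = true := by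
  decide +kernel

theorem conjE7_0_122 : conjCheck chevE7 (pMonoCol chevE7 0 permE7_0 etaE7_0) 122 (dec8 permE7_0 122) (etaOf etaE7_0 122) = true := by
  decide +kernel

theorem conjE7_0_123 : conjCheck chevE7 (pMonoCol chevE7 0 permE7_0 etaE7_0) 123 (dec8 permE7_0 123) (etaOf etaE7_0 123) = true := by
  decide +kernel

theorem conjE7_0_124 : conjCheck chevE7 (pMonoCol chevE7 0 permE7_0 etaE7_0) 124 (dec8 permE7_0 124) (etaOf etaE7_0 124) = true := by
  decide +kernel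

theorem conjE7_0_125 : conjCheck chevE7 (pMonoCol chevE7 0 permE7_0 etaE7_0) 125 (dec8 permE7_0 125) (etaOf etaE7_0 125) = true := by
  decide +kernel

theorem conjE7_0_from63 (s : ℕ) (h1 : 63 ≤ s) (h2 : s < 126) : conjCheck chevE7 (pMonoCol chevE7 0 permE7_0 etaE7_0) s (dec8 permE7_0 s) (etaOf etaE7_0 s) = true := by
  have h : s = 63 ∨ s = 64 ∨ s = 65 ∨ s = 66 ∨ s = 67 ∨ s = 68 ∨ s = 69 ∨ s = 70 ∨ s = 71 ∨ s = 72 ∨ s = 73 ∨ s = 74 ∨ s = 75 ∨ s = 76 ∨ s = 77 ∨ s = 78 ∨ s = 79 ∨ s = 80 ∨ s = 81 ∨ s = 82 ∨ s = 83 ∨ s = 84 ∨ s = 85 ∨ s = 86 ∨ s = 87 ∨ s = 88 ∨ s = 89 ∨ s = 90 ∨ s = 91 ∨ s = 92 ∨ s = 93 ∨ s = 94 ∨ s = 95 ∨ s = 96 ∨ s = 97 ∨ s = 98 ∨ s = 99 ∨ s = 100 ∨ s = 101 ∨ s = 102 ∨ s = 103 ∨ s = 104 ∨ s = 105 ∨ s = 106 ∨ s = 107 ∨ s = 108 ∨ s = 109 ∨ s = 110 ∨ s = 111 ∨ s = 112 ∨ s = 113 ∨ s = 114 ∨ s = 115 ∨ s = 116 ∨ s = 117 ∨ s = 118 ∨ s = 119 ∨ s = 120 ∨ s = 121 ∨ s = 122 ∨ s = 123 ∨ s = 124 ∨ s = 125 :=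 by omega
  rcases h with rfl | rfl | rfl | rfl | rfl | rfl | rfl | rfl | rfl | rfl | rfl | rfl | rfl | rfl | rfl | rfl | rfl | rfl | rfl | rfl | rfl | rfl | rfl | rfl | rfl | rfl | rfl | rfl | rfl | rfl | rfl | rfl | rfl | rfl | rfl | rfl | rfl | rfl | rfl | rfl | rfl | rfl | rfl | rfl | rfl | rfl | rfl | rfl | rfl | rfl | rfl | rfl | rfl | rfl | rfl | rfl | rfl | rfl | rfl | rfl | rfl | rfl | rfl
  exacts [conjE7_0_63, conjE7_0_64, conjE7_0_65, conjE7_0_66, conjE7_0_67, conjE7_0_68, conjE7_0_69, conjE7_0_70, conjE7_0_71, conjE7_0_72, conjE7_0_73, conjE7_0_74, conjE7_0_75, conjE7_0_76, conjE7_0_77, conjE7_0_78, conjE7_0_79, conjE7_0_80, conjE7_0_81, conjE7_0_82, conjE7_0_83, conjE7_0_84, conjE7_0_85, conjE7_0_86, conjE7_0_87, conjE7_0_88, conjE7_0_89, conjE7_0_90, conjE7_0_91, conjE7_0_92, conjE7_0_93, conjE7_0_94, conjE7_0_95, conjE7_0_96, conjE7_0_97, conjE7_0_98, conjE7_0_99, conjE7_0_100, conjE7_0_101, conjE7_0_102,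 conjE7_0_103, conjE7_0_104, conjE7_0_105, conjE7_0_106, conjE7_0_107, conjE7_0_108, conjE7_0_109, conjE7_0_110, conjE7_0_111, conjE7_0_112, conjE7_0_113, conjE7_0_114, conjE7_0_115, conjE7_0_116, conjE7_0_117, conjE7_0_118, conjE7_0_119, conjE7_0_120, conjE7_0_121, conjE7_0_122, conjE7_0_123, conjE7_0_124, conjE7_0_125]

end Cfsg.Agent.Helper18
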