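import Cfsg.Agent.Lib.Helper18.ConjData

set_option autoImplicit false
set_option maxRecDepth 100000
set_option Elab.async false

namespace Cfsg.Agent.Helper18

open Cfsg.Lie

theorem conjE7_1_0 : conjCheck chevE7 (pMonoCol chevE7 1 permE7_1 etaE7_1) 0 (dec8 permE7_1 0) (etaOf etaE7_1 0) = true := by
  decide +kernel

theorem conjE7_1_1 : conjCheck chevE7 (pMonoCol chevE7 1 permE7_1 etaE7_1) 1 (dec8 permE7_1 1) (etaOf etaE7_1 1) = true := by
  decide +kernel

theorem conjE7_1_2 : conjCheck chevE7 (pMonoCol chevE7 1 permE7_1 etaE7_1) 2 (dec8 permE7_1 2) (etaOf etaE7_1 2) = true := by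
  decide +kernel

theorem conjE7_1_3 : conjCheck chevE7 (pMonoCol chevE7 1 permE7_1 etaE7_1) 3 (dec8 permE7_1 3) (etaOf etaE7_1 3) = true := by
  decide +kernel

theorem conjE7_1_4 : conjCheck chevE7 (pMonoCol chevE7 1 permE7_1 etaE7_1) 4 (dec8 permE7_1 4) (etaOf etaE7_1 4) = true := by
  decide +kernel

theorem conjE7_1_5 : conjCheck chevE7 (pMonoCol chevE7 1 permE7_1 etaE7_1) 5 (dec8 permE7_1 5) (etaOf etaE7_1 5) = true := by
  decide +kernel

theorem conjE7_1_6 : conjCheck chevE7 (pMonoCol chevE7 1 permE7_1 etaE7_1) 6 (dec8 permE7_1 6) (etaOf etaE7_1 6) = true := by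
  decide +kernel

theorem conjE7_1_7 : conjCheck chevE7 (pMonoCol chevE7 1 permE7_1 etaE7_1) 7 (dec8 permE7_1 7) (etaOf etaE7_1 7) = true := by
  decide +kernel

theorem conjE7_1_8 : conjCheck chevE7 (pMonoCol chevE7 1 permE7_1 etaE7_1) 8 (dec8 permE7_1 8) (etaOf etaE7_1 8) = true := by
  decide +kernel

theorem conjE7_1_9 : conjCheck chevE7 (pMonoCol chevE7 1 permE7_1 etaE7_1) 9 (dec8 permE7_1 9) (etaOf etaE7_1 9) = true := by
  decide +kernel

theorem conjE7_1_10 : conjCheck chevE7 (pMonoCol chevE7 1 permE7_1 etaE7_1) 10 (dec8 permE7_1 10) (etaOf etaE7_1 10) = true := by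
  decide +kernel

theorem conjE7_1_11 : conjCheck chevE7 (pMonoCol chevE7 1 permE7_1 etaE7_1) 11 (dec8 permE7_1 11) (etaOf etaE7_1 11) = true := by
  decide +kernel

theorem conjE7_1_12 : conjCheck chevE7 (pMonoCol chevE7 1 permE7_1 etaE7_1) 12 (dec8 permE7_1 12) (etaOf etaE7_1 12) = true := by
  decide +kernel

theorem conjE7_1_13 : conjCheck chevE7 (pMonoCol chevE7 1 permE7_1 etaE7_1) 13 (dec8 permE7_1 13) (etaOf etaE7_1 13) = true := by
  decide +kernel

theorem conjE7_1_14 : conjCheck chevE7 (pMonoCol chevE7 1 permE7_1 etaE7_1) 14 (dec8 permE7_1 14) (etaOf etaE7_1 14) = true := by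
  decide +kernel

theorem conjE7_1_15 : conjCheck chevE7 (pMonoCol chevE7 1 permE7_1 etaE7_1) 15 (dec8 permE7_1 15) (etaOf etaE7_1 15) = true := by
  decide +kernel

theorem conjE7_1_16 : conjCheck chevE7 (pMonoCol chevE7 1 permE7_1 etaE7_1) 16 (dec8 permE7_1 16) (etaOf etaE7_1 16) = true := by
  decide +kernel

theorem conjE7_1_17 : conjCheck chevE7 (pMonoCol chevE7 1 permE7_1 etaE7_1) 17 (dec8 permE7_1 17) (etaOf etaE7_1 17) = true := by
  decide +kernel

theorem conjE7_1_18 : conjCheck chevE7 (pMonoCol chevE7 1 permE7_1 etaE7_1) 18 (dec8 permE7_1 18) (etaOf etaE7_1 18) = true := by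
  decide +kernel

theorem conjE7_1_19 : conjCheck chevE7 (pMonoCol chevE7 1 permE7_1 etaE7_1) 19 (dec8 permE7_1 19) (etaOf etaE7_1 19) = true := by
  decide +kernel

theorem conjE7_1_20 : conjCheck chevE7 (pMonoCol chevE7 1 permE7_1 etaE7_1) 20 (dec8 permE7_1 20) (etaOf etaE7_1 20) = true := by
  decide +kernel

theorem conjE7_1_21 : conjCheck chevE7 (pMonoCol chevE7 1 permE7_1 etaE7_1) 21 (dec8 permE7_1 21) (etaOf etaE7_1 21) = true := by
  decide +kernel

theorem conjE7_1_22 : conjCheck chevE7 (pMonoCol chevE7 1 permE7_1 etaE7_1) 22 (dec8 permE7_1 22) (etaOf etaE7_1 22) = true := by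
  decide +kernel

theorem conjE7_1_23 : conjCheck chevE7 (pMonoCol chevE7 1 permE7_1 etaE7_1) 23 (dec8 permE7_1 23) (etaOf etaE7_1 23) = true := by
  decide +kernel

theorem conjE7_1_24 : conjCheck chevE7 (pMonoCol chevE7 1 permE7_1 etaE7_1) 24 (dec8 permE7_1 24) (etaOf etaE7_1 24) = true := by
  decide +kernel

theorem conjE7_1_25 : conjCheck chevE7 (pMonoCol chevE7 1 permE7_1 etaE7_1) 25 (dec8 permE7_1 25) (etaOf etaE7_1 25) = true := by
  decide +kernel

theorem conjE7_1_26 : conjCheck chevE7 (pMonoCol chevE7 1 permE7_1 etaE7_1) 26 (dec8 permE7_1 26) (etaOf etaE7_1 26) = true := by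
  decide +kernel

theorem conjE7_1_27 : conjCheck chevE7 (pMonoCol chevE7 1 permE7_1 etaE7_1) 27 (dec8 permE7_1 27) (etaOf etaE7_1 27) = true := by
  decide +kernel

theorem conjE7_1_28 : conjCheck chevE7 (pMonoCol chevE7 1 permE7_1 etaE7_1) 28 (dec8 permE7_1 28) (etaOf etaE7_1 28) = true := by
  decide +kernel

theorem conjE7_1_29 : conjCheck chevE7 (pMonoCol chevE7 1 permE7_1 etaE7_1) 29 (dec8 permE7_1 29) (etaOf etaE7_1 29) = true := by
  decide +kernel

theorem conjE7_1_30 : conjCheck chevE7 (pMonoCol chevE7 1 permE7_1 etaE7_1) 30 (dec8 permE7_1 30) (etaOf etaE7_1 30) = true := by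
  decide +kernel

theorem conjE7_1_31 : conjCheck chevE7 (pMonoCol chevE7 1 permE7_1 etaE7_1) 31 (dec8 permE7_1 31) (etaOf etaE7_1 31) = true := by
  decide +kernel

theorem conjE7_1_32 : conjCheck chevE7 (pMonoCol chevE7 1 permE7_1 etaE7_1) 32 (dec8 permE7_1 32) (etaOf etaE7_1 32) = true := by
  decide +kernel

theorem conjE7_1_33 : conjCheck chevE7 (pMonoCol chevE7 1 permE7_1 etaE7_1) 33 (dec8 permE7_1 33) (etaOf etaE7_1 33) = true := by
  decide +kernel

theorem conjE7_1_34 : conjCheck chevE7 (pMonoCol chevE7 1 permE7_1 etaE7_1) 34 (dec8 permE7_1 34) (etaOf etaE7_1 34) = true := by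
  decide +kernel

theorem conjE7_1_35 : conjCheck chevE7 (pMonoCol chevE7 1 permE7_1 etaE7_1) 35 (dec8 permE7_1 35) (etaOf etaE7_1 35) = true := by
  decide +kernel

theorem conjE7_1_36 : conjCheck chevE7 (pMonoCol chevE7 1 permE7_1 etaE7_1) 36 (dec8 permE7_1 36) (etaOf etaE7_1 36) = true := by
  decide +kernel

theorem conjE7_1_37 : conjCheck chevE7 (pMonoCol chevE7 1 permE7_1 etaE7_1) 37 (dec8 permE7_1 37) (etaOf etaE7_1 37) = true := by
  decide +kernel

theorem conjE7_1_38 : conjCheck chevE7 (pMonoCol chevE7 1 permE7_1 etaE7_1) 38 (dec8 permE7_1 38) (etaOf etaE7_1 38) = true := by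
  decide +kernel

theorem conjE7_1_39 : conjCheck chevE7 (pMonoCol chevE7 1 permE7_1 etaE7_1) 39 (dec8 permE7_1 39) (etaOf etaE7_1 39) = true := by
  decide +kernel

theorem conjE7_1_40 : conjCheck chevE7 (pMonoCol chevE7 1 permE7_1 etaE7_1) 40 (dec8 permE7_1 40) (etaOf etaE7_1 40) = true := by
  decide +kernel

theorem conjE7_1_41 : conjCheck chevE7 (pMonoCol chevE7 1 permE7_1 etaE7_1) 41 (dec8 permE7_1 41) (etaOf etaE7_1 41) = true := by
  decide +kernel

theorem conjE7_1_42 : conjCheck chevE7 (pMonoCol chevE7 1 permE7_1 etaE7_1) 42 (dec8 permE7_1 42) (etaOf etaE7_1 42) = true := by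
  decide +kernel

theorem conjE7_1_43 : conjCheck chevE7 (pMonoCol chevE7 1 permE7_1 etaE7_1) 43 (dec8 permE7_1 43) (etaOf etaE7_1 43) = true := by
  decide +kernel

theorem conjE7_1_44 : conjCheck chevE7 (pMonoCol chevE7 1 permE7_1 etaE7_1) 44 (dec8 permE7_1 44) (etaOf etaE7_1 44) = true := by
  decide +kernel

theorem conjE7_1_45 : conjCheck chevE7 (pMonoCol chevE7 1 permE7_1 etaE7_1) 45 (dec8 permE7_1 45) (etaOf etaE7_1 45) = true := by
  decide +kernel

theorem conjE7_1_46 : conjCheck chevE7 (pMonoCol chevE7 1 permE7_1 etaE7_1) 46 (dec8 permE7_1 46) (etaOf etaE7_1 46) = true := by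
  decide +kernel

theorem conjE7_1_47 : conjCheck chevE7 (pMonoCol chevE7 1 permE7_1 etaE7_1) 47 (dec8 permE7_1 47) (etaOf etaE7_1 47) = true := by
  decide +kernel

theorem conjE7_1_48 : conjCheck chevE7 (pMonoCol chevE7 1 permE7_1 etaE7_1) 48 (dec8 permE7_1 48) (etaOf etaE7_1 48) = true := by
  decide +kernel

theorem conjE7_1_49 : conjCheck chevE7 (pMonoCol chevE7 1 permE7_1 etaE7_1) 49 (dec8 permE7_1 49) (etaOf etaE7_1 49) = true := by
  decide +kernel

theorem conjE7_1_50 : conjCheck chevE7 (pMonoCol chevE7 1 permE7_1 etaE7_1) 50 (dec8 permE7_1 50) (etaOf etaE7_1 50) = true := by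
  decide +kernel

theorem conjE7_1_51 : conjCheck chevE7 (pMonoCol chevE7 1 permE7_1 etaE7_1) 51 (dec8 permE7_1 51) (etaOf etaE7_1 51) = true := by
  decide +kernel

theorem conjE7_1_52 : conjCheck chevE7 (pMonoCol chevE7 1 permE7_1 etaE7_1) 52 (dec8 permE7_1 52) (etaOf etaE7_1 52) = true := by
  decide +kernel

theorem conjE7_1_53 : conjCheck chevE7 (pMonoCol chevE7 1 permE7_1 etaE7_1) 53 (dec8 permE7_1 53) (etaOf etaE7_1 53) = true := by
  decide +kernel

theorem conjE7_1_54 : conjCheck chevE7 (pMonoCol chevE7 1 permE7_1 etaE7_1) 54 (dec8 permE7_1 54) (etaOf etaE7_1 54) = true := by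
  decide +kernel

theorem conjE7_1_55 : conjCheck chevE7 (pMonoCol chevE7 1 permE7_1 etaE7_1) 55 (dec8 permE7_1 55) (etaOf etaE7_1 55) = true := by
  decide +kernel

theorem conjE7_1_56 : conjCheck chevE7 (pMonoCol chevE7 1 permE7_1 etaE7_1) 56 (dec8 permE7_1 56) (etaOf etaE7_1 56) = true := by
  decide +kernel

theorem conjE7_1_57 : conjCheck chevE7 (pMonoCol chevE7 1 permE7_1 etaE7_1) 57 (dec8 permE7_1 57) (etaOf etaE7_1 57) = true := by
  decide +kernel

theorem conjE7_1_58 : conjCheck chevE7 (pMonoCol chevE7 1 permE7_1 etaE7_1) 58 (dec8 permE7_1 58) (etaOf etaE7_1 58) = true := by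
  decide +kernel

theorem conjE7_1_59 : conjCheck chevE7 (pMonoCol chevE7 1 permE7_1 etaE7_1) 59 (dec8 permE7_1 59) (etaOf etaE7_1 59) = true := by
  decide +kernel

theorem conjE7_1_60 : conjCheck chevE7 (pMonoCol chevE7 1 permE7_1 etaE7_1) 60 (dec8 permE7_1 60) (etaOf etaE7_1 60) = true := by
  decide +kernel

theorem conjE7_1_61 : conjCheck chevE7 (pMonoCol chevE7 1 permE7_1 etaE7_1) 61 (dec8 permE7_1 61) (etaOf etaE7_1 61) = true := by
  decide +kernel

theorem conjE7_1_62 : conjCheck chevE7 (pMonoCol chevE7 1 permE7_1 etaE7_1) 62 (dec8 permE7_1 62) (etaOf etaE7_1 62) = true := by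
  decide +kernel

theorem conjE7_1_from0 (s : ℕ) (h1 : 0 ≤ s) (h2 : s < 63) : conjCheck chevE7 (pMonoCol chevE7 1 permE7_1 etaE7_1) s (dec8 permE7_1 s) (etaOf etaE7_1 s) = true := by
  have h : s = 0 ∨ s = 1 ∨ s = 2 ∨ s = 3 ∨ s = 4 ∨ s = 5 ∨ s = 6 ∨ s = 7 ∨ s = 8 ∨ s = 9 ∨ s = 10 ∨ s = 11 ∨ s = 12 ∨ s = 13 ∨ s = 14 ∨ s = 15 ∨ s = 16 ∨ s = 17 ∨ s = 18 ∨ s = 19 ∨ s = 20 ∨ s = 21 ∨ s = 22 ∨ s = 23 ∨ s = 24 ∨ s = 25 ∨ s = 26 ∨ s = 27 ∨ s = 28 ∨ s = 29 ∨ s = 30 ∨ s = 31 ∨ s = 32 ∨ s = 33 ∨ s = 34 ∨ s = 35 ∨ s = 36 ∨ s = 37 ∨ s = 38 ∨ s = 39 ∨ s = 40 ∨ s = 41 ∨ s = 42 ∨ s = 43 ∨ s = 44 ∨ s = 45 ∨ s = 46 ∨ s = 47 ∨ s = 48 ∨ s = 49 ∨ s = 50 ∨ s = 51 ∨ s = 52 ∨ s = 53 ∨ s = 54 ∨ s = 55 ∨ s = 56 ∨ s = 57 ∨ s = 58 ∨ s = 59 ∨ s = 60 ∨ s = 61 ∨ s = 62 := by omega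
  rcases h with rfl | rfl | rfl | rfl | rfl | rfl | rfl | rfl | rfl | rfl | rfl | rfl | rfl | rfl | rfl | rfl | rfl | rfl | rfl | rfl | rfl | rfl | rfl | rfl | rfl | rfl | rfl | rfl | rfl | rfl | rfl | rfl | rfl | rfl | rfl | rfl | rfl | rfl | rfl | rfl | rfl | rfl | rfl | rfl | rfl | rfl | rfl | rfl | rfl | rfl | rfl | rfl | rfl | rfl | rfl | rfl | rfl | rfl | rfl | rfl | rfl | rfl | rfl
  exacts [conjE7_1_0, conjE7_1_1, conjE7_1_2, conjE7_1_3, conjE7_1_4, conjE7_1_5, conjE7_1_6, conjE7_1_7, conjE7_1_8, conjE7_1_9, conjE7_1_10, conjE7_1_11, conjE7_1_12, conjE7_1_13, conjE7_1_14, conjE7_1_15, conjE7_1_16, conjE7_1_17, conjE7_1_18, conjE7_1_19, conjE7_1_20, conjE7_1_21, conjE7_1_22, conjE7_1_23, conjE7_1_24, conjE7_1_25, conjE7_1_26, conjE7_1_27, conjE7_1_28, conjE7_1_29, conjE7_1_30, conjE7_1_31, conjE7_1_32, conjE7_1_33, conjE7_1_34, conjE7_1_35, conjE7_1_36, conjE7_1_37, conjE7_1_38, conjE7_1_39, conjE7_1_40,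 conjE7_1_41, conjE7_1_42, conjE7_1_43, conjE7_1_44, conjE7_1_45, conjE7_1_46, conjE7_1_47, conjE7_1_48, conjE7_1_49, conjE7_1_50, conjE7_1_51, conjE7_1_52, conjE7_1_53, conjE7_1_54, conjE7_1_55, conjE7_1_56, conjE7_1_57, conjE7_1_58, conjE7_1_59, conjE7_1_60, conjE7_1_61, conjE7_1_62]

theorem conjE7_1_63 : conjCheck chevE7 (pMonoCol chevE7 1 permE7_1 etaE7_1) 63 (dec8 permE7_1 63) (etaOf etaE7_1 63) = true := by
  decide +kernel

theorem conjE7_1_64 : conjCheck chevE7 (pMonoCol chevE7 1 permE7_1 etaE7_1) 64 (dec8 permE7_1 64) (etaOf etaE7_1 64) = true := by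
  decide +kernel

theorem conjE7_1_65 : conjCheck chevE7 (pMonoCol chevE7 1 permE7_1 etaE7_1) 65 (dec8 permE7_1 65) (etaOf etaE7_1 65) = true := by
  decide +kernel

theorem conjE7_1_66 : conjCheck chevE7 (pMonoCol chevE7 1 permE7_1 etaE7_1) 66 (dec8 permE7_1 66) (etaOf etaE7_1 66) = true := by
  decide +kernel

theorem conjE7_1_67 : conjCheck chevE7 (pMonoCol chevE7 1 permE7_1 etaE7_1) 67 (dec8 permE7_1 67) (etaOf etaE7_1 67) = true := by
  decide +kernel

theorem conjE7_1_68 : conjCheck chevE7 (pMonoCol chevE7 1 permE7_1 etaE7_1) 68 (dec8 permE7_1 68) (etaOf etaE7_1 68) = true := by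
  decide +kernel

theorem conjE7_1_69 : conjCheck chevE7 (pMonoCol chevE7 1 permE7_1 etaE7_1) 69 (dec8 permE7_1 69) (etaOf etaE7_1 69) = true := by
  decide +kernel

theorem conjE7_1_70 : conjCheck chevE7 (pMonoCol chevE7 1 permE7_1 etaE7_1) 70 (dec8 permE7_1 70) (etaOf etaE7_1 70) = true := by
  decide +kernel

theorem conjE7_1_71 : conjCheck chevE7 (pMonoCol chevE7 1 permE7_1 etaE7_1) 71 (dec8 permE7_1 71) (etaOf etaE7_1 71) = true := by
  decide +kernel

theorem conjE7_1_72 : conjCheck chevE7 (pMonoCol chevE7 1 permE7_1 etaE7_1) 72 (dec8 permE7_1 72) (etaOf etaE7_1 72) = true := by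
  decide +kernel

theorem conjE7_1_73 : conjCheck chevE7 (pMonoCol chevE7 1 permE7_1 etaE7_1) 73 (dec8 permE7_1 73) (etaOf etaE7_1 73) = true := by
  decide +kernel

theorem conjE7_1_74 : conjCheck chevE7 (pMonoCol chevE7 1 permE7_1 etaE7_1) 74 (dec8 permE7_1 74) (etaOf etaE7_1 74) = true := by
  decide +kernel

theorem conjE7_1_75 : conjCheck chevE7 (pMonoCol chevE7 1 permE7_1 etaE7_1) 75 (dec8 permE7_1 75) (etaOf etaE7_1 75) = true := by
  decide +kernel

theorem conjE7_1_76 : conjCheck chevE7 (pMonoCol chevE7 1 permE7_1 etaE7_1) 76 (dec8 permE7_1 76) (etaOf etaE7_1 76) = true := by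
  decide +kernel

theorem conjE7_1_77 : conjCheck chevE7 (pMonoCol chevE7 1 permE7_1 etaE7_1) 77 (dec8 permE7_1 77) (etaOf etaE7_1 77) = true := by
  decide +kernel

theorem conjE7_1_78 : conjCheck chevE7 (pMonoCol chevE7 1 permE7_1 etaE7_1) 78 (dec8 permE7_1 78) (etaOf etaE7_1 78) = true := by
  decide +kernel

theorem conjE7_1_79 : conjCheck chevE7 (pMonoCol chevE7 1 permE7_1 etaE7_1) 79 (dec8 permE7_1 79) (etaOf etaE7_1 79) = true := by
  decide +kernel

theorem conjE7_1_80 : conjCheck chevE7 (pMonoCol chevE7 1 permE7_1 etaE7_1) 80 (dec8 permE7_1 80) (etaOf etaE7_1 80) = true := by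
  decide +kernel

theorem conjE7_1_81 : conjCheck chevE7 (pMonoCol chevE7 1 permE7_1 etaE7_1) 81 (dec8 permE7_1 81) (etaOf etaE7_1 81) = true := by
  decide +kernel

theorem conjE7_1_82 : conjCheck chevE7 (pMonoCol chevE7 1 permE7_1 etaE7_1) 82 (dec8 permE7_1 82) (etaOf etaE7_1 82) = true := by
  decide +kernel

theorem conjE7_1_83 : conjCheck chevE7 (pMonoCol chevE7 1 permE7_1 etaE7_1) 83 (dec8 permE7_1 83) (etaOf etaE7_1 83) = true := by
  decide +kernel

theorem conjE7_1_84 : conjCheck chevE7 (pMonoCol chevE7 1 permE7_1 etaE7_1) 84 (dec8 permE7_1 84) (etaOf etaE7_1 84) = true := by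
  decide +kernel

theorem conjE7_1_85 : conjCheck chevE7 (pMonoCol chevE7 1 permE7_1 etaE7_1) 85 (dec8 permE7_1 85) (etaOf etaE7_1 85) = true := by
  decide +kernel

theorem conjE7_1_86 : conjCheck chevE7 (pMonoCol chevE7 1 permE7_1 etaE7_1) 86 (dec8 permE7_1 86) (etaOf etaE7_1 86) = true := by
  decide +kernel

theorem conjE7_1_87 : conjCheck chevE7 (pMonoCol chevE7 1 permE7_1 etaE7_1) 87 (dec8 permE7_1 87) (etaOf etaE7_1 87) = true := by
  decide +kernel

theorem conjE7_1_88 : conjCheck chevE7 (pMonoCol chevE7 1 permE7_1 etaE7_1) 88 (dec8 permE7_1 88) (etaOf etaE7_1 88) = true := by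
  decide +kernel

theorem conjE7_1_89 : conjCheck chevE7 (pMonoCol chevE7 1 permE7_1 etaE7_1) 89 (dec8 permE7_1 89) (etaOf etaE7_1 89) = true := by
  decide +kernel

theorem conjE7_1_90 : conjCheck chevE7 (pMonoCol chevE7 1 permE7_1 etaE7_1) 90 (dec8 permE7_1 90) (etaOf etaE7_1 90) = true := by
  decide +kernel

theorem conjE7_1_91 : conjCheck chevE7 (pMonoCol chevE7 1 permE7_1 etaE7_1) 91 (dec8 permE7_1 91) (etaOf etaE7_1 91) = true := by
  decide +kernel

theorem conjE7_1_92 : conjCheck chevE7 (pMonoCol chevE7 1 permE7_1 etaE7_1) 92 (dec8 permE7_1 92) (etaOf etaE7_1 92) = true := by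
  decide +kernel

theorem conjE7_1_93 : conjCheck chevE7 (pMonoCol chevE7 1 permE7_1 etaE7_1) 93 (dec8 permE7_1 93) (etaOf etaE7_1 93) = true := by
  decide +kernel

theorem conjE7_1_94 : conjCheck chevE7 (pMonoCol chevE7 1 permE7_1 etaE7_1) 94 (dec8 permE7_1 94) (etaOf etaE7_1 94) = true := by
  decide +kernel

theorem conjE7_1_95 : conjCheck chevE7 (pMonoCol chevE7 1 permE7_1 etaE7_1) 95 (dec8 permE7_1 95) (etaOf etaE7_1 95) = true := by
  decide +kernel

theorem conjE7_1_96 : conjCheck chevE7 (pMonoCol chevE7 1 permE7_1 etaE7_1) 96 (dec8 permE7_1 96) (etaOf etaE7_1 96) = true := by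
  decide +kernel

theorem conjE7_1_97 : conjCheck chevE7 (pMonoCol chevE7 1 permE7_1 etaE7_1) 97 (dec8 permE7_1 97) (etaOf etaE7_1 97) = true := by
  decide +kernel

theorem conjE7_1_98 : conjCheck chevE7 (pMonoCol chevE7 1 permE7_1 etaE7_1) 98 (dec8 permE7_1 98) (etaOf etaE7_1 98) = true := by
  decide +kernel

theorem conjE7_1_99 : conjCheck chevE7 (pMonoCol chevE7 1 permE7_1 etaE7_1) 99 (dec8 permE7_1 99) (etaOf etaE7_1 99) = true := by
  decide +kernel

theorem conjE7_1_100 : conjCheck chevE7 (pMonoCol chevE7 1 permE7_1 etaE7_1) 100 (dec8 permE7_1 100) (etaOf etaE7_1 100) = true := by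
  decide +kernel

theorem conjE7_1_101 : conjCheck chevE7 (pMonoCol chevE7 1 permE7_1 etaE7_1) 101 (dec8 permE7_1 101) (etaOf etaE7_1 101) = true := by
  decide +kernel

theorem conjE7_1_102 : conjCheck chevE7 (pMonoCol chevE7 1 permE7_1 etaE7_1) 102 (dec8 permE7_1 102) (etaOf etaE7_1 102) = true := by
  decide +kernel

theorem conjE7_1_103 : conjCheck chevE7 (pMonoCol chevE7 1 permE7_1 etaE7_1) 103 (dec8 permE7_1 103) (etaOf etaE7_1 103) = true := by
  decide +kernel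

theorem conjE7_1_104 : conjCheck chevE7 (pMonoCol chevE7 1 permE7_1 etaE7_1) 104 (dec8 permE7_1 104) (etaOf etaE7_1 104) = true := by
  decide +kernel

theorem conjE7_1_105 : conjCheck chevE7 (pMonoCol chevE7 1 permE7_1 etaE7_1) 105 (dec8 permE7_1 105) (etaOf etaE7_1 105) = true := by
  decide +kernel

theorem conjE7_1_106 : conjCheck chevE7 (pMonoCol chevE7 1 permE7_1 etaE7_1) 106 (dec8 permE7_1 106) (etaOf etaE7_1 106) = true := by
  decide +kernel

theorem conjE7_1_107 : conjCheck chevE7 (pMonoCol chevE7 1 permE7_1 etaE7_1) 107 (dec8 permE7_1 107) (etaOf etaE7_1 107) = true := by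
  decide +kernel

theorem conjE7_1_108 : conjCheck chevE7 (pMonoCol chevE7 1 permE7_1 etaE7_1) 108 (dec8 permE7_1 108) (etaOf etaE7_1 108) = true := by
  decide +kernel

theorem conjE7_1_109 : conjCheck chevE7 (pMonoCol chevE7 1 permE7_1 etaE7_1) 109 (dec8 permE7_1 109) (etaOf etaE7_1 109) = true := by
  decide +kernel

theorem conjE7_1_110 : conjCheck chevE7 (pMonoCol chevE7 1 permE7_1 etaE7_1) 110 (dec8 permE7_1 110) (etaOf etaE7_1 110) = true := by
  decide +kernel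

theorem conjE7_1_111 : conjCheck chevE7 (pMonoCol chevE7 1 permE7_1 etaE7_1) 111 (dec8 permE7_1 111) (etaOf etaE7_1 111) = true := by
  decide +kernel

theorem conjE7_1_112 : conjCheck chevE7 (pMonoCol chevE7 1 permE7_1 etaE7_1) 112 (dec8 permE7_1 112) (etaOf etaE7_1 112) = true := by
  decide +kernel

theorem conjE7_1_113 : conjCheck chevE7 (pMonoCol chevE7 1 permE7_1 etaE7_1) 113 (dec8 permE7_1 113) (etaOf etaE7_1 113) = true := by
  decide +kernel

theorem conjE7_1_114 : conjCheck chevE7 (pMonoCol chevE7 1 permE7_1 etaE7_1) 114 (dec8 permE7_1 114) (etaOf etaE7_1 114) = true := by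
  decide +kernel

theorem conjE7_1_115 : conjCheck chevE7 (pMonoCol chevE7 1 permE7_1 etaE7_1) 115 (dec8 permE7_1 115) (etaOf etaE7_1 115) = true := by
  decide +kernel

theorem conjE7_1_116 : conjCheck chevE7 (pMonoCol chevE7 1 permE7_1 etaE7_1) 116 (dec8 permE7_1 116) (etaOf etaE7_1 116) = true := by
  decide +kernel

theorem conjE7_1_117 : conjCheck chevE7 (pMonoCol chevE7 1 permE7_1 etaE7_1) 117 (dec8 permE7_1 117) (etaOf etaE7_1 117) = true := by
  decide +kernel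

theorem conjE7_1_118 : conjCheck chevE7 (pMonoCol chevE7 1 permE7_1 etaE7_1) 118 (dec8 permE7_1 118) (etaOf etaE7_1 118) = true := by
  decide +kernel

theorem conjE7_1_119 : conjCheck chevE7 (pMonoCol chevE7 1 permE7_1 etaE7_1) 119 (dec8 permE7_1 119) (etaOf etaE7_1 119) = true := by
  decide +kernel

theorem conjE7_1_120 : conjCheck chevE7 (pMonoCol chevE7 1 permE7_1 etaE7_1) 120 (dec8 permE7_1 120) (etaOf etaE7_1 120) = true := by
  decide +kernel

theorem conjE7_1_121 : conjCheck chevE7 (pMonoCol chevE7 1 permE7_1 etaE7_1) 121 (dec8 permE7_1 121) (etaOf etaE7_1 121) = true := by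
  decide +kernel

theorem conjE7_1_122 : conjCheck chevE7 (pMonoCol chevE7 1 permE7_1 etaE7_1) 122 (dec8 permE7_1 122) (etaOf etaE7_1 122) = true := by
  decide +kernel

theorem conjE7_1_123 : conjCheck chevE7 (pMonoCol chevE7 1 permE7_1 etaE7_1) 123 (dec8 permE7_1 123) (etaOf etaE7_1 123) = true := by
  decide +kernel

theorem conjE7_1_124 : conjCheck chevE7 (pMonoCol chevE7 1 permE7_1 etaE7_1) 124 (dec8 permE7_1 124) (etaOf etaE7_1 124) = true := by
  decide +kernel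

theorem conjE7_1_125 : conjCheck chevE7 (pMonoCol chevE7 1 permE7_1 etaE7_1) 125 (dec8 permE7_1 125) (etaOf etaE7_1 125) = true := by
  decide +kernel

theorem conjE7_1_from63 (s : ℕ) (h1 : 63 ≤ s) (h2 : s < 126) : conjCheck chevE7 (pMonoCol chevE7 1 permE7_1 etaE7_1) s (dec8 permE7_1 s) (etaOf etaE7_1 s) = true := by
  have h : s = 63 ∨ s = 64 ∨ s = 65 ∨ s = 66 ∨ s = 67 ∨ s = 68 ∨ s = 69 ∨ s = 70 ∨ s = 71 ∨ s = 72 ∨ s = 73 ∨ s = 74 ∨ s = 75 ∨ s = 76 ∨ s = 77 ∨ s = 78 ∨ s = 79 ∨ s = 80 ∨ s = 81 ∨ s = 82 ∨ s = 83 ∨ s = 84 ∨ s = 85 ∨ s = 86 ∨ s = 87 ∨ s = 88 ∨ s = 89 ∨ s = 90 ∨ s = 91 ∨ s = 92 ∨ s = 93 ∨ s = 94 ∨ s = 95 ∨ s = 96 ∨ s = 97 ∨ s = 98 ∨ s = 99 ∨ s = 100 ∨ s = 101 ∨ s = 102 ∨ s = 103 ∨ s = 104 ∨ s = 105 ∨ s = 106 ∨ s = 107 ∨ s = 108 ∨ s = 109 ∨ s = 110 ∨ s = 111 ∨ s = 112 ∨ s = 113 ∨ s = 114 ∨ s = 115 ∨ s = 116 ∨ s = 117 ∨ s = 118 ∨ s = 119 ∨ s = 120 ∨ s = 121 ∨ s = 122 ∨ s = 123 ∨ s = 124 ∨ s = 125 :=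 by omega
  rcases h with rfl | rfl | rfl | rfl | rfl | rfl | rfl | rfl | rfl | rfl | rfl | rfl | rfl | rfl | rfl | rfl | rfl | rfl | rfl | rfl | rfl | rfl | rfl | rfl | rfl | rfl | rfl | rfl | rfl | rfl | rfl | rfl | rfl | rfl | rfl | rfl | rfl | rfl | rfl | rfl | rfl | rfl | rfl | rfl | rfl | rfl | rfl | rfl | rfl | rfl | rfl | rfl | rfl | rfl | rfl | rfl | rfl | rfl | rfl | rfl | rfl | rfl | rfl
  exacts [conjE7_1_63, conjE7_1_64, conjE7_1_65, conjE7_1_66, conjE7_1_67, conjE7_1_68, conjE7_1_69, conjE7_1_70, conjE7_1_71, conjE7_1_72, conjE7_1_73, conjE7_1_74, conjE7_1_75, conjE7_1_76, conjE7_1_77, conjE7_1_78, conjE7_1_79, conjE7_1_80, conjE7_1_81, conjE7_1_82, conjE7_1_83, conjE7_1_84, conjE7_1_85, conjE7_1_86, conjE7_1_87, conjE7_1_88, conjE7_1_89, conjE7_1_90, conjE7_1_91, conjE7_1_92, conjE7_1_93, conjE7_1_94, conjE7_1_95, conjE7_1_96, conjE7_1_97, conjE7_1_98, conjE7_1_99, conjE7_1_100, conjE7_1_101, conjE7_1_102,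 conjE7_1_103, conjE7_1_104, conjE7_1_105, conjE7_1_106, conjE7_1_107, conjE7_1_108, conjE7_1_109, conjE7_1_110, conjE7_1_111, conjE7_1_112, conjE7_1_113, conjE7_1_114, conjE7_1_115, conjE7_1_116, conjE7_1_117, conjE7_1_118, conjE7_1_119, conjE7_1_120, conjE7_1_121, conjE7_1_122, conjE7_1_123, conjE7_1_124, conjE7_1_125]

end Cfsg.Agent.Helper18
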