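import Cfsg.Agent.Lib.Helper18.ConjData

set_option autoImplicit false
set_option maxRecDepth 100000
set_option Elab.async false

namespace Cfsg.Agent.Helper18

open Cfsg.Lie

theorem conjE7_2_0 : conjCheck chevE7 (pMonoCol chevE7 2 permE7_2 etaE7_2) 0 (dec8 permE7_2 0) (etaOf etaE7_2 0) = true := by
  decide +kernel

theorem conjE7_2_1 : conjCheck chevE7 (pMonoCol chevE7 2 permE7_2 etaE7_2) 1 (dec8 permE7_2 1) (etaOf etaE7_2 1) = true := by
  decide +kernel

theorem conjE7_2_2 : conjCheck chevE7 (pMonoCol chevE7 2 permE7_2 etaE7_2) 2 (dec8 permE7_2 2) (etaOf etaE7_2 2) = true := by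
  decide +kernel

theorem conjE7_2_3 : conjCheck chevE7 (pMonoCol chevE7 2 permE7_2 etaE7_2) 3 (dec8 permE7_2 3) (etaOf etaE7_2 3) = true := by
  decide +kernel

theorem conjE7_2_4 : conjCheck chevE7 (pMonoCol chevE7 2 permE7_2 etaE7_2) 4 (dec8 permE7_2 4) (etaOf etaE7_2 4) = true := by
  decide +kernel

theorem conjE7_2_5 : conjCheck chevE7 (pMonoCol chevE7 2 permE7_2 etaE7_2) 5 (dec8 permE7_2 5) (etaOf etaE7_2 5) = true := by
  decide +kernel

theorem conjE7_2_6 : conjCheck chevE7 (pMonoCol chevE7 2 permE7_2 etaE7_2) 6 (dec8 permE7_2 6) (etaOf etaE7_2 6) = true := by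
  decide +kernel

theorem conjE7_2_7 : conjCheck chevE7 (pMonoCol chevE7 2 permE7_2 etaE7_2) 7 (dec8 permE7_2 7) (etaOf etaE7_2 7) = true := by
  decide +kernel

theorem conjE7_2_8 : conjCheck chevE7 (pMonoCol chevE7 2 permE7_2 etaE7_2) 8 (dec8 permE7_2 8) (etaOf etaE7_2 8) = true := by
  decide +kernel

theorem conjE7_2_9 : conjCheck chevE7 (pMonoCol chevE7 2 permE7_2 etaE7_2) 9 (dec8 permE7_2 9) (etaOf etaE7_2 9) = true := by
  decide +kernel

theorem conjE7_2_10 : conjCheck chevE7 (pMonoCol chevE7 2 permE7_2 etaE7_2) 10 (dec8 permE7_2 10) (etaOf etaE7_2 10) = true := by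
  decide +kernel

theorem conjE7_2_11 : conjCheck chevE7 (pMonoCol chevE7 2 permE7_2 etaE7_2) 11 (dec8 permE7_2 11) (etaOf etaE7_2 11) = true := by
  decide +kernel

theorem conjE7_2_12 : conjCheck chevE7 (pMonoCol chevE7 2 permE7_2 etaE7_2) 12 (dec8 permE7_2 12) (etaOf etaE7_2 12) = true := by
  decide +kernel

theorem conjE7_2_13 : conjCheck chevE7 (pMonoCol chevE7 2 permE7_2 etaE7_2) 13 (dec8 permE7_2 13) (etaOf etaE7_2 13) = true := by
  decide +kernel

theorem conjE7_2_14 : conjCheck chevE7 (pMonoCol chevE7 2 permE7_2 etaE7_2) 14 (dec8 permE7_2 14) (etaOf etaE7_2 14) = true := by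
  decide +kernel

theorem conjE7_2_15 : conjCheck chevE7 (pMonoCol chevE7 2 permE7_2 etaE7_2) 15 (dec8 permE7_2 15) (etaOf etaE7_2 15) = true := by
  decide +kernel

theorem conjE7_2_16 : conjCheck chevE7 (pMonoCol chevE7 2 permE7_2 etaE7_2) 16 (dec8 permE7_2 16) (etaOf etaE7_2 16) = true := by
  decide +kernel

theorem conjE7_2_17 : conjCheck chevE7 (pMonoCol chevE7 2 permE7_2 etaE7_2) 17 (dec8 permE7_2 17) (etaOf etaE7_2 17) = true := by
  decide +kernel

theorem conjE7_2_18 : conjCheck chevE7 (pMonoCol chevE7 2 permE7_2 etaE7_2) 18 (dec8 permE7_2 18) (etaOf etaE7_2 18) = true := by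
  decide +kernel

theorem conjE7_2_19 : conjCheck chevE7 (pMonoCol chevE7 2 permE7_2 etaE7_2) 19 (dec8 permE7_2 19) (etaOf etaE7_2 19) = true := by
  decide +kernel

theorem conjE7_2_20 : conjCheck chevE7 (pMonoCol chevE7 2 permE7_2 etaE7_2) 20 (dec8 permE7_2 20) (etaOf etaE7_2 20) = true := by
  decide +kernel

theorem conjE7_2_21 : conjCheck chevE7 (pMonoCol chevE7 2 permE7_2 etaE7_2) 21 (dec8 permE7_2 21) (etaOf etaE7_2 21) = true := by
  decide +kernel

theorem conjE7_2_22 : conjCheck chevE7 (pMonoCol chevE7 2 permE7_2 etaE7_2) 22 (dec8 permE7_2 22) (etaOf etaE7_2 22) = true := by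
  decide +kernel

theorem conjE7_2_23 : conjCheck chevE7 (pMonoCol chevE7 2 permE7_2 etaE7_2) 23 (dec8 permE7_2 23) (etaOf etaE7_2 23) = true := by
  decide +kernel

theorem conjE7_2_24 : conjCheck chevE7 (pMonoCol chevE7 2 permE7_2 etaE7_2) 24 (dec8 permE7_2 24) (etaOf etaE7_2 24) = true := by
  decide +kernel

theorem conjE7_2_25 : conjCheck chevE7 (pMonoCol chevE7 2 permE7_2 etaE7_2) 25 (dec8 permE7_2 25) (etaOf etaE7_2 25) = true := by
  decide +kernel

theorem conjE7_2_26 : conjCheck chevE7 (pMonoCol chevE7 2 permE7_2 etaE7_2) 26 (dec8 permE7_2 26) (etaOf etaE7_2 26) = true := by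
  decide +kernel

theorem conjE7_2_27 : conjCheck chevE7 (pMonoCol chevE7 2 permE7_2 etaE7_2) 27 (dec8 permE7_2 27) (etaOf etaE7_2 27) = true := by
  decide +kernel

theorem conjE7_2_28 : conjCheck chevE7 (pMonoCol chevE7 2 permE7_2 etaE7_2) 28 (dec8 permE7_2 28) (etaOf etaE7_2 28) = true := by
  decide +kernel

theorem conjE7_2_29 : conjCheck chevE7 (pMonoCol chevE7 2 permE7_2 etaE7_2) 29 (dec8 permE7_2 29) (etaOf etaE7_2 29) = true := by
  decide +kernel

theorem conjE7_2_30 : conjCheck chevE7 (pMonoCol chevE7 2 permE7_2 etaE7_2) 30 (dec8 permE7_2 30) (etaOf etaE7_2 30) = true := by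
  decide +kernel

theorem conjE7_2_31 : conjCheck chevE7 (pMonoCol chevE7 2 permE7_2 etaE7_2) 31 (dec8 permE7_2 31) (etaOf etaE7_2 31) = true := by
  decide +kernel

theorem conjE7_2_32 : conjCheck chevE7 (pMonoCol chevE7 2 permE7_2 etaE7_2) 32 (dec8 permE7_2 32) (etaOf etaE7_2 32) = true := by
  decide +kernel

theorem conjE7_2_33 : conjCheck chevE7 (pMonoCol chevE7 2 permE7_2 etaE7_2) 33 (dec8 permE7_2 33) (etaOf etaE7_2 33) = true := by
  decide +kernel

theorem conjE7_2_34 : conjCheck chevE7 (pMonoCol chevE7 2 permE7_2 etaE7_2) 34 (dec8 permE7_2 34) (etaOf etaE7_2 34) = true := by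
  decide +kernel

theorem conjE7_2_35 : conjCheck chevE7 (pMonoCol chevE7 2 permE7_2 etaE7_2) 35 (dec8 permE7_2 35) (etaOf etaE7_2 35) = true := by
  decide +kernel

theorem conjE7_2_36 : conjCheck chevE7 (pMonoCol chevE7 2 permE7_2 etaE7_2) 36 (dec8 permE7_2 36) (etaOf etaE7_2 36) = true := by
  decide +kernel

theorem conjE7_2_37 : conjCheck chevE7 (pMonoCol chevE7 2 permE7_2 etaE7_2) 37 (dec8 permE7_2 37) (etaOf etaE7_2 37) = true := by
  decide +kernel

theorem conjE7_2_38 : conjCheck chevE7 (pMonoCol chevE7 2 permE7_2 etaE7_2) 38 (dec8 permE7_2 38) (etaOf etaE7_2 38) = true := by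
  decide +kernel

theorem conjE7_2_39 : conjCheck chevE7 (pMonoCol chevE7 2 permE7_2 etaE7_2) 39 (dec8 permE7_2 39) (etaOf etaE7_2 39) = true := by
  decide +kernel

theorem conjE7_2_40 : conjCheck chevE7 (pMonoCol chevE7 2 permE7_2 etaE7_2) 40 (dec8 permE7_2 40) (etaOf etaE7_2 40) = true := by
  decide +kernel

theorem conjE7_2_41 : conjCheck chevE7 (pMonoCol chevE7 2 permE7_2 etaE7_2) 41 (dec8 permE7_2 41) (etaOf etaE7_2 41) = true := by
  decide +kernel

theorem conjE7_2_42 : conjCheck chevE7 (pMonoCol chevE7 2 permE7_2 etaE7_2) 42 (dec8 permE7_2 42) (etaOf etaE7_2 42) = true := by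
  decide +kernel

theorem conjE7_2_43 : conjCheck chevE7 (pMonoCol chevE7 2 permE7_2 etaE7_2) 43 (dec8 permE7_2 43) (etaOf etaE7_2 43) = true := by
  decide +kernel

theorem conjE7_2_44 : conjCheck chevE7 (pMonoCol chevE7 2 permE7_2 etaE7_2) 44 (dec8 permE7_2 44) (etaOf etaE7_2 44) = true := by
  decide +kernel

theorem conjE7_2_45 : conjCheck chevE7 (pMonoCol chevE7 2 permE7_2 etaE7_2) 45 (dec8 permE7_2 45) (etaOf etaE7_2 45) = true := by
  decide +kernel

theorem conjE7_2_46 : conjCheck chevE7 (pMonoCol chevE7 2 permE7_2 etaE7_2) 46 (dec8 permE7_2 46) (etaOf etaE7_2 46) = true := by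
  decide +kernel

theorem conjE7_2_47 : conjCheck chevE7 (pMonoCol chevE7 2 permE7_2 etaE7_2) 47 (dec8 permE7_2 47) (etaOf etaE7_2 47) = true := by
  decide +kernel

theorem conjE7_2_48 : conjCheck chevE7 (pMonoCol chevE7 2 permE7_2 etaE7_2) 48 (dec8 permE7_2 48) (etaOf etaE7_2 48) = true := by
  decide +kernel

theorem conjE7_2_49 : conjCheck chevE7 (pMonoCol chevE7 2 permE7_2 etaE7_2) 49 (dec8 permE7_2 49) (etaOf etaE7_2 49) = true := by
  decide +kernel

theorem conjE7_2_50 : conjCheck chevE7 (pMonoCol chevE7 2 permE7_2 etaE7_2) 50 (dec8 permE7_2 50) (etaOf etaE7_2 50) = true := by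
  decide +kernel

theorem conjE7_2_51 : conjCheck chevE7 (pMonoCol chevE7 2 permE7_2 etaE7_2) 51 (dec8 permE7_2 51) (etaOf etaE7_2 51) = true := by
  decide +kernel

theorem conjE7_2_52 : conjCheck chevE7 (pMonoCol chevE7 2 permE7_2 etaE7_2) 52 (dec8 permE7_2 52) (etaOf etaE7_2 52) = true := by
  decide +kernel

theorem conjE7_2_53 : conjCheck chevE7 (pMonoCol chevE7 2 permE7_2 etaE7_2) 53 (dec8 permE7_2 53) (etaOf etaE7_2 53) = true := by
  decide +kernel

theorem conjE7_2_54 : conjCheck chevE7 (pMonoCol chevE7 2 permE7_2 etaE7_2) 54 (dec8 permE7_2 54) (etaOf etaE7_2 54) = true := by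
  decide +kernel

theorem conjE7_2_55 : conjCheck chevE7 (pMonoCol chevE7 2 permE7_2 etaE7_2) 55 (dec8 permE7_2 55) (etaOf etaE7_2 55) = true := by
  decide +kernel

theorem conjE7_2_56 : conjCheck chevE7 (pMonoCol chevE7 2 permE7_2 etaE7_2) 56 (dec8 permE7_2 56) (etaOf etaE7_2 56) = true := by
  decide +kernel

theorem conjE7_2_57 : conjCheck chevE7 (pMonoCol chevE7 2 permE7_2 etaE7_2) 57 (dec8 permE7_2 57) (etaOf etaE7_2 57) = true := by
  decide +kernel

theorem conjE7_2_58 : conjCheck chevE7 (pMonoCol chevE7 2 permE7_2 etaE7_2) 58 (dec8 permE7_2 58) (etaOf etaE7_2 58) = true := by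
  decide +kernel

theorem conjE7_2_59 : conjCheck chevE7 (pMonoCol chevE7 2 permE7_2 etaE7_2) 59 (dec8 permE7_2 59) (etaOf etaE7_2 59) = true := by
  decide +kernel

theorem conjE7_2_60 : conjCheck chevE7 (pMonoCol chevE7 2 permE7_2 etaE7_2) 60 (dec8 permE7_2 60) (etaOf etaE7_2 60) = true := by
  decide +kernel

theorem conjE7_2_61 : conjCheck chevE7 (pMonoCol chevE7 2 permE7_2 etaE7_2) 61 (dec8 permE7_2 61) (etaOf etaE7_2 61) = true := by
  decide +kernel

theorem conjE7_2_62 : conjCheck chevE7 (pMonoCol chevE7 2 permE7_2 etaE7_2) 62 (dec8 permE7_2 62) (etaOf etaE7_2 62) = true := by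
  decide +kernel

theorem conjE7_2_from0 (s : ℕ) (h1 : 0 ≤ s) (h2 : s < 63) : conjCheck chevE7 (pMonoCol chevE7 2 permE7_2 etaE7_2) s (dec8 permE7_2 s) (etaOf etaE7_2 s) = true := by
  have h : s = 0 ∨ s = 1 ∨ s = 2 ∨ s = 3 ∨ s = 4 ∨ s = 5 ∨ s = 6 ∨ s = 7 ∨ s = 8 ∨ s = 9 ∨ s = 10 ∨ s = 11 ∨ s = 12 ∨ s = 13 ∨ s = 14 ∨ s = 15 ∨ s = 16 ∨ s = 17 ∨ s = 18 ∨ s = 19 ∨ s = 20 ∨ s = 21 ∨ s = 22 ∨ s = 23 ∨ s = 24 ∨ s = 25 ∨ s = 26 ∨ s = 27 ∨ s = 28 ∨ s = 29 ∨ s = 30 ∨ s = 31 ∨ s = 32 ∨ s = 33 ∨ s = 34 ∨ s = 35 ∨ s = 36 ∨ s = 37 ∨ s = 38 ∨ s = 39 ∨ s = 40 ∨ s = 41 ∨ s = 42 ∨ s = 43 ∨ s = 44 ∨ s = 45 ∨ s = 46 ∨ s = 47 ∨ s = 48 ∨ s = 49 ∨ s = 50 ∨ s = 51 ∨ s = 52 ∨ s = 53 ∨ s = 54 ∨ s = 55 ∨ s = 56 ∨ s = 57 ∨ s = 58 ∨ s = 59 ∨ s = 60 ∨ s = 61 ∨ s = 62 := by omega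
  rcases h with rfl | rfl | rfl | rfl | rfl | rfl | rfl | rfl | rfl | rfl | rfl | rfl | rfl | rfl | rfl | rfl | rfl | rfl | rfl | rfl | rfl | rfl | rfl | rfl | rfl | rfl | rfl | rfl | rfl | rfl | rfl | rfl | rfl | rfl | rfl | rfl | rfl | rfl | rfl | rfl | rfl | rfl | rfl | rfl | rfl | rfl | rfl | rfl | rfl | rfl | rfl | rfl | rfl | rfl | rfl | rfl | rfl | rfl | rfl | rfl | rfl | rfl | rfl
  exacts [conjE7_2_0, conjE7_2_1, conjE7_2_2, conjE7_2_3, conjE7_2_4, conjE7_2_5, conjE7_2_6, conjE7_2_7, conjE7_2_8, conjE7_2_9, conjE7_2_10, conjE7_2_11, conjE7_2_12, conjE7_2_13, conjE7_2_14, conjE7_2_15, conjE7_2_16, conjE7_2_17, conjE7_2_18, conjE7_2_19, conjE7_2_20, conjE7_2_21, conjE7_2_22, conjE7_2_23, conjE7_2_24, conjE7_2_25, conjE7_2_26, conjE7_2_27, conjE7_2_28, conjE7_2_29, conjE7_2_30, conjE7_2_31, conjE7_2_32, conjE7_2_33, conjE7_2_34, conjE7_2_35, conjE7_2_36, conjE7_2_37, conjE7_2_38, conjE7_2_39, conjE7_2_40,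 conjE7_2_41, conjE7_2_42, conjE7_2_43, conjE7_2_44, conjE7_2_45, conjE7_2_46, conjE7_2_47, conjE7_2_48, conjE7_2_49, conjE7_2_50, conjE7_2_51, conjE7_2_52, conjE7_2_53, conjE7_2_54, conjE7_2_55, conjE7_2_56, conjE7_2_57, conjE7_2_58, conjE7_2_59, conjE7_2_60, conjE7_2_61, conjE7_2_62]

theorem conjE7_2_63 : conjCheck chevE7 (pMonoCol chevE7 2 permE7_2 etaE7_2) 63 (dec8 permE7_2 63) (etaOf etaE7_2 63) = true := by
  decide +kernel

theorem conjE7_2_64 : conjCheck chevE7 (pMonoCol chevE7 2 permE7_2 etaE7_2) 64 (dec8 permE7_2 64) (etaOf etaE7_2 64) = true := by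
  decide +kernel

theorem conjE7_2_65 : conjCheck chevE7 (pMonoCol chevE7 2 permE7_2 etaE7_2) 65 (dec8 permE7_2 65) (etaOf etaE7_2 65) = true := by
  decide +kernel

theorem conjE7_2_66 : conjCheck chevE7 (pMonoCol chevE7 2 permE7_2 etaE7_2) 66 (dec8 permE7_2 66) (etaOf etaE7_2 66) = true := by
  decide +kernel

theorem conjE7_2_67 : conjCheck chevE7 (pMonoCol chevE7 2 permE7_2 etaE7_2) 67 (dec8 permE7_2 67) (etaOf etaE7_2 67) = true := by
  decide +kernel

theorem conjE7_2_68 : conjCheck chevE7 (pMonoCol chevE7 2 permE7_2 etaE7_2) 68 (dec8 permE7_2 68) (etaOf etaE7_2 68) = true := by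
  decide +kernel

theorem conjE7_2_69 : conjCheck chevE7 (pMonoCol chevE7 2 permE7_2 etaE7_2) 69 (dec8 permE7_2 69) (etaOf etaE7_2 69) = true := by
  decide +kernel

theorem conjE7_2_70 : conjCheck chevE7 (pMonoCol chevE7 2 permE7_2 etaE7_2) 70 (dec8 permE7_2 70) (etaOf etaE7_2 70) = true := by
  decide +kernel

theorem conjE7_2_71 : conjCheck chevE7 (pMonoCol chevE7 2 permE7_2 etaE7_2) 71 (dec8 permE7_2 71) (etaOf etaE7_2 71) = true := by
  decide +kernel

theorem conjE7_2_72 : conjCheck chevE7 (pMonoCol chevE7 2 permE7_2 etaE7_2) 72 (dec8 permE7_2 72) (etaOf etaE7_2 72) = true := by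
  decide +kernel

theorem conjE7_2_73 : conjCheck chevE7 (pMonoCol chevE7 2 permE7_2 etaE7_2) 73 (dec8 permE7_2 73) (etaOf etaE7_2 73) = true := by
  decide +kernel

theorem conjE7_2_74 : conjCheck chevE7 (pMonoCol chevE7 2 permE7_2 etaE7_2) 74 (dec8 permE7_2 74) (etaOf etaE7_2 74) = true := by
  decide +kernel

theorem conjE7_2_75 : conjCheck chevE7 (pMonoCol chevE7 2 permE7_2 etaE7_2) 75 (dec8 permE7_2 75) (etaOf etaE7_2 75) = true := by
  decide +kernel

theorem conjE7_2_76 : conjCheck chevE7 (pMonoCol chevE7 2 permE7_2 etaE7_2) 76 (dec8 permE7_2 76) (etaOf etaE7_2 76) = true := by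
  decide +kernel

theorem conjE7_2_77 : conjCheck chevE7 (pMonoCol chevE7 2 permE7_2 etaE7_2) 77 (dec8 permE7_2 77) (etaOf etaE7_2 77) = true := by
  decide +kernel

theorem conjE7_2_78 : conjCheck chevE7 (pMonoCol chevE7 2 permE7_2 etaE7_2) 78 (dec8 permE7_2 78) (etaOf etaE7_2 78) = true := by
  decide +kernel

theorem conjE7_2_79 : conjCheck chevE7 (pMonoCol chevE7 2 permE7_2 etaE7_2) 79 (dec8 permE7_2 79) (etaOf etaE7_2 79) = true := by
  decide +kernel

theorem conjE7_2_80 : conjCheck chevE7 (pMonoCol chevE7 2 permE7_2 etaE7_2) 80 (dec8 permE7_2 80) (etaOf etaE7_2 80) = true := by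
  decide +kernel

theorem conjE7_2_81 : conjCheck chevE7 (pMonoCol chevE7 2 permE7_2 etaE7_2) 81 (dec8 permE7_2 81) (etaOf etaE7_2 81) = true := by
  decide +kernel

theorem conjE7_2_82 : conjCheck chevE7 (pMonoCol chevE7 2 permE7_2 etaE7_2) 82 (dec8 permE7_2 82) (etaOf etaE7_2 82) = true := by
  decide +kernel

theorem conjE7_2_83 : conjCheck chevE7 (pMonoCol chevE7 2 permE7_2 etaE7_2) 83 (dec8 permE7_2 83) (etaOf etaE7_2 83) = true := by
  decide +kernel

theorem conjE7_2_84 : conjCheck chevE7 (pMonoCol chevE7 2 permE7_2 etaE7_2) 84 (dec8 permE7_2 84) (etaOf etaE7_2 84) = true := by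
  decide +kernel

theorem conjE7_2_85 : conjCheck chevE7 (pMonoCol chevE7 2 permE7_2 etaE7_2) 85 (dec8 permE7_2 85) (etaOf etaE7_2 85) = true := by
  decide +kernel

theorem conjE7_2_86 : conjCheck chevE7 (pMonoCol chevE7 2 permE7_2 etaE7_2) 86 (dec8 permE7_2 86) (etaOf etaE7_2 86) = true := by
  decide +kernel

theorem conjE7_2_87 : conjCheck chevE7 (pMonoCol chevE7 2 permE7_2 etaE7_2) 87 (dec8 permE7_2 87) (etaOf etaE7_2 87) = true := by
  decide +kernel

theorem conjE7_2_88 : conjCheck chevE7 (pMonoCol chevE7 2 permE7_2 etaE7_2) 88 (dec8 permE7_2 88) (etaOf etaE7_2 88) = true := by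
  decide +kernel

theorem conjE7_2_89 : conjCheck chevE7 (pMonoCol chevE7 2 permE7_2 etaE7_2) 89 (dec8 permE7_2 89) (etaOf etaE7_2 89) = true := by
  decide +kernel

theorem conjE7_2_90 : conjCheck chevE7 (pMonoCol chevE7 2 permE7_2 etaE7_2) 90 (dec8 permE7_2 90) (etaOf etaE7_2 90) = true := by
  decide +kernel

theorem conjE7_2_91 : conjCheck chevE7 (pMonoCol chevE7 2 permE7_2 etaE7_2) 91 (dec8 permE7_2 91) (etaOf etaE7_2 91) = true := by
  decide +kernel

theorem conjE7_2_92 : conjCheck chevE7 (pMonoCol chevE7 2 permE7_2 etaE7_2) 92 (dec8 permE7_2 92) (etaOf etaE7_2 92) = true := by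
  decide +kernel

theorem conjE7_2_93 : conjCheck chevE7 (pMonoCol chevE7 2 permE7_2 etaE7_2) 93 (dec8 permE7_2 93) (etaOf etaE7_2 93) = true := by
  decide +kernel

theorem conjE7_2_94 : conjCheck chevE7 (pMonoCol chevE7 2 permE7_2 etaE7_2) 94 (dec8 permE7_2 94) (etaOf etaE7_2 94) = true := by
  decide +kernel

theorem conjE7_2_95 : conjCheck chevE7 (pMonoCol chevE7 2 permE7_2 etaE7_2) 95 (dec8 permE7_2 95) (etaOf etaE7_2 95) = true := by
  decide +kernel

theorem conjE7_2_96 : conjCheck chevE7 (pMonoCol chevE7 2 permE7_2 etaE7_2) 96 (dec8 permE7_2 96) (etaOf etaE7_2 96) = true := by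
  decide +kernel

theorem conjE7_2_97 : conjCheck chevE7 (pMonoCol chevE7 2 permE7_2 etaE7_2) 97 (dec8 permE7_2 97) (etaOf etaE7_2 97) = true := by
  decide +kernel

theorem conjE7_2_98 : conjCheck chevE7 (pMonoCol chevE7 2 permE7_2 etaE7_2) 98 (dec8 permE7_2 98) (etaOf etaE7_2 98) = true := by
  decide +kernel

theorem conjE7_2_99 : conjCheck chevE7 (pMonoCol chevE7 2 permE7_2 etaE7_2) 99 (dec8 permE7_2 99) (etaOf etaE7_2 99) = true := by
  decide +kernel

theorem conjE7_2_100 : conjCheck chevE7 (pMonoCol chevE7 2 permE7_2 etaE7_2) 100 (dec8 permE7_2 100) (etaOf etaE7_2 100) = true := by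
  decide +kernel

theorem conjE7_2_101 : conjCheck chevE7 (pMonoCol chevE7 2 permE7_2 etaE7_2) 101 (dec8 permE7_2 101) (etaOf etaE7_2 101) = true := by
  decide +kernel

theorem conjE7_2_102 : conjCheck chevE7 (pMonoCol chevE7 2 permE7_2 etaE7_2) 102 (dec8 permE7_2 102) (etaOf etaE7_2 102) = true := by
  decide +kernel

theorem conjE7_2_103 : conjCheck chevE7 (pMonoCol chevE7 2 permE7_2 etaE7_2) 103 (dec8 permE7_2 103) (etaOf etaE7_2 103) = true := by
  decide +kernel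

theorem conjE7_2_104 : conjCheck chevE7 (pMonoCol chevE7 2 permE7_2 etaE7_2) 104 (dec8 permE7_2 104) (etaOf etaE7_2 104) = true := by
  decide +kernel

theorem conjE7_2_105 : conjCheck chevE7 (pMonoCol chevE7 2 permE7_2 etaE7_2) 105 (dec8 permE7_2 105) (etaOf etaE7_2 105) = true := by
  decide +kernel

theorem conjE7_2_106 : conjCheck chevE7 (pMonoCol chevE7 2 permE7_2 etaE7_2) 106 (dec8 permE7_2 106) (etaOf etaE7_2 106) = true := by
  decide +kernel

theorem conjE7_2_107 : conjCheck chevE7 (pMonoCol chevE7 2 permE7_2 etaE7_2) 107 (dec8 permE7_2 107) (etaOf etaE7_2 107) = true := by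
  decide +kernel

theorem conjE7_2_108 : conjCheck chevE7 (pMonoCol chevE7 2 permE7_2 etaE7_2) 108 (dec8 permE7_2 108) (etaOf etaE7_2 108) = true := by
  decide +kernel

theorem conjE7_2_109 : conjCheck chevE7 (pMonoCol chevE7 2 permE7_2 etaE7_2) 109 (dec8 permE7_2 109) (etaOf etaE7_2 109) = true := by
  decide +kernel

theorem conjE7_2_110 : conjCheck chevE7 (pMonoCol chevE7 2 permE7_2 etaE7_2) 110 (dec8 permE7_2 110) (etaOf etaE7_2 110) = true := by
  decide +kernel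

theorem conjE7_2_111 : conjCheck chevE7 (pMonoCol chevE7 2 permE7_2 etaE7_2) 111 (dec8 permE7_2 111) (etaOf etaE7_2 111) = true := by
  decide +kernel

theorem conjE7_2_112 : conjCheck chevE7 (pMonoCol chevE7 2 permE7_2 etaE7_2) 112 (dec8 permE7_2 112) (etaOf etaE7_2 112) = true := by
  decide +kernel

theorem conjE7_2_113 : conjCheck chevE7 (pMonoCol chevE7 2 permE7_2 etaE7_2) 113 (dec8 permE7_2 113) (etaOf etaE7_2 113) = true := by
  decide +kernel

theorem conjE7_2_114 : conjCheck chevE7 (pMonoCol chevE7 2 permE7_2 etaE7_2) 114 (dec8 permE7_2 114) (etaOf etaE7_2 114) = true := by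
  decide +kernel

theorem conjE7_2_115 : conjCheck chevE7 (pMonoCol chevE7 2 permE7_2 etaE7_2) 115 (dec8 permE7_2 115) (etaOf etaE7_2 115) = true := by
  decide +kernel

theorem conjE7_2_116 : conjCheck chevE7 (pMonoCol chevE7 2 permE7_2 etaE7_2) 116 (dec8 permE7_2 116) (etaOf etaE7_2 116) = true := by
  decide +kernel

theorem conjE7_2_117 : conjCheck chevE7 (pMonoCol chevE7 2 permE7_2 etaE7_2) 117 (dec8 permE7_2 117) (etaOf etaE7_2 117) = true := by
  decide +kernel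

theorem conjE7_2_118 : conjCheck chevE7 (pMonoCol chevE7 2 permE7_2 etaE7_2) 118 (dec8 permE7_2 118) (etaOf etaE7_2 118) = true := by
  decide +kernel

theorem conjE7_2_119 : conjCheck chevE7 (pMonoCol chevE7 2 permE7_2 etaE7_2) 119 (dec8 permE7_2 119) (etaOf etaE7_2 119) = true := by
  decide +kernel

theorem conjE7_2_120 : conjCheck chevE7 (pMonoCol chevE7 2 permE7_2 etaE7_2) 120 (dec8 permE7_2 120) (etaOf etaE7_2 120) = true := by
  decide +kernel

theorem conjE7_2_121 : conjCheck chevE7 (pMonoCol chevE7 2 permE7_2 etaE7_2) 121 (dec8 permE7_2 121) (etaOf etaE7_2 121) = true := by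
  decide +kernel

theorem conjE7_2_122 : conjCheck chevE7 (pMonoCol chevE7 2 permE7_2 etaE7_2) 122 (dec8 permE7_2 122) (etaOf etaE7_2 122) = true := by
  decide +kernel

theorem conjE7_2_123 : conjCheck chevE7 (pMonoCol chevE7 2 permE7_2 etaE7_2) 123 (dec8 permE7_2 123) (etaOf etaE7_2 123) = true := by
  decide +kernel

theorem conjE7_2_124 : conjCheck chevE7 (pMonoCol chevE7 2 permE7_2 etaE7_2) 124 (dec8 permE7_2 124) (etaOf etaE7_2 124) = true := by
  decide +kernel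

theorem conjE7_2_125 : conjCheck chevE7 (pMonoCol chevE7 2 permE7_2 etaE7_2) 125 (dec8 permE7_2 125) (etaOf etaE7_2 125) = true := by
  decide +kernel

theorem conjE7_2_from63 (s : ℕ) (h1 : 63 ≤ s) (h2 : s < 126) : conjCheck chevE7 (pMonoCol chevE7 2 permE7_2 etaE7_2) s (dec8 permE7_2 s) (etaOf etaE7_2 s) = true := by
  have h : s = 63 ∨ s = 64 ∨ s = 65 ∨ s = 66 ∨ s = 67 ∨ s = 68 ∨ s = 69 ∨ s = 70 ∨ s = 71 ∨ s = 72 ∨ s = 73 ∨ s = 74 ∨ s = 75 ∨ s = 76 ∨ s = 77 ∨ s = 78 ∨ s = 79 ∨ s = 80 ∨ s = 81 ∨ s = 82 ∨ s = 83 ∨ s = 84 ∨ s = 85 ∨ s = 86 ∨ s = 87 ∨ s = 88 ∨ s = 89 ∨ s = 90 ∨ s = 91 ∨ s = 92 ∨ s = 93 ∨ s = 94 ∨ s = 95 ∨ s = 96 ∨ s = 97 ∨ s = 98 ∨ s = 99 ∨ s = 100 ∨ s = 101 ∨ s = 102 ∨ s = 103 ∨ s = 104 ∨ s = 105 ∨ s = 106 ∨ s = 107 ∨ s = 108 ∨ s = 109 ∨ s = 110 ∨ s = 111 ∨ s = 112 ∨ s = 113 ∨ s = 114 ∨ s = 115 ∨ s = 116 ∨ s = 117 ∨ s = 118 ∨ s = 119 ∨ s = 120 ∨ s = 121 ∨ s = 122 ∨ s = 123 ∨ s = 124 ∨ s = 125 :=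 by omega
  rcases h with rfl | rfl | rfl | rfl | rfl | rfl | rfl | rfl | rfl | rfl | rfl | rfl | rfl | rfl | rfl | rfl | rfl | rfl | rfl | rfl | rfl | rfl | rfl | rfl | rfl | rfl | rfl | rfl | rfl | rfl | rfl | rfl | rfl | rfl | rfl | rfl | rfl | rfl | rfl | rfl | rfl | rfl | rfl | rfl | rfl | rfl | rfl | rfl | rfl | rfl | rfl | rfl | rfl | rfl | rfl | rfl | rfl | rfl | rfl | rfl | rfl | rfl | rfl
  exacts [conjE7_2_63, conjE7_2_64, conjE7_2_65, conjE7_2_66, conjE7_2_67, conjE7_2_68, conjE7_2_69, conjE7_2_70, conjE7_2_71, conjE7_2_72, conjE7_2_73, conjE7_2_74, conjE7_2_75, conjE7_2_76, conjE7_2_77, conjE7_2_78, conjE7_2_79, conjE7_2_80, conjE7_2_81, conjE7_2_82, conjE7_2_83, conjE7_2_84, conjE7_2_85, conjE7_2_86, conjE7_2_87, conjE7_2_88, conjE7_2_89, conjE7_2_90, conjE7_2_91, conjE7_2_92, conjE7_2_93, conjE7_2_94, conjE7_2_95, conjE7_2_96, conjE7_2_97, conjE7_2_98, conjE7_2_99, conjE7_2_100, conjE7_2_101, conjE7_2_102,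 conjE7_2_103, conjE7_2_104, conjE7_2_105, conjE7_2_106, conjE7_2_107, conjE7_2_108, conjE7_2_109, conjE7_2_110, conjE7_2_111, conjE7_2_112, conjE7_2_113, conjE7_2_114, conjE7_2_115, conjE7_2_116, conjE7_2_117, conjE7_2_118, conjE7_2_119, conjE7_2_120, conjE7_2_121, conjE7_2_122, conjE7_2_123, conjE7_2_124, conjE7_2_125]

end Cfsg.Agent.Helper18
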