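import Cfsg.Agent.Lib.Helper18.ConjData

set_option autoImplicit false
set_option maxRecDepth 100000
set_option Elab.async false

namespace Cfsg.Agent.Helper18

open Cfsg.Lie

theorem conjE7_3_0 : conjCheck chevE7 (pMonoCol chevE7 3 permE7_3 etaE7_3) 0 (dec8 permE7_3 0) (etaOf etaE7_3 0) = true := by
  decide +kernel

theorem conjE7_3_1 : conjCheck chevE7 (pMonoCol chevE7 3 permE7_3 etaE7_3) 1 (dec8 permE7_3 1) (etaOf etaE7_3 1) = true := by
  decide +kernel

theorem conjE7_3_2 : conjCheck chevE7 (pMonoCol chevE7 3 permE7_3 etaE7_3) 2 (dec8 permE7_3 2) (etaOf etaE7_3 2) = true := by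
  decide +kernel

theorem conjE7_3_3 : conjCheck chevE7 (pMonoCol chevE7 3 permE7_3 etaE7_3) 3 (dec8 permE7_3 3) (etaOf etaE7_3 3) = true := by
  decide +kernel

theorem conjE7_3_4 : conjCheck chevE7 (pMonoCol chevE7 3 permE7_3 etaE7_3) 4 (dec8 permE7_3 4) (etaOf etaE7_3 4) = true := by
  decide +kernel

theorem conjE7_3_5 : conjCheck chevE7 (pMonoCol chevE7 3 permE7_3 etaE7_3) 5 (dec8 permE7_3 5) (etaOf etaE7_3 5) = true := by
  decide +kernel

theorem conjE7_3_6 : conjCheck chevE7 (pMonoCol chevE7 3 permE7_3 etaE7_3) 6 (dec8 permE7_3 6) (etaOf etaE7_3 6) = true := by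
  decide +kernel

theorem conjE7_3_7 : conjCheck chevE7 (pMonoCol chevE7 3 permE7_3 etaE7_3) 7 (dec8 permE7_3 7) (etaOf etaE7_3 7) = true := by
  decide +kernel

theorem conjE7_3_8 : conjCheck chevE7 (pMonoCol chevE7 3 permE7_3 etaE7_3) 8 (dec8 permE7_3 8) (etaOf etaE7_3 8) = true := by
  decide +kernel

theorem conjE7_3_9 : conjCheck chevE7 (pMonoCol chevE7 3 permE7_3 etaE7_3) 9 (dec8 permE7_3 9) (etaOf etaE7_3 9) = true := by
  decide +kernel

theorem conjE7_3_10 : conjCheck chevE7 (pMonoCol chevE7 3 permE7_3 etaE7_3) 10 (dec8 permE7_3 10) (etaOf etaE7_3 10) = true := by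
  decide +kernel

theorem conjE7_3_11 : conjCheck chevE7 (pMonoCol chevE7 3 permE7_3 etaE7_3) 11 (dec8 permE7_3 11) (etaOf etaE7_3 11) = true := by
  decide +kernel

theorem conjE7_3_12 : conjCheck chevE7 (pMonoCol chevE7 3 permE7_3 etaE7_3) 12 (dec8 permE7_3 12) (etaOf etaE7_3 12) = true := by
  decide +kernel

theorem conjE7_3_13 : conjCheck chevE7 (pMonoCol chevE7 3 permE7_3 etaE7_3) 13 (dec8 permE7_3 13) (etaOf etaE7_3 13) = true := by
  decide +kernel

theorem conjE7_3_14 : conjCheck chevE7 (pMonoCol chevE7 3 permE7_3 etaE7_3) 14 (dec8 permE7_3 14) (etaOf etaE7_3 14) = true := by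
  decide +kernel

theorem conjE7_3_15 : conjCheck chevE7 (pMonoCol chevE7 3 permE7_3 etaE7_3) 15 (dec8 permE7_3 15) (etaOf etaE7_3 15) = true := by
  decide +kernel

theorem conjE7_3_16 : conjCheck chevE7 (pMonoCol chevE7 3 permE7_3 etaE7_3) 16 (dec8 permE7_3 16) (etaOf etaE7_3 16) = true := by
  decide +kernel

theorem conjE7_3_17 : conjCheck chevE7 (pMonoCol chevE7 3 permE7_3 etaE7_3) 17 (dec8 permE7_3 17) (etaOf etaE7_3 17) = true := by
  decide +kernel

theorem conjE7_3_18 : conjCheck chevE7 (pMonoCol chevE7 3 permE7_3 etaE7_3) 18 (dec8 permE7_3 18) (etaOf etaE7_3 18) = true := by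
  decide +kernel

theorem conjE7_3_19 : conjCheck chevE7 (pMonoCol chevE7 3 permE7_3 etaE7_3) 19 (dec8 permE7_3 19) (etaOf etaE7_3 19) = true := by
  decide +kernel

theorem conjE7_3_20 : conjCheck chevE7 (pMonoCol chevE7 3 permE7_3 etaE7_3) 20 (dec8 permE7_3 20) (etaOf etaE7_3 20) = true := by
  decide +kernel

theorem conjE7_3_21 : conjCheck chevE7 (pMonoCol chevE7 3 permE7_3 etaE7_3) 21 (dec8 permE7_3 21) (etaOf etaE7_3 21) = true := by
  decide +kernel

theorem conjE7_3_22 : conjCheck chevE7 (pMonoCol chevE7 3 permE7_3 etaE7_3) 22 (dec8 permE7_3 22) (etaOf etaE7_3 22) = true := by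
  decide +kernel

theorem conjE7_3_23 : conjCheck chevE7 (pMonoCol chevE7 3 permE7_3 etaE7_3) 23 (dec8 permE7_3 23) (etaOf etaE7_3 23) = true := by
  decide +kernel

theorem conjE7_3_24 : conjCheck chevE7 (pMonoCol chevE7 3 permE7_3 etaE7_3) 24 (dec8 permE7_3 24) (etaOf etaE7_3 24) = true := by
  decide +kernel

theorem conjE7_3_25 : conjCheck chevE7 (pMonoCol chevE7 3 permE7_3 etaE7_3) 25 (dec8 permE7_3 25) (etaOf etaE7_3 25) = true := by
  decide +kernel

theorem conjE7_3_26 : conjCheck chevE7 (pMonoCol chevE7 3 permE7_3 etaE7_3) 26 (dec8 permE7_3 26) (etaOf etaE7_3 26) = true := by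
  decide +kernel

theorem conjE7_3_27 : conjCheck chevE7 (pMonoCol chevE7 3 permE7_3 etaE7_3) 27 (dec8 permE7_3 27) (etaOf etaE7_3 27) = true := by
  decide +kernel

theorem conjE7_3_28 : conjCheck chevE7 (pMonoCol chevE7 3 permE7_3 etaE7_3) 28 (dec8 permE7_3 28) (etaOf etaE7_3 28) = true := by
  decide +kernel

theorem conjE7_3_29 : conjCheck chevE7 (pMonoCol chevE7 3 permE7_3 etaE7_3) 29 (dec8 permE7_3 29) (etaOf etaE7_3 29) = true := by
  decide +kernel

theorem conjE7_3_30 : conjCheck chevE7 (pMonoCol chevE7 3 permE7_3 etaE7_3) 30 (dec8 permE7_3 30) (etaOf etaE7_3 30) = true := by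
  decide +kernel

theorem conjE7_3_31 : conjCheck chevE7 (pMonoCol chevE7 3 permE7_3 etaE7_3) 31 (dec8 permE7_3 31) (etaOf etaE7_3 31) = true := by
  decide +kernel

theorem conjE7_3_32 : conjCheck chevE7 (pMonoCol chevE7 3 permE7_3 etaE7_3) 32 (dec8 permE7_3 32) (etaOf etaE7_3 32) = true := by
  decide +kernel

theorem conjE7_3_33 : conjCheck chevE7 (pMonoCol chevE7 3 permE7_3 etaE7_3) 33 (dec8 permE7_3 33) (etaOf etaE7_3 33) = true := by
  decide +kernel

theorem conjE7_3_34 : conjCheck chevE7 (pMonoCol chevE7 3 permE7_3 etaE7_3) 34 (dec8 permE7_3 34) (etaOf etaE7_3 34) = true := by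
  decide +kernel

theorem conjE7_3_35 : conjCheck chevE7 (pMonoCol chevE7 3 permE7_3 etaE7_3) 35 (dec8 permE7_3 35) (etaOf etaE7_3 35) = true := by
  decide +kernel

theorem conjE7_3_36 : conjCheck chevE7 (pMonoCol chevE7 3 permE7_3 etaE7_3) 36 (dec8 permE7_3 36) (etaOf etaE7_3 36) = true := by
  decide +kernel

theorem conjE7_3_37 : conjCheck chevE7 (pMonoCol chevE7 3 permE7_3 etaE7_3) 37 (dec8 permE7_3 37) (etaOf etaE7_3 37) = true := by
  decide +kernel

theorem conjE7_3_38 : conjCheck chevE7 (pMonoCol chevE7 3 permE7_3 etaE7_3) 38 (dec8 permE7_3 38) (etaOf etaE7_3 38) = true := by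
  decide +kernel

theorem conjE7_3_39 : conjCheck chevE7 (pMonoCol chevE7 3 permE7_3 etaE7_3) 39 (dec8 permE7_3 39) (etaOf etaE7_3 39) = true := by
  decide +kernel

theorem conjE7_3_40 : conjCheck chevE7 (pMonoCol chevE7 3 permE7_3 etaE7_3) 40 (dec8 permE7_3 40) (etaOf etaE7_3 40) = true := by
  decide +kernel

theorem conjE7_3_41 : conjCheck chevE7 (pMonoCol chevE7 3 permE7_3 etaE7_3) 41 (dec8 permE7_3 41) (etaOf etaE7_3 41) = true := by
  decide +kernel

theorem conjE7_3_42 : conjCheck chevE7 (pMonoCol chevE7 3 permE7_3 etaE7_3) 42 (dec8 permE7_3 42) (etaOf etaE7_3 42) = true := by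
  decide +kernel

theorem conjE7_3_43 : conjCheck chevE7 (pMonoCol chevE7 3 permE7_3 etaE7_3) 43 (dec8 permE7_3 43) (etaOf etaE7_3 43) = true := by
  decide +kernel

theorem conjE7_3_44 : conjCheck chevE7 (pMonoCol chevE7 3 permE7_3 etaE7_3) 44 (dec8 permE7_3 44) (etaOf etaE7_3 44) = true := by
  decide +kernel

theorem conjE7_3_45 : conjCheck chevE7 (pMonoCol chevE7 3 permE7_3 etaE7_3) 45 (dec8 permE7_3 45) (etaOf etaE7_3 45) = true := by
  decide +kernel

theorem conjE7_3_46 : conjCheck chevE7 (pMonoCol chevE7 3 permE7_3 etaE7_3) 46 (dec8 permE7_3 46) (etaOf etaE7_3 46) = true := by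
  decide +kernel

theorem conjE7_3_47 : conjCheck chevE7 (pMonoCol chevE7 3 permE7_3 etaE7_3) 47 (dec8 permE7_3 47) (etaOf etaE7_3 47) = true := by
  decide +kernel

theorem conjE7_3_48 : conjCheck chevE7 (pMonoCol chevE7 3 permE7_3 etaE7_3) 48 (dec8 permE7_3 48) (etaOf etaE7_3 48) = true := by
  decide +kernel

theorem conjE7_3_49 : conjCheck chevE7 (pMonoCol chevE7 3 permE7_3 etaE7_3) 49 (dec8 permE7_3 49) (etaOf etaE7_3 49) = true := by
  decide +kernel

theorem conjE7_3_50 : conjCheck chevE7 (pMonoCol chevE7 3 permE7_3 etaE7_3) 50 (dec8 permE7_3 50) (etaOf etaE7_3 50) = true := by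
  decide +kernel

theorem conjE7_3_51 : conjCheck chevE7 (pMonoCol chevE7 3 permE7_3 etaE7_3) 51 (dec8 permE7_3 51) (etaOf etaE7_3 51) = true := by
  decide +kernel

theorem conjE7_3_52 : conjCheck chevE7 (pMonoCol chevE7 3 permE7_3 etaE7_3) 52 (dec8 permE7_3 52) (etaOf etaE7_3 52) = true := by
  decide +kernel

theorem conjE7_3_53 : conjCheck chevE7 (pMonoCol chevE7 3 permE7_3 etaE7_3) 53 (dec8 permE7_3 53) (etaOf etaE7_3 53) = true := by
  decide +kernel

theorem conjE7_3_54 : conjCheck chevE7 (pMonoCol chevE7 3 permE7_3 etaE7_3) 54 (dec8 permE7_3 54) (etaOf etaE7_3 54) = true := by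
  decide +kernel

theorem conjE7_3_55 : conjCheck chevE7 (pMonoCol chevE7 3 permE7_3 etaE7_3) 55 (dec8 permE7_3 55) (etaOf etaE7_3 55) = true := by
  decide +kernel

theorem conjE7_3_56 : conjCheck chevE7 (pMonoCol chevE7 3 permE7_3 etaE7_3) 56 (dec8 permE7_3 56) (etaOf etaE7_3 56) = true := by
  decide +kernel

theorem conjE7_3_57 : conjCheck chevE7 (pMonoCol chevE7 3 permE7_3 etaE7_3) 57 (dec8 permE7_3 57) (etaOf etaE7_3 57) = true := by
  decide +kernel

theorem conjE7_3_58 : conjCheck chevE7 (pMonoCol chevE7 3 permE7_3 etaE7_3) 58 (dec8 permE7_3 58) (etaOf etaE7_3 58) = true := by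
  decide +kernel

theorem conjE7_3_59 : conjCheck chevE7 (pMonoCol chevE7 3 permE7_3 etaE7_3) 59 (dec8 permE7_3 59) (etaOf etaE7_3 59) = true := by
  decide +kernel

theorem conjE7_3_60 : conjCheck chevE7 (pMonoCol chevE7 3 permE7_3 etaE7_3) 60 (dec8 permE7_3 60) (etaOf etaE7_3 60) = true := by
  decide +kernel

theorem conjE7_3_61 : conjCheck chevE7 (pMonoCol chevE7 3 permE7_3 etaE7_3) 61 (dec8 permE7_3 61) (etaOf etaE7_3 61) = true := by
  decide +kernel

theorem conjE7_3_62 : conjCheck chevE7 (pMonoCol chevE7 3 permE7_3 etaE7_3) 62 (dec8 permE7_3 62) (etaOf etaE7_3 62) = true := by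
  decide +kernel

theorem conjE7_3_from0 (s : ℕ) (h1 : 0 ≤ s) (h2 : s < 63) : conjCheck chevE7 (pMonoCol chevE7 3 permE7_3 etaE7_3) s (dec8 permE7_3 s) (etaOf etaE7_3 s) = true := by
  have h : s = 0 ∨ s = 1 ∨ s = 2 ∨ s = 3 ∨ s = 4 ∨ s = 5 ∨ s = 6 ∨ s = 7 ∨ s = 8 ∨ s = 9 ∨ s = 10 ∨ s = 11 ∨ s = 12 ∨ s = 13 ∨ s = 14 ∨ s = 15 ∨ s = 16 ∨ s = 17 ∨ s = 18 ∨ s = 19 ∨ s = 20 ∨ s = 21 ∨ s = 22 ∨ s = 23 ∨ s = 24 ∨ s = 25 ∨ s = 26 ∨ s = 27 ∨ s = 28 ∨ s = 29 ∨ s = 30 ∨ s = 31 ∨ s = 32 ∨ s = 33 ∨ s = 34 ∨ s = 35 ∨ s = 36 ∨ s = 37 ∨ s = 38 ∨ s = 39 ∨ s = 40 ∨ s = 41 ∨ s = 42 ∨ s = 43 ∨ s = 44 ∨ s = 45 ∨ s = 46 ∨ s = 47 ∨ s = 48 ∨ s = 49 ∨ s = 50 ∨ s = 51 ∨ s = 52 ∨ s = 53 ∨ s = 54 ∨ s = 55 ∨ s = 56 ∨ s = 57 ∨ s = 58 ∨ s = 59 ∨ s = 60 ∨ s = 61 ∨ s = 62 := by omega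
  rcases h with rfl | rfl | rfl | rfl | rfl | rfl | rfl | rfl | rfl | rfl | rfl | rfl | rfl | rfl | rfl | rfl | rfl | rfl | rfl | rfl | rfl | rfl | rfl | rfl | rfl | rfl | rfl | rfl | rfl | rfl | rfl | rfl | rfl | rfl | rfl | rfl | rfl | rfl | rfl | rfl | rfl | rfl | rfl | rfl | rfl | rfl | rfl | rfl | rfl | rfl | rfl | rfl | rfl | rfl | rfl | rfl | rfl | rfl | rfl | rfl | rfl | rfl | rfl
  exacts [conjE7_3_0, conjE7_3_1, conjE7_3_2, conjE7_3_3, conjE7_3_4, conjE7_3_5, conjE7_3_6, conjE7_3_7, conjE7_3_8, conjE7_3_9, conjE7_3_10, conjE7_3_11, conjE7_3_12, conjE7_3_13, conjE7_3_14, conjE7_3_15, conjE7_3_16, conjE7_3_17, conjE7_3_18, conjE7_3_19, conjE7_3_20, conjE7_3_21, conjE7_3_22, conjE7_3_23, conjE7_3_24, conjE7_3_25, conjE7_3_26, conjE7_3_27, conjE7_3_28, conjE7_3_29, conjE7_3_30, conjE7_3_31, conjE7_3_32, conjE7_3_33, conjE7_3_34, conjE7_3_35, conjE7_3_36, conjE7_3_37, conjE7_3_38, conjE7_3_39, conjE7_3_40,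 conjE7_3_41, conjE7_3_42, conjE7_3_43, conjE7_3_44, conjE7_3_45, conjE7_3_46, conjE7_3_47, conjE7_3_48, conjE7_3_49, conjE7_3_50, conjE7_3_51, conjE7_3_52, conjE7_3_53, conjE7_3_54, conjE7_3_55, conjE7_3_56, conjE7_3_57, conjE7_3_58, conjE7_3_59, conjE7_3_60, conjE7_3_61, conjE7_3_62]

theorem conjE7_3_63 : conjCheck chevE7 (pMonoCol chevE7 3 permE7_3 etaE7_3) 63 (dec8 permE7_3 63) (etaOf etaE7_3 63) = true := by
  decide +kernel

theorem conjE7_3_64 : conjCheck chevE7 (pMonoCol chevE7 3 permE7_3 etaE7_3) 64 (dec8 permE7_3 64) (etaOf etaE7_3 64) = true := by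
  decide +kernel

theorem conjE7_3_65 : conjCheck chevE7 (pMonoCol chevE7 3 permE7_3 etaE7_3) 65 (dec8 permE7_3 65) (etaOf etaE7_3 65) = true := by
  decide +kernel

theorem conjE7_3_66 : conjCheck chevE7 (pMonoCol chevE7 3 permE7_3 etaE7_3) 66 (dec8 permE7_3 66) (etaOf etaE7_3 66) = true := by
  decide +kernel

theorem conjE7_3_67 : conjCheck chevE7 (pMonoCol chevE7 3 permE7_3 etaE7_3) 67 (dec8 permE7_3 67) (etaOf etaE7_3 67) = true := by
  decide +kernel

theorem conjE7_3_68 : conjCheck chevE7 (pMonoCol chevE7 3 permE7_3 etaE7_3) 68 (dec8 permE7_3 68) (etaOf etaE7_3 68) = true := by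
  decide +kernel

theorem conjE7_3_69 : conjCheck chevE7 (pMonoCol chevE7 3 permE7_3 etaE7_3) 69 (dec8 permE7_3 69) (etaOf etaE7_3 69) = true := by
  decide +kernel

theorem conjE7_3_70 : conjCheck chevE7 (pMonoCol chevE7 3 permE7_3 etaE7_3) 70 (dec8 permE7_3 70) (etaOf etaE7_3 70) = true := by
  decide +kernel

theorem conjE7_3_71 : conjCheck chevE7 (pMonoCol chevE7 3 permE7_3 etaE7_3) 71 (dec8 permE7_3 71) (etaOf etaE7_3 71) = true := by
  decide +kernel

theorem conjE7_3_72 : conjCheck chevE7 (pMonoCol chevE7 3 permE7_3 etaE7_3) 72 (dec8 permE7_3 72) (etaOf etaE7_3 72) = true := by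
  decide +kernel

theorem conjE7_3_73 : conjCheck chevE7 (pMonoCol chevE7 3 permE7_3 etaE7_3) 73 (dec8 permE7_3 73) (etaOf etaE7_3 73) = true := by
  decide +kernel

theorem conjE7_3_74 : conjCheck chevE7 (pMonoCol chevE7 3 permE7_3 etaE7_3) 74 (dec8 permE7_3 74) (etaOf etaE7_3 74) = true := by
  decide +kernel

theorem conjE7_3_75 : conjCheck chevE7 (pMonoCol chevE7 3 permE7_3 etaE7_3) 75 (dec8 permE7_3 75) (etaOf etaE7_3 75) = true := by
  decide +kernel

theorem conjE7_3_76 : conjCheck chevE7 (pMonoCol chevE7 3 permE7_3 etaE7_3) 76 (dec8 permE7_3 76) (etaOf etaE7_3 76) = true := by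
  decide +kernel

theorem conjE7_3_77 : conjCheck chevE7 (pMonoCol chevE7 3 permE7_3 etaE7_3) 77 (dec8 permE7_3 77) (etaOf etaE7_3 77) = true := by
  decide +kernel

theorem conjE7_3_78 : conjCheck chevE7 (pMonoCol chevE7 3 permE7_3 etaE7_3) 78 (dec8 permE7_3 78) (etaOf etaE7_3 78) = true := by
  decide +kernel

theorem conjE7_3_79 : conjCheck chevE7 (pMonoCol chevE7 3 permE7_3 etaE7_3) 79 (dec8 permE7_3 79) (etaOf etaE7_3 79) = true := by
  decide +kernel

theorem conjE7_3_80 : conjCheck chevE7 (pMonoCol chevE7 3 permE7_3 etaE7_3) 80 (dec8 permE7_3 80) (etaOf etaE7_3 80) = true := by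
  decide +kernel

theorem conjE7_3_81 : conjCheck chevE7 (pMonoCol chevE7 3 permE7_3 etaE7_3) 81 (dec8 permE7_3 81) (etaOf etaE7_3 81) = true := by
  decide +kernel

theorem conjE7_3_82 : conjCheck chevE7 (pMonoCol chevE7 3 permE7_3 etaE7_3) 82 (dec8 permE7_3 82) (etaOf etaE7_3 82) = true := by
  decide +kernel

theorem conjE7_3_83 : conjCheck chevE7 (pMonoCol chevE7 3 permE7_3 etaE7_3) 83 (dec8 permE7_3 83) (etaOf etaE7_3 83) = true := by
  decide +kernel

theorem conjE7_3_84 : conjCheck chevE7 (pMonoCol chevE7 3 permE7_3 etaE7_3) 84 (dec8 permE7_3 84) (etaOf etaE7_3 84) = true := by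
  decide +kernel

theorem conjE7_3_85 : conjCheck chevE7 (pMonoCol chevE7 3 permE7_3 etaE7_3) 85 (dec8 permE7_3 85) (etaOf etaE7_3 85) = true := by
  decide +kernel

theorem conjE7_3_86 : conjCheck chevE7 (pMonoCol chevE7 3 permE7_3 etaE7_3) 86 (dec8 permE7_3 86) (etaOf etaE7_3 86) = true := by
  decide +kernel

theorem conjE7_3_87 : conjCheck chevE7 (pMonoCol chevE7 3 permE7_3 etaE7_3) 87 (dec8 permE7_3 87) (etaOf etaE7_3 87) = true := by
  decide +kernel

theorem conjE7_3_88 : conjCheck chevE7 (pMonoCol chevE7 3 permE7_3 etaE7_3) 88 (dec8 permE7_3 88) (etaOf etaE7_3 88) = true := by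
  decide +kernel

theorem conjE7_3_89 : conjCheck chevE7 (pMonoCol chevE7 3 permE7_3 etaE7_3) 89 (dec8 permE7_3 89) (etaOf etaE7_3 89) = true := by
  decide +kernel

theorem conjE7_3_90 : conjCheck chevE7 (pMonoCol chevE7 3 permE7_3 etaE7_3) 90 (dec8 permE7_3 90) (etaOf etaE7_3 90) = true := by
  decide +kernel

theorem conjE7_3_91 : conjCheck chevE7 (pMonoCol chevE7 3 permE7_3 etaE7_3) 91 (dec8 permE7_3 91) (etaOf etaE7_3 91) = true := by
  decide +kernel

theorem conjE7_3_92 : conjCheck chevE7 (pMonoCol chevE7 3 permE7_3 etaE7_3) 92 (dec8 permE7_3 92) (etaOf etaE7_3 92) = true := by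
  decide +kernel

theorem conjE7_3_93 : conjCheck chevE7 (pMonoCol chevE7 3 permE7_3 etaE7_3) 93 (dec8 permE7_3 93) (etaOf etaE7_3 93) = true := by
  decide +kernel

theorem conjE7_3_94 : conjCheck chevE7 (pMonoCol chevE7 3 permE7_3 etaE7_3) 94 (dec8 permE7_3 94) (etaOf etaE7_3 94) = true := by
  decide +kernel

theorem conjE7_3_95 : conjCheck chevE7 (pMonoCol chevE7 3 permE7_3 etaE7_3) 95 (dec8 permE7_3 95) (etaOf etaE7_3 95) = true := by
  decide +kernel

theorem conjE7_3_96 : conjCheck chevE7 (pMonoCol chevE7 3 permE7_3 etaE7_3) 96 (dec8 permE7_3 96) (etaOf etaE7_3 96) = true := by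
  decide +kernel

theorem conjE7_3_97 : conjCheck chevE7 (pMonoCol chevE7 3 permE7_3 etaE7_3) 97 (dec8 permE7_3 97) (etaOf etaE7_3 97) = true := by
  decide +kernel

theorem conjE7_3_98 : conjCheck chevE7 (pMonoCol chevE7 3 permE7_3 etaE7_3) 98 (dec8 permE7_3 98) (etaOf etaE7_3 98) = true := by
  decide +kernel

theorem conjE7_3_99 : conjCheck chevE7 (pMonoCol chevE7 3 permE7_3 etaE7_3) 99 (dec8 permE7_3 99) (etaOf etaE7_3 99) = true := by
  decide +kernel

theorem conjE7_3_100 : conjCheck chevE7 (pMonoCol chevE7 3 permE7_3 etaE7_3) 100 (dec8 permE7_3 100) (etaOf etaE7_3 100) = true := by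
  decide +kernel

theorem conjE7_3_101 : conjCheck chevE7 (pMonoCol chevE7 3 permE7_3 etaE7_3) 101 (dec8 permE7_3 101) (etaOf etaE7_3 101) = true := by
  decide +kernel

theorem conjE7_3_102 : conjCheck chevE7 (pMonoCol chevE7 3 permE7_3 etaE7_3) 102 (dec8 permE7_3 102) (etaOf etaE7_3 102) = true := by
  decide +kernel

theorem conjE7_3_103 : conjCheck chevE7 (pMonoCol chevE7 3 permE7_3 etaE7_3) 103 (dec8 permE7_3 103) (etaOf etaE7_3 103) = true := by
  decide +kernel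

theorem conjE7_3_104 : conjCheck chevE7 (pMonoCol chevE7 3 permE7_3 etaE7_3) 104 (dec8 permE7_3 104) (etaOf etaE7_3 104) = true := by
  decide +kernel

theorem conjE7_3_105 : conjCheck chevE7 (pMonoCol chevE7 3 permE7_3 etaE7_3) 105 (dec8 permE7_3 105) (etaOf etaE7_3 105) = true := by
  decide +kernel

theorem conjE7_3_106 : conjCheck chevE7 (pMonoCol chevE7 3 permE7_3 etaE7_3) 106 (dec8 permE7_3 106) (etaOf etaE7_3 106) = true := by
  decide +kernel

theorem conjE7_3_107 : conjCheck chevE7 (pMonoCol chevE7 3 permE7_3 etaE7_3) 107 (dec8 permE7_3 107) (etaOf etaE7_3 107) = true := by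
  decide +kernel

theorem conjE7_3_108 : conjCheck chevE7 (pMonoCol chevE7 3 permE7_3 etaE7_3) 108 (dec8 permE7_3 108) (etaOf etaE7_3 108) = true := by
  decide +kernel

theorem conjE7_3_109 : conjCheck chevE7 (pMonoCol chevE7 3 permE7_3 etaE7_3) 109 (dec8 permE7_3 109) (etaOf etaE7_3 109) = true := by
  decide +kernel

theorem conjE7_3_110 : conjCheck chevE7 (pMonoCol chevE7 3 permE7_3 etaE7_3) 110 (dec8 permE7_3 110) (etaOf etaE7_3 110) = true := by
  decide +kernel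

theorem conjE7_3_111 : conjCheck chevE7 (pMonoCol chevE7 3 permE7_3 etaE7_3) 111 (dec8 permE7_3 111) (etaOf etaE7_3 111) = true := by
  decide +kernel

theorem conjE7_3_112 : conjCheck chevE7 (pMonoCol chevE7 3 permE7_3 etaE7_3) 112 (dec8 permE7_3 112) (etaOf etaE7_3 112) = true := by
  decide +kernel

theorem conjE7_3_113 : conjCheck chevE7 (pMonoCol chevE7 3 permE7_3 etaE7_3) 113 (dec8 permE7_3 113) (etaOf etaE7_3 113) = true := by
  decide +kernel

theorem conjE7_3_114 : conjCheck chevE7 (pMonoCol chevE7 3 permE7_3 etaE7_3) 114 (dec8 permE7_3 114) (etaOf etaE7_3 114) = true := by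
  decide +kernel

theorem conjE7_3_115 : conjCheck chevE7 (pMonoCol chevE7 3 permE7_3 etaE7_3) 115 (dec8 permE7_3 115) (etaOf etaE7_3 115) = true := by
  decide +kernel

theorem conjE7_3_116 : conjCheck chevE7 (pMonoCol chevE7 3 permE7_3 etaE7_3) 116 (dec8 permE7_3 116) (etaOf etaE7_3 116) = true := by
  decide +kernel

theorem conjE7_3_117 : conjCheck chevE7 (pMonoCol chevE7 3 permE7_3 etaE7_3) 117 (dec8 permE7_3 117) (etaOf etaE7_3 117) = true := by
  decide +kernel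

theorem conjE7_3_118 : conjCheck chevE7 (pMonoCol chevE7 3 permE7_3 etaE7_3) 118 (dec8 permE7_3 118) (etaOf etaE7_3 118) = true := by
  decide +kernel

theorem conjE7_3_119 : conjCheck chevE7 (pMonoCol chevE7 3 permE7_3 etaE7_3) 119 (dec8 permE7_3 119) (etaOf etaE7_3 119) = true := by
  decide +kernel

theorem conjE7_3_120 : conjCheck chevE7 (pMonoCol chevE7 3 permE7_3 etaE7_3) 120 (dec8 permE7_3 120) (etaOf etaE7_3 120) = true := by
  decide +kernel

theorem conjE7_3_121 : conjCheck chevE7 (pMonoCol chevE7 3 permE7_3 etaE7_3) 121 (dec8 permE7_3 121) (etaOf etaE7_3 121) = true := by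
  decide +kernel

theorem conjE7_3_122 : conjCheck chevE7 (pMonoCol chevE7 3 permE7_3 etaE7_3) 122 (dec8 permE7_3 122) (etaOf etaE7_3 122) = true := by
  decide +kernel

theorem conjE7_3_123 : conjCheck chevE7 (pMonoCol chevE7 3 permE7_3 etaE7_3) 123 (dec8 permE7_3 123) (etaOf etaE7_3 123) = true := by
  decide +kernel

theorem conjE7_3_124 : conjCheck chevE7 (pMonoCol chevE7 3 permE7_3 etaE7_3) 124 (dec8 permE7_3 124) (etaOf etaE7_3 124) = true := by
  decide +kernel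

theorem conjE7_3_125 : conjCheck chevE7 (pMonoCol chevE7 3 permE7_3 etaE7_3) 125 (dec8 permE7_3 125) (etaOf etaE7_3 125) = true := by
  decide +kernel

theorem conjE7_3_from63 (s : ℕ) (h1 : 63 ≤ s) (h2 : s < 126) : conjCheck chevE7 (pMonoCol chevE7 3 permE7_3 etaE7_3) s (dec8 permE7_3 s) (etaOf etaE7_3 s) = true := by
  have h : s = 63 ∨ s = 64 ∨ s = 65 ∨ s = 66 ∨ s = 67 ∨ s = 68 ∨ s = 69 ∨ s = 70 ∨ s = 71 ∨ s = 72 ∨ s = 73 ∨ s = 74 ∨ s = 75 ∨ s = 76 ∨ s = 77 ∨ s = 78 ∨ s = 79 ∨ s = 80 ∨ s = 81 ∨ s = 82 ∨ s = 83 ∨ s = 84 ∨ s = 85 ∨ s = 86 ∨ s = 87 ∨ s = 88 ∨ s = 89 ∨ s = 90 ∨ s = 91 ∨ s = 92 ∨ s = 93 ∨ s = 94 ∨ s = 95 ∨ s = 96 ∨ s = 97 ∨ s = 98 ∨ s = 99 ∨ s = 100 ∨ s = 101 ∨ s = 102 ∨ s = 103 ∨ s = 104 ∨ s = 105 ∨ s = 106 ∨ s = 107 ∨ s = 108 ∨ s = 109 ∨ s = 110 ∨ s = 111 ∨ s = 112 ∨ s = 113 ∨ s = 114 ∨ s = 115 ∨ s = 116 ∨ s = 117 ∨ s = 118 ∨ s = 119 ∨ s = 120 ∨ s = 121 ∨ s = 122 ∨ s = 123 ∨ s = 124 ∨ s = 125 :=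 by omega
  rcases h with rfl | rfl | rfl | rfl | rfl | rfl | rfl | rfl | rfl | rfl | rfl | rfl | rfl | rfl | rfl | rfl | rfl | rfl | rfl | rfl | rfl | rfl | rfl | rfl | rfl | rfl | rfl | rfl | rfl | rfl | rfl | rfl | rfl | rfl | rfl | rfl | rfl | rfl | rfl | rfl | rfl | rfl | rfl | rfl | rfl | rfl | rfl | rfl | rfl | rfl | rfl | rfl | rfl | rfl | rfl | rfl | rfl | rfl | rfl | rfl | rfl | rfl | rfl
  exacts [conjE7_3_63, conjE7_3_64, conjE7_3_65, conjE7_3_66, conjE7_3_67, conjE7_3_68, conjE7_3_69, conjE7_3_70, conjE7_3_71, conjE7_3_72, conjE7_3_73, conjE7_3_74, conjE7_3_75, conjE7_3_76, conjE7_3_77, conjE7_3_78, conjE7_3_79, conjE7_3_80, conjE7_3_81, conjE7_3_82, conjE7_3_83, conjE7_3_84, conjE7_3_85, conjE7_3_86, conjE7_3_87, conjE7_3_88, conjE7_3_89, conjE7_3_90, conjE7_3_91, conjE7_3_92, conjE7_3_93, conjE7_3_94, conjE7_3_95, conjE7_3_96, conjE7_3_97, conjE7_3_98, conjE7_3_99, conjE7_3_100, conjE7_3_101, conjE7_3_102,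 conjE7_3_103, conjE7_3_104, conjE7_3_105, conjE7_3_106, conjE7_3_107, conjE7_3_108, conjE7_3_109, conjE7_3_110, conjE7_3_111, conjE7_3_112, conjE7_3_113, conjE7_3_114, conjE7_3_115, conjE7_3_116, conjE7_3_117, conjE7_3_118, conjE7_3_119, conjE7_3_120, conjE7_3_121, conjE7_3_122, conjE7_3_123, conjE7_3_124, conjE7_3_125]

end Cfsg.Agent.Helper18
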