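import Cfsg.Agent.Lib.Helper18.ConjData

set_option autoImplicit false
set_option maxRecDepth 100000
set_option Elab.async false

namespace Cfsg.Agent.Helper18

open Cfsg.Lie

theorem conjE7_4_0 : conjCheck chevE7 (pMonoCol chevE7 4 permE7_4 etaE7_4) 0 (dec8 permE7_4 0) (etaOf etaE7_4 0) = true := by
  decide +kernel

theorem conjE7_4_1 : conjCheck chevE7 (pMonoCol chevE7 4 permE7_4 etaE7_4) 1 (dec8 permE7_4 1) (etaOf etaE7_4 1) = true := by
  decide +kernel

theorem conjE7_4_2 : conjCheck chevE7 (pMonoCol chevE7 4 permE7_4 etaE7_4) 2 (dec8 permE7_4 2) (etaOf etaE7_4 2) = true := by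
  decide +kernel

theorem conjE7_4_3 : conjCheck chevE7 (pMonoCol chevE7 4 permE7_4 etaE7_4) 3 (dec8 permE7_4 3) (etaOf etaE7_4 3) = true := by
  decide +kernel

theorem conjE7_4_4 : conjCheck chevE7 (pMonoCol chevE7 4 permE7_4 etaE7_4) 4 (dec8 permE7_4 4) (etaOf etaE7_4 4) = true := by
  decide +kernel

theorem conjE7_4_5 : conjCheck chevE7 (pMonoCol chevE7 4 permE7_4 etaE7_4) 5 (dec8 permE7_4 5) (etaOf etaE7_4 5) = true := by
  decide +kernel

theorem conjE7_4_6 : conjCheck chevE7 (pMonoCol chevE7 4 permE7_4 etaE7_4) 6 (dec8 permE7_4 6) (etaOf etaE7_4 6) = true := by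
  decide +kernel

theorem conjE7_4_7 : conjCheck chevE7 (pMonoCol chevE7 4 permE7_4 etaE7_4) 7 (dec8 permE7_4 7) (etaOf etaE7_4 7) = true := by
  decide +kernel

theorem conjE7_4_8 : conjCheck chevE7 (pMonoCol chevE7 4 permE7_4 etaE7_4) 8 (dec8 permE7_4 8) (etaOf etaE7_4 8) = true := by
  decide +kernel

theorem conjE7_4_9 : conjCheck chevE7 (pMonoCol chevE7 4 permE7_4 etaE7_4) 9 (dec8 permE7_4 9) (etaOf etaE7_4 9) = true := by
  decide +kernel

theorem conjE7_4_10 : conjCheck chevE7 (pMonoCol chevE7 4 permE7_4 etaE7_4) 10 (dec8 permE7_4 10) (etaOf etaE7_4 10) = true := by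
  decide +kernel

theorem conjE7_4_11 : conjCheck chevE7 (pMonoCol chevE7 4 permE7_4 etaE7_4) 11 (dec8 permE7_4 11) (etaOf etaE7_4 11) = true := by
  decide +kernel

theorem conjE7_4_12 : conjCheck chevE7 (pMonoCol chevE7 4 permE7_4 etaE7_4) 12 (dec8 permE7_4 12) (etaOf etaE7_4 12) = true := by
  decide +kernel

theorem conjE7_4_13 : conjCheck chevE7 (pMonoCol chevE7 4 permE7_4 etaE7_4) 13 (dec8 permE7_4 13) (etaOf etaE7_4 13) = true := by
  decide +kernel

theorem conjE7_4_14 : conjCheck chevE7 (pMonoCol chevE7 4 permE7_4 etaE7_4) 14 (dec8 permE7_4 14) (etaOf etaE7_4 14) = true := by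
  decide +kernel

theorem conjE7_4_15 : conjCheck chevE7 (pMonoCol chevE7 4 permE7_4 etaE7_4) 15 (dec8 permE7_4 15) (etaOf etaE7_4 15) = true := by
  decide +kernel

theorem conjE7_4_16 : conjCheck chevE7 (pMonoCol chevE7 4 permE7_4 etaE7_4) 16 (dec8 permE7_4 16) (etaOf etaE7_4 16) = true := by
  decide +kernel

theorem conjE7_4_17 : conjCheck chevE7 (pMonoCol chevE7 4 permE7_4 etaE7_4) 17 (dec8 permE7_4 17) (etaOf etaE7_4 17) = true := by
  decide +kernel

theorem conjE7_4_18 : conjCheck chevE7 (pMonoCol chevE7 4 permE7_4 etaE7_4) 18 (dec8 permE7_4 18) (etaOf etaE7_4 18) = true := by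
  decide +kernel

theorem conjE7_4_19 : conjCheck chevE7 (pMonoCol chevE7 4 permE7_4 etaE7_4) 19 (dec8 permE7_4 19) (etaOf etaE7_4 19) = true := by
  decide +kernel

theorem conjE7_4_20 : conjCheck chevE7 (pMonoCol chevE7 4 permE7_4 etaE7_4) 20 (dec8 permE7_4 20) (etaOf etaE7_4 20) = true := by
  decide +kernel

theorem conjE7_4_21 : conjCheck chevE7 (pMonoCol chevE7 4 permE7_4 etaE7_4) 21 (dec8 permE7_4 21) (etaOf etaE7_4 21) = true := by
  decide +kernel

theorem conjE7_4_22 : conjCheck chevE7 (pMonoCol chevE7 4 permE7_4 etaE7_4) 22 (dec8 permE7_4 22) (etaOf etaE7_4 22) = true := by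
  decide +kernel

theorem conjE7_4_23 : conjCheck chevE7 (pMonoCol chevE7 4 permE7_4 etaE7_4) 23 (dec8 permE7_4 23) (etaOf etaE7_4 23) = true := by
  decide +kernel

theorem conjE7_4_24 : conjCheck chevE7 (pMonoCol chevE7 4 permE7_4 etaE7_4) 24 (dec8 permE7_4 24) (etaOf etaE7_4 24) = true := by
  decide +kernel

theorem conjE7_4_25 : conjCheck chevE7 (pMonoCol chevE7 4 permE7_4 etaE7_4) 25 (dec8 permE7_4 25) (etaOf etaE7_4 25) = true := by
  decide +kernel

theorem conjE7_4_26 : conjCheck chevE7 (pMonoCol chevE7 4 permE7_4 etaE7_4) 26 (dec8 permE7_4 26) (etaOf etaE7_4 26) = true := by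
  decide +kernel

theorem conjE7_4_27 : conjCheck chevE7 (pMonoCol chevE7 4 permE7_4 etaE7_4) 27 (dec8 permE7_4 27) (etaOf etaE7_4 27) = true := by
  decide +kernel

theorem conjE7_4_28 : conjCheck chevE7 (pMonoCol chevE7 4 permE7_4 etaE7_4) 28 (dec8 permE7_4 28) (etaOf etaE7_4 28) = true := by
  decide +kernel

theorem conjE7_4_29 : conjCheck chevE7 (pMonoCol chevE7 4 permE7_4 etaE7_4) 29 (dec8 permE7_4 29) (etaOf etaE7_4 29) = true := by
  decide +kernel

theorem conjE7_4_30 : conjCheck chevE7 (pMonoCol chevE7 4 permE7_4 etaE7_4) 30 (dec8 permE7_4 30) (etaOf etaE7_4 30) = true := by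
  decide +kernel

theorem conjE7_4_31 : conjCheck chevE7 (pMonoCol chevE7 4 permE7_4 etaE7_4) 31 (dec8 permE7_4 31) (etaOf etaE7_4 31) = true := by
  decide +kernel

theorem conjE7_4_32 : conjCheck chevE7 (pMonoCol chevE7 4 permE7_4 etaE7_4) 32 (dec8 permE7_4 32) (etaOf etaE7_4 32) = true := by
  decide +kernel

theorem conjE7_4_33 : conjCheck chevE7 (pMonoCol chevE7 4 permE7_4 etaE7_4) 33 (dec8 permE7_4 33) (etaOf etaE7_4 33) = true := by
  decide +kernel

theorem conjE7_4_34 : conjCheck chevE7 (pMonoCol chevE7 4 permE7_4 etaE7_4) 34 (dec8 permE7_4 34) (etaOf etaE7_4 34) = true := by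
  decide +kernel

theorem conjE7_4_35 : conjCheck chevE7 (pMonoCol chevE7 4 permE7_4 etaE7_4) 35 (dec8 permE7_4 35) (etaOf etaE7_4 35) = true := by
  decide +kernel

theorem conjE7_4_36 : conjCheck chevE7 (pMonoCol chevE7 4 permE7_4 etaE7_4) 36 (dec8 permE7_4 36) (etaOf etaE7_4 36) = true := by
  decide +kernel

theorem conjE7_4_37 : conjCheck chevE7 (pMonoCol chevE7 4 permE7_4 etaE7_4) 37 (dec8 permE7_4 37) (etaOf etaE7_4 37) = true := by
  decide +kernel

theorem conjE7_4_38 : conjCheck chevE7 (pMonoCol chevE7 4 permE7_4 etaE7_4) 38 (dec8 permE7_4 38) (etaOf etaE7_4 38) = true := by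
  decide +kernel

theorem conjE7_4_39 : conjCheck chevE7 (pMonoCol chevE7 4 permE7_4 etaE7_4) 39 (dec8 permE7_4 39) (etaOf etaE7_4 39) = true := by
  decide +kernel

theorem conjE7_4_40 : conjCheck chevE7 (pMonoCol chevE7 4 permE7_4 etaE7_4) 40 (dec8 permE7_4 40) (etaOf etaE7_4 40) = true := by
  decide +kernel

theorem conjE7_4_41 : conjCheck chevE7 (pMonoCol chevE7 4 permE7_4 etaE7_4) 41 (dec8 permE7_4 41) (etaOf etaE7_4 41) = true := by
  decide +kernel

theorem conjE7_4_42 : conjCheck chevE7 (pMonoCol chevE7 4 permE7_4 etaE7_4) 42 (dec8 permE7_4 42) (etaOf etaE7_4 42) = true := by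
  decide +kernel

theorem conjE7_4_43 : conjCheck chevE7 (pMonoCol chevE7 4 permE7_4 etaE7_4) 43 (dec8 permE7_4 43) (etaOf etaE7_4 43) = true := by
  decide +kernel

theorem conjE7_4_44 : conjCheck chevE7 (pMonoCol chevE7 4 permE7_4 etaE7_4) 44 (dec8 permE7_4 44) (etaOf etaE7_4 44) = true := by
  decide +kernel

theorem conjE7_4_45 : conjCheck chevE7 (pMonoCol chevE7 4 permE7_4 etaE7_4) 45 (dec8 permE7_4 45) (etaOf etaE7_4 45) = true := by
  decide +kernel

theorem conjE7_4_46 : conjCheck chevE7 (pMonoCol chevE7 4 permE7_4 etaE7_4) 46 (dec8 permE7_4 46) (etaOf etaE7_4 46) = true := by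
  decide +kernel

theorem conjE7_4_47 : conjCheck chevE7 (pMonoCol chevE7 4 permE7_4 etaE7_4) 47 (dec8 permE7_4 47) (etaOf etaE7_4 47) = true := by
  decide +kernel

theorem conjE7_4_48 : conjCheck chevE7 (pMonoCol chevE7 4 permE7_4 etaE7_4) 48 (dec8 permE7_4 48) (etaOf etaE7_4 48) = true := by
  decide +kernel

theorem conjE7_4_49 : conjCheck chevE7 (pMonoCol chevE7 4 permE7_4 etaE7_4) 49 (dec8 permE7_4 49) (etaOf etaE7_4 49) = true := by
  decide +kernel

theorem conjE7_4_50 : conjCheck chevE7 (pMonoCol chevE7 4 permE7_4 etaE7_4) 50 (dec8 permE7_4 50) (etaOf etaE7_4 50) = true := by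
  decide +kernel

theorem conjE7_4_51 : conjCheck chevE7 (pMonoCol chevE7 4 permE7_4 etaE7_4) 51 (dec8 permE7_4 51) (etaOf etaE7_4 51) = true := by
  decide +kernel

theorem conjE7_4_52 : conjCheck chevE7 (pMonoCol chevE7 4 permE7_4 etaE7_4) 52 (dec8 permE7_4 52) (etaOf etaE7_4 52) = true := by
  decide +kernel

theorem conjE7_4_53 : conjCheck chevE7 (pMonoCol chevE7 4 permE7_4 etaE7_4) 53 (dec8 permE7_4 53) (etaOf etaE7_4 53) = true := by
  decide +kernel

theorem conjE7_4_54 : conjCheck chevE7 (pMonoCol chevE7 4 permE7_4 etaE7_4) 54 (dec8 permE7_4 54) (etaOf etaE7_4 54) = true := by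
  decide +kernel

theorem conjE7_4_55 : conjCheck chevE7 (pMonoCol chevE7 4 permE7_4 etaE7_4) 55 (dec8 permE7_4 55) (etaOf etaE7_4 55) = true := by
  decide +kernel

theorem conjE7_4_56 : conjCheck chevE7 (pMonoCol chevE7 4 permE7_4 etaE7_4) 56 (dec8 permE7_4 56) (etaOf etaE7_4 56) = true := by
  decide +kernel

theorem conjE7_4_57 : conjCheck chevE7 (pMonoCol chevE7 4 permE7_4 etaE7_4) 57 (dec8 permE7_4 57) (etaOf etaE7_4 57) = true := by
  decide +kernel

theorem conjE7_4_58 : conjCheck chevE7 (pMonoCol chevE7 4 permE7_4 etaE7_4) 58 (dec8 permE7_4 58) (etaOf etaE7_4 58) = true := by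
  decide +kernel

theorem conjE7_4_59 : conjCheck chevE7 (pMonoCol chevE7 4 permE7_4 etaE7_4) 59 (dec8 permE7_4 59) (etaOf etaE7_4 59) = true := by
  decide +kernel

theorem conjE7_4_60 : conjCheck chevE7 (pMonoCol chevE7 4 permE7_4 etaE7_4) 60 (dec8 permE7_4 60) (etaOf etaE7_4 60) = true := by
  decide +kernel

theorem conjE7_4_61 : conjCheck chevE7 (pMonoCol chevE7 4 permE7_4 etaE7_4) 61 (dec8 permE7_4 61) (etaOf etaE7_4 61) = true := by
  decide +kernel

theorem conjE7_4_62 : conjCheck chevE7 (pMonoCol chevE7 4 permE7_4 etaE7_4) 62 (dec8 permE7_4 62) (etaOf etaE7_4 62) = true := by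
  decide +kernel

theorem conjE7_4_from0 (s : ℕ) (h1 : 0 ≤ s) (h2 : s < 63) : conjCheck chevE7 (pMonoCol chevE7 4 permE7_4 etaE7_4) s (dec8 permE7_4 s) (etaOf etaE7_4 s) = true := by
  have h : s = 0 ∨ s = 1 ∨ s = 2 ∨ s = 3 ∨ s = 4 ∨ s = 5 ∨ s = 6 ∨ s = 7 ∨ s = 8 ∨ s = 9 ∨ s = 10 ∨ s = 11 ∨ s = 12 ∨ s = 13 ∨ s = 14 ∨ s = 15 ∨ s = 16 ∨ s = 17 ∨ s = 18 ∨ s = 19 ∨ s = 20 ∨ s = 21 ∨ s = 22 ∨ s = 23 ∨ s = 24 ∨ s = 25 ∨ s = 26 ∨ s = 27 ∨ s = 28 ∨ s = 29 ∨ s = 30 ∨ s = 31 ∨ s = 32 ∨ s = 33 ∨ s = 34 ∨ s = 35 ∨ s = 36 ∨ s = 37 ∨ s = 38 ∨ s = 39 ∨ s = 40 ∨ s = 41 ∨ s = 42 ∨ s = 43 ∨ s = 44 ∨ s = 45 ∨ s = 46 ∨ s = 47 ∨ s = 48 ∨ s = 49 ∨ s = 50 ∨ s = 51 ∨ s = 52 ∨ s = 53 ∨ s = 54 ∨ s = 55 ∨ s = 56 ∨ s = 57 ∨ s = 58 ∨ s = 59 ∨ s = 60 ∨ s = 61 ∨ s = 62 := by omega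
  rcases h with rfl | rfl | rfl | rfl | rfl | rfl | rfl | rfl | rfl | rfl | rfl | rfl | rfl | rfl | rfl | rfl | rfl | rfl | rfl | rfl | rfl | rfl | rfl | rfl | rfl | rfl | rfl | rfl | rfl | rfl | rfl | rfl | rfl | rfl | rfl | rfl | rfl | rfl | rfl | rfl | rfl | rfl | rfl | rfl | rfl | rfl | rfl | rfl | rfl | rfl | rfl | rfl | rfl | rfl | rfl | rfl | rfl | rfl | rfl | rfl | rfl | rfl | rfl
  exacts [conjE7_4_0, conjE7_4_1, conjE7_4_2, conjE7_4_3, conjE7_4_4, conjE7_4_5, conjE7_4_6, conjE7_4_7, conjE7_4_8, conjE7_4_9, conjE7_4_10, conjE7_4_11, conjE7_4_12, conjE7_4_13, conjE7_4_14, conjE7_4_15, conjE7_4_16, conjE7_4_17, conjE7_4_18, conjE7_4_19, conjE7_4_20, conjE7_4_21, conjE7_4_22, conjE7_4_23, conjE7_4_24, conjE7_4_25, conjE7_4_26, conjE7_4_27, conjE7_4_28, conjE7_4_29, conjE7_4_30, conjE7_4_31, conjE7_4_32, conjE7_4_33, conjE7_4_34, conjE7_4_35, conjE7_4_36, conjE7_4_37, conjE7_4_38, conjE7_4_39, conjE7_4_40,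 conjE7_4_41, conjE7_4_42, conjE7_4_43, conjE7_4_44, conjE7_4_45, conjE7_4_46, conjE7_4_47, conjE7_4_48, conjE7_4_49, conjE7_4_50, conjE7_4_51, conjE7_4_52, conjE7_4_53, conjE7_4_54, conjE7_4_55, conjE7_4_56, conjE7_4_57, conjE7_4_58, conjE7_4_59, conjE7_4_60, conjE7_4_61, conjE7_4_62]

theorem conjE7_4_63 : conjCheck chevE7 (pMonoCol chevE7 4 permE7_4 etaE7_4) 63 (dec8 permE7_4 63) (etaOf etaE7_4 63) = true := by
  decide +kernel

theorem conjE7_4_64 : conjCheck chevE7 (pMonoCol chevE7 4 permE7_4 etaE7_4) 64 (dec8 permE7_4 64) (etaOf etaE7_4 64) = true := by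
  decide +kernel

theorem conjE7_4_65 : conjCheck chevE7 (pMonoCol chevE7 4 permE7_4 etaE7_4) 65 (dec8 permE7_4 65) (etaOf etaE7_4 65) = true := by
  decide +kernel

theorem conjE7_4_66 : conjCheck chevE7 (pMonoCol chevE7 4 permE7_4 etaE7_4) 66 (dec8 permE7_4 66) (etaOf etaE7_4 66) = true := by
  decide +kernel

theorem conjE7_4_67 : conjCheck chevE7 (pMonoCol chevE7 4 permE7_4 etaE7_4) 67 (dec8 permE7_4 67) (etaOf etaE7_4 67) = true := by
  decide +kernel

theorem conjE7_4_68 : conjCheck chevE7 (pMonoCol chevE7 4 permE7_4 etaE7_4) 68 (dec8 permE7_4 68) (etaOf etaE7_4 68) = true := by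
  decide +kernel

theorem conjE7_4_69 : conjCheck chevE7 (pMonoCol chevE7 4 permE7_4 etaE7_4) 69 (dec8 permE7_4 69) (etaOf etaE7_4 69) = true := by
  decide +kernel

theorem conjE7_4_70 : conjCheck chevE7 (pMonoCol chevE7 4 permE7_4 etaE7_4) 70 (dec8 permE7_4 70) (etaOf etaE7_4 70) = true := by
  decide +kernel

theorem conjE7_4_71 : conjCheck chevE7 (pMonoCol chevE7 4 permE7_4 etaE7_4) 71 (dec8 permE7_4 71) (etaOf etaE7_4 71) = true := by
  decide +kernel

theorem conjE7_4_72 : conjCheck chevE7 (pMonoCol chevE7 4 permE7_4 etaE7_4) 72 (dec8 permE7_4 72) (etaOf etaE7_4 72) = true := by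
  decide +kernel

theorem conjE7_4_73 : conjCheck chevE7 (pMonoCol chevE7 4 permE7_4 etaE7_4) 73 (dec8 permE7_4 73) (etaOf etaE7_4 73) = true := by
  decide +kernel

theorem conjE7_4_74 : conjCheck chevE7 (pMonoCol chevE7 4 permE7_4 etaE7_4) 74 (dec8 permE7_4 74) (etaOf etaE7_4 74) = true := by
  decide +kernel

theorem conjE7_4_75 : conjCheck chevE7 (pMonoCol chevE7 4 permE7_4 etaE7_4) 75 (dec8 permE7_4 75) (etaOf etaE7_4 75) = true := by
  decide +kernel

theorem conjE7_4_76 : conjCheck chevE7 (pMonoCol chevE7 4 permE7_4 etaE7_4) 76 (dec8 permE7_4 76) (etaOf etaE7_4 76) = true := by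
  decide +kernel

theorem conjE7_4_77 : conjCheck chevE7 (pMonoCol chevE7 4 permE7_4 etaE7_4) 77 (dec8 permE7_4 77) (etaOf etaE7_4 77) = true := by
  decide +kernel

theorem conjE7_4_78 : conjCheck chevE7 (pMonoCol chevE7 4 permE7_4 etaE7_4) 78 (dec8 permE7_4 78) (etaOf etaE7_4 78) = true := by
  decide +kernel

theorem conjE7_4_79 : conjCheck chevE7 (pMonoCol chevE7 4 permE7_4 etaE7_4) 79 (dec8 permE7_4 79) (etaOf etaE7_4 79) = true := by
  decide +kernel

theorem conjE7_4_80 : conjCheck chevE7 (pMonoCol chevE7 4 permE7_4 etaE7_4) 80 (dec8 permE7_4 80) (etaOf etaE7_4 80) = true := by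
  decide +kernel

theorem conjE7_4_81 : conjCheck chevE7 (pMonoCol chevE7 4 permE7_4 etaE7_4) 81 (dec8 permE7_4 81) (etaOf etaE7_4 81) = true := by
  decide +kernel

theorem conjE7_4_82 : conjCheck chevE7 (pMonoCol chevE7 4 permE7_4 etaE7_4) 82 (dec8 permE7_4 82) (etaOf etaE7_4 82) = true := by
  decide +kernel

theorem conjE7_4_83 : conjCheck chevE7 (pMonoCol chevE7 4 permE7_4 etaE7_4) 83 (dec8 permE7_4 83) (etaOf etaE7_4 83) = true := by
  decide +kernel

theorem conjE7_4_84 : conjCheck chevE7 (pMonoCol chevE7 4 permE7_4 etaE7_4) 84 (dec8 permE7_4 84) (etaOf etaE7_4 84) = true := by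
  decide +kernel

theorem conjE7_4_85 : conjCheck chevE7 (pMonoCol chevE7 4 permE7_4 etaE7_4) 85 (dec8 permE7_4 85) (etaOf etaE7_4 85) = true := by
  decide +kernel

theorem conjE7_4_86 : conjCheck chevE7 (pMonoCol chevE7 4 permE7_4 etaE7_4) 86 (dec8 permE7_4 86) (etaOf etaE7_4 86) = true := by
  decide +kernel

theorem conjE7_4_87 : conjCheck chevE7 (pMonoCol chevE7 4 permE7_4 etaE7_4) 87 (dec8 permE7_4 87) (etaOf etaE7_4 87) = true := by
  decide +kernel

theorem conjE7_4_88 : conjCheck chevE7 (pMonoCol chevE7 4 permE7_4 etaE7_4) 88 (dec8 permE7_4 88) (etaOf etaE7_4 88) = true := by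
  decide +kernel

theorem conjE7_4_89 : conjCheck chevE7 (pMonoCol chevE7 4 permE7_4 etaE7_4) 89 (dec8 permE7_4 89) (etaOf etaE7_4 89) = true := by
  decide +kernel

theorem conjE7_4_90 : conjCheck chevE7 (pMonoCol chevE7 4 permE7_4 etaE7_4) 90 (dec8 permE7_4 90) (etaOf etaE7_4 90) = true := by
  decide +kernel

theorem conjE7_4_91 : conjCheck chevE7 (pMonoCol chevE7 4 permE7_4 etaE7_4) 91 (dec8 permE7_4 91) (etaOf etaE7_4 91) = true := by
  decide +kernel

theorem conjE7_4_92 : conjCheck chevE7 (pMonoCol chevE7 4 permE7_4 etaE7_4) 92 (dec8 permE7_4 92) (etaOf etaE7_4 92) = true := by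
  decide +kernel

theorem conjE7_4_93 : conjCheck chevE7 (pMonoCol chevE7 4 permE7_4 etaE7_4) 93 (dec8 permE7_4 93) (etaOf etaE7_4 93) = true := by
  decide +kernel

theorem conjE7_4_94 : conjCheck chevE7 (pMonoCol chevE7 4 permE7_4 etaE7_4) 94 (dec8 permE7_4 94) (etaOf etaE7_4 94) = true := by
  decide +kernel

theorem conjE7_4_95 : conjCheck chevE7 (pMonoCol chevE7 4 permE7_4 etaE7_4) 95 (dec8 permE7_4 95) (etaOf etaE7_4 95) = true := by
  decide +kernel

theorem conjE7_4_96 : conjCheck chevE7 (pMonoCol chevE7 4 permE7_4 etaE7_4) 96 (dec8 permE7_4 96) (etaOf etaE7_4 96) = true := by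
  decide +kernel

theorem conjE7_4_97 : conjCheck chevE7 (pMonoCol chevE7 4 permE7_4 etaE7_4) 97 (dec8 permE7_4 97) (etaOf etaE7_4 97) = true := by
  decide +kernel

theorem conjE7_4_98 : conjCheck chevE7 (pMonoCol chevE7 4 permE7_4 etaE7_4) 98 (dec8 permE7_4 98) (etaOf etaE7_4 98) = true := by
  decide +kernel

theorem conjE7_4_99 : conjCheck chevE7 (pMonoCol chevE7 4 permE7_4 etaE7_4) 99 (dec8 permE7_4 99) (etaOf etaE7_4 99) = true := by
  decide +kernel

theorem conjE7_4_100 : conjCheck chevE7 (pMonoCol chevE7 4 permE7_4 etaE7_4) 100 (dec8 permE7_4 100) (etaOf etaE7_4 100) = true := by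
  decide +kernel

theorem conjE7_4_101 : conjCheck chevE7 (pMonoCol chevE7 4 permE7_4 etaE7_4) 101 (dec8 permE7_4 101) (etaOf etaE7_4 101) = true := by
  decide +kernel

theorem conjE7_4_102 : conjCheck chevE7 (pMonoCol chevE7 4 permE7_4 etaE7_4) 102 (dec8 permE7_4 102) (etaOf etaE7_4 102) = true := by
  decide +kernel

theorem conjE7_4_103 : conjCheck chevE7 (pMonoCol chevE7 4 permE7_4 etaE7_4) 103 (dec8 permE7_4 103) (etaOf etaE7_4 103) = true := by
  decide +kernel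

theorem conjE7_4_104 : conjCheck chevE7 (pMonoCol chevE7 4 permE7_4 etaE7_4) 104 (dec8 permE7_4 104) (etaOf etaE7_4 104) = true := by
  decide +kernel

theorem conjE7_4_105 : conjCheck chevE7 (pMonoCol chevE7 4 permE7_4 etaE7_4) 105 (dec8 permE7_4 105) (etaOf etaE7_4 105) = true := by
  decide +kernel

theorem conjE7_4_106 : conjCheck chevE7 (pMonoCol chevE7 4 permE7_4 etaE7_4) 106 (dec8 permE7_4 106) (etaOf etaE7_4 106) = true := by
  decide +kernel

theorem conjE7_4_107 : conjCheck chevE7 (pMonoCol chevE7 4 permE7_4 etaE7_4) 107 (dec8 permE7_4 107) (etaOf etaE7_4 107) = true := by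
  decide +kernel

theorem conjE7_4_108 : conjCheck chevE7 (pMonoCol chevE7 4 permE7_4 etaE7_4) 108 (dec8 permE7_4 108) (etaOf etaE7_4 108) = true := by
  decide +kernel

theorem conjE7_4_109 : conjCheck chevE7 (pMonoCol chevE7 4 permE7_4 etaE7_4) 109 (dec8 permE7_4 109) (etaOf etaE7_4 109) = true := by
  decide +kernel

theorem conjE7_4_110 : conjCheck chevE7 (pMonoCol chevE7 4 permE7_4 etaE7_4) 110 (dec8 permE7_4 110) (etaOf etaE7_4 110) = true := by
  decide +kernel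

theorem conjE7_4_111 : conjCheck chevE7 (pMonoCol chevE7 4 permE7_4 etaE7_4) 111 (dec8 permE7_4 111) (etaOf etaE7_4 111) = true := by
  decide +kernel

theorem conjE7_4_112 : conjCheck chevE7 (pMonoCol chevE7 4 permE7_4 etaE7_4) 112 (dec8 permE7_4 112) (etaOf etaE7_4 112) = true := by
  decide +kernel

theorem conjE7_4_113 : conjCheck chevE7 (pMonoCol chevE7 4 permE7_4 etaE7_4) 113 (dec8 permE7_4 113) (etaOf etaE7_4 113) = true := by
  decide +kernel

theorem conjE7_4_114 : conjCheck chevE7 (pMonoCol chevE7 4 permE7_4 etaE7_4) 114 (dec8 permE7_4 114) (etaOf etaE7_4 114) = true := by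
  decide +kernel

theorem conjE7_4_115 : conjCheck chevE7 (pMonoCol chevE7 4 permE7_4 etaE7_4) 115 (dec8 permE7_4 115) (etaOf etaE7_4 115) = true := by
  decide +kernel

theorem conjE7_4_116 : conjCheck chevE7 (pMonoCol chevE7 4 permE7_4 etaE7_4) 116 (dec8 permE7_4 116) (etaOf etaE7_4 116) = true := by
  decide +kernel

theorem conjE7_4_117 : conjCheck chevE7 (pMonoCol chevE7 4 permE7_4 etaE7_4) 117 (dec8 permE7_4 117) (etaOf etaE7_4 117) = true := by
  decide +kernel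

theorem conjE7_4_118 : conjCheck chevE7 (pMonoCol chevE7 4 permE7_4 etaE7_4) 118 (dec8 permE7_4 118) (etaOf etaE7_4 118) = true := by
  decide +kernel

theorem conjE7_4_119 : conjCheck chevE7 (pMonoCol chevE7 4 permE7_4 etaE7_4) 119 (dec8 permE7_4 119) (etaOf etaE7_4 119) = true := by
  decide +kernel

theorem conjE7_4_120 : conjCheck chevE7 (pMonoCol chevE7 4 permE7_4 etaE7_4) 120 (dec8 permE7_4 120) (etaOf etaE7_4 120) = true := by
  decide +kernel

theorem conjE7_4_121 : conjCheck chevE7 (pMonoCol chevE7 4 permE7_4 etaE7_4) 121 (dec8 permE7_4 121) (etaOf etaE7_4 121) = true := by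
  decide +kernel

theorem conjE7_4_122 : conjCheck chevE7 (pMonoCol chevE7 4 permE7_4 etaE7_4) 122 (dec8 permE7_4 122) (etaOf etaE7_4 122) = true := by
  decide +kernel

theorem conjE7_4_123 : conjCheck chevE7 (pMonoCol chevE7 4 permE7_4 etaE7_4) 123 (dec8 permE7_4 123) (etaOf etaE7_4 123) = true := by
  decide +kernel

theorem conjE7_4_124 : conjCheck chevE7 (pMonoCol chevE7 4 permE7_4 etaE7_4) 124 (dec8 permE7_4 124) (etaOf etaE7_4 124) = true := by
  decide +kernel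

theorem conjE7_4_125 : conjCheck chevE7 (pMonoCol chevE7 4 permE7_4 etaE7_4) 125 (dec8 permE7_4 125) (etaOf etaE7_4 125) = true := by
  decide +kernel

theorem conjE7_4_from63 (s : ℕ) (h1 : 63 ≤ s) (h2 : s < 126) : conjCheck chevE7 (pMonoCol chevE7 4 permE7_4 etaE7_4) s (dec8 permE7_4 s) (etaOf etaE7_4 s) = true := by
  have h : s = 63 ∨ s = 64 ∨ s = 65 ∨ s = 66 ∨ s = 67 ∨ s = 68 ∨ s = 69 ∨ s = 70 ∨ s = 71 ∨ s = 72 ∨ s = 73 ∨ s = 74 ∨ s = 75 ∨ s = 76 ∨ s = 77 ∨ s = 78 ∨ s = 79 ∨ s = 80 ∨ s = 81 ∨ s = 82 ∨ s = 83 ∨ s = 84 ∨ s = 85 ∨ s = 86 ∨ s = 87 ∨ s = 88 ∨ s = 89 ∨ s = 90 ∨ s = 91 ∨ s = 92 ∨ s = 93 ∨ s = 94 ∨ s = 95 ∨ s = 96 ∨ s = 97 ∨ s = 98 ∨ s = 99 ∨ s = 100 ∨ s = 101 ∨ s = 102 ∨ s = 103 ∨ s = 104 ∨ s = 105 ∨ s = 106 ∨ s = 107 ∨ s = 108 ∨ s = 109 ∨ s = 110 ∨ s = 111 ∨ s = 112 ∨ s = 113 ∨ s = 114 ∨ s = 115 ∨ s = 116 ∨ s = 117 ∨ s = 118 ∨ s = 119 ∨ s = 120 ∨ s = 121 ∨ s = 122 ∨ s = 123 ∨ s = 124 ∨ s = 125 :=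 by omega
  rcases h with rfl | rfl | rfl | rfl | rfl | rfl | rfl | rfl | rfl | rfl | rfl | rfl | rfl | rfl | rfl | rfl | rfl | rfl | rfl | rfl | rfl | rfl | rfl | rfl | rfl | rfl | rfl | rfl | rfl | rfl | rfl | rfl | rfl | rfl | rfl | rfl | rfl | rfl | rfl | rfl | rfl | rfl | rfl | rfl | rfl | rfl | rfl | rfl | rfl | rfl | rfl | rfl | rfl | rfl | rfl | rfl | rfl | rfl | rfl | rfl | rfl | rfl | rfl
  exacts [conjE7_4_63, conjE7_4_64, conjE7_4_65, conjE7_4_66, conjE7_4_67, conjE7_4_68, conjE7_4_69, conjE7_4_70, conjE7_4_71, conjE7_4_72, conjE7_4_73, conjE7_4_74, conjE7_4_75, conjE7_4_76, conjE7_4_77, conjE7_4_78, conjE7_4_79, conjE7_4_80, conjE7_4_81, conjE7_4_82, conjE7_4_83, conjE7_4_84, conjE7_4_85, conjE7_4_86, conjE7_4_87, conjE7_4_88, conjE7_4_89, conjE7_4_90, conjE7_4_91, conjE7_4_92, conjE7_4_93, conjE7_4_94, conjE7_4_95, conjE7_4_96, conjE7_4_97, conjE7_4_98, conjE7_4_99, conjE7_4_100, conjE7_4_101, conjE7_4_102,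 conjE7_4_103, conjE7_4_104, conjE7_4_105, conjE7_4_106, conjE7_4_107, conjE7_4_108, conjE7_4_109, conjE7_4_110, conjE7_4_111, conjE7_4_112, conjE7_4_113, conjE7_4_114, conjE7_4_115, conjE7_4_116, conjE7_4_117, conjE7_4_118, conjE7_4_119, conjE7_4_120, conjE7_4_121, conjE7_4_122, conjE7_4_123, conjE7_4_124, conjE7_4_125]

end Cfsg.Agent.Helper18
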