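import Cfsg.Agent.Lib.Helper18.ConjData

set_option autoImplicit false
set_option maxRecDepth 100000
set_option Elab.async false

namespace Cfsg.Agent.Helper18

open Cfsg.Lie

theorem conjE7_5_0 : conjCheck chevE7 (pMonoCol chevE7 5 permE7_5 etaE7_5) 0 (dec8 permE7_5 0) (etaOf etaE7_5 0) = true := by
  decide +kernel

theorem conjE7_5_1 : conjCheck chevE7 (pMonoCol chevE7 5 permE7_5 etaE7_5) 1 (dec8 permE7_5 1) (etaOf etaE7_5 1) = true := by
  decide +kernel

theorem conjE7_5_2 : conjCheck chevE7 (pMonoCol chevE7 5 permE7_5 etaE7_5) 2 (dec8 permE7_5 2) (etaOf etaE7_5 2) = true := by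
  decide +kernel

theorem conjE7_5_3 : conjCheck chevE7 (pMonoCol chevE7 5 permE7_5 etaE7_5) 3 (dec8 permE7_5 3) (etaOf etaE7_5 3) = true := by
  decide +kernel

theorem conjE7_5_4 : conjCheck chevE7 (pMonoCol chevE7 5 permE7_5 etaE7_5) 4 (dec8 permE7_5 4) (etaOf etaE7_5 4) = true := by
  decide +kernel

theorem conjE7_5_5 : conjCheck chevE7 (pMonoCol chevE7 5 permE7_5 etaE7_5) 5 (dec8 permE7_5 5) (etaOf etaE7_5 5) = true := by
  decide +kernel

theorem conjE7_5_6 : conjCheck chevE7 (pMonoCol chevE7 5 permE7_5 etaE7_5) 6 (dec8 permE7_5 6) (etaOf etaE7_5 6) = true := by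
  decide +kernel

theorem conjE7_5_7 : conjCheck chevE7 (pMonoCol chevE7 5 permE7_5 etaE7_5) 7 (dec8 permE7_5 7) (etaOf etaE7_5 7) = true := by
  decide +kernel

theorem conjE7_5_8 : conjCheck chevE7 (pMonoCol chevE7 5 permE7_5 etaE7_5) 8 (dec8 permE7_5 8) (etaOf etaE7_5 8) = true := by
  decide +kernel

theorem conjE7_5_9 : conjCheck chevE7 (pMonoCol chevE7 5 permE7_5 etaE7_5) 9 (dec8 permE7_5 9) (etaOf etaE7_5 9) = true := by
  decide +kernel

theorem conjE7_5_10 : conjCheck chevE7 (pMonoCol chevE7 5 permE7_5 etaE7_5) 10 (dec8 permE7_5 10) (etaOf etaE7_5 10) = true := by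
  decide +kernel

theorem conjE7_5_11 : conjCheck chevE7 (pMonoCol chevE7 5 permE7_5 etaE7_5) 11 (dec8 permE7_5 11) (etaOf etaE7_5 11) = true := by
  decide +kernel

theorem conjE7_5_12 : conjCheck chevE7 (pMonoCol chevE7 5 permE7_5 etaE7_5) 12 (dec8 permE7_5 12) (etaOf etaE7_5 12) = true := by
  decide +kernel

theorem conjE7_5_13 : conjCheck chevE7 (pMonoCol chevE7 5 permE7_5 etaE7_5) 13 (dec8 permE7_5 13) (etaOf etaE7_5 13) = true := by
  decide +kernel

theorem conjE7_5_14 : conjCheck chevE7 (pMonoCol chevE7 5 permE7_5 etaE7_5) 14 (dec8 permE7_5 14) (etaOf etaE7_5 14) = true := by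
  decide +kernel

theorem conjE7_5_15 : conjCheck chevE7 (pMonoCol chevE7 5 permE7_5 etaE7_5) 15 (dec8 permE7_5 15) (etaOf etaE7_5 15) = true := by
  decide +kernel

theorem conjE7_5_16 : conjCheck chevE7 (pMonoCol chevE7 5 permE7_5 etaE7_5) 16 (dec8 permE7_5 16) (etaOf etaE7_5 16) = true := by
  decide +kernel

theorem conjE7_5_17 : conjCheck chevE7 (pMonoCol chevE7 5 permE7_5 etaE7_5) 17 (dec8 permE7_5 17) (etaOf etaE7_5 17) = true := by
  decide +kernel

theorem conjE7_5_18 : conjCheck chevE7 (pMonoCol chevE7 5 permE7_5 etaE7_5) 18 (dec8 permE7_5 18) (etaOf etaE7_5 18) = true := by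
  decide +kernel

theorem conjE7_5_19 : conjCheck chevE7 (pMonoCol chevE7 5 permE7_5 etaE7_5) 19 (dec8 permE7_5 19) (etaOf etaE7_5 19) = true := by
  decide +kernel

theorem conjE7_5_20 : conjCheck chevE7 (pMonoCol chevE7 5 permE7_5 etaE7_5) 20 (dec8 permE7_5 20) (etaOf etaE7_5 20) = true := by
  decide +kernel

theorem conjE7_5_21 : conjCheck chevE7 (pMonoCol chevE7 5 permE7_5 etaE7_5) 21 (dec8 permE7_5 21) (etaOf etaE7_5 21) = true := by
  decide +kernel

theorem conjE7_5_22 : conjCheck chevE7 (pMonoCol chevE7 5 permE7_5 etaE7_5) 22 (dec8 permE7_5 22) (etaOf etaE7_5 22) = true := by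
  decide +kernel

theorem conjE7_5_23 : conjCheck chevE7 (pMonoCol chevE7 5 permE7_5 etaE7_5) 23 (dec8 permE7_5 23) (etaOf etaE7_5 23) = true := by
  decide +kernel

theorem conjE7_5_24 : conjCheck chevE7 (pMonoCol chevE7 5 permE7_5 etaE7_5) 24 (dec8 permE7_5 24) (etaOf etaE7_5 24) = true := by
  decide +kernel

theorem conjE7_5_25 : conjCheck chevE7 (pMonoCol chevE7 5 permE7_5 etaE7_5) 25 (dec8 permE7_5 25) (etaOf etaE7_5 25) = true := by
  decide +kernel

theorem conjE7_5_26 : conjCheck chevE7 (pMonoCol chevE7 5 permE7_5 etaE7_5) 26 (dec8 permE7_5 26) (etaOf etaE7_5 26) = true := by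
  decide +kernel

theorem conjE7_5_27 : conjCheck chevE7 (pMonoCol chevE7 5 permE7_5 etaE7_5) 27 (dec8 permE7_5 27) (etaOf etaE7_5 27) = true := by
  decide +kernel

theorem conjE7_5_28 : conjCheck chevE7 (pMonoCol chevE7 5 permE7_5 etaE7_5) 28 (dec8 permE7_5 28) (etaOf etaE7_5 28) = true := by
  decide +kernel

theorem conjE7_5_29 : conjCheck chevE7 (pMonoCol chevE7 5 permE7_5 etaE7_5) 29 (dec8 permE7_5 29) (etaOf etaE7_5 29) = true := by
  decide +kernel

theorem conjE7_5_30 : conjCheck chevE7 (pMonoCol chevE7 5 permE7_5 etaE7_5) 30 (dec8 permE7_5 30) (etaOf etaE7_5 30) = true := by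
  decide +kernel

theorem conjE7_5_31 : conjCheck chevE7 (pMonoCol chevE7 5 permE7_5 etaE7_5) 31 (dec8 permE7_5 31) (etaOf etaE7_5 31) = true := by
  decide +kernel

theorem conjE7_5_32 : conjCheck chevE7 (pMonoCol chevE7 5 permE7_5 etaE7_5) 32 (dec8 permE7_5 32) (etaOf etaE7_5 32) = true := by
  decide +kernel

theorem conjE7_5_33 : conjCheck chevE7 (pMonoCol chevE7 5 permE7_5 etaE7_5) 33 (dec8 permE7_5 33) (etaOf etaE7_5 33) = true := by
  decide +kernel

theorem conjE7_5_34 : conjCheck chevE7 (pMonoCol chevE7 5 permE7_5 etaE7_5) 34 (dec8 permE7_5 34) (etaOf etaE7_5 34) = true := by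
  decide +kernel

theorem conjE7_5_35 : conjCheck chevE7 (pMonoCol chevE7 5 permE7_5 etaE7_5) 35 (dec8 permE7_5 35) (etaOf etaE7_5 35) = true := by
  decide +kernel

theorem conjE7_5_36 : conjCheck chevE7 (pMonoCol chevE7 5 permE7_5 etaE7_5) 36 (dec8 permE7_5 36) (etaOf etaE7_5 36) = true := by
  decide +kernel

theorem conjE7_5_37 : conjCheck chevE7 (pMonoCol chevE7 5 permE7_5 etaE7_5) 37 (dec8 permE7_5 37) (etaOf etaE7_5 37) = true := by
  decide +kernel

theorem conjE7_5_38 : conjCheck chevE7 (pMonoCol chevE7 5 permE7_5 etaE7_5) 38 (dec8 permE7_5 38) (etaOf etaE7_5 38) = true := by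
  decide +kernel

theorem conjE7_5_39 : conjCheck chevE7 (pMonoCol chevE7 5 permE7_5 etaE7_5) 39 (dec8 permE7_5 39) (etaOf etaE7_5 39) = true := by
  decide +kernel

theorem conjE7_5_40 : conjCheck chevE7 (pMonoCol chevE7 5 permE7_5 etaE7_5) 40 (dec8 permE7_5 40) (etaOf etaE7_5 40) = true := by
  decide +kernel

theorem conjE7_5_41 : conjCheck chevE7 (pMonoCol chevE7 5 permE7_5 etaE7_5) 41 (dec8 permE7_5 41) (etaOf etaE7_5 41) = true := by
  decide +kernel

theorem conjE7_5_42 : conjCheck chevE7 (pMonoCol chevE7 5 permE7_5 etaE7_5) 42 (dec8 permE7_5 42) (etaOf etaE7_5 42) = true := by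
  decide +kernel

theorem conjE7_5_43 : conjCheck chevE7 (pMonoCol chevE7 5 permE7_5 etaE7_5) 43 (dec8 permE7_5 43) (etaOf etaE7_5 43) = true := by
  decide +kernel

theorem conjE7_5_44 : conjCheck chevE7 (pMonoCol chevE7 5 permE7_5 etaE7_5) 44 (dec8 permE7_5 44) (etaOf etaE7_5 44) = true := by
  decide +kernel

theorem conjE7_5_45 : conjCheck chevE7 (pMonoCol chevE7 5 permE7_5 etaE7_5) 45 (dec8 permE7_5 45) (etaOf etaE7_5 45) = true := by
  decide +kernel

theorem conjE7_5_46 : conjCheck chevE7 (pMonoCol chevE7 5 permE7_5 etaE7_5) 46 (dec8 permE7_5 46) (etaOf etaE7_5 46) = true := by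
  decide +kernel

theorem conjE7_5_47 : conjCheck chevE7 (pMonoCol chevE7 5 permE7_5 etaE7_5) 47 (dec8 permE7_5 47) (etaOf etaE7_5 47) = true := by
  decide +kernel

theorem conjE7_5_48 : conjCheck chevE7 (pMonoCol chevE7 5 permE7_5 etaE7_5) 48 (dec8 permE7_5 48) (etaOf etaE7_5 48) = true := by
  decide +kernel

theorem conjE7_5_49 : conjCheck chevE7 (pMonoCol chevE7 5 permE7_5 etaE7_5) 49 (dec8 permE7_5 49) (etaOf etaE7_5 49) = true := by
  decide +kernel

theorem conjE7_5_50 : conjCheck chevE7 (pMonoCol chevE7 5 permE7_5 etaE7_5) 50 (dec8 permE7_5 50) (etaOf etaE7_5 50) = true := by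
  decide +kernel

theorem conjE7_5_51 : conjCheck chevE7 (pMonoCol chevE7 5 permE7_5 etaE7_5) 51 (dec8 permE7_5 51) (etaOf etaE7_5 51) = true := by
  decide +kernel

theorem conjE7_5_52 : conjCheck chevE7 (pMonoCol chevE7 5 permE7_5 etaE7_5) 52 (dec8 permE7_5 52) (etaOf etaE7_5 52) = true := by
  decide +kernel

theorem conjE7_5_53 : conjCheck chevE7 (pMonoCol chevE7 5 permE7_5 etaE7_5) 53 (dec8 permE7_5 53) (etaOf etaE7_5 53) = true := by
  decide +kernel

theorem conjE7_5_54 : conjCheck chevE7 (pMonoCol chevE7 5 permE7_5 etaE7_5) 54 (dec8 permE7_5 54) (etaOf etaE7_5 54) = true := by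
  decide +kernel

theorem conjE7_5_55 : conjCheck chevE7 (pMonoCol chevE7 5 permE7_5 etaE7_5) 55 (dec8 permE7_5 55) (etaOf etaE7_5 55) = true := by
  decide +kernel

theorem conjE7_5_56 : conjCheck chevE7 (pMonoCol chevE7 5 permE7_5 etaE7_5) 56 (dec8 permE7_5 56) (etaOf etaE7_5 56) = true := by
  decide +kernel

theorem conjE7_5_57 : conjCheck chevE7 (pMonoCol chevE7 5 permE7_5 etaE7_5) 57 (dec8 permE7_5 57) (etaOf etaE7_5 57) = true := by
  decide +kernel

theorem conjE7_5_58 : conjCheck chevE7 (pMonoCol chevE7 5 permE7_5 etaE7_5) 58 (dec8 permE7_5 58) (etaOf etaE7_5 58) = true := by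
  decide +kernel

theorem conjE7_5_59 : conjCheck chevE7 (pMonoCol chevE7 5 permE7_5 etaE7_5) 59 (dec8 permE7_5 59) (etaOf etaE7_5 59) = true := by
  decide +kernel

theorem conjE7_5_60 : conjCheck chevE7 (pMonoCol chevE7 5 permE7_5 etaE7_5) 60 (dec8 permE7_5 60) (etaOf etaE7_5 60) = true := by
  decide +kernel

theorem conjE7_5_61 : conjCheck chevE7 (pMonoCol chevE7 5 permE7_5 etaE7_5) 61 (dec8 permE7_5 61) (etaOf etaE7_5 61) = true := by
  decide +kernel

theorem conjE7_5_62 : conjCheck chevE7 (pMonoCol chevE7 5 permE7_5 etaE7_5) 62 (dec8 permE7_5 62) (etaOf etaE7_5 62) = true := by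
  decide +kernel

theorem conjE7_5_from0 (s : ℕ) (h1 : 0 ≤ s) (h2 : s < 63) : conjCheck chevE7 (pMonoCol chevE7 5 permE7_5 etaE7_5) s (dec8 permE7_5 s) (etaOf etaE7_5 s) = true := by
  have h : s = 0 ∨ s = 1 ∨ s = 2 ∨ s = 3 ∨ s = 4 ∨ s = 5 ∨ s = 6 ∨ s = 7 ∨ s = 8 ∨ s = 9 ∨ s = 10 ∨ s = 11 ∨ s = 12 ∨ s = 13 ∨ s = 14 ∨ s = 15 ∨ s = 16 ∨ s = 17 ∨ s = 18 ∨ s = 19 ∨ s = 20 ∨ s = 21 ∨ s = 22 ∨ s = 23 ∨ s = 24 ∨ s = 25 ∨ s = 26 ∨ s = 27 ∨ s = 28 ∨ s = 29 ∨ s = 30 ∨ s = 31 ∨ s = 32 ∨ s = 33 ∨ s = 34 ∨ s = 35 ∨ s = 36 ∨ s = 37 ∨ s = 38 ∨ s = 39 ∨ s = 40 ∨ s = 41 ∨ s = 42 ∨ s = 43 ∨ s = 44 ∨ s = 45 ∨ s = 46 ∨ s = 47 ∨ s = 48 ∨ s = 49 ∨ s = 50 ∨ s = 51 ∨ s = 52 ∨ s = 53 ∨ s = 54 ∨ s = 55 ∨ s = 56 ∨ s = 57 ∨ s = 58 ∨ s = 59 ∨ s = 60 ∨ s = 61 ∨ s = 62 := by omega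
  rcases h with rfl | rfl | rfl | rfl | rfl | rfl | rfl | rfl | rfl | rfl | rfl | rfl | rfl | rfl | rfl | rfl | rfl | rfl | rfl | rfl | rfl | rfl | rfl | rfl | rfl | rfl | rfl | rfl | rfl | rfl | rfl | rfl | rfl | rfl | rfl | rfl | rfl | rfl | rfl | rfl | rfl | rfl | rfl | rfl | rfl | rfl | rfl | rfl | rfl | rfl | rfl | rfl | rfl | rfl | rfl | rfl | rfl | rfl | rfl | rfl | rfl | rfl | rfl
  exacts [conjE7_5_0, conjE7_5_1, conjE7_5_2, conjE7_5_3, conjE7_5_4, conjE7_5_5, conjE7_5_6, conjE7_5_7, conjE7_5_8, conjE7_5_9, conjE7_5_10, conjE7_5_11, conjE7_5_12, conjE7_5_13, conjE7_5_14, conjE7_5_15, conjE7_5_16, conjE7_5_17, conjE7_5_18, conjE7_5_19, conjE7_5_20, conjE7_5_21, conjE7_5_22, conjE7_5_23, conjE7_5_24, conjE7_5_25, conjE7_5_26, conjE7_5_27, conjE7_5_28, conjE7_5_29, conjE7_5_30, conjE7_5_31, conjE7_5_32, conjE7_5_33, conjE7_5_34, conjE7_5_35, conjE7_5_36, conjE7_5_37, conjE7_5_38, conjE7_5_39, conjE7_5_40,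 conjE7_5_41, conjE7_5_42, conjE7_5_43, conjE7_5_44, conjE7_5_45, conjE7_5_46, conjE7_5_47, conjE7_5_48, conjE7_5_49, conjE7_5_50, conjE7_5_51, conjE7_5_52, conjE7_5_53, conjE7_5_54, conjE7_5_55, conjE7_5_56, conjE7_5_57, conjE7_5_58, conjE7_5_59, conjE7_5_60, conjE7_5_61, conjE7_5_62]

theorem conjE7_5_63 : conjCheck chevE7 (pMonoCol chevE7 5 permE7_5 etaE7_5) 63 (dec8 permE7_5 63) (etaOf etaE7_5 63) = true := by
  decide +kernel

theorem conjE7_5_64 : conjCheck chevE7 (pMonoCol chevE7 5 permE7_5 etaE7_5) 64 (dec8 permE7_5 64) (etaOf etaE7_5 64) = true := by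
  decide +kernel

theorem conjE7_5_65 : conjCheck chevE7 (pMonoCol chevE7 5 permE7_5 etaE7_5) 65 (dec8 permE7_5 65) (etaOf etaE7_5 65) = true := by
  decide +kernel

theorem conjE7_5_66 : conjCheck chevE7 (pMonoCol chevE7 5 permE7_5 etaE7_5) 66 (dec8 permE7_5 66) (etaOf etaE7_5 66) = true := by
  decide +kernel

theorem conjE7_5_67 : conjCheck chevE7 (pMonoCol chevE7 5 permE7_5 etaE7_5) 67 (dec8 permE7_5 67) (etaOf etaE7_5 67) = true := by
  decide +kernel

theorem conjE7_5_68 : conjCheck chevE7 (pMonoCol chevE7 5 permE7_5 etaE7_5) 68 (dec8 permE7_5 68) (etaOf etaE7_5 68) = true := by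
  decide +kernel

theorem conjE7_5_69 : conjCheck chevE7 (pMonoCol chevE7 5 permE7_5 etaE7_5) 69 (dec8 permE7_5 69) (etaOf etaE7_5 69) = true := by
  decide +kernel

theorem conjE7_5_70 : conjCheck chevE7 (pMonoCol chevE7 5 permE7_5 etaE7_5) 70 (dec8 permE7_5 70) (etaOf etaE7_5 70) = true := by
  decide +kernel

theorem conjE7_5_71 : conjCheck chevE7 (pMonoCol chevE7 5 permE7_5 etaE7_5) 71 (dec8 permE7_5 71) (etaOf etaE7_5 71) = true := by
  decide +kernel

theorem conjE7_5_72 : conjCheck chevE7 (pMonoCol chevE7 5 permE7_5 etaE7_5) 72 (dec8 permE7_5 72) (etaOf etaE7_5 72) = true := by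
  decide +kernel

theorem conjE7_5_73 : conjCheck chevE7 (pMonoCol chevE7 5 permE7_5 etaE7_5) 73 (dec8 permE7_5 73) (etaOf etaE7_5 73) = true := by
  decide +kernel

theorem conjE7_5_74 : conjCheck chevE7 (pMonoCol chevE7 5 permE7_5 etaE7_5) 74 (dec8 permE7_5 74) (etaOf etaE7_5 74) = true := by
  decide +kernel

theorem conjE7_5_75 : conjCheck chevE7 (pMonoCol chevE7 5 permE7_5 etaE7_5) 75 (dec8 permE7_5 75) (etaOf etaE7_5 75) = true := by
  decide +kernel

theorem conjE7_5_76 : conjCheck chevE7 (pMonoCol chevE7 5 permE7_5 etaE7_5) 76 (dec8 permE7_5 76) (etaOf etaE7_5 76) = true := by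
  decide +kernel

theorem conjE7_5_77 : conjCheck chevE7 (pMonoCol chevE7 5 permE7_5 etaE7_5) 77 (dec8 permE7_5 77) (etaOf etaE7_5 77) = true := by
  decide +kernel

theorem conjE7_5_78 : conjCheck chevE7 (pMonoCol chevE7 5 permE7_5 etaE7_5) 78 (dec8 permE7_5 78) (etaOf etaE7_5 78) = true := by
  decide +kernel

theorem conjE7_5_79 : conjCheck chevE7 (pMonoCol chevE7 5 permE7_5 etaE7_5) 79 (dec8 permE7_5 79) (etaOf etaE7_5 79) = true := by
  decide +kernel

theorem conjE7_5_80 : conjCheck chevE7 (pMonoCol chevE7 5 permE7_5 etaE7_5) 80 (dec8 permE7_5 80) (etaOf etaE7_5 80) = true := by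
  decide +kernel

theorem conjE7_5_81 : conjCheck chevE7 (pMonoCol chevE7 5 permE7_5 etaE7_5) 81 (dec8 permE7_5 81) (etaOf etaE7_5 81) = true := by
  decide +kernel

theorem conjE7_5_82 : conjCheck chevE7 (pMonoCol chevE7 5 permE7_5 etaE7_5) 82 (dec8 permE7_5 82) (etaOf etaE7_5 82) = true := by
  decide +kernel

theorem conjE7_5_83 : conjCheck chevE7 (pMonoCol chevE7 5 permE7_5 etaE7_5) 83 (dec8 permE7_5 83) (etaOf etaE7_5 83) = true := by
  decide +kernel

theorem conjE7_5_84 : conjCheck chevE7 (pMonoCol chevE7 5 permE7_5 etaE7_5) 84 (dec8 permE7_5 84) (etaOf etaE7_5 84) = true := by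
  decide +kernel

theorem conjE7_5_85 : conjCheck chevE7 (pMonoCol chevE7 5 permE7_5 etaE7_5) 85 (dec8 permE7_5 85) (etaOf etaE7_5 85) = true := by
  decide +kernel

theorem conjE7_5_86 : conjCheck chevE7 (pMonoCol chevE7 5 permE7_5 etaE7_5) 86 (dec8 permE7_5 86) (etaOf etaE7_5 86) = true := by
  decide +kernel

theorem conjE7_5_87 : conjCheck chevE7 (pMonoCol chevE7 5 permE7_5 etaE7_5) 87 (dec8 permE7_5 87) (etaOf etaE7_5 87) = true := by
  decide +kernel

theorem conjE7_5_88 : conjCheck chevE7 (pMonoCol chevE7 5 permE7_5 etaE7_5) 88 (dec8 permE7_5 88) (etaOf etaE7_5 88) = true := by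
  decide +kernel

theorem conjE7_5_89 : conjCheck chevE7 (pMonoCol chevE7 5 permE7_5 etaE7_5) 89 (dec8 permE7_5 89) (etaOf etaE7_5 89) = true := by
  decide +kernel

theorem conjE7_5_90 : conjCheck chevE7 (pMonoCol chevE7 5 permE7_5 etaE7_5) 90 (dec8 permE7_5 90) (etaOf etaE7_5 90) = true := by
  decide +kernel

theorem conjE7_5_91 : conjCheck chevE7 (pMonoCol chevE7 5 permE7_5 etaE7_5) 91 (dec8 permE7_5 91) (etaOf etaE7_5 91) = true := by
  decide +kernel

theorem conjE7_5_92 : conjCheck chevE7 (pMonoCol chevE7 5 permE7_5 etaE7_5) 92 (dec8 permE7_5 92) (etaOf etaE7_5 92) = true := by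
  decide +kernel

theorem conjE7_5_93 : conjCheck chevE7 (pMonoCol chevE7 5 permE7_5 etaE7_5) 93 (dec8 permE7_5 93) (etaOf etaE7_5 93) = true := by
  decide +kernel

theorem conjE7_5_94 : conjCheck chevE7 (pMonoCol chevE7 5 permE7_5 etaE7_5) 94 (dec8 permE7_5 94) (etaOf etaE7_5 94) = true := by
  decide +kernel

theorem conjE7_5_95 : conjCheck chevE7 (pMonoCol chevE7 5 permE7_5 etaE7_5) 95 (dec8 permE7_5 95) (etaOf etaE7_5 95) = true := by
  decide +kernel

theorem conjE7_5_96 : conjCheck chevE7 (pMonoCol chevE7 5 permE7_5 etaE7_5) 96 (dec8 permE7_5 96) (etaOf etaE7_5 96) = true := by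
  decide +kernel

theorem conjE7_5_97 : conjCheck chevE7 (pMonoCol chevE7 5 permE7_5 etaE7_5) 97 (dec8 permE7_5 97) (etaOf etaE7_5 97) = true := by
  decide +kernel

theorem conjE7_5_98 : conjCheck chevE7 (pMonoCol chevE7 5 permE7_5 etaE7_5) 98 (dec8 permE7_5 98) (etaOf etaE7_5 98) = true := by
  decide +kernel

theorem conjE7_5_99 : conjCheck chevE7 (pMonoCol chevE7 5 permE7_5 etaE7_5) 99 (dec8 permE7_5 99) (etaOf etaE7_5 99) = true := by
  decide +kernel

theorem conjE7_5_100 : conjCheck chevE7 (pMonoCol chevE7 5 permE7_5 etaE7_5) 100 (dec8 permE7_5 100) (etaOf etaE7_5 100) = true := by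
  decide +kernel

theorem conjE7_5_101 : conjCheck chevE7 (pMonoCol chevE7 5 permE7_5 etaE7_5) 101 (dec8 permE7_5 101) (etaOf etaE7_5 101) = true := by
  decide +kernel

theorem conjE7_5_102 : conjCheck chevE7 (pMonoCol chevE7 5 permE7_5 etaE7_5) 102 (dec8 permE7_5 102) (etaOf etaE7_5 102) = true := by
  decide +kernel

theorem conjE7_5_103 : conjCheck chevE7 (pMonoCol chevE7 5 permE7_5 etaE7_5) 103 (dec8 permE7_5 103) (etaOf etaE7_5 103) = true := by
  decide +kernel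

theorem conjE7_5_104 : conjCheck chevE7 (pMonoCol chevE7 5 permE7_5 etaE7_5) 104 (dec8 permE7_5 104) (etaOf etaE7_5 104) = true := by
  decide +kernel

theorem conjE7_5_105 : conjCheck chevE7 (pMonoCol chevE7 5 permE7_5 etaE7_5) 105 (dec8 permE7_5 105) (etaOf etaE7_5 105) = true := by
  decide +kernel

theorem conjE7_5_106 : conjCheck chevE7 (pMonoCol chevE7 5 permE7_5 etaE7_5) 106 (dec8 permE7_5 106) (etaOf etaE7_5 106) = true := by
  decide +kernel

theorem conjE7_5_107 : conjCheck chevE7 (pMonoCol chevE7 5 permE7_5 etaE7_5) 107 (dec8 permE7_5 107) (etaOf etaE7_5 107) = true := by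
  decide +kernel

theorem conjE7_5_108 : conjCheck chevE7 (pMonoCol chevE7 5 permE7_5 etaE7_5) 108 (dec8 permE7_5 108) (etaOf etaE7_5 108) = true := by
  decide +kernel

theorem conjE7_5_109 : conjCheck chevE7 (pMonoCol chevE7 5 permE7_5 etaE7_5) 109 (dec8 permE7_5 109) (etaOf etaE7_5 109) = true := by
  decide +kernel

theorem conjE7_5_110 : conjCheck chevE7 (pMonoCol chevE7 5 permE7_5 etaE7_5) 110 (dec8 permE7_5 110) (etaOf etaE7_5 110) = true := by
  decide +kernel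

theorem conjE7_5_111 : conjCheck chevE7 (pMonoCol chevE7 5 permE7_5 etaE7_5) 111 (dec8 permE7_5 111) (etaOf etaE7_5 111) = true := by
  decide +kernel

theorem conjE7_5_112 : conjCheck chevE7 (pMonoCol chevE7 5 permE7_5 etaE7_5) 112 (dec8 permE7_5 112) (etaOf etaE7_5 112) = true := by
  decide +kernel

theorem conjE7_5_113 : conjCheck chevE7 (pMonoCol chevE7 5 permE7_5 etaE7_5) 113 (dec8 permE7_5 113) (etaOf etaE7_5 113) = true := by
  decide +kernel

theorem conjE7_5_114 : conjCheck chevE7 (pMonoCol chevE7 5 permE7_5 etaE7_5) 114 (dec8 permE7_5 114) (etaOf etaE7_5 114) = true := by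
  decide +kernel

theorem conjE7_5_115 : conjCheck chevE7 (pMonoCol chevE7 5 permE7_5 etaE7_5) 115 (dec8 permE7_5 115) (etaOf etaE7_5 115) = true := by
  decide +kernel

theorem conjE7_5_116 : conjCheck chevE7 (pMonoCol chevE7 5 permE7_5 etaE7_5) 116 (dec8 permE7_5 116) (etaOf etaE7_5 116) = true := by
  decide +kernel

theorem conjE7_5_117 : conjCheck chevE7 (pMonoCol chevE7 5 permE7_5 etaE7_5) 117 (dec8 permE7_5 117) (etaOf etaE7_5 117) = true := by
  decide +kernel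

theorem conjE7_5_118 : conjCheck chevE7 (pMonoCol chevE7 5 permE7_5 etaE7_5) 118 (dec8 permE7_5 118) (etaOf etaE7_5 118) = true := by
  decide +kernel

theorem conjE7_5_119 : conjCheck chevE7 (pMonoCol chevE7 5 permE7_5 etaE7_5) 119 (dec8 permE7_5 119) (etaOf etaE7_5 119) = true := by
  decide +kernel

theorem conjE7_5_120 : conjCheck chevE7 (pMonoCol chevE7 5 permE7_5 etaE7_5) 120 (dec8 permE7_5 120) (etaOf etaE7_5 120) = true := by
  decide +kernel

theorem conjE7_5_121 : conjCheck chevE7 (pMonoCol chevE7 5 permE7_5 etaE7_5) 121 (dec8 permE7_5 121) (etaOf etaE7_5 121) = true := by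
  decide +kernel

theorem conjE7_5_122 : conjCheck chevE7 (pMonoCol chevE7 5 permE7_5 etaE7_5) 122 (dec8 permE7_5 122) (etaOf etaE7_5 122) = true := by
  decide +kernel

theorem conjE7_5_123 : conjCheck chevE7 (pMonoCol chevE7 5 permE7_5 etaE7_5) 123 (dec8 permE7_5 123) (etaOf etaE7_5 123) = true := by
  decide +kernel

theorem conjE7_5_124 : conjCheck chevE7 (pMonoCol chevE7 5 permE7_5 etaE7_5) 124 (dec8 permE7_5 124) (etaOf etaE7_5 124) = true := by
  decide +kernel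

theorem conjE7_5_125 : conjCheck chevE7 (pMonoCol chevE7 5 permE7_5 etaE7_5) 125 (dec8 permE7_5 125) (etaOf etaE7_5 125) = true := by
  decide +kernel

theorem conjE7_5_from63 (s : ℕ) (h1 : 63 ≤ s) (h2 : s < 126) : conjCheck chevE7 (pMonoCol chevE7 5 permE7_5 etaE7_5) s (dec8 permE7_5 s) (etaOf etaE7_5 s) = true := by
  have h : s = 63 ∨ s = 64 ∨ s = 65 ∨ s = 66 ∨ s = 67 ∨ s = 68 ∨ s = 69 ∨ s = 70 ∨ s = 71 ∨ s = 72 ∨ s = 73 ∨ s = 74 ∨ s = 75 ∨ s = 76 ∨ s = 77 ∨ s = 78 ∨ s = 79 ∨ s = 80 ∨ s = 81 ∨ s = 82 ∨ s = 83 ∨ s = 84 ∨ s = 85 ∨ s = 86 ∨ s = 87 ∨ s = 88 ∨ s = 89 ∨ s = 90 ∨ s = 91 ∨ s = 92 ∨ s = 93 ∨ s = 94 ∨ s = 95 ∨ s = 96 ∨ s = 97 ∨ s = 98 ∨ s = 99 ∨ s = 100 ∨ s = 101 ∨ s = 102 ∨ s = 103 ∨ s = 104 ∨ s = 105 ∨ s = 106 ∨ s = 107 ∨ s = 108 ∨ s = 109 ∨ s = 110 ∨ s = 111 ∨ s = 112 ∨ s = 113 ∨ s = 114 ∨ s = 115 ∨ s = 116 ∨ s = 117 ∨ s = 118 ∨ s = 119 ∨ s = 120 ∨ s = 121 ∨ s = 122 ∨ s = 123 ∨ s = 124 ∨ s = 125 :=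 by omega
  rcases h with rfl | rfl | rfl | rfl | rfl | rfl | rfl | rfl | rfl | rfl | rfl | rfl | rfl | rfl | rfl | rfl | rfl | rfl | rfl | rfl | rfl | rfl | rfl | rfl | rfl | rfl | rfl | rfl | rfl | rfl | rfl | rfl | rfl | rfl | rfl | rfl | rfl | rfl | rfl | rfl | rfl | rfl | rfl | rfl | rfl | rfl | rfl | rfl | rfl | rfl | rfl | rfl | rfl | rfl | rfl | rfl | rfl | rfl | rfl | rfl | rfl | rfl | rfl
  exacts [conjE7_5_63, conjE7_5_64, conjE7_5_65, conjE7_5_66, conjE7_5_67, conjE7_5_68, conjE7_5_69, conjE7_5_70, conjE7_5_71, conjE7_5_72, conjE7_5_73, conjE7_5_74, conjE7_5_75, conjE7_5_76, conjE7_5_77, conjE7_5_78, conjE7_5_79, conjE7_5_80, conjE7_5_81, conjE7_5_82, conjE7_5_83, conjE7_5_84, conjE7_5_85, conjE7_5_86, conjE7_5_87, conjE7_5_88, conjE7_5_89, conjE7_5_90, conjE7_5_91, conjE7_5_92, conjE7_5_93, conjE7_5_94, conjE7_5_95, conjE7_5_96, conjE7_5_97, conjE7_5_98, conjE7_5_99, conjE7_5_100, conjE7_5_101, conjE7_5_102,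 conjE7_5_103, conjE7_5_104, conjE7_5_105, conjE7_5_106, conjE7_5_107, conjE7_5_108, conjE7_5_109, conjE7_5_110, conjE7_5_111, conjE7_5_112, conjE7_5_113, conjE7_5_114, conjE7_5_115, conjE7_5_116, conjE7_5_117, conjE7_5_118, conjE7_5_119, conjE7_5_120, conjE7_5_121, conjE7_5_122, conjE7_5_123, conjE7_5_124, conjE7_5_125]

end Cfsg.Agent.Helper18
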