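import Cfsg.Agent.Lib.Helper18.ConjData

set_option autoImplicit false
set_option maxRecDepth 100000
set_option Elab.async false

namespace Cfsg.Agent.Helper18

open Cfsg.Lie

theorem conjE7_6_0 : conjCheck chevE7 (pMonoCol chevE7 6 permE7_6 etaE7_6) 0 (dec8 permE7_6 0) (etaOf etaE7_6 0) = true := by
  decide +kernel

theorem conjE7_6_1 : conjCheck chevE7 (pMonoCol chevE7 6 permE7_6 etaE7_6) 1 (dec8 permE7_6 1) (etaOf etaE7_6 1) = true := by
  decide +kernel

theorem conjE7_6_2 : conjCheck chevE7 (pMonoCol chevE7 6 permE7_6 etaE7_6) 2 (dec8 permE7_6 2) (etaOf etaE7_6 2) = true := by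
  decide +kernel

theorem conjE7_6_3 : conjCheck chevE7 (pMonoCol chevE7 6 permE7_6 etaE7_6) 3 (dec8 permE7_6 3) (etaOf etaE7_6 3) = true := by
  decide +kernel

theorem conjE7_6_4 : conjCheck chevE7 (pMonoCol chevE7 6 permE7_6 etaE7_6) 4 (dec8 permE7_6 4) (etaOf etaE7_6 4) = true := by
  decide +kernel

theorem conjE7_6_5 : conjCheck chevE7 (pMonoCol chevE7 6 permE7_6 etaE7_6) 5 (dec8 permE7_6 5) (etaOf etaE7_6 5) = true := by
  decide +kernel

theorem conjE7_6_6 : conjCheck chevE7 (pMonoCol chevE7 6 permE7_6 etaE7_6) 6 (dec8 permE7_6 6) (etaOf etaE7_6 6) = true := by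
  decide +kernel

theorem conjE7_6_7 : conjCheck chevE7 (pMonoCol chevE7 6 permE7_6 etaE7_6) 7 (dec8 permE7_6 7) (etaOf etaE7_6 7) = true := by
  decide +kernel

theorem conjE7_6_8 : conjCheck chevE7 (pMonoCol chevE7 6 permE7_6 etaE7_6) 8 (dec8 permE7_6 8) (etaOf etaE7_6 8) = true := by
  decide +kernel

theorem conjE7_6_9 : conjCheck chevE7 (pMonoCol chevE7 6 permE7_6 etaE7_6) 9 (dec8 permE7_6 9) (etaOf etaE7_6 9) = true := by
  decide +kernel

theorem conjE7_6_10 : conjCheck chevE7 (pMonoCol chevE7 6 permE7_6 etaE7_6) 10 (dec8 permE7_6 10) (etaOf etaE7_6 10) = true := by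
  decide +kernel

theorem conjE7_6_11 : conjCheck chevE7 (pMonoCol chevE7 6 permE7_6 etaE7_6) 11 (dec8 permE7_6 11) (etaOf etaE7_6 11) = true := by
  decide +kernel

theorem conjE7_6_12 : conjCheck chevE7 (pMonoCol chevE7 6 permE7_6 etaE7_6) 12 (dec8 permE7_6 12) (etaOf etaE7_6 12) = true := by
  decide +kernel

theorem conjE7_6_13 : conjCheck chevE7 (pMonoCol chevE7 6 permE7_6 etaE7_6) 13 (dec8 permE7_6 13) (etaOf etaE7_6 13) = true := by
  decide +kernel

theorem conjE7_6_14 : conjCheck chevE7 (pMonoCol chevE7 6 permE7_6 etaE7_6) 14 (dec8 permE7_6 14) (etaOf etaE7_6 14) = true := by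
  decide +kernel

theorem conjE7_6_15 : conjCheck chevE7 (pMonoCol chevE7 6 permE7_6 etaE7_6) 15 (dec8 permE7_6 15) (etaOf etaE7_6 15) = true := by
  decide +kernel

theorem conjE7_6_16 : conjCheck chevE7 (pMonoCol chevE7 6 permE7_6 etaE7_6) 16 (dec8 permE7_6 16) (etaOf etaE7_6 16) = true := by
  decide +kernel

theorem conjE7_6_17 : conjCheck chevE7 (pMonoCol chevE7 6 permE7_6 etaE7_6) 17 (dec8 permE7_6 17) (etaOf etaE7_6 17) = true := by
  decide +kernel

theorem conjE7_6_18 : conjCheck chevE7 (pMonoCol chevE7 6 permE7_6 etaE7_6) 18 (dec8 permE7_6 18) (etaOf etaE7_6 18) = true := by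
  decide +kernel

theorem conjE7_6_19 : conjCheck chevE7 (pMonoCol chevE7 6 permE7_6 etaE7_6) 19 (dec8 permE7_6 19) (etaOf etaE7_6 19) = true := by
  decide +kernel

theorem conjE7_6_20 : conjCheck chevE7 (pMonoCol chevE7 6 permE7_6 etaE7_6) 20 (dec8 permE7_6 20) (etaOf etaE7_6 20) = true := by
  decide +kernel

theorem conjE7_6_21 : conjCheck chevE7 (pMonoCol chevE7 6 permE7_6 etaE7_6) 21 (dec8 permE7_6 21) (etaOf etaE7_6 21) = true := by
  decide +kernel

theorem conjE7_6_22 : conjCheck chevE7 (pMonoCol chevE7 6 permE7_6 etaE7_6) 22 (dec8 permE7_6 22) (etaOf etaE7_6 22) = true := by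
  decide +kernel

theorem conjE7_6_23 : conjCheck chevE7 (pMonoCol chevE7 6 permE7_6 etaE7_6) 23 (dec8 permE7_6 23) (etaOf etaE7_6 23) = true := by
  decide +kernel

theorem conjE7_6_24 : conjCheck chevE7 (pMonoCol chevE7 6 permE7_6 etaE7_6) 24 (dec8 permE7_6 24) (etaOf etaE7_6 24) = true := by
  decide +kernel

theorem conjE7_6_25 : conjCheck chevE7 (pMonoCol chevE7 6 permE7_6 etaE7_6) 25 (dec8 permE7_6 25) (etaOf etaE7_6 25) = true := by
  decide +kernel

theorem conjE7_6_26 : conjCheck chevE7 (pMonoCol chevE7 6 permE7_6 etaE7_6) 26 (dec8 permE7_6 26) (etaOf etaE7_6 26) = true := by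
  decide +kernel

theorem conjE7_6_27 : conjCheck chevE7 (pMonoCol chevE7 6 permE7_6 etaE7_6) 27 (dec8 permE7_6 27) (etaOf etaE7_6 27) = true := by
  decide +kernel

theorem conjE7_6_28 : conjCheck chevE7 (pMonoCol chevE7 6 permE7_6 etaE7_6) 28 (dec8 permE7_6 28) (etaOf etaE7_6 28) = true := by
  decide +kernel

theorem conjE7_6_29 : conjCheck chevE7 (pMonoCol chevE7 6 permE7_6 etaE7_6) 29 (dec8 permE7_6 29) (etaOf etaE7_6 29) = true := by
  decide +kernel

theorem conjE7_6_30 : conjCheck chevE7 (pMonoCol chevE7 6 permE7_6 etaE7_6) 30 (dec8 permE7_6 30) (etaOf etaE7_6 30) = true := by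
  decide +kernel

theorem conjE7_6_31 : conjCheck chevE7 (pMonoCol chevE7 6 permE7_6 etaE7_6) 31 (dec8 permE7_6 31) (etaOf etaE7_6 31) = true := by
  decide +kernel

theorem conjE7_6_32 : conjCheck chevE7 (pMonoCol chevE7 6 permE7_6 etaE7_6) 32 (dec8 permE7_6 32) (etaOf etaE7_6 32) = true := by
  decide +kernel

theorem conjE7_6_33 : conjCheck chevE7 (pMonoCol chevE7 6 permE7_6 etaE7_6) 33 (dec8 permE7_6 33) (etaOf etaE7_6 33) = true := by
  decide +kernel

theorem conjE7_6_34 : conjCheck chevE7 (pMonoCol chevE7 6 permE7_6 etaE7_6) 34 (dec8 permE7_6 34) (etaOf etaE7_6 34) = true := by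
  decide +kernel

theorem conjE7_6_35 : conjCheck chevE7 (pMonoCol chevE7 6 permE7_6 etaE7_6) 35 (dec8 permE7_6 35) (etaOf etaE7_6 35) = true := by
  decide +kernel

theorem conjE7_6_36 : conjCheck chevE7 (pMonoCol chevE7 6 permE7_6 etaE7_6) 36 (dec8 permE7_6 36) (etaOf etaE7_6 36) = true := by
  decide +kernel

theorem conjE7_6_37 : conjCheck chevE7 (pMonoCol chevE7 6 permE7_6 etaE7_6) 37 (dec8 permE7_6 37) (etaOf etaE7_6 37) = true := by
  decide +kernel

theorem conjE7_6_38 : conjCheck chevE7 (pMonoCol chevE7 6 permE7_6 etaE7_6) 38 (dec8 permE7_6 38) (etaOf etaE7_6 38) = true := by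
  decide +kernel

theorem conjE7_6_39 : conjCheck chevE7 (pMonoCol chevE7 6 permE7_6 etaE7_6) 39 (dec8 permE7_6 39) (etaOf etaE7_6 39) = true := by
  decide +kernel

theorem conjE7_6_40 : conjCheck chevE7 (pMonoCol chevE7 6 permE7_6 etaE7_6) 40 (dec8 permE7_6 40) (etaOf etaE7_6 40) = true := by
  decide +kernel

theorem conjE7_6_41 : conjCheck chevE7 (pMonoCol chevE7 6 permE7_6 etaE7_6) 41 (dec8 permE7_6 41) (etaOf etaE7_6 41) = true := by
  decide +kernel

theorem conjE7_6_42 : conjCheck chevE7 (pMonoCol chevE7 6 permE7_6 etaE7_6) 42 (dec8 permE7_6 42) (etaOf etaE7_6 42) = true := by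
  decide +kernel

theorem conjE7_6_43 : conjCheck chevE7 (pMonoCol chevE7 6 permE7_6 etaE7_6) 43 (dec8 permE7_6 43) (etaOf etaE7_6 43) = true := by
  decide +kernel

theorem conjE7_6_44 : conjCheck chevE7 (pMonoCol chevE7 6 permE7_6 etaE7_6) 44 (dec8 permE7_6 44) (etaOf etaE7_6 44) = true := by
  decide +kernel

theorem conjE7_6_45 : conjCheck chevE7 (pMonoCol chevE7 6 permE7_6 etaE7_6) 45 (dec8 permE7_6 45) (etaOf etaE7_6 45) = true := by
  decide +kernel

theorem conjE7_6_46 : conjCheck chevE7 (pMonoCol chevE7 6 permE7_6 etaE7_6) 46 (dec8 permE7_6 46) (etaOf etaE7_6 46) = true := by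
  decide +kernel

theorem conjE7_6_47 : conjCheck chevE7 (pMonoCol chevE7 6 permE7_6 etaE7_6) 47 (dec8 permE7_6 47) (etaOf etaE7_6 47) = true := by
  decide +kernel

theorem conjE7_6_48 : conjCheck chevE7 (pMonoCol chevE7 6 permE7_6 etaE7_6) 48 (dec8 permE7_6 48) (etaOf etaE7_6 48) = true := by
  decide +kernel

theorem conjE7_6_49 : conjCheck chevE7 (pMonoCol chevE7 6 permE7_6 etaE7_6) 49 (dec8 permE7_6 49) (etaOf etaE7_6 49) = true := by
  decide +kernel

theorem conjE7_6_50 : conjCheck chevE7 (pMonoCol chevE7 6 permE7_6 etaE7_6) 50 (dec8 permE7_6 50) (etaOf etaE7_6 50) = true := by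
  decide +kernel

theorem conjE7_6_51 : conjCheck chevE7 (pMonoCol chevE7 6 permE7_6 etaE7_6) 51 (dec8 permE7_6 51) (etaOf etaE7_6 51) = true := by
  decide +kernel

theorem conjE7_6_52 : conjCheck chevE7 (pMonoCol chevE7 6 permE7_6 etaE7_6) 52 (dec8 permE7_6 52) (etaOf etaE7_6 52) = true := by
  decide +kernel

theorem conjE7_6_53 : conjCheck chevE7 (pMonoCol chevE7 6 permE7_6 etaE7_6) 53 (dec8 permE7_6 53) (etaOf etaE7_6 53) = true := by
  decide +kernel

theorem conjE7_6_54 : conjCheck chevE7 (pMonoCol chevE7 6 permE7_6 etaE7_6) 54 (dec8 permE7_6 54) (etaOf etaE7_6 54) = true := by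
  decide +kernel

theorem conjE7_6_55 : conjCheck chevE7 (pMonoCol chevE7 6 permE7_6 etaE7_6) 55 (dec8 permE7_6 55) (etaOf etaE7_6 55) = true := by
  decide +kernel

theorem conjE7_6_56 : conjCheck chevE7 (pMonoCol chevE7 6 permE7_6 etaE7_6) 56 (dec8 permE7_6 56) (etaOf etaE7_6 56) = true := by
  decide +kernel

theorem conjE7_6_57 : conjCheck chevE7 (pMonoCol chevE7 6 permE7_6 etaE7_6) 57 (dec8 permE7_6 57) (etaOf etaE7_6 57) = true := by
  decide +kernel

theorem conjE7_6_58 : conjCheck chevE7 (pMonoCol chevE7 6 permE7_6 etaE7_6) 58 (dec8 permE7_6 58) (etaOf etaE7_6 58) = true := by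
  decide +kernel

theorem conjE7_6_59 : conjCheck chevE7 (pMonoCol chevE7 6 permE7_6 etaE7_6) 59 (dec8 permE7_6 59) (etaOf etaE7_6 59) = true := by
  decide +kernel

theorem conjE7_6_60 : conjCheck chevE7 (pMonoCol chevE7 6 permE7_6 etaE7_6) 60 (dec8 permE7_6 60) (etaOf etaE7_6 60) = true := by
  decide +kernel

theorem conjE7_6_61 : conjCheck chevE7 (pMonoCol chevE7 6 permE7_6 etaE7_6) 61 (dec8 permE7_6 61) (etaOf etaE7_6 61) = true := by
  decide +kernel

theorem conjE7_6_62 : conjCheck chevE7 (pMonoCol chevE7 6 permE7_6 etaE7_6) 62 (dec8 permE7_6 62) (etaOf etaE7_6 62) = true := by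
  decide +kernel

theorem conjE7_6_from0 (s : ℕ) (h1 : 0 ≤ s) (h2 : s < 63) : conjCheck chevE7 (pMonoCol chevE7 6 permE7_6 etaE7_6) s (dec8 permE7_6 s) (etaOf etaE7_6 s) = true := by
  have h : s = 0 ∨ s = 1 ∨ s = 2 ∨ s = 3 ∨ s = 4 ∨ s = 5 ∨ s = 6 ∨ s = 7 ∨ s = 8 ∨ s = 9 ∨ s = 10 ∨ s = 11 ∨ s = 12 ∨ s = 13 ∨ s = 14 ∨ s = 15 ∨ s = 16 ∨ s = 17 ∨ s = 18 ∨ s = 19 ∨ s = 20 ∨ s = 21 ∨ s = 22 ∨ s = 23 ∨ s = 24 ∨ s = 25 ∨ s = 26 ∨ s = 27 ∨ s = 28 ∨ s = 29 ∨ s = 30 ∨ s = 31 ∨ s = 32 ∨ s = 33 ∨ s = 34 ∨ s = 35 ∨ s = 36 ∨ s = 37 ∨ s = 38 ∨ s = 39 ∨ s = 40 ∨ s = 41 ∨ s = 42 ∨ s = 43 ∨ s = 44 ∨ s = 45 ∨ s = 46 ∨ s = 47 ∨ s = 48 ∨ s = 49 ∨ s = 50 ∨ s = 51 ∨ s = 52 ∨ s = 53 ∨ s = 54 ∨ s = 55 ∨ s = 56 ∨ s = 57 ∨ s = 58 ∨ s = 59 ∨ s = 60 ∨ s = 61 ∨ s = 62 := by omega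
  rcases h with rfl | rfl | rfl | rfl | rfl | rfl | rfl | rfl | rfl | rfl | rfl | rfl | rfl | rfl | rfl | rfl | rfl | rfl | rfl | rfl | rfl | rfl | rfl | rfl | rfl | rfl | rfl | rfl | rfl | rfl | rfl | rfl | rfl | rfl | rfl | rfl | rfl | rfl | rfl | rfl | rfl | rfl | rfl | rfl | rfl | rfl | rfl | rfl | rfl | rfl | rfl | rfl | rfl | rfl | rfl | rfl | rfl | rfl | rfl | rfl | rfl | rfl | rfl
  exacts [conjE7_6_0, conjE7_6_1, conjE7_6_2, conjE7_6_3, conjE7_6_4, conjE7_6_5, conjE7_6_6, conjE7_6_7, conjE7_6_8, conjE7_6_9, conjE7_6_10, conjE7_6_11, conjE7_6_12, conjE7_6_13, conjE7_6_14, conjE7_6_15, conjE7_6_16, conjE7_6_17, conjE7_6_18, conjE7_6_19, conjE7_6_20, conjE7_6_21, conjE7_6_22, conjE7_6_23, conjE7_6_24, conjE7_6_25, conjE7_6_26, conjE7_6_27, conjE7_6_28, conjE7_6_29, conjE7_6_30, conjE7_6_31, conjE7_6_32, conjE7_6_33, conjE7_6_34, conjE7_6_35, conjE7_6_36, conjE7_6_37, conjE7_6_38, conjE7_6_39, conjE7_6_40,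 conjE7_6_41, conjE7_6_42, conjE7_6_43, conjE7_6_44, conjE7_6_45, conjE7_6_46, conjE7_6_47, conjE7_6_48, conjE7_6_49, conjE7_6_50, conjE7_6_51, conjE7_6_52, conjE7_6_53, conjE7_6_54, conjE7_6_55, conjE7_6_56, conjE7_6_57, conjE7_6_58, conjE7_6_59, conjE7_6_60, conjE7_6_61, conjE7_6_62]

theorem conjE7_6_63 : conjCheck chevE7 (pMonoCol chevE7 6 permE7_6 etaE7_6) 63 (dec8 permE7_6 63) (etaOf etaE7_6 63) = true := by
  decide +kernel

theorem conjE7_6_64 : conjCheck chevE7 (pMonoCol chevE7 6 permE7_6 etaE7_6) 64 (dec8 permE7_6 64) (etaOf etaE7_6 64) = true := by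
  decide +kernel

theorem conjE7_6_65 : conjCheck chevE7 (pMonoCol chevE7 6 permE7_6 etaE7_6) 65 (dec8 permE7_6 65) (etaOf etaE7_6 65) = true := by
  decide +kernel

theorem conjE7_6_66 : conjCheck chevE7 (pMonoCol chevE7 6 permE7_6 etaE7_6) 66 (dec8 permE7_6 66) (etaOf etaE7_6 66) = true := by
  decide +kernel

theorem conjE7_6_67 : conjCheck chevE7 (pMonoCol chevE7 6 permE7_6 etaE7_6) 67 (dec8 permE7_6 67) (etaOf etaE7_6 67) = true := by
  decide +kernel

theorem conjE7_6_68 : conjCheck chevE7 (pMonoCol chevE7 6 permE7_6 etaE7_6) 68 (dec8 permE7_6 68) (etaOf etaE7_6 68) = true := by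
  decide +kernel

theorem conjE7_6_69 : conjCheck chevE7 (pMonoCol chevE7 6 permE7_6 etaE7_6) 69 (dec8 permE7_6 69) (etaOf etaE7_6 69) = true := by
  decide +kernel

theorem conjE7_6_70 : conjCheck chevE7 (pMonoCol chevE7 6 permE7_6 etaE7_6) 70 (dec8 permE7_6 70) (etaOf etaE7_6 70) = true := by
  decide +kernel

theorem conjE7_6_71 : conjCheck chevE7 (pMonoCol chevE7 6 permE7_6 etaE7_6) 71 (dec8 permE7_6 71) (etaOf etaE7_6 71) = true := by
  decide +kernel

theorem conjE7_6_72 : conjCheck chevE7 (pMonoCol chevE7 6 permE7_6 etaE7_6) 72 (dec8 permE7_6 72) (etaOf etaE7_6 72) = true := by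
  decide +kernel

theorem conjE7_6_73 : conjCheck chevE7 (pMonoCol chevE7 6 permE7_6 etaE7_6) 73 (dec8 permE7_6 73) (etaOf etaE7_6 73) = true := by
  decide +kernel

theorem conjE7_6_74 : conjCheck chevE7 (pMonoCol chevE7 6 permE7_6 etaE7_6) 74 (dec8 permE7_6 74) (etaOf etaE7_6 74) = true := by
  decide +kernel

theorem conjE7_6_75 : conjCheck chevE7 (pMonoCol chevE7 6 permE7_6 etaE7_6) 75 (dec8 permE7_6 75) (etaOf etaE7_6 75) = true := by
  decide +kernel

theorem conjE7_6_76 : conjCheck chevE7 (pMonoCol chevE7 6 permE7_6 etaE7_6) 76 (dec8 permE7_6 76) (etaOf etaE7_6 76) = true := by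
  decide +kernel

theorem conjE7_6_77 : conjCheck chevE7 (pMonoCol chevE7 6 permE7_6 etaE7_6) 77 (dec8 permE7_6 77) (etaOf etaE7_6 77) = true := by
  decide +kernel

theorem conjE7_6_78 : conjCheck chevE7 (pMonoCol chevE7 6 permE7_6 etaE7_6) 78 (dec8 permE7_6 78) (etaOf etaE7_6 78) = true := by
  decide +kernel

theorem conjE7_6_79 : conjCheck chevE7 (pMonoCol chevE7 6 permE7_6 etaE7_6) 79 (dec8 permE7_6 79) (etaOf etaE7_6 79) = true := by
  decide +kernel

theorem conjE7_6_80 : conjCheck chevE7 (pMonoCol chevE7 6 permE7_6 etaE7_6) 80 (dec8 permE7_6 80) (etaOf etaE7_6 80) = true := by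
  decide +kernel

theorem conjE7_6_81 : conjCheck chevE7 (pMonoCol chevE7 6 permE7_6 etaE7_6) 81 (dec8 permE7_6 81) (etaOf etaE7_6 81) = true := by
  decide +kernel

theorem conjE7_6_82 : conjCheck chevE7 (pMonoCol chevE7 6 permE7_6 etaE7_6) 82 (dec8 permE7_6 82) (etaOf etaE7_6 82) = true := by
  decide +kernel

theorem conjE7_6_83 : conjCheck chevE7 (pMonoCol chevE7 6 permE7_6 etaE7_6) 83 (dec8 permE7_6 83) (etaOf etaE7_6 83) = true := by
  decide +kernel

theorem conjE7_6_84 : conjCheck chevE7 (pMonoCol chevE7 6 permE7_6 etaE7_6) 84 (dec8 permE7_6 84) (etaOf etaE7_6 84) = true := by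
  decide +kernel

theorem conjE7_6_85 : conjCheck chevE7 (pMonoCol chevE7 6 permE7_6 etaE7_6) 85 (dec8 permE7_6 85) (etaOf etaE7_6 85) = true := by
  decide +kernel

theorem conjE7_6_86 : conjCheck chevE7 (pMonoCol chevE7 6 permE7_6 etaE7_6) 86 (dec8 permE7_6 86) (etaOf etaE7_6 86) = true := by
  decide +kernel

theorem conjE7_6_87 : conjCheck chevE7 (pMonoCol chevE7 6 permE7_6 etaE7_6) 87 (dec8 permE7_6 87) (etaOf etaE7_6 87) = true := by
  decide +kernel

theorem conjE7_6_88 : conjCheck chevE7 (pMonoCol chevE7 6 permE7_6 etaE7_6) 88 (dec8 permE7_6 88) (etaOf etaE7_6 88) = true := by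
  decide +kernel

theorem conjE7_6_89 : conjCheck chevE7 (pMonoCol chevE7 6 permE7_6 etaE7_6) 89 (dec8 permE7_6 89) (etaOf etaE7_6 89) = true := by
  decide +kernel

theorem conjE7_6_90 : conjCheck chevE7 (pMonoCol chevE7 6 permE7_6 etaE7_6) 90 (dec8 permE7_6 90) (etaOf etaE7_6 90) = true := by
  decide +kernel

theorem conjE7_6_91 : conjCheck chevE7 (pMonoCol chevE7 6 permE7_6 etaE7_6) 91 (dec8 permE7_6 91) (etaOf etaE7_6 91) = true := by
  decide +kernel

theorem conjE7_6_92 : conjCheck chevE7 (pMonoCol chevE7 6 permE7_6 etaE7_6) 92 (dec8 permE7_6 92) (etaOf etaE7_6 92) = true := by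
  decide +kernel

theorem conjE7_6_93 : conjCheck chevE7 (pMonoCol chevE7 6 permE7_6 etaE7_6) 93 (dec8 permE7_6 93) (etaOf etaE7_6 93) = true := by
  decide +kernel

theorem conjE7_6_94 : conjCheck chevE7 (pMonoCol chevE7 6 permE7_6 etaE7_6) 94 (dec8 permE7_6 94) (etaOf etaE7_6 94) = true := by
  decide +kernel

theorem conjE7_6_95 : conjCheck chevE7 (pMonoCol chevE7 6 permE7_6 etaE7_6) 95 (dec8 permE7_6 95) (etaOf etaE7_6 95) = true := by
  decide +kernel

theorem conjE7_6_96 : conjCheck chevE7 (pMonoCol chevE7 6 permE7_6 etaE7_6) 96 (dec8 permE7_6 96) (etaOf etaE7_6 96) = true := by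
  decide +kernel

theorem conjE7_6_97 : conjCheck chevE7 (pMonoCol chevE7 6 permE7_6 etaE7_6) 97 (dec8 permE7_6 97) (etaOf etaE7_6 97) = true := by
  decide +kernel

theorem conjE7_6_98 : conjCheck chevE7 (pMonoCol chevE7 6 permE7_6 etaE7_6) 98 (dec8 permE7_6 98) (etaOf etaE7_6 98) = true := by
  decide +kernel

theorem conjE7_6_99 : conjCheck chevE7 (pMonoCol chevE7 6 permE7_6 etaE7_6) 99 (dec8 permE7_6 99) (etaOf etaE7_6 99) = true := by
  decide +kernel

theorem conjE7_6_100 : conjCheck chevE7 (pMonoCol chevE7 6 permE7_6 etaE7_6) 100 (dec8 permE7_6 100) (etaOf etaE7_6 100) = true := by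
  decide +kernel

theorem conjE7_6_101 : conjCheck chevE7 (pMonoCol chevE7 6 permE7_6 etaE7_6) 101 (dec8 permE7_6 101) (etaOf etaE7_6 101) = true := by
  decide +kernel

theorem conjE7_6_102 : conjCheck chevE7 (pMonoCol chevE7 6 permE7_6 etaE7_6) 102 (dec8 permE7_6 102) (etaOf etaE7_6 102) = true := by
  decide +kernel

theorem conjE7_6_103 : conjCheck chevE7 (pMonoCol chevE7 6 permE7_6 etaE7_6) 103 (dec8 permE7_6 103) (etaOf etaE7_6 103) = true := by
  decide +kernel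

theorem conjE7_6_104 : conjCheck chevE7 (pMonoCol chevE7 6 permE7_6 etaE7_6) 104 (dec8 permE7_6 104) (etaOf etaE7_6 104) = true := by
  decide +kernel

theorem conjE7_6_105 : conjCheck chevE7 (pMonoCol chevE7 6 permE7_6 etaE7_6) 105 (dec8 permE7_6 105) (etaOf etaE7_6 105) = true := by
  decide +kernel

theorem conjE7_6_106 : conjCheck chevE7 (pMonoCol chevE7 6 permE7_6 etaE7_6) 106 (dec8 permE7_6 106) (etaOf etaE7_6 106) = true := by
  decide +kernel

theorem conjE7_6_107 : conjCheck chevE7 (pMonoCol chevE7 6 permE7_6 etaE7_6) 107 (dec8 permE7_6 107) (etaOf etaE7_6 107) = true := by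
  decide +kernel

theorem conjE7_6_108 : conjCheck chevE7 (pMonoCol chevE7 6 permE7_6 etaE7_6) 108 (dec8 permE7_6 108) (etaOf etaE7_6 108) = true := by
  decide +kernel

theorem conjE7_6_109 : conjCheck chevE7 (pMonoCol chevE7 6 permE7_6 etaE7_6) 109 (dec8 permE7_6 109) (etaOf etaE7_6 109) = true := by
  decide +kernel

theorem conjE7_6_110 : conjCheck chevE7 (pMonoCol chevE7 6 permE7_6 etaE7_6) 110 (dec8 permE7_6 110) (etaOf etaE7_6 110) = true := by
  decide +kernel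

theorem conjE7_6_111 : conjCheck chevE7 (pMonoCol chevE7 6 permE7_6 etaE7_6) 111 (dec8 permE7_6 111) (etaOf etaE7_6 111) = true := by
  decide +kernel

theorem conjE7_6_112 : conjCheck chevE7 (pMonoCol chevE7 6 permE7_6 etaE7_6) 112 (dec8 permE7_6 112) (etaOf etaE7_6 112) = true := by
  decide +kernel

theorem conjE7_6_113 : conjCheck chevE7 (pMonoCol chevE7 6 permE7_6 etaE7_6) 113 (dec8 permE7_6 113) (etaOf etaE7_6 113) = true := by
  decide +kernel

theorem conjE7_6_114 : conjCheck chevE7 (pMonoCol chevE7 6 permE7_6 etaE7_6) 114 (dec8 permE7_6 114) (etaOf etaE7_6 114) = true := by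
  decide +kernel

theorem conjE7_6_115 : conjCheck chevE7 (pMonoCol chevE7 6 permE7_6 etaE7_6) 115 (dec8 permE7_6 115) (etaOf etaE7_6 115) = true := by
  decide +kernel

theorem conjE7_6_116 : conjCheck chevE7 (pMonoCol chevE7 6 permE7_6 etaE7_6) 116 (dec8 permE7_6 116) (etaOf etaE7_6 116) = true := by
  decide +kernel

theorem conjE7_6_117 : conjCheck chevE7 (pMonoCol chevE7 6 permE7_6 etaE7_6) 117 (dec8 permE7_6 117) (etaOf etaE7_6 117) = true := by
  decide +kernel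

theorem conjE7_6_118 : conjCheck chevE7 (pMonoCol chevE7 6 permE7_6 etaE7_6) 118 (dec8 permE7_6 118) (etaOf etaE7_6 118) = true := by
  decide +kernel

theorem conjE7_6_119 : conjCheck chevE7 (pMonoCol chevE7 6 permE7_6 etaE7_6) 119 (dec8 permE7_6 119) (etaOf etaE7_6 119) = true := by
  decide +kernel

theorem conjE7_6_120 : conjCheck chevE7 (pMonoCol chevE7 6 permE7_6 etaE7_6) 120 (dec8 permE7_6 120) (etaOf etaE7_6 120) = true := by
  decide +kernel

theorem conjE7_6_121 : conjCheck chevE7 (pMonoCol chevE7 6 permE7_6 etaE7_6) 121 (dec8 permE7_6 121) (etaOf etaE7_6 121) = true := by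
  decide +kernel

theorem conjE7_6_122 : conjCheck chevE7 (pMonoCol chevE7 6 permE7_6 etaE7_6) 122 (dec8 permE7_6 122) (etaOf etaE7_6 122) = true := by
  decide +kernel

theorem conjE7_6_123 : conjCheck chevE7 (pMonoCol chevE7 6 permE7_6 etaE7_6) 123 (dec8 permE7_6 123) (etaOf etaE7_6 123) = true := by
  decide +kernel

theorem conjE7_6_124 : conjCheck chevE7 (pMonoCol chevE7 6 permE7_6 etaE7_6) 124 (dec8 permE7_6 124) (etaOf etaE7_6 124) = true := by
  decide +kernel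

theorem conjE7_6_125 : conjCheck chevE7 (pMonoCol chevE7 6 permE7_6 etaE7_6) 125 (dec8 permE7_6 125) (etaOf etaE7_6 125) = true := by
  decide +kernel

theorem conjE7_6_from63 (s : ℕ) (h1 : 63 ≤ s) (h2 : s < 126) : conjCheck chevE7 (pMonoCol chevE7 6 permE7_6 etaE7_6) s (dec8 permE7_6 s) (etaOf etaE7_6 s) = true := by
  have h : s = 63 ∨ s = 64 ∨ s = 65 ∨ s = 66 ∨ s = 67 ∨ s = 68 ∨ s = 69 ∨ s = 70 ∨ s = 71 ∨ s = 72 ∨ s = 73 ∨ s = 74 ∨ s = 75 ∨ s = 76 ∨ s = 77 ∨ s = 78 ∨ s = 79 ∨ s = 80 ∨ s = 81 ∨ s = 82 ∨ s = 83 ∨ s = 84 ∨ s = 85 ∨ s = 86 ∨ s = 87 ∨ s = 88 ∨ s = 89 ∨ s = 90 ∨ s = 91 ∨ s = 92 ∨ s = 93 ∨ s = 94 ∨ s = 95 ∨ s = 96 ∨ s = 97 ∨ s = 98 ∨ s = 99 ∨ s = 100 ∨ s = 101 ∨ s = 102 ∨ s = 103 ∨ s = 104 ∨ s = 105 ∨ s = 106 ∨ s = 107 ∨ s = 108 ∨ s = 109 ∨ s = 110 ∨ s = 111 ∨ s = 112 ∨ s = 113 ∨ s = 114 ∨ s = 115 ∨ s = 116 ∨ s = 117 ∨ s = 118 ∨ s = 119 ∨ s = 120 ∨ s = 121 ∨ s = 122 ∨ s = 123 ∨ s = 124 ∨ s = 125 :=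 by omega
  rcases h with rfl | rfl | rfl | rfl | rfl | rfl | rfl | rfl | rfl | rfl | rfl | rfl | rfl | rfl | rfl | rfl | rfl | rfl | rfl | rfl | rfl | rfl | rfl | rfl | rfl | rfl | rfl | rfl | rfl | rfl | rfl | rfl | rfl | rfl | rfl | rfl | rfl | rfl | rfl | rfl | rfl | rfl | rfl | rfl | rfl | rfl | rfl | rfl | rfl | rfl | rfl | rfl | rfl | rfl | rfl | rfl | rfl | rfl | rfl | rfl | rfl | rfl | rfl
  exacts [conjE7_6_63, conjE7_6_64, conjE7_6_65, conjE7_6_66, conjE7_6_67, conjE7_6_68, conjE7_6_69, conjE7_6_70, conjE7_6_71, conjE7_6_72, conjE7_6_73, conjE7_6_74, conjE7_6_75, conjE7_6_76, conjE7_6_77, conjE7_6_78, conjE7_6_79, conjE7_6_80, conjE7_6_81, conjE7_6_82, conjE7_6_83, conjE7_6_84, conjE7_6_85, conjE7_6_86, conjE7_6_87, conjE7_6_88, conjE7_6_89, conjE7_6_90, conjE7_6_91, conjE7_6_92, conjE7_6_93, conjE7_6_94, conjE7_6_95, conjE7_6_96, conjE7_6_97, conjE7_6_98, conjE7_6_99, conjE7_6_100, conjE7_6_101, conjE7_6_102,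 conjE7_6_103, conjE7_6_104, conjE7_6_105, conjE7_6_106, conjE7_6_107, conjE7_6_108, conjE7_6_109, conjE7_6_110, conjE7_6_111, conjE7_6_112, conjE7_6_113, conjE7_6_114, conjE7_6_115, conjE7_6_116, conjE7_6_117, conjE7_6_118, conjE7_6_119, conjE7_6_120, conjE7_6_121, conjE7_6_122, conjE7_6_123, conjE7_6_124, conjE7_6_125]

end Cfsg.Agent.Helper18
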