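import Cfsg.Agent.Lib.Helper18.ConjData

set_option autoImplicit false
set_option maxRecDepth 100000

namespace Cfsg.Agent.Helper18

open Cfsg.Lie

theorem conjE8_0_0 : conjCheck chevE8 (pMonoCol chevE8 0 permE8_0 etaE8_0) 0 (dec8 permE8_0 0) (etaOf etaE8_0 0) = true := by
  decide +kernel

theorem conjE8_0_1 : conjCheck chevE8 (pMonoCol chevE8 0 permE8_0 etaE8_0) 1 (dec8 permE8_0 1) (etaOf etaE8_0 1) = true := by
  decide +kernel

theorem conjE8_0_2 : conjCheck chevE8 (pMonoCol chevE8 0 permE8_0 etaE8_0) 2 (dec8 permE8_0 2) (etaOf etaE8_0 2) = true := by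
  decide +kernel

theorem conjE8_0_3 : conjCheck chevE8 (pMonoCol chevE8 0 permE8_0 etaE8_0) 3 (dec8 permE8_0 3) (etaOf etaE8_0 3) = true := by
  decide +kernel

theorem conjE8_0_4 : conjCheck chevE8 (pMonoCol chevE8 0 permE8_0 etaE8_0) 4 (dec8 permE8_0 4) (etaOf etaE8_0 4) = true := by
  decide +kernel

theorem conjE8_0_5 : conjCheck chevE8 (pMonoCol chevE8 0 permE8_0 etaE8_0) 5 (dec8 permE8_0 5) (etaOf etaE8_0 5) = true := by
  decide +kernel

theorem conjE8_0_6 : conjCheck chevE8 (pMonoCol chevE8 0 permE8_0 etaE8_0) 6 (dec8 permE8_0 6) (etaOf etaE8_0 6) = true := by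
  decide +kernel

theorem conjE8_0_7 : conjCheck chevE8 (pMonoCol chevE8 0 permE8_0 etaE8_0) 7 (dec8 permE8_0 7) (etaOf etaE8_0 7) = true := by
  decide +kernel

theorem conjE8_0_8 : conjCheck chevE8 (pMonoCol chevE8 0 permE8_0 etaE8_0) 8 (dec8 permE8_0 8) (etaOf etaE8_0 8) = true := by
  decide +kernel

theorem conjE8_0_9 : conjCheck chevE8 (pMonoCol chevE8 0 permE8_0 etaE8_0) 9 (dec8 permE8_0 9) (etaOf etaE8_0 9) = true := by
  decide +kernel

theorem conjE8_0_10 : conjCheck chevE8 (pMonoCol chevE8 0 permE8_0 etaE8_0) 10 (dec8 permE8_0 10) (etaOf etaE8_0 10) = true := by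
  decide +kernel

theorem conjE8_0_11 : conjCheck chevE8 (pMonoCol chevE8 0 permE8_0 etaE8_0) 11 (dec8 permE8_0 11) (etaOf etaE8_0 11) = true := by
  decide +kernel

theorem conjE8_0_12 : conjCheck chevE8 (pMonoCol chevE8 0 permE8_0 etaE8_0) 12 (dec8 permE8_0 12) (etaOf etaE8_0 12) = true := by
  decide +kernel

theorem conjE8_0_13 : conjCheck chevE8 (pMonoCol chevE8 0 permE8_0 etaE8_0) 13 (dec8 permE8_0 13) (etaOf etaE8_0 13) = true := by
  decide +kernel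

theorem conjE8_0_14 : conjCheck chevE8 (pMonoCol chevE8 0 permE8_0 etaE8_0) 14 (dec8 permE8_0 14) (etaOf etaE8_0 14) = true := by
  decide +kernel

theorem conjE8_0_15 : conjCheck chevE8 (pMonoCol chevE8 0 permE8_0 etaE8_0) 15 (dec8 permE8_0 15) (etaOf etaE8_0 15) = true := by
  decide +kernel

theorem conjE8_0_16 : conjCheck chevE8 (pMonoCol chevE8 0 permE8_0 etaE8_0) 16 (dec8 permE8_0 16) (etaOf etaE8_0 16) = true := by
  decide +kernel

theorem conjE8_0_17 : conjCheck chevE8 (pMonoCol chevE8 0 permE8_0 etaE8_0) 17 (dec8 permE8_0 17) (etaOf etaE8_0 17) = true := by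
  decide +kernel

theorem conjE8_0_18 : conjCheck chevE8 (pMonoCol chevE8 0 permE8_0 etaE8_0) 18 (dec8 permE8_0 18) (etaOf etaE8_0 18) = true := by
  decide +kernel

theorem conjE8_0_19 : conjCheck chevE8 (pMonoCol chevE8 0 permE8_0 etaE8_0) 19 (dec8 permE8_0 19) (etaOf etaE8_0 19) = true := by
  decide +kernel

theorem conjE8_0_20 : conjCheck chevE8 (pMonoCol chevE8 0 permE8_0 etaE8_0) 20 (dec8 permE8_0 20) (etaOf etaE8_0 20) = true := by
  decide +kernel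

theorem conjE8_0_21 : conjCheck chevE8 (pMonoCol chevE8 0 permE8_0 etaE8_0) 21 (dec8 permE8_0 21) (etaOf etaE8_0 21) = true := by
  decide +kernel

theorem conjE8_0_22 : conjCheck chevE8 (pMonoCol chevE8 0 permE8_0 etaE8_0) 22 (dec8 permE8_0 22) (etaOf etaE8_0 22) = true := by
  decide +kernel

theorem conjE8_0_23 : conjCheck chevE8 (pMonoCol chevE8 0 permE8_0 etaE8_0) 23 (dec8 permE8_0 23) (etaOf etaE8_0 23) = true := by
  decide +kernel

theorem conjE8_0_24 : conjCheck chevE8 (pMonoCol chevE8 0 permE8_0 etaE8_0) 24 (dec8 permE8_0 24) (etaOf etaE8_0 24) = true := by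
  decide +kernel

theorem conjE8_0_25 : conjCheck chevE8 (pMonoCol chevE8 0 permE8_0 etaE8_0) 25 (dec8 permE8_0 25) (etaOf etaE8_0 25) = true := by
  decide +kernel

theorem conjE8_0_26 : conjCheck chevE8 (pMonoCol chevE8 0 permE8_0 etaE8_0) 26 (dec8 permE8_0 26) (etaOf etaE8_0 26) = true := by
  decide +kernel

theorem conjE8_0_27 : conjCheck chevE8 (pMonoCol chevE8 0 permE8_0 etaE8_0) 27 (dec8 permE8_0 27) (etaOf etaE8_0 27) = true := by
  decide +kernel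

theorem conjE8_0_28 : conjCheck chevE8 (pMonoCol chevE8 0 permE8_0 etaE8_0) 28 (dec8 permE8_0 28) (etaOf etaE8_0 28) = true := by
  decide +kernel

theorem conjE8_0_29 : conjCheck chevE8 (pMonoCol chevE8 0 permE8_0 etaE8_0) 29 (dec8 permE8_0 29) (etaOf etaE8_0 29) = true := by
  decide +kernel

theorem conjE8_0_from0 (s : ℕ) (h1 : 0 ≤ s) (h2 : s < 30) : conjCheck chevE8 (pMonoCol chevE8 0 permE8_0 etaE8_0) s (dec8 permE8_0 s) (etaOf etaE8_0 s) = true := by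
  have h : s = 0 ∨ s = 1 ∨ s = 2 ∨ s = 3 ∨ s = 4 ∨ s = 5 ∨ s = 6 ∨ s = 7 ∨ s = 8 ∨ s = 9 ∨ s = 10 ∨ s = 11 ∨ s = 12 ∨ s = 13 ∨ s = 14 ∨ s = 15 ∨ s = 16 ∨ s = 17 ∨ s = 18 ∨ s = 19 ∨ s = 20 ∨ s = 21 ∨ s = 22 ∨ s = 23 ∨ s = 24 ∨ s = 25 ∨ s = 26 ∨ s = 27 ∨ s = 28 ∨ s = 29 := by omega
  rcases h with rfl | rfl | rfl | rfl | rfl | rfl | rfl | rfl | rfl | rfl | rfl | rfl | rfl | rfl | rfl | rfl | rfl | rfl | rfl | rfl | rfl | rfl | rfl | rfl | rfl | rfl | rfl | rfl | rfl | rfl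
  exacts [conjE8_0_0, conjE8_0_1, conjE8_0_2, conjE8_0_3, conjE8_0_4, conjE8_0_5, conjE8_0_6, conjE8_0_7, conjE8_0_8, conjE8_0_9, conjE8_0_10, conjE8_0_11, conjE8_0_12, conjE8_0_13, conjE8_0_14, conjE8_0_15, conjE8_0_16, conjE8_0_17, conjE8_0_18, conjE8_0_19, conjE8_0_20, conjE8_0_21, conjE8_0_22, conjE8_0_23, conjE8_0_24, conjE8_0_25, conjE8_0_26, conjE8_0_27, conjE8_0_28, conjE8_0_29]

theorem conjE8_0_30 : conjCheck chevE8 (pMonoCol chevE8 0 permE8_0 etaE8_0) 30 (dec8 permE8_0 30) (etaOf etaE8_0 30) = true := by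
  decide +kernel

theorem conjE8_0_31 : conjCheck chevE8 (pMonoCol chevE8 0 permE8_0 etaE8_0) 31 (dec8 permE8_0 31) (etaOf etaE8_0 31) = true := by
  decide +kernel

theorem conjE8_0_32 : conjCheck chevE8 (pMonoCol chevE8 0 permE8_0 etaE8_0) 32 (dec8 permE8_0 32) (etaOf etaE8_0 32) = true := by
  decide +kernel

theorem conjE8_0_33 : conjCheck chevE8 (pMonoCol chevE8 0 permE8_0 etaE8_0) 33 (dec8 permE8_0 33) (etaOf etaE8_0 33) = true := by
  decide +kernel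

theorem conjE8_0_34 : conjCheck chevE8 (pMonoCol chevE8 0 permE8_0 etaE8_0) 34 (dec8 permE8_0 34) (etaOf etaE8_0 34) = true := by
  decide +kernel

theorem conjE8_0_35 : conjCheck chevE8 (pMonoCol chevE8 0 permE8_0 etaE8_0) 35 (dec8 permE8_0 35) (etaOf etaE8_0 35) = true := by
  decide +kernel

theorem conjE8_0_36 : conjCheck chevE8 (pMonoCol chevE8 0 permE8_0 etaE8_0) 36 (dec8 permE8_0 36) (etaOf etaE8_0 36) = true := by
  decide +kernel

theorem conjE8_0_37 : conjCheck chevE8 (pMonoCol chevE8 0 permE8_0 etaE8_0) 37 (dec8 permE8_0 37) (etaOf etaE8_0 37) = true := by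
  decide +kernel

theorem conjE8_0_38 : conjCheck chevE8 (pMonoCol chevE8 0 permE8_0 etaE8_0) 38 (dec8 permE8_0 38) (etaOf etaE8_0 38) = true := by
  decide +kernel

theorem conjE8_0_39 : conjCheck chevE8 (pMonoCol chevE8 0 permE8_0 etaE8_0) 39 (dec8 permE8_0 39) (etaOf etaE8_0 39) = true := by
  decide +kernel

theorem conjE8_0_40 : conjCheck chevE8 (pMonoCol chevE8 0 permE8_0 etaE8_0) 40 (dec8 permE8_0 40) (etaOf etaE8_0 40) = true := by
  decide +kernel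

theorem conjE8_0_41 : conjCheck chevE8 (pMonoCol chevE8 0 permE8_0 etaE8_0) 41 (dec8 permE8_0 41) (etaOf etaE8_0 41) = true := by
  decide +kernel

theorem conjE8_0_42 : conjCheck chevE8 (pMonoCol chevE8 0 permE8_0 etaE8_0) 42 (dec8 permE8_0 42) (etaOf etaE8_0 42) = true := by
  decide +kernel

theorem conjE8_0_43 : conjCheck chevE8 (pMonoCol chevE8 0 permE8_0 etaE8_0) 43 (dec8 permE8_0 43) (etaOf etaE8_0 43) = true := by
  decide +kernel

theorem conjE8_0_44 : conjCheck chevE8 (pMonoCol chevE8 0 permE8_0 etaE8_0) 44 (dec8 permE8_0 44) (etaOf etaE8_0 44) = true := by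
  decide +kernel

theorem conjE8_0_45 : conjCheck chevE8 (pMonoCol chevE8 0 permE8_0 etaE8_0) 45 (dec8 permE8_0 45) (etaOf etaE8_0 45) = true := by
  decide +kernel

theorem conjE8_0_46 : conjCheck chevE8 (pMonoCol chevE8 0 permE8_0 etaE8_0) 46 (dec8 permE8_0 46) (etaOf etaE8_0 46) = true := by
  decide +kernel

theorem conjE8_0_47 : conjCheck chevE8 (pMonoCol chevE8 0 permE8_0 etaE8_0) 47 (dec8 permE8_0 47) (etaOf etaE8_0 47) = true := by
  decide +kernel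

theorem conjE8_0_48 : conjCheck chevE8 (pMonoCol chevE8 0 permE8_0 etaE8_0) 48 (dec8 permE8_0 48) (etaOf etaE8_0 48) = true := by
  decide +kernel

theorem conjE8_0_49 : conjCheck chevE8 (pMonoCol chevE8 0 permE8_0 etaE8_0) 49 (dec8 permE8_0 49) (etaOf etaE8_0 49) = true := by
  decide +kernel

theorem conjE8_0_50 : conjCheck chevE8 (pMonoCol chevE8 0 permE8_0 etaE8_0) 50 (dec8 permE8_0 50) (etaOf etaE8_0 50) = true := by
  decide +kernel

theorem conjE8_0_51 : conjCheck chevE8 (pMonoCol chevE8 0 permE8_0 etaE8_0) 51 (dec8 permE8_0 51) (etaOf etaE8_0 51) = true := by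
  decide +kernel

theorem conjE8_0_52 : conjCheck chevE8 (pMonoCol chevE8 0 permE8_0 etaE8_0) 52 (dec8 permE8_0 52) (etaOf etaE8_0 52) = true := by
  decide +kernel

theorem conjE8_0_53 : conjCheck chevE8 (pMonoCol chevE8 0 permE8_0 etaE8_0) 53 (dec8 permE8_0 53) (etaOf etaE8_0 53) = true := by
  decide +kernel

theorem conjE8_0_54 : conjCheck chevE8 (pMonoCol chevE8 0 permE8_0 etaE8_0) 54 (dec8 permE8_0 54) (etaOf etaE8_0 54) = true := by
  decide +kernel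

theorem conjE8_0_55 : conjCheck chevE8 (pMonoCol chevE8 0 permE8_0 etaE8_0) 55 (dec8 permE8_0 55) (etaOf etaE8_0 55) = true := by
  decide +kernel

theorem conjE8_0_56 : conjCheck chevE8 (pMonoCol chevE8 0 permE8_0 etaE8_0) 56 (dec8 permE8_0 56) (etaOf etaE8_0 56) = true := by
  decide +kernel

theorem conjE8_0_57 : conjCheck chevE8 (pMonoCol chevE8 0 permE8_0 etaE8_0) 57 (dec8 permE8_0 57) (etaOf etaE8_0 57) = true := by
  decide +kernel

theorem conjE8_0_58 : conjCheck chevE8 (pMonoCol chevE8 0 permE8_0 etaE8_0) 58 (dec8 permE8_0 58) (etaOf etaE8_0 58) = true := by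
  decide +kernel

theorem conjE8_0_59 : conjCheck chevE8 (pMonoCol chevE8 0 permE8_0 etaE8_0) 59 (dec8 permE8_0 59) (etaOf etaE8_0 59) = true := by
  decide +kernel

theorem conjE8_0_from30 (s : ℕ) (h1 : 30 ≤ s) (h2 : s < 60) : conjCheck chevE8 (pMonoCol chevE8 0 permE8_0 etaE8_0) s (dec8 permE8_0 s) (etaOf etaE8_0 s) = true := by
  have h : s = 30 ∨ s = 31 ∨ s = 32 ∨ s = 33 ∨ s = 34 ∨ s = 35 ∨ s = 36 ∨ s = 37 ∨ s = 38 ∨ s = 39 ∨ s = 40 ∨ s = 41 ∨ s = 42 ∨ s = 43 ∨ s = 44 ∨ s = 45 ∨ s = 46 ∨ s = 47 ∨ s = 48 ∨ s = 49 ∨ s = 50 ∨ s = 51 ∨ s = 52 ∨ s = 53 ∨ s = 54 ∨ s = 55 ∨ s = 56 ∨ s = 57 ∨ s = 58 ∨ s = 59 := by omega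
  rcases h with rfl | rfl | rfl | rfl | rfl | rfl | rfl | rfl | rfl | rfl | rfl | rfl | rfl | rfl | rfl | rfl | rfl | rfl | rfl | rfl | rfl | rfl | rfl | rfl | rfl | rfl | rfl | rfl | rfl | rfl
  exacts [conjE8_0_30, conjE8_0_31, conjE8_0_32, conjE8_0_33, conjE8_0_34, conjE8_0_35, conjE8_0_36, conjE8_0_37, conjE8_0_38, conjE8_0_39, conjE8_0_40, conjE8_0_41, conjE8_0_42, conjE8_0_43, conjE8_0_44, conjE8_0_45, conjE8_0_46, conjE8_0_47, conjE8_0_48, conjE8_0_49, conjE8_0_50, conjE8_0_51, conjE8_0_52, conjE8_0_53, conjE8_0_54, conjE8_0_55, conjE8_0_56, conjE8_0_57, conjE8_0_58, conjE8_0_59]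

end Cfsg.Agent.Helper18
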