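import Cfsg.Agent.Lib.Helper18.ConjData

set_option autoImplicit false
set_option maxRecDepth 100000

namespace Cfsg.Agent.Helper18

open Cfsg.Lie

theorem conjE8_0_120 : conjCheck chevE8 (pMonoCol chevE8 0 permE8_0 etaE8_0) 120 (dec8 permE8_0 120) (etaOf etaE8_0 120) = true := by
  decide +kernel

theorem conjE8_0_121 : conjCheck chevE8 (pMonoCol chevE8 0 permE8_0 etaE8_0) 121 (dec8 permE8_0 121) (etaOf etaE8_0 121) = true := by
  decide +kernel

theorem conjE8_0_122 : conjCheck chevE8 (pMonoCol chevE8 0 permE8_0 etaE8_0) 122 (dec8 permE8_0 122) (etaOf etaE8_0 122) = true := by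
  decide +kernel

theorem conjE8_0_123 : conjCheck chevE8 (pMonoCol chevE8 0 permE8_0 etaE8_0) 123 (dec8 permE8_0 123) (etaOf etaE8_0 123) = true := by
  decide +kernel

theorem conjE8_0_124 : conjCheck chevE8 (pMonoCol chevE8 0 permE8_0 etaE8_0) 124 (dec8 permE8_0 124) (etaOf etaE8_0 124) = true := by
  decide +kernel

theorem conjE8_0_125 : conjCheck chevE8 (pMonoCol chevE8 0 permE8_0 etaE8_0) 125 (dec8 permE8_0 125) (etaOf etaE8_0 125) = true := by
  decide +kernel

theorem conjE8_0_126 : conjCheck chevE8 (pMonoCol chevE8 0 permE8_0 etaE8_0) 126 (dec8 permE8_0 126) (etaOf etaE8_0 126) = true := by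
  decide +kernel

theorem conjE8_0_127 : conjCheck chevE8 (pMonoCol chevE8 0 permE8_0 etaE8_0) 127 (dec8 permE8_0 127) (etaOf etaE8_0 127) = true := by
  decide +kernel

theorem conjE8_0_128 : conjCheck chevE8 (pMonoCol chevE8 0 permE8_0 etaE8_0) 128 (dec8 permE8_0 128) (etaOf etaE8_0 128) = true := by
  decide +kernel

theorem conjE8_0_129 : conjCheck chevE8 (pMonoCol chevE8 0 permE8_0 etaE8_0) 129 (dec8 permE8_0 129) (etaOf etaE8_0 129) = true := by
  decide +kernel

theorem conjE8_0_130 : conjCheck chevE8 (pMonoCol chevE8 0 permE8_0 etaE8_0) 130 (dec8 permE8_0 130) (etaOf etaE8_0 130) = true := by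
  decide +kernel

theorem conjE8_0_131 : conjCheck chevE8 (pMonoCol chevE8 0 permE8_0 etaE8_0) 131 (dec8 permE8_0 131) (etaOf etaE8_0 131) = true := by
  decide +kernel

theorem conjE8_0_132 : conjCheck chevE8 (pMonoCol chevE8 0 permE8_0 etaE8_0) 132 (dec8 permE8_0 132) (etaOf etaE8_0 132) = true := by
  decide +kernel

theorem conjE8_0_133 : conjCheck chevE8 (pMonoCol chevE8 0 permE8_0 etaE8_0) 133 (dec8 permE8_0 133) (etaOf etaE8_0 133) = true := by
  decide +kernel

theorem conjE8_0_134 : conjCheck chevE8 (pMonoCol chevE8 0 permE8_0 etaE8_0) 134 (dec8 permE8_0 134) (etaOf etaE8_0 134) = true := by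
  decide +kernel

theorem conjE8_0_135 : conjCheck chevE8 (pMonoCol chevE8 0 permE8_0 etaE8_0) 135 (dec8 permE8_0 135) (etaOf etaE8_0 135) = true := by
  decide +kernel

theorem conjE8_0_136 : conjCheck chevE8 (pMonoCol chevE8 0 permE8_0 etaE8_0) 136 (dec8 permE8_0 136) (etaOf etaE8_0 136) = true := by
  decide +kernel

theorem conjE8_0_137 : conjCheck chevE8 (pMonoCol chevE8 0 permE8_0 etaE8_0) 137 (dec8 permE8_0 137) (etaOf etaE8_0 137) = true := by
  decide +kernel

theorem conjE8_0_138 : conjCheck chevE8 (pMonoCol chevE8 0 permE8_0 etaE8_0) 138 (dec8 permE8_0 138) (etaOf etaE8_0 138) = true := by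
  decide +kernel

theorem conjE8_0_139 : conjCheck chevE8 (pMonoCol chevE8 0 permE8_0 etaE8_0) 139 (dec8 permE8_0 139) (etaOf etaE8_0 139) = true := by
  decide +kernel

theorem conjE8_0_140 : conjCheck chevE8 (pMonoCol chevE8 0 permE8_0 etaE8_0) 140 (dec8 permE8_0 140) (etaOf etaE8_0 140) = true := by
  decide +kernel

theorem conjE8_0_141 : conjCheck chevE8 (pMonoCol chevE8 0 permE8_0 etaE8_0) 141 (dec8 permE8_0 141) (etaOf etaE8_0 141) = true := by
  decide +kernel

theorem conjE8_0_142 : conjCheck chevE8 (pMonoCol chevE8 0 permE8_0 etaE8_0) 142 (dec8 permE8_0 142) (etaOf etaE8_0 142) = true := by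
  decide +kernel

theorem conjE8_0_143 : conjCheck chevE8 (pMonoCol chevE8 0 permE8_0 etaE8_0) 143 (dec8 permE8_0 143) (etaOf etaE8_0 143) = true := by
  decide +kernel

theorem conjE8_0_144 : conjCheck chevE8 (pMonoCol chevE8 0 permE8_0 etaE8_0) 144 (dec8 permE8_0 144) (etaOf etaE8_0 144) = true := by
  decide +kernel

theorem conjE8_0_145 : conjCheck chevE8 (pMonoCol chevE8 0 permE8_0 etaE8_0) 145 (dec8 permE8_0 145) (etaOf etaE8_0 145) = true := by
  decide +kernel

theorem conjE8_0_146 : conjCheck chevE8 (pMonoCol chevE8 0 permE8_0 etaE8_0) 146 (dec8 permE8_0 146) (etaOf etaE8_0 146) = true := by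
  decide +kernel

theorem conjE8_0_147 : conjCheck chevE8 (pMonoCol chevE8 0 permE8_0 etaE8_0) 147 (dec8 permE8_0 147) (etaOf etaE8_0 147) = true := by
  decide +kernel

theorem conjE8_0_148 : conjCheck chevE8 (pMonoCol chevE8 0 permE8_0 etaE8_0) 148 (dec8 permE8_0 148) (etaOf etaE8_0 148) = true := by
  decide +kernel

theorem conjE8_0_149 : conjCheck chevE8 (pMonoCol chevE8 0 permE8_0 etaE8_0) 149 (dec8 permE8_0 149) (etaOf etaE8_0 149) = true := by
  decide +kernel

theorem conjE8_0_from120 (s : ℕ) (h1 : 120 ≤ s) (h2 : s < 150) : conjCheck chevE8 (pMonoCol chevE8 0 permE8_0 etaE8_0) s (dec8 permE8_0 s) (etaOf etaE8_0 s) = true := by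
  have h : s = 120 ∨ s = 121 ∨ s = 122 ∨ s = 123 ∨ s = 124 ∨ s = 125 ∨ s = 126 ∨ s = 127 ∨ s = 128 ∨ s = 129 ∨ s = 130 ∨ s = 131 ∨ s = 132 ∨ s = 133 ∨ s = 134 ∨ s = 135 ∨ s = 136 ∨ s = 137 ∨ s = 138 ∨ s = 139 ∨ s = 140 ∨ s = 141 ∨ s = 142 ∨ s = 143 ∨ s = 144 ∨ s = 145 ∨ s = 146 ∨ s = 147 ∨ s = 148 ∨ s = 149 := by omega
  rcases h with rfl | rfl | rfl | rfl | rfl | rfl | rfl | rfl | rfl | rfl | rfl | rfl | rfl | rfl | rfl | rfl | rfl | rfl | rfl | rfl | rfl | rfl | rfl | rfl | rfl | rfl | rfl | rfl | rfl | rfl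
  exacts [conjE8_0_120, conjE8_0_121, conjE8_0_122, conjE8_0_123, conjE8_0_124, conjE8_0_125, conjE8_0_126, conjE8_0_127, conjE8_0_128, conjE8_0_129, conjE8_0_130, conjE8_0_131, conjE8_0_132, conjE8_0_133, conjE8_0_134, conjE8_0_135, conjE8_0_136, conjE8_0_137, conjE8_0_138, conjE8_0_139, conjE8_0_140, conjE8_0_141, conjE8_0_142, conjE8_0_143, conjE8_0_144, conjE8_0_145, conjE8_0_146, conjE8_0_147, conjE8_0_148, conjE8_0_149]

theorem conjE8_0_150 : conjCheck chevE8 (pMonoCol chevE8 0 permE8_0 etaE8_0) 150 (dec8 permE8_0 150) (etaOf etaE8_0 150) = true := by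
  decide +kernel

theorem conjE8_0_151 : conjCheck chevE8 (pMonoCol chevE8 0 permE8_0 etaE8_0) 151 (dec8 permE8_0 151) (etaOf etaE8_0 151) = true := by
  decide +kernel

theorem conjE8_0_152 : conjCheck chevE8 (pMonoCol chevE8 0 permE8_0 etaE8_0) 152 (dec8 permE8_0 152) (etaOf etaE8_0 152) = true := by
  decide +kernel

theorem conjE8_0_153 : conjCheck chevE8 (pMonoCol chevE8 0 permE8_0 etaE8_0) 153 (dec8 permE8_0 153) (etaOf etaE8_0 153) = true := by
  decide +kernel

theorem conjE8_0_154 : conjCheck chevE8 (pMonoCol chevE8 0 permE8_0 etaE8_0) 154 (dec8 permE8_0 154) (etaOf etaE8_0 154) = true := by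
  decide +kernel

theorem conjE8_0_155 : conjCheck chevE8 (pMonoCol chevE8 0 permE8_0 etaE8_0) 155 (dec8 permE8_0 155) (etaOf etaE8_0 155) = true := by
  decide +kernel

theorem conjE8_0_156 : conjCheck chevE8 (pMonoCol chevE8 0 permE8_0 etaE8_0) 156 (dec8 permE8_0 156) (etaOf etaE8_0 156) = true := by
  decide +kernel

theorem conjE8_0_157 : conjCheck chevE8 (pMonoCol chevE8 0 permE8_0 etaE8_0) 157 (dec8 permE8_0 157) (etaOf etaE8_0 157) = true := by
  decide +kernel

theorem conjE8_0_158 : conjCheck chevE8 (pMonoCol chevE8 0 permE8_0 etaE8_0) 158 (dec8 permE8_0 158) (etaOf etaE8_0 158) = true := by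
  decide +kernel

theorem conjE8_0_159 : conjCheck chevE8 (pMonoCol chevE8 0 permE8_0 etaE8_0) 159 (dec8 permE8_0 159) (etaOf etaE8_0 159) = true := by
  decide +kernel

theorem conjE8_0_160 : conjCheck chevE8 (pMonoCol chevE8 0 permE8_0 etaE8_0) 160 (dec8 permE8_0 160) (etaOf etaE8_0 160) = true := by
  decide +kernel

theorem conjE8_0_161 : conjCheck chevE8 (pMonoCol chevE8 0 permE8_0 etaE8_0) 161 (dec8 permE8_0 161) (etaOf etaE8_0 161) = true := by
  decide +kernel

theorem conjE8_0_162 : conjCheck chevE8 (pMonoCol chevE8 0 permE8_0 etaE8_0) 162 (dec8 permE8_0 162) (etaOf etaE8_0 162) = true := by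
  decide +kernel

theorem conjE8_0_163 : conjCheck chevE8 (pMonoCol chevE8 0 permE8_0 etaE8_0) 163 (dec8 permE8_0 163) (etaOf etaE8_0 163) = true := by
  decide +kernel

theorem conjE8_0_164 : conjCheck chevE8 (pMonoCol chevE8 0 permE8_0 etaE8_0) 164 (dec8 permE8_0 164) (etaOf etaE8_0 164) = true := by
  decide +kernel

theorem conjE8_0_165 : conjCheck chevE8 (pMonoCol chevE8 0 permE8_0 etaE8_0) 165 (dec8 permE8_0 165) (etaOf etaE8_0 165) = true := by
  decide +kernel

theorem conjE8_0_166 : conjCheck chevE8 (pMonoCol chevE8 0 permE8_0 etaE8_0) 166 (dec8 permE8_0 166) (etaOf etaE8_0 166) = true := by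
  decide +kernel

theorem conjE8_0_167 : conjCheck chevE8 (pMonoCol chevE8 0 permE8_0 etaE8_0) 167 (dec8 permE8_0 167) (etaOf etaE8_0 167) = true := by
  decide +kernel

theorem conjE8_0_168 : conjCheck chevE8 (pMonoCol chevE8 0 permE8_0 etaE8_0) 168 (dec8 permE8_0 168) (etaOf etaE8_0 168) = true := by
  decide +kernel

theorem conjE8_0_169 : conjCheck chevE8 (pMonoCol chevE8 0 permE8_0 etaE8_0) 169 (dec8 permE8_0 169) (etaOf etaE8_0 169) = true := by
  decide +kernel

theorem conjE8_0_170 : conjCheck chevE8 (pMonoCol chevE8 0 permE8_0 etaE8_0) 170 (dec8 permE8_0 170) (etaOf etaE8_0 170) = true := by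
  decide +kernel

theorem conjE8_0_171 : conjCheck chevE8 (pMonoCol chevE8 0 permE8_0 etaE8_0) 171 (dec8 permE8_0 171) (etaOf etaE8_0 171) = true := by
  decide +kernel

theorem conjE8_0_172 : conjCheck chevE8 (pMonoCol chevE8 0 permE8_0 etaE8_0) 172 (dec8 permE8_0 172) (etaOf etaE8_0 172) = true := by
  decide +kernel

theorem conjE8_0_173 : conjCheck chevE8 (pMonoCol chevE8 0 permE8_0 etaE8_0) 173 (dec8 permE8_0 173) (etaOf etaE8_0 173) = true := by
  decide +kernel

theorem conjE8_0_174 : conjCheck chevE8 (pMonoCol chevE8 0 permE8_0 etaE8_0) 174 (dec8 permE8_0 174) (etaOf etaE8_0 174) = true := by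
  decide +kernel

theorem conjE8_0_175 : conjCheck chevE8 (pMonoCol chevE8 0 permE8_0 etaE8_0) 175 (dec8 permE8_0 175) (etaOf etaE8_0 175) = true := by
  decide +kernel

theorem conjE8_0_176 : conjCheck chevE8 (pMonoCol chevE8 0 permE8_0 etaE8_0) 176 (dec8 permE8_0 176) (etaOf etaE8_0 176) = true := by
  decide +kernel

theorem conjE8_0_177 : conjCheck chevE8 (pMonoCol chevE8 0 permE8_0 etaE8_0) 177 (dec8 permE8_0 177) (etaOf etaE8_0 177) = true := by
  decide +kernel

theorem conjE8_0_178 : conjCheck chevE8 (pMonoCol chevE8 0 permE8_0 etaE8_0) 178 (dec8 permE8_0 178) (etaOf etaE8_0 178) = true := by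
  decide +kernel

theorem conjE8_0_179 : conjCheck chevE8 (pMonoCol chevE8 0 permE8_0 etaE8_0) 179 (dec8 permE8_0 179) (etaOf etaE8_0 179) = true := by
  decide +kernel

theorem conjE8_0_from150 (s : ℕ) (h1 : 150 ≤ s) (h2 : s < 180) : conjCheck chevE8 (pMonoCol chevE8 0 permE8_0 etaE8_0) s (dec8 permE8_0 s) (etaOf etaE8_0 s) = true := by
  have h : s = 150 ∨ s = 151 ∨ s = 152 ∨ s = 153 ∨ s = 154 ∨ s = 155 ∨ s = 156 ∨ s = 157 ∨ s = 158 ∨ s = 159 ∨ s = 160 ∨ s = 161 ∨ s = 162 ∨ s = 163 ∨ s = 164 ∨ s = 165 ∨ s = 166 ∨ s = 167 ∨ s = 168 ∨ s = 169 ∨ s = 170 ∨ s = 171 ∨ s = 172 ∨ s = 173 ∨ s = 174 ∨ s = 175 ∨ s = 176 ∨ s = 177 ∨ s = 178 ∨ s = 179 := by omega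
  rcases h with rfl | rfl | rfl | rfl | rfl | rfl | rfl | rfl | rfl | rfl | rfl | rfl | rfl | rfl | rfl | rfl | rfl | rfl | rfl | rfl | rfl | rfl | rfl | rfl | rfl | rfl | rfl | rfl | rfl | rfl
  exacts [conjE8_0_150, conjE8_0_151, conjE8_0_152, conjE8_0_153, conjE8_0_154, conjE8_0_155, conjE8_0_156, conjE8_0_157, conjE8_0_158, conjE8_0_159, conjE8_0_160, conjE8_0_161, conjE8_0_162, conjE8_0_163, conjE8_0_164, conjE8_0_165, conjE8_0_166, conjE8_0_167, conjE8_0_168, conjE8_0_169, conjE8_0_170, conjE8_0_171, conjE8_0_172, conjE8_0_173, conjE8_0_174, conjE8_0_175, conjE8_0_176, conjE8_0_177, conjE8_0_178, conjE8_0_179]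

end Cfsg.Agent.Helper18
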