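import Cfsg.Agent.Lib.Helper18.ConjData

set_option autoImplicit false
set_option maxRecDepth 100000

namespace Cfsg.Agent.Helper18

open Cfsg.Lie

theorem conjE8_0_180 : conjCheck chevE8 (pMonoCol chevE8 0 permE8_0 etaE8_0) 180 (dec8 permE8_0 180) (etaOf etaE8_0 180) = true := by
  decide +kernel

theorem conjE8_0_181 : conjCheck chevE8 (pMonoCol chevE8 0 permE8_0 etaE8_0) 181 (dec8 permE8_0 181) (etaOf etaE8_0 181) = true := by
  decide +kernel

theorem conjE8_0_182 : conjCheck chevE8 (pMonoCol chevE8 0 permE8_0 etaE8_0) 182 (dec8 permE8_0 182) (etaOf etaE8_0 182) = true := by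
  decide +kernel

theorem conjE8_0_183 : conjCheck chevE8 (pMonoCol chevE8 0 permE8_0 etaE8_0) 183 (dec8 permE8_0 183) (etaOf etaE8_0 183) = true := by
  decide +kernel

theorem conjE8_0_184 : conjCheck chevE8 (pMonoCol chevE8 0 permE8_0 etaE8_0) 184 (dec8 permE8_0 184) (etaOf etaE8_0 184) = true := by
  decide +kernel

theorem conjE8_0_185 : conjCheck chevE8 (pMonoCol chevE8 0 permE8_0 etaE8_0) 185 (dec8 permE8_0 185) (etaOf etaE8_0 185) = true := by
  decide +kernel

theorem conjE8_0_186 : conjCheck chevE8 (pMonoCol chevE8 0 permE8_0 etaE8_0) 186 (dec8 permE8_0 186) (etaOf etaE8_0 186) = true := by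
  decide +kernel

theorem conjE8_0_187 : conjCheck chevE8 (pMonoCol chevE8 0 permE8_0 etaE8_0) 187 (dec8 permE8_0 187) (etaOf etaE8_0 187) = true := by
  decide +kernel

theorem conjE8_0_188 : conjCheck chevE8 (pMonoCol chevE8 0 permE8_0 etaE8_0) 188 (dec8 permE8_0 188) (etaOf etaE8_0 188) = true := by
  decide +kernel

theorem conjE8_0_189 : conjCheck chevE8 (pMonoCol chevE8 0 permE8_0 etaE8_0) 189 (dec8 permE8_0 189) (etaOf etaE8_0 189) = true := by
  decide +kernel

theorem conjE8_0_190 : conjCheck chevE8 (pMonoCol chevE8 0 permE8_0 etaE8_0) 190 (dec8 permE8_0 190) (etaOf etaE8_0 190) = true := by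
  decide +kernel

theorem conjE8_0_191 : conjCheck chevE8 (pMonoCol chevE8 0 permE8_0 etaE8_0) 191 (dec8 permE8_0 191) (etaOf etaE8_0 191) = true := by
  decide +kernel

theorem conjE8_0_192 : conjCheck chevE8 (pMonoCol chevE8 0 permE8_0 etaE8_0) 192 (dec8 permE8_0 192) (etaOf etaE8_0 192) = true := by
  decide +kernel

theorem conjE8_0_193 : conjCheck chevE8 (pMonoCol chevE8 0 permE8_0 etaE8_0) 193 (dec8 permE8_0 193) (etaOf etaE8_0 193) = true := by
  decide +kernel

theorem conjE8_0_194 : conjCheck chevE8 (pMonoCol chevE8 0 permE8_0 etaE8_0) 194 (dec8 permE8_0 194) (etaOf etaE8_0 194) = true := by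
  decide +kernel

theorem conjE8_0_195 : conjCheck chevE8 (pMonoCol chevE8 0 permE8_0 etaE8_0) 195 (dec8 permE8_0 195) (etaOf etaE8_0 195) = true := by
  decide +kernel

theorem conjE8_0_196 : conjCheck chevE8 (pMonoCol chevE8 0 permE8_0 etaE8_0) 196 (dec8 permE8_0 196) (etaOf etaE8_0 196) = true := by
  decide +kernel

theorem conjE8_0_197 : conjCheck chevE8 (pMonoCol chevE8 0 permE8_0 etaE8_0) 197 (dec8 permE8_0 197) (etaOf etaE8_0 197) = true := by
  decide +kernel

theorem conjE8_0_198 : conjCheck chevE8 (pMonoCol chevE8 0 permE8_0 etaE8_0) 198 (dec8 permE8_0 198) (etaOf etaE8_0 198) = true := by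
  decide +kernel

theorem conjE8_0_199 : conjCheck chevE8 (pMonoCol chevE8 0 permE8_0 etaE8_0) 199 (dec8 permE8_0 199) (etaOf etaE8_0 199) = true := by
  decide +kernel

theorem conjE8_0_200 : conjCheck chevE8 (pMonoCol chevE8 0 permE8_0 etaE8_0) 200 (dec8 permE8_0 200) (etaOf etaE8_0 200) = true := by
  decide +kernel

theorem conjE8_0_201 : conjCheck chevE8 (pMonoCol chevE8 0 permE8_0 etaE8_0) 201 (dec8 permE8_0 201) (etaOf etaE8_0 201) = true := by
  decide +kernel

theorem conjE8_0_202 : conjCheck chevE8 (pMonoCol chevE8 0 permE8_0 etaE8_0) 202 (dec8 permE8_0 202) (etaOf etaE8_0 202) = true := by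
  decide +kernel

theorem conjE8_0_203 : conjCheck chevE8 (pMonoCol chevE8 0 permE8_0 etaE8_0) 203 (dec8 permE8_0 203) (etaOf etaE8_0 203) = true := by
  decide +kernel

theorem conjE8_0_204 : conjCheck chevE8 (pMonoCol chevE8 0 permE8_0 etaE8_0) 204 (dec8 permE8_0 204) (etaOf etaE8_0 204) = true := by
  decide +kernel

theorem conjE8_0_205 : conjCheck chevE8 (pMonoCol chevE8 0 permE8_0 etaE8_0) 205 (dec8 permE8_0 205) (etaOf etaE8_0 205) = true := by
  decide +kernel

theorem conjE8_0_206 : conjCheck chevE8 (pMonoCol chevE8 0 permE8_0 etaE8_0) 206 (dec8 permE8_0 206) (etaOf etaE8_0 206) = true := by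
  decide +kernel

theorem conjE8_0_207 : conjCheck chevE8 (pMonoCol chevE8 0 permE8_0 etaE8_0) 207 (dec8 permE8_0 207) (etaOf etaE8_0 207) = true := by
  decide +kernel

theorem conjE8_0_208 : conjCheck chevE8 (pMonoCol chevE8 0 permE8_0 etaE8_0) 208 (dec8 permE8_0 208) (etaOf etaE8_0 208) = true := by
  decide +kernel

theorem conjE8_0_209 : conjCheck chevE8 (pMonoCol chevE8 0 permE8_0 etaE8_0) 209 (dec8 permE8_0 209) (etaOf etaE8_0 209) = true := by
  decide +kernel

theorem conjE8_0_from180 (s : ℕ) (h1 : 180 ≤ s) (h2 : s < 210) : conjCheck chevE8 (pMonoCol chevE8 0 permE8_0 etaE8_0) s (dec8 permE8_0 s) (etaOf etaE8_0 s) = true := by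
  have h : s = 180 ∨ s = 181 ∨ s = 182 ∨ s = 183 ∨ s = 184 ∨ s = 185 ∨ s = 186 ∨ s = 187 ∨ s = 188 ∨ s = 189 ∨ s = 190 ∨ s = 191 ∨ s = 192 ∨ s = 193 ∨ s = 194 ∨ s = 195 ∨ s = 196 ∨ s = 197 ∨ s = 198 ∨ s = 199 ∨ s = 200 ∨ s = 201 ∨ s = 202 ∨ s = 203 ∨ s = 204 ∨ s = 205 ∨ s = 206 ∨ s = 207 ∨ s = 208 ∨ s = 209 := by omega
  rcases h with rfl | rfl | rfl | rfl | rfl | rfl | rfl | rfl | rfl | rfl | rfl | rfl | rfl | rfl | rfl | rfl | rfl | rfl | rfl | rfl | rfl | rfl | rfl | rfl | rfl | rfl | rfl | rfl | rfl | rfl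
  exacts [conjE8_0_180, conjE8_0_181, conjE8_0_182, conjE8_0_183, conjE8_0_184, conjE8_0_185, conjE8_0_186, conjE8_0_187, conjE8_0_188, conjE8_0_189, conjE8_0_190, conjE8_0_191, conjE8_0_192, conjE8_0_193, conjE8_0_194, conjE8_0_195, conjE8_0_196, conjE8_0_197, conjE8_0_198, conjE8_0_199, conjE8_0_200, conjE8_0_201, conjE8_0_202, conjE8_0_203, conjE8_0_204, conjE8_0_205, conjE8_0_206, conjE8_0_207, conjE8_0_208, conjE8_0_209]

theorem conjE8_0_210 : conjCheck chevE8 (pMonoCol chevE8 0 permE8_0 etaE8_0) 210 (dec8 permE8_0 210) (etaOf etaE8_0 210) = true := by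
  decide +kernel

theorem conjE8_0_211 : conjCheck chevE8 (pMonoCol chevE8 0 permE8_0 etaE8_0) 211 (dec8 permE8_0 211) (etaOf etaE8_0 211) = true := by
  decide +kernel

theorem conjE8_0_212 : conjCheck chevE8 (pMonoCol chevE8 0 permE8_0 etaE8_0) 212 (dec8 permE8_0 212) (etaOf etaE8_0 212) = true := by
  decide +kernel

theorem conjE8_0_213 : conjCheck chevE8 (pMonoCol chevE8 0 permE8_0 etaE8_0) 213 (dec8 permE8_0 213) (etaOf etaE8_0 213) = true := by
  decide +kernel

theorem conjE8_0_214 : conjCheck chevE8 (pMonoCol chevE8 0 permE8_0 etaE8_0) 214 (dec8 permE8_0 214) (etaOf etaE8_0 214) = true := by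
  decide +kernel

theorem conjE8_0_215 : conjCheck chevE8 (pMonoCol chevE8 0 permE8_0 etaE8_0) 215 (dec8 permE8_0 215) (etaOf etaE8_0 215) = true := by
  decide +kernel

theorem conjE8_0_216 : conjCheck chevE8 (pMonoCol chevE8 0 permE8_0 etaE8_0) 216 (dec8 permE8_0 216) (etaOf etaE8_0 216) = true := by
  decide +kernel

theorem conjE8_0_217 : conjCheck chevE8 (pMonoCol chevE8 0 permE8_0 etaE8_0) 217 (dec8 permE8_0 217) (etaOf etaE8_0 217) = true := by
  decide +kernel

theorem conjE8_0_218 : conjCheck chevE8 (pMonoCol chevE8 0 permE8_0 etaE8_0) 218 (dec8 permE8_0 218) (etaOf etaE8_0 218) = true := by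
  decide +kernel

theorem conjE8_0_219 : conjCheck chevE8 (pMonoCol chevE8 0 permE8_0 etaE8_0) 219 (dec8 permE8_0 219) (etaOf etaE8_0 219) = true := by
  decide +kernel

theorem conjE8_0_220 : conjCheck chevE8 (pMonoCol chevE8 0 permE8_0 etaE8_0) 220 (dec8 permE8_0 220) (etaOf etaE8_0 220) = true := by
  decide +kernel

theorem conjE8_0_221 : conjCheck chevE8 (pMonoCol chevE8 0 permE8_0 etaE8_0) 221 (dec8 permE8_0 221) (etaOf etaE8_0 221) = true := by
  decide +kernel

theorem conjE8_0_222 : conjCheck chevE8 (pMonoCol chevE8 0 permE8_0 etaE8_0) 222 (dec8 permE8_0 222) (etaOf etaE8_0 222) = true := by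
  decide +kernel

theorem conjE8_0_223 : conjCheck chevE8 (pMonoCol chevE8 0 permE8_0 etaE8_0) 223 (dec8 permE8_0 223) (etaOf etaE8_0 223) = true := by
  decide +kernel

theorem conjE8_0_224 : conjCheck chevE8 (pMonoCol chevE8 0 permE8_0 etaE8_0) 224 (dec8 permE8_0 224) (etaOf etaE8_0 224) = true := by
  decide +kernel

theorem conjE8_0_225 : conjCheck chevE8 (pMonoCol chevE8 0 permE8_0 etaE8_0) 225 (dec8 permE8_0 225) (etaOf etaE8_0 225) = true := by
  decide +kernel

theorem conjE8_0_226 : conjCheck chevE8 (pMonoCol chevE8 0 permE8_0 etaE8_0) 226 (dec8 permE8_0 226) (etaOf etaE8_0 226) = true := by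
  decide +kernel

theorem conjE8_0_227 : conjCheck chevE8 (pMonoCol chevE8 0 permE8_0 etaE8_0) 227 (dec8 permE8_0 227) (etaOf etaE8_0 227) = true := by
  decide +kernel

theorem conjE8_0_228 : conjCheck chevE8 (pMonoCol chevE8 0 permE8_0 etaE8_0) 228 (dec8 permE8_0 228) (etaOf etaE8_0 228) = true := by
  decide +kernel

theorem conjE8_0_229 : conjCheck chevE8 (pMonoCol chevE8 0 permE8_0 etaE8_0) 229 (dec8 permE8_0 229) (etaOf etaE8_0 229) = true := by
  decide +kernel

theorem conjE8_0_230 : conjCheck chevE8 (pMonoCol chevE8 0 permE8_0 etaE8_0) 230 (dec8 permE8_0 230) (etaOf etaE8_0 230) = true := by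
  decide +kernel

theorem conjE8_0_231 : conjCheck chevE8 (pMonoCol chevE8 0 permE8_0 etaE8_0) 231 (dec8 permE8_0 231) (etaOf etaE8_0 231) = true := by
  decide +kernel

theorem conjE8_0_232 : conjCheck chevE8 (pMonoCol chevE8 0 permE8_0 etaE8_0) 232 (dec8 permE8_0 232) (etaOf etaE8_0 232) = true := by
  decide +kernel

theorem conjE8_0_233 : conjCheck chevE8 (pMonoCol chevE8 0 permE8_0 etaE8_0) 233 (dec8 permE8_0 233) (etaOf etaE8_0 233) = true := by
  decide +kernel

theorem conjE8_0_234 : conjCheck chevE8 (pMonoCol chevE8 0 permE8_0 etaE8_0) 234 (dec8 permE8_0 234) (etaOf etaE8_0 234) = true := by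
  decide +kernel

theorem conjE8_0_235 : conjCheck chevE8 (pMonoCol chevE8 0 permE8_0 etaE8_0) 235 (dec8 permE8_0 235) (etaOf etaE8_0 235) = true := by
  decide +kernel

theorem conjE8_0_236 : conjCheck chevE8 (pMonoCol chevE8 0 permE8_0 etaE8_0) 236 (dec8 permE8_0 236) (etaOf etaE8_0 236) = true := by
  decide +kernel

theorem conjE8_0_237 : conjCheck chevE8 (pMonoCol chevE8 0 permE8_0 etaE8_0) 237 (dec8 permE8_0 237) (etaOf etaE8_0 237) = true := by
  decide +kernel

theorem conjE8_0_238 : conjCheck chevE8 (pMonoCol chevE8 0 permE8_0 etaE8_0) 238 (dec8 permE8_0 238) (etaOf etaE8_0 238) = true := by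
  decide +kernel

theorem conjE8_0_239 : conjCheck chevE8 (pMonoCol chevE8 0 permE8_0 etaE8_0) 239 (dec8 permE8_0 239) (etaOf etaE8_0 239) = true := by
  decide +kernel

theorem conjE8_0_from210 (s : ℕ) (h1 : 210 ≤ s) (h2 : s < 240) : conjCheck chevE8 (pMonoCol chevE8 0 permE8_0 etaE8_0) s (dec8 permE8_0 s) (etaOf etaE8_0 s) = true := by
  have h : s = 210 ∨ s = 211 ∨ s = 212 ∨ s = 213 ∨ s = 214 ∨ s = 215 ∨ s = 216 ∨ s = 217 ∨ s = 218 ∨ s = 219 ∨ s = 220 ∨ s = 221 ∨ s = 222 ∨ s = 223 ∨ s = 224 ∨ s = 225 ∨ s = 226 ∨ s = 227 ∨ s = 228 ∨ s = 229 ∨ s = 230 ∨ s = 231 ∨ s = 232 ∨ s = 233 ∨ s = 234 ∨ s = 235 ∨ s = 236 ∨ s = 237 ∨ s = 238 ∨ s = 239 := by omega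
  rcases h with rfl | rfl | rfl | rfl | rfl | rfl | rfl | rfl | rfl | rfl | rfl | rfl | rfl | rfl | rfl | rfl | rfl | rfl | rfl | rfl | rfl | rfl | rfl | rfl | rfl | rfl | rfl | rfl | rfl | rfl
  exacts [conjE8_0_210, conjE8_0_211, conjE8_0_212, conjE8_0_213, conjE8_0_214, conjE8_0_215, conjE8_0_216, conjE8_0_217, conjE8_0_218, conjE8_0_219, conjE8_0_220, conjE8_0_221, conjE8_0_222, conjE8_0_223, conjE8_0_224, conjE8_0_225, conjE8_0_226, conjE8_0_227, conjE8_0_228, conjE8_0_229, conjE8_0_230, conjE8_0_231, conjE8_0_232, conjE8_0_233, conjE8_0_234, conjE8_0_235, conjE8_0_236, conjE8_0_237, conjE8_0_238, conjE8_0_239]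

end Cfsg.Agent.Helper18
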