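import Cfsg.Agent.Lib.Helper18.ConjData

set_option autoImplicit false
set_option maxRecDepth 100000
set_option Elab.async false

namespace Cfsg.Agent.Helper18

open Cfsg.Lie

theorem conjE8_1_0 : conjCheck chevE8 (pMonoCol chevE8 1 permE8_1 etaE8_1) 0 (dec8 permE8_1 0) (etaOf etaE8_1 0) = true := by
  decide +kernel

theorem conjE8_1_1 : conjCheck chevE8 (pMonoCol chevE8 1 permE8_1 etaE8_1) 1 (dec8 permE8_1 1) (etaOf etaE8_1 1) = true := by
  decide +kernel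

theorem conjE8_1_2 : conjCheck chevE8 (pMonoCol chevE8 1 permE8_1 etaE8_1) 2 (dec8 permE8_1 2) (etaOf etaE8_1 2) = true := by
  decide +kernel

theorem conjE8_1_3 : conjCheck chevE8 (pMonoCol chevE8 1 permE8_1 etaE8_1) 3 (dec8 permE8_1 3) (etaOf etaE8_1 3) = true := by
  decide +kernel

theorem conjE8_1_4 : conjCheck chevE8 (pMonoCol chevE8 1 permE8_1 etaE8_1) 4 (dec8 permE8_1 4) (etaOf etaE8_1 4) = true := by
  decide +kernel

theorem conjE8_1_5 : conjCheck chevE8 (pMonoCol chevE8 1 permE8_1 etaE8_1) 5 (dec8 permE8_1 5) (etaOf etaE8_1 5) = true := by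
  decide +kernel

theorem conjE8_1_6 : conjCheck chevE8 (pMonoCol chevE8 1 permE8_1 etaE8_1) 6 (dec8 permE8_1 6) (etaOf etaE8_1 6) = true := by
  decide +kernel

theorem conjE8_1_7 : conjCheck chevE8 (pMonoCol chevE8 1 permE8_1 etaE8_1) 7 (dec8 permE8_1 7) (etaOf etaE8_1 7) = true := by
  decide +kernel

theorem conjE8_1_8 : conjCheck chevE8 (pMonoCol chevE8 1 permE8_1 etaE8_1) 8 (dec8 permE8_1 8) (etaOf etaE8_1 8) = true := by
  decide +kernel

theorem conjE8_1_9 : conjCheck chevE8 (pMonoCol chevE8 1 permE8_1 etaE8_1) 9 (dec8 permE8_1 9) (etaOf etaE8_1 9) = true := by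
  decide +kernel

theorem conjE8_1_10 : conjCheck chevE8 (pMonoCol chevE8 1 permE8_1 etaE8_1) 10 (dec8 permE8_1 10) (etaOf etaE8_1 10) = true := by
  decide +kernel

theorem conjE8_1_11 : conjCheck chevE8 (pMonoCol chevE8 1 permE8_1 etaE8_1) 11 (dec8 permE8_1 11) (etaOf etaE8_1 11) = true := by
  decide +kernel

theorem conjE8_1_12 : conjCheck chevE8 (pMonoCol chevE8 1 permE8_1 etaE8_1) 12 (dec8 permE8_1 12) (etaOf etaE8_1 12) = true := by
  decide +kernel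

theorem conjE8_1_13 : conjCheck chevE8 (pMonoCol chevE8 1 permE8_1 etaE8_1) 13 (dec8 permE8_1 13) (etaOf etaE8_1 13) = true := by
  decide +kernel

theorem conjE8_1_14 : conjCheck chevE8 (pMonoCol chevE8 1 permE8_1 etaE8_1) 14 (dec8 permE8_1 14) (etaOf etaE8_1 14) = true := by
  decide +kernel

theorem conjE8_1_15 : conjCheck chevE8 (pMonoCol chevE8 1 permE8_1 etaE8_1) 15 (dec8 permE8_1 15) (etaOf etaE8_1 15) = true := by
  decide +kernel

theorem conjE8_1_16 : conjCheck chevE8 (pMonoCol chevE8 1 permE8_1 etaE8_1) 16 (dec8 permE8_1 16) (etaOf etaE8_1 16) = true := by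
  decide +kernel

theorem conjE8_1_17 : conjCheck chevE8 (pMonoCol chevE8 1 permE8_1 etaE8_1) 17 (dec8 permE8_1 17) (etaOf etaE8_1 17) = true := by
  decide +kernel

theorem conjE8_1_18 : conjCheck chevE8 (pMonoCol chevE8 1 permE8_1 etaE8_1) 18 (dec8 permE8_1 18) (etaOf etaE8_1 18) = true := by
  decide +kernel

theorem conjE8_1_19 : conjCheck chevE8 (pMonoCol chevE8 1 permE8_1 etaE8_1) 19 (dec8 permE8_1 19) (etaOf etaE8_1 19) = true := by
  decide +kernel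

theorem conjE8_1_20 : conjCheck chevE8 (pMonoCol chevE8 1 permE8_1 etaE8_1) 20 (dec8 permE8_1 20) (etaOf etaE8_1 20) = true := by
  decide +kernel

theorem conjE8_1_21 : conjCheck chevE8 (pMonoCol chevE8 1 permE8_1 etaE8_1) 21 (dec8 permE8_1 21) (etaOf etaE8_1 21) = true := by
  decide +kernel

theorem conjE8_1_22 : conjCheck chevE8 (pMonoCol chevE8 1 permE8_1 etaE8_1) 22 (dec8 permE8_1 22) (etaOf etaE8_1 22) = true := by
  decide +kernel

theorem conjE8_1_23 : conjCheck chevE8 (pMonoCol chevE8 1 permE8_1 etaE8_1) 23 (dec8 permE8_1 23) (etaOf etaE8_1 23) = true := by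
  decide +kernel

theorem conjE8_1_24 : conjCheck chevE8 (pMonoCol chevE8 1 permE8_1 etaE8_1) 24 (dec8 permE8_1 24) (etaOf etaE8_1 24) = true := by
  decide +kernel

theorem conjE8_1_25 : conjCheck chevE8 (pMonoCol chevE8 1 permE8_1 etaE8_1) 25 (dec8 permE8_1 25) (etaOf etaE8_1 25) = true := by
  decide +kernel

theorem conjE8_1_26 : conjCheck chevE8 (pMonoCol chevE8 1 permE8_1 etaE8_1) 26 (dec8 permE8_1 26) (etaOf etaE8_1 26) = true := by
  decide +kernel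

theorem conjE8_1_27 : conjCheck chevE8 (pMonoCol chevE8 1 permE8_1 etaE8_1) 27 (dec8 permE8_1 27) (etaOf etaE8_1 27) = true := by
  decide +kernel

theorem conjE8_1_28 : conjCheck chevE8 (pMonoCol chevE8 1 permE8_1 etaE8_1) 28 (dec8 permE8_1 28) (etaOf etaE8_1 28) = true := by
  decide +kernel

theorem conjE8_1_29 : conjCheck chevE8 (pMonoCol chevE8 1 permE8_1 etaE8_1) 29 (dec8 permE8_1 29) (etaOf etaE8_1 29) = true := by
  decide +kernel

theorem conjE8_1_from0 (s : ℕ) (h1 : 0 ≤ s) (h2 : s < 30) : conjCheck chevE8 (pMonoCol chevE8 1 permE8_1 etaE8_1) s (dec8 permE8_1 s) (etaOf etaE8_1 s) = true := by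
  have h : s = 0 ∨ s = 1 ∨ s = 2 ∨ s = 3 ∨ s = 4 ∨ s = 5 ∨ s = 6 ∨ s = 7 ∨ s = 8 ∨ s = 9 ∨ s = 10 ∨ s = 11 ∨ s = 12 ∨ s = 13 ∨ s = 14 ∨ s = 15 ∨ s = 16 ∨ s = 17 ∨ s = 18 ∨ s = 19 ∨ s = 20 ∨ s = 21 ∨ s = 22 ∨ s = 23 ∨ s = 24 ∨ s = 25 ∨ s = 26 ∨ s = 27 ∨ s = 28 ∨ s = 29 := by omega
  rcases h with rfl | rfl | rfl | rfl | rfl | rfl | rfl | rfl | rfl | rfl | rfl | rfl | rfl | rfl | rfl | rfl | rfl | rfl | rfl | rfl | rfl | rfl | rfl | rfl | rfl | rfl | rfl | rfl | rfl | rfl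
  exacts [conjE8_1_0, conjE8_1_1, conjE8_1_2, conjE8_1_3, conjE8_1_4, conjE8_1_5, conjE8_1_6, conjE8_1_7, conjE8_1_8, conjE8_1_9, conjE8_1_10, conjE8_1_11, conjE8_1_12, conjE8_1_13, conjE8_1_14, conjE8_1_15, conjE8_1_16, conjE8_1_17, conjE8_1_18, conjE8_1_19, conjE8_1_20, conjE8_1_21, conjE8_1_22, conjE8_1_23, conjE8_1_24, conjE8_1_25, conjE8_1_26, conjE8_1_27, conjE8_1_28, conjE8_1_29]

theorem conjE8_1_30 : conjCheck chevE8 (pMonoCol chevE8 1 permE8_1 etaE8_1) 30 (dec8 permE8_1 30) (etaOf etaE8_1 30) = true := by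
  decide +kernel

theorem conjE8_1_31 : conjCheck chevE8 (pMonoCol chevE8 1 permE8_1 etaE8_1) 31 (dec8 permE8_1 31) (etaOf etaE8_1 31) = true := by
  decide +kernel

theorem conjE8_1_32 : conjCheck chevE8 (pMonoCol chevE8 1 permE8_1 etaE8_1) 32 (dec8 permE8_1 32) (etaOf etaE8_1 32) = true := by
  decide +kernel

theorem conjE8_1_33 : conjCheck chevE8 (pMonoCol chevE8 1 permE8_1 etaE8_1) 33 (dec8 permE8_1 33) (etaOf etaE8_1 33) = true := by
  decide +kernel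

theorem conjE8_1_34 : conjCheck chevE8 (pMonoCol chevE8 1 permE8_1 etaE8_1) 34 (dec8 permE8_1 34) (etaOf etaE8_1 34) = true := by
  decide +kernel

theorem conjE8_1_35 : conjCheck chevE8 (pMonoCol chevE8 1 permE8_1 etaE8_1) 35 (dec8 permE8_1 35) (etaOf etaE8_1 35) = true := by
  decide +kernel

theorem conjE8_1_36 : conjCheck chevE8 (pMonoCol chevE8 1 permE8_1 etaE8_1) 36 (dec8 permE8_1 36) (etaOf etaE8_1 36) = true := by
  decide +kernel

theorem conjE8_1_37 : conjCheck chevE8 (pMonoCol chevE8 1 permE8_1 etaE8_1) 37 (dec8 permE8_1 37) (etaOf etaE8_1 37) = true := by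
  decide +kernel

theorem conjE8_1_38 : conjCheck chevE8 (pMonoCol chevE8 1 permE8_1 etaE8_1) 38 (dec8 permE8_1 38) (etaOf etaE8_1 38) = true := by
  decide +kernel

theorem conjE8_1_39 : conjCheck chevE8 (pMonoCol chevE8 1 permE8_1 etaE8_1) 39 (dec8 permE8_1 39) (etaOf etaE8_1 39) = true := by
  decide +kernel

theorem conjE8_1_40 : conjCheck chevE8 (pMonoCol chevE8 1 permE8_1 etaE8_1) 40 (dec8 permE8_1 40) (etaOf etaE8_1 40) = true := by
  decide +kernel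

theorem conjE8_1_41 : conjCheck chevE8 (pMonoCol chevE8 1 permE8_1 etaE8_1) 41 (dec8 permE8_1 41) (etaOf etaE8_1 41) = true := by
  decide +kernel

theorem conjE8_1_42 : conjCheck chevE8 (pMonoCol chevE8 1 permE8_1 etaE8_1) 42 (dec8 permE8_1 42) (etaOf etaE8_1 42) = true := by
  decide +kernel

theorem conjE8_1_43 : conjCheck chevE8 (pMonoCol chevE8 1 permE8_1 etaE8_1) 43 (dec8 permE8_1 43) (etaOf etaE8_1 43) = true := by
  decide +kernel

theorem conjE8_1_44 : conjCheck chevE8 (pMonoCol chevE8 1 permE8_1 etaE8_1) 44 (dec8 permE8_1 44) (etaOf etaE8_1 44) = true := by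
  decide +kernel

theorem conjE8_1_45 : conjCheck chevE8 (pMonoCol chevE8 1 permE8_1 etaE8_1) 45 (dec8 permE8_1 45) (etaOf etaE8_1 45) = true := by
  decide +kernel

theorem conjE8_1_46 : conjCheck chevE8 (pMonoCol chevE8 1 permE8_1 etaE8_1) 46 (dec8 permE8_1 46) (etaOf etaE8_1 46) = true := by
  decide +kernel

theorem conjE8_1_47 : conjCheck chevE8 (pMonoCol chevE8 1 permE8_1 etaE8_1) 47 (dec8 permE8_1 47) (etaOf etaE8_1 47) = true := by
  decide +kernel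

theorem conjE8_1_48 : conjCheck chevE8 (pMonoCol chevE8 1 permE8_1 etaE8_1) 48 (dec8 permE8_1 48) (etaOf etaE8_1 48) = true := by
  decide +kernel

theorem conjE8_1_49 : conjCheck chevE8 (pMonoCol chevE8 1 permE8_1 etaE8_1) 49 (dec8 permE8_1 49) (etaOf etaE8_1 49) = true := by
  decide +kernel

theorem conjE8_1_50 : conjCheck chevE8 (pMonoCol chevE8 1 permE8_1 etaE8_1) 50 (dec8 permE8_1 50) (etaOf etaE8_1 50) = true := by
  decide +kernel

theorem conjE8_1_51 : conjCheck chevE8 (pMonoCol chevE8 1 permE8_1 etaE8_1) 51 (dec8 permE8_1 51) (etaOf etaE8_1 51) = true := by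
  decide +kernel

theorem conjE8_1_52 : conjCheck chevE8 (pMonoCol chevE8 1 permE8_1 etaE8_1) 52 (dec8 permE8_1 52) (etaOf etaE8_1 52) = true := by
  decide +kernel

theorem conjE8_1_53 : conjCheck chevE8 (pMonoCol chevE8 1 permE8_1 etaE8_1) 53 (dec8 permE8_1 53) (etaOf etaE8_1 53) = true := by
  decide +kernel

theorem conjE8_1_54 : conjCheck chevE8 (pMonoCol chevE8 1 permE8_1 etaE8_1) 54 (dec8 permE8_1 54) (etaOf etaE8_1 54) = true := by
  decide +kernel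

theorem conjE8_1_55 : conjCheck chevE8 (pMonoCol chevE8 1 permE8_1 etaE8_1) 55 (dec8 permE8_1 55) (etaOf etaE8_1 55) = true := by
  decide +kernel

theorem conjE8_1_56 : conjCheck chevE8 (pMonoCol chevE8 1 permE8_1 etaE8_1) 56 (dec8 permE8_1 56) (etaOf etaE8_1 56) = true := by
  decide +kernel

theorem conjE8_1_57 : conjCheck chevE8 (pMonoCol chevE8 1 permE8_1 etaE8_1) 57 (dec8 permE8_1 57) (etaOf etaE8_1 57) = true := by
  decide +kernel

theorem conjE8_1_58 : conjCheck chevE8 (pMonoCol chevE8 1 permE8_1 etaE8_1) 58 (dec8 permE8_1 58) (etaOf etaE8_1 58) = true := by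
  decide +kernel

theorem conjE8_1_59 : conjCheck chevE8 (pMonoCol chevE8 1 permE8_1 etaE8_1) 59 (dec8 permE8_1 59) (etaOf etaE8_1 59) = true := by
  decide +kernel

theorem conjE8_1_from30 (s : ℕ) (h1 : 30 ≤ s) (h2 : s < 60) : conjCheck chevE8 (pMonoCol chevE8 1 permE8_1 etaE8_1) s (dec8 permE8_1 s) (etaOf etaE8_1 s) = true := by
  have h : s = 30 ∨ s = 31 ∨ s = 32 ∨ s = 33 ∨ s = 34 ∨ s = 35 ∨ s = 36 ∨ s = 37 ∨ s = 38 ∨ s = 39 ∨ s = 40 ∨ s = 41 ∨ s = 42 ∨ s = 43 ∨ s = 44 ∨ s = 45 ∨ s = 46 ∨ s = 47 ∨ s = 48 ∨ s = 49 ∨ s = 50 ∨ s = 51 ∨ s = 52 ∨ s = 53 ∨ s = 54 ∨ s = 55 ∨ s = 56 ∨ s = 57 ∨ s = 58 ∨ s = 59 := by omega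
  rcases h with rfl | rfl | rfl | rfl | rfl | rfl | rfl | rfl | rfl | rfl | rfl | rfl | rfl | rfl | rfl | rfl | rfl | rfl | rfl | rfl | rfl | rfl | rfl | rfl | rfl | rfl | rfl | rfl | rfl | rfl
  exacts [conjE8_1_30, conjE8_1_31, conjE8_1_32, conjE8_1_33, conjE8_1_34, conjE8_1_35, conjE8_1_36, conjE8_1_37, conjE8_1_38, conjE8_1_39, conjE8_1_40, conjE8_1_41, conjE8_1_42, conjE8_1_43, conjE8_1_44, conjE8_1_45, conjE8_1_46, conjE8_1_47, conjE8_1_48, conjE8_1_49, conjE8_1_50, conjE8_1_51, conjE8_1_52, conjE8_1_53, conjE8_1_54, conjE8_1_55, conjE8_1_56, conjE8_1_57, conjE8_1_58, conjE8_1_59]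

end Cfsg.Agent.Helper18
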