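import Cfsg.Agent.Lib.Helper18.ConjData

set_option autoImplicit false
set_option maxRecDepth 100000

namespace Cfsg.Agent.Helper18

open Cfsg.Lie

theorem conjE8_1_60 : conjCheck chevE8 (pMonoCol chevE8 1 permE8_1 etaE8_1) 60 (dec8 permE8_1 60) (etaOf etaE8_1 60) = true := by
  decide +kernel

theorem conjE8_1_61 : conjCheck chevE8 (pMonoCol chevE8 1 permE8_1 etaE8_1) 61 (dec8 permE8_1 61) (etaOf etaE8_1 61) = true := by
  decide +kernel

theorem conjE8_1_62 : conjCheck chevE8 (pMonoCol chevE8 1 permE8_1 etaE8_1) 62 (dec8 permE8_1 62) (etaOf etaE8_1 62) = true := by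
  decide +kernel

theorem conjE8_1_63 : conjCheck chevE8 (pMonoCol chevE8 1 permE8_1 etaE8_1) 63 (dec8 permE8_1 63) (etaOf etaE8_1 63) = true := by
  decide +kernel

theorem conjE8_1_64 : conjCheck chevE8 (pMonoCol chevE8 1 permE8_1 etaE8_1) 64 (dec8 permE8_1 64) (etaOf etaE8_1 64) = true := by
  decide +kernel

theorem conjE8_1_65 : conjCheck chevE8 (pMonoCol chevE8 1 permE8_1 etaE8_1) 65 (dec8 permE8_1 65) (etaOf etaE8_1 65) = true := by
  decide +kernel

theorem conjE8_1_66 : conjCheck chevE8 (pMonoCol chevE8 1 permE8_1 etaE8_1) 66 (dec8 permE8_1 66) (etaOf etaE8_1 66) = true := by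
  decide +kernel

theorem conjE8_1_67 : conjCheck chevE8 (pMonoCol chevE8 1 permE8_1 etaE8_1) 67 (dec8 permE8_1 67) (etaOf etaE8_1 67) = true := by
  decide +kernel

theorem conjE8_1_68 : conjCheck chevE8 (pMonoCol chevE8 1 permE8_1 etaE8_1) 68 (dec8 permE8_1 68) (etaOf etaE8_1 68) = true := by
  decide +kernel

theorem conjE8_1_69 : conjCheck chevE8 (pMonoCol chevE8 1 permE8_1 etaE8_1) 69 (dec8 permE8_1 69) (etaOf etaE8_1 69) = true := by
  decide +kernel

theorem conjE8_1_70 : conjCheck chevE8 (pMonoCol chevE8 1 permE8_1 etaE8_1) 70 (dec8 permE8_1 70) (etaOf etaE8_1 70) = true := by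
  decide +kernel

theorem conjE8_1_71 : conjCheck chevE8 (pMonoCol chevE8 1 permE8_1 etaE8_1) 71 (dec8 permE8_1 71) (etaOf etaE8_1 71) = true := by
  decide +kernel

theorem conjE8_1_72 : conjCheck chevE8 (pMonoCol chevE8 1 permE8_1 etaE8_1) 72 (dec8 permE8_1 72) (etaOf etaE8_1 72) = true := by
  decide +kernel

theorem conjE8_1_73 : conjCheck chevE8 (pMonoCol chevE8 1 permE8_1 etaE8_1) 73 (dec8 permE8_1 73) (etaOf etaE8_1 73) = true := by
  decide +kernel

theorem conjE8_1_74 : conjCheck chevE8 (pMonoCol chevE8 1 permE8_1 etaE8_1) 74 (dec8 permE8_1 74) (etaOf etaE8_1 74) = true := by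
  decide +kernel

theorem conjE8_1_75 : conjCheck chevE8 (pMonoCol chevE8 1 permE8_1 etaE8_1) 75 (dec8 permE8_1 75) (etaOf etaE8_1 75) = true := by
  decide +kernel

theorem conjE8_1_76 : conjCheck chevE8 (pMonoCol chevE8 1 permE8_1 etaE8_1) 76 (dec8 permE8_1 76) (etaOf etaE8_1 76) = true := by
  decide +kernel

theorem conjE8_1_77 : conjCheck chevE8 (pMonoCol chevE8 1 permE8_1 etaE8_1) 77 (dec8 permE8_1 77) (etaOf etaE8_1 77) = true := by
  decide +kernel

theorem conjE8_1_78 : conjCheck chevE8 (pMonoCol chevE8 1 permE8_1 etaE8_1) 78 (dec8 permE8_1 78) (etaOf etaE8_1 78) = true := by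
  decide +kernel

theorem conjE8_1_79 : conjCheck chevE8 (pMonoCol chevE8 1 permE8_1 etaE8_1) 79 (dec8 permE8_1 79) (etaOf etaE8_1 79) = true := by
  decide +kernel

theorem conjE8_1_80 : conjCheck chevE8 (pMonoCol chevE8 1 permE8_1 etaE8_1) 80 (dec8 permE8_1 80) (etaOf etaE8_1 80) = true := by
  decide +kernel

theorem conjE8_1_81 : conjCheck chevE8 (pMonoCol chevE8 1 permE8_1 etaE8_1) 81 (dec8 permE8_1 81) (etaOf etaE8_1 81) = true := by
  decide +kernel

theorem conjE8_1_82 : conjCheck chevE8 (pMonoCol chevE8 1 permE8_1 etaE8_1) 82 (dec8 permE8_1 82) (etaOf etaE8_1 82) = true := by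
  decide +kernel

theorem conjE8_1_83 : conjCheck chevE8 (pMonoCol chevE8 1 permE8_1 etaE8_1) 83 (dec8 permE8_1 83) (etaOf etaE8_1 83) = true := by
  decide +kernel

theorem conjE8_1_84 : conjCheck chevE8 (pMonoCol chevE8 1 permE8_1 etaE8_1) 84 (dec8 permE8_1 84) (etaOf etaE8_1 84) = true := by
  decide +kernel

theorem conjE8_1_85 : conjCheck chevE8 (pMonoCol chevE8 1 permE8_1 etaE8_1) 85 (dec8 permE8_1 85) (etaOf etaE8_1 85) = true := by
  decide +kernel

theorem conjE8_1_86 : conjCheck chevE8 (pMonoCol chevE8 1 permE8_1 etaE8_1) 86 (dec8 permE8_1 86) (etaOf etaE8_1 86) = true := by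
  decide +kernel

theorem conjE8_1_87 : conjCheck chevE8 (pMonoCol chevE8 1 permE8_1 etaE8_1) 87 (dec8 permE8_1 87) (etaOf etaE8_1 87) = true := by
  decide +kernel

theorem conjE8_1_88 : conjCheck chevE8 (pMonoCol chevE8 1 permE8_1 etaE8_1) 88 (dec8 permE8_1 88) (etaOf etaE8_1 88) = true := by
  decide +kernel

theorem conjE8_1_89 : conjCheck chevE8 (pMonoCol chevE8 1 permE8_1 etaE8_1) 89 (dec8 permE8_1 89) (etaOf etaE8_1 89) = true := by
  decide +kernel

theorem conjE8_1_from60 (s : ℕ) (h1 : 60 ≤ s) (h2 : s < 90) : conjCheck chevE8 (pMonoCol chevE8 1 permE8_1 etaE8_1) s (dec8 permE8_1 s) (etaOf etaE8_1 s) = true := by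
  have h : s = 60 ∨ s = 61 ∨ s = 62 ∨ s = 63 ∨ s = 64 ∨ s = 65 ∨ s = 66 ∨ s = 67 ∨ s = 68 ∨ s = 69 ∨ s = 70 ∨ s = 71 ∨ s = 72 ∨ s = 73 ∨ s = 74 ∨ s = 75 ∨ s = 76 ∨ s = 77 ∨ s = 78 ∨ s = 79 ∨ s = 80 ∨ s = 81 ∨ s = 82 ∨ s = 83 ∨ s = 84 ∨ s = 85 ∨ s = 86 ∨ s = 87 ∨ s = 88 ∨ s = 89 := by omega
  rcases h with rfl | rfl | rfl | rfl | rfl | rfl | rfl | rfl | rfl | rfl | rfl | rfl | rfl | rfl | rfl | rfl | rfl | rfl | rfl | rfl | rfl | rfl | rfl | rfl | rfl | rfl | rfl | rfl | rfl | rfl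
  exacts [conjE8_1_60, conjE8_1_61, conjE8_1_62, conjE8_1_63, conjE8_1_64, conjE8_1_65, conjE8_1_66, conjE8_1_67, conjE8_1_68, conjE8_1_69, conjE8_1_70, conjE8_1_71, conjE8_1_72, conjE8_1_73, conjE8_1_74, conjE8_1_75, conjE8_1_76, conjE8_1_77, conjE8_1_78, conjE8_1_79, conjE8_1_80, conjE8_1_81, conjE8_1_82, conjE8_1_83, conjE8_1_84, conjE8_1_85, conjE8_1_86, conjE8_1_87, conjE8_1_88, conjE8_1_89]

theorem conjE8_1_90 : conjCheck chevE8 (pMonoCol chevE8 1 permE8_1 etaE8_1) 90 (dec8 permE8_1 90) (etaOf etaE8_1 90) = true := by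
  decide +kernel

theorem conjE8_1_91 : conjCheck chevE8 (pMonoCol chevE8 1 permE8_1 etaE8_1) 91 (dec8 permE8_1 91) (etaOf etaE8_1 91) = true := by
  decide +kernel

theorem conjE8_1_92 : conjCheck chevE8 (pMonoCol chevE8 1 permE8_1 etaE8_1) 92 (dec8 permE8_1 92) (etaOf etaE8_1 92) = true := by
  decide +kernel

theorem conjE8_1_93 : conjCheck chevE8 (pMonoCol chevE8 1 permE8_1 etaE8_1) 93 (dec8 permE8_1 93) (etaOf etaE8_1 93) = true := by
  decide +kernel

theorem conjE8_1_94 : conjCheck chevE8 (pMonoCol chevE8 1 permE8_1 etaE8_1) 94 (dec8 permE8_1 94) (etaOf etaE8_1 94) = true := by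
  decide +kernel

theorem conjE8_1_95 : conjCheck chevE8 (pMonoCol chevE8 1 permE8_1 etaE8_1) 95 (dec8 permE8_1 95) (etaOf etaE8_1 95) = true := by
  decide +kernel

theorem conjE8_1_96 : conjCheck chevE8 (pMonoCol chevE8 1 permE8_1 etaE8_1) 96 (dec8 permE8_1 96) (etaOf etaE8_1 96) = true := by
  decide +kernel

theorem conjE8_1_97 : conjCheck chevE8 (pMonoCol chevE8 1 permE8_1 etaE8_1) 97 (dec8 permE8_1 97) (etaOf etaE8_1 97) = true := by
  decide +kernel

theorem conjE8_1_98 : conjCheck chevE8 (pMonoCol chevE8 1 permE8_1 etaE8_1) 98 (dec8 permE8_1 98) (etaOf etaE8_1 98) = true := by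
  decide +kernel

theorem conjE8_1_99 : conjCheck chevE8 (pMonoCol chevE8 1 permE8_1 etaE8_1) 99 (dec8 permE8_1 99) (etaOf etaE8_1 99) = true := by
  decide +kernel

theorem conjE8_1_100 : conjCheck chevE8 (pMonoCol chevE8 1 permE8_1 etaE8_1) 100 (dec8 permE8_1 100) (etaOf etaE8_1 100) = true := by
  decide +kernel

theorem conjE8_1_101 : conjCheck chevE8 (pMonoCol chevE8 1 permE8_1 etaE8_1) 101 (dec8 permE8_1 101) (etaOf etaE8_1 101) = true := by
  decide +kernel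

theorem conjE8_1_102 : conjCheck chevE8 (pMonoCol chevE8 1 permE8_1 etaE8_1) 102 (dec8 permE8_1 102) (etaOf etaE8_1 102) = true := by
  decide +kernel

theorem conjE8_1_103 : conjCheck chevE8 (pMonoCol chevE8 1 permE8_1 etaE8_1) 103 (dec8 permE8_1 103) (etaOf etaE8_1 103) = true := by
  decide +kernel

theorem conjE8_1_104 : conjCheck chevE8 (pMonoCol chevE8 1 permE8_1 etaE8_1) 104 (dec8 permE8_1 104) (etaOf etaE8_1 104) = true := by
  decide +kernel

theorem conjE8_1_105 : conjCheck chevE8 (pMonoCol chevE8 1 permE8_1 etaE8_1) 105 (dec8 permE8_1 105) (etaOf etaE8_1 105) = true := by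
  decide +kernel

theorem conjE8_1_106 : conjCheck chevE8 (pMonoCol chevE8 1 permE8_1 etaE8_1) 106 (dec8 permE8_1 106) (etaOf etaE8_1 106) = true := by
  decide +kernel

theorem conjE8_1_107 : conjCheck chevE8 (pMonoCol chevE8 1 permE8_1 etaE8_1) 107 (dec8 permE8_1 107) (etaOf etaE8_1 107) = true := by
  decide +kernel

theorem conjE8_1_108 : conjCheck chevE8 (pMonoCol chevE8 1 permE8_1 etaE8_1) 108 (dec8 permE8_1 108) (etaOf etaE8_1 108) = true := by
  decide +kernel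

theorem conjE8_1_109 : conjCheck chevE8 (pMonoCol chevE8 1 permE8_1 etaE8_1) 109 (dec8 permE8_1 109) (etaOf etaE8_1 109) = true := by
  decide +kernel

theorem conjE8_1_110 : conjCheck chevE8 (pMonoCol chevE8 1 permE8_1 etaE8_1) 110 (dec8 permE8_1 110) (etaOf etaE8_1 110) = true := by
  decide +kernel

theorem conjE8_1_111 : conjCheck chevE8 (pMonoCol chevE8 1 permE8_1 etaE8_1) 111 (dec8 permE8_1 111) (etaOf etaE8_1 111) = true := by
  decide +kernel

theorem conjE8_1_112 : conjCheck chevE8 (pMonoCol chevE8 1 permE8_1 etaE8_1) 112 (dec8 permE8_1 112) (etaOf etaE8_1 112) = true := by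
  decide +kernel

theorem conjE8_1_113 : conjCheck chevE8 (pMonoCol chevE8 1 permE8_1 etaE8_1) 113 (dec8 permE8_1 113) (etaOf etaE8_1 113) = true := by
  decide +kernel

theorem conjE8_1_114 : conjCheck chevE8 (pMonoCol chevE8 1 permE8_1 etaE8_1) 114 (dec8 permE8_1 114) (etaOf etaE8_1 114) = true := by
  decide +kernel

theorem conjE8_1_115 : conjCheck chevE8 (pMonoCol chevE8 1 permE8_1 etaE8_1) 115 (dec8 permE8_1 115) (etaOf etaE8_1 115) = true := by
  decide +kernel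

theorem conjE8_1_116 : conjCheck chevE8 (pMonoCol chevE8 1 permE8_1 etaE8_1) 116 (dec8 permE8_1 116) (etaOf etaE8_1 116) = true := by
  decide +kernel

theorem conjE8_1_117 : conjCheck chevE8 (pMonoCol chevE8 1 permE8_1 etaE8_1) 117 (dec8 permE8_1 117) (etaOf etaE8_1 117) = true := by
  decide +kernel

theorem conjE8_1_118 : conjCheck chevE8 (pMonoCol chevE8 1 permE8_1 etaE8_1) 118 (dec8 permE8_1 118) (etaOf etaE8_1 118) = true := by
  decide +kernel

theorem conjE8_1_119 : conjCheck chevE8 (pMonoCol chevE8 1 permE8_1 etaE8_1) 119 (dec8 permE8_1 119) (etaOf etaE8_1 119) = true := by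
  decide +kernel

theorem conjE8_1_from90 (s : ℕ) (h1 : 90 ≤ s) (h2 : s < 120) : conjCheck chevE8 (pMonoCol chevE8 1 permE8_1 etaE8_1) s (dec8 permE8_1 s) (etaOf etaE8_1 s) = true := by
  have h : s = 90 ∨ s = 91 ∨ s = 92 ∨ s = 93 ∨ s = 94 ∨ s = 95 ∨ s = 96 ∨ s = 97 ∨ s = 98 ∨ s = 99 ∨ s = 100 ∨ s = 101 ∨ s = 102 ∨ s = 103 ∨ s = 104 ∨ s = 105 ∨ s = 106 ∨ s = 107 ∨ s = 108 ∨ s = 109 ∨ s = 110 ∨ s = 111 ∨ s = 112 ∨ s = 113 ∨ s = 114 ∨ s = 115 ∨ s = 116 ∨ s = 117 ∨ s = 118 ∨ s = 119 := by omega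
  rcases h with rfl | rfl | rfl | rfl | rfl | rfl | rfl | rfl | rfl | rfl | rfl | rfl | rfl | rfl | rfl | rfl | rfl | rfl | rfl | rfl | rfl | rfl | rfl | rfl | rfl | rfl | rfl | rfl | rfl | rfl
  exacts [conjE8_1_90, conjE8_1_91, conjE8_1_92, conjE8_1_93, conjE8_1_94, conjE8_1_95, conjE8_1_96, conjE8_1_97, conjE8_1_98, conjE8_1_99, conjE8_1_100, conjE8_1_101, conjE8_1_102, conjE8_1_103, conjE8_1_104, conjE8_1_105, conjE8_1_106, conjE8_1_107, conjE8_1_108, conjE8_1_109, conjE8_1_110, conjE8_1_111, conjE8_1_112, conjE8_1_113, conjE8_1_114, conjE8_1_115, conjE8_1_116, conjE8_1_117, conjE8_1_118, conjE8_1_119]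

end Cfsg.Agent.Helper18
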