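import Cfsg.Agent.Lib.Helper18.ConjData

set_option autoImplicit false
set_option maxRecDepth 100000
set_option Elab.async false

namespace Cfsg.Agent.Helper18

open Cfsg.Lie

theorem conjE8_1_120 : conjCheck chevE8 (pMonoCol chevE8 1 permE8_1 etaE8_1) 120 (dec8 permE8_1 120) (etaOf etaE8_1 120) = true := by
  decide +kernel

theorem conjE8_1_121 : conjCheck chevE8 (pMonoCol chevE8 1 permE8_1 etaE8_1) 121 (dec8 permE8_1 121) (etaOf etaE8_1 121) = true := by
  decide +kernel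

theorem conjE8_1_122 : conjCheck chevE8 (pMonoCol chevE8 1 permE8_1 etaE8_1) 122 (dec8 permE8_1 122) (etaOf etaE8_1 122) = true := by
  decide +kernel

theorem conjE8_1_123 : conjCheck chevE8 (pMonoCol chevE8 1 permE8_1 etaE8_1) 123 (dec8 permE8_1 123) (etaOf etaE8_1 123) = true := by
  decide +kernel

theorem conjE8_1_124 : conjCheck chevE8 (pMonoCol chevE8 1 permE8_1 etaE8_1) 124 (dec8 permE8_1 124) (etaOf etaE8_1 124) = true := by
  decide +kernel

theorem conjE8_1_125 : conjCheck chevE8 (pMonoCol chevE8 1 permE8_1 etaE8_1) 125 (dec8 permE8_1 125) (etaOf etaE8_1 125) = true := by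
  decide +kernel

theorem conjE8_1_126 : conjCheck chevE8 (pMonoCol chevE8 1 permE8_1 etaE8_1) 126 (dec8 permE8_1 126) (etaOf etaE8_1 126) = true := by
  decide +kernel

theorem conjE8_1_127 : conjCheck chevE8 (pMonoCol chevE8 1 permE8_1 etaE8_1) 127 (dec8 permE8_1 127) (etaOf etaE8_1 127) = true := by
  decide +kernel

theorem conjE8_1_128 : conjCheck chevE8 (pMonoCol chevE8 1 permE8_1 etaE8_1) 128 (dec8 permE8_1 128) (etaOf etaE8_1 128) = true := by
  decide +kernel

theorem conjE8_1_129 : conjCheck chevE8 (pMonoCol chevE8 1 permE8_1 etaE8_1) 129 (dec8 permE8_1 129) (etaOf etaE8_1 129) = true := by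
  decide +kernel

theorem conjE8_1_130 : conjCheck chevE8 (pMonoCol chevE8 1 permE8_1 etaE8_1) 130 (dec8 permE8_1 130) (etaOf etaE8_1 130) = true := by
  decide +kernel

theorem conjE8_1_131 : conjCheck chevE8 (pMonoCol chevE8 1 permE8_1 etaE8_1) 131 (dec8 permE8_1 131) (etaOf etaE8_1 131) = true := by
  decide +kernel

theorem conjE8_1_132 : conjCheck chevE8 (pMonoCol chevE8 1 permE8_1 etaE8_1) 132 (dec8 permE8_1 132) (etaOf etaE8_1 132) = true := by
  decide +kernel

theorem conjE8_1_133 : conjCheck chevE8 (pMonoCol chevE8 1 permE8_1 etaE8_1) 133 (dec8 permE8_1 133) (etaOf etaE8_1 133) = true := by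
  decide +kernel

theorem conjE8_1_134 : conjCheck chevE8 (pMonoCol chevE8 1 permE8_1 etaE8_1) 134 (dec8 permE8_1 134) (etaOf etaE8_1 134) = true := by
  decide +kernel

theorem conjE8_1_135 : conjCheck chevE8 (pMonoCol chevE8 1 permE8_1 etaE8_1) 135 (dec8 permE8_1 135) (etaOf etaE8_1 135) = true := by
  decide +kernel

theorem conjE8_1_136 : conjCheck chevE8 (pMonoCol chevE8 1 permE8_1 etaE8_1) 136 (dec8 permE8_1 136) (etaOf etaE8_1 136) = true := by
  decide +kernel

theorem conjE8_1_137 : conjCheck chevE8 (pMonoCol chevE8 1 permE8_1 etaE8_1) 137 (dec8 permE8_1 137) (etaOf etaE8_1 137) = true := by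
  decide +kernel

theorem conjE8_1_138 : conjCheck chevE8 (pMonoCol chevE8 1 permE8_1 etaE8_1) 138 (dec8 permE8_1 138) (etaOf etaE8_1 138) = true := by
  decide +kernel

theorem conjE8_1_139 : conjCheck chevE8 (pMonoCol chevE8 1 permE8_1 etaE8_1) 139 (dec8 permE8_1 139) (etaOf etaE8_1 139) = true := by
  decide +kernel

theorem conjE8_1_140 : conjCheck chevE8 (pMonoCol chevE8 1 permE8_1 etaE8_1) 140 (dec8 permE8_1 140) (etaOf etaE8_1 140) = true := by
  decide +kernel

theorem conjE8_1_141 : conjCheck chevE8 (pMonoCol chevE8 1 permE8_1 etaE8_1) 141 (dec8 permE8_1 141) (etaOf etaE8_1 141) = true := by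
  decide +kernel

theorem conjE8_1_142 : conjCheck chevE8 (pMonoCol chevE8 1 permE8_1 etaE8_1) 142 (dec8 permE8_1 142) (etaOf etaE8_1 142) = true := by
  decide +kernel

theorem conjE8_1_143 : conjCheck chevE8 (pMonoCol chevE8 1 permE8_1 etaE8_1) 143 (dec8 permE8_1 143) (etaOf etaE8_1 143) = true := by
  decide +kernel

theorem conjE8_1_144 : conjCheck chevE8 (pMonoCol chevE8 1 permE8_1 etaE8_1) 144 (dec8 permE8_1 144) (etaOf etaE8_1 144) = true := by
  decide +kernel

theorem conjE8_1_145 : conjCheck chevE8 (pMonoCol chevE8 1 permE8_1 etaE8_1) 145 (dec8 permE8_1 145) (etaOf etaE8_1 145) = true := by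
  decide +kernel

theorem conjE8_1_146 : conjCheck chevE8 (pMonoCol chevE8 1 permE8_1 etaE8_1) 146 (dec8 permE8_1 146) (etaOf etaE8_1 146) = true := by
  decide +kernel

theorem conjE8_1_147 : conjCheck chevE8 (pMonoCol chevE8 1 permE8_1 etaE8_1) 147 (dec8 permE8_1 147) (etaOf etaE8_1 147) = true := by
  decide +kernel

theorem conjE8_1_148 : conjCheck chevE8 (pMonoCol chevE8 1 permE8_1 etaE8_1) 148 (dec8 permE8_1 148) (etaOf etaE8_1 148) = true := by
  decide +kernel

theorem conjE8_1_149 : conjCheck chevE8 (pMonoCol chevE8 1 permE8_1 etaE8_1) 149 (dec8 permE8_1 149) (etaOf etaE8_1 149) = true := by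
  decide +kernel

theorem conjE8_1_from120 (s : ℕ) (h1 : 120 ≤ s) (h2 : s < 150) : conjCheck chevE8 (pMonoCol chevE8 1 permE8_1 etaE8_1) s (dec8 permE8_1 s) (etaOf etaE8_1 s) = true := by
  have h : s = 120 ∨ s = 121 ∨ s = 122 ∨ s = 123 ∨ s = 124 ∨ s = 125 ∨ s = 126 ∨ s = 127 ∨ s = 128 ∨ s = 129 ∨ s = 130 ∨ s = 131 ∨ s = 132 ∨ s = 133 ∨ s = 134 ∨ s = 135 ∨ s = 136 ∨ s = 137 ∨ s = 138 ∨ s = 139 ∨ s = 140 ∨ s = 141 ∨ s = 142 ∨ s = 143 ∨ s = 144 ∨ s = 145 ∨ s = 146 ∨ s = 147 ∨ s = 148 ∨ s = 149 := by omega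
  rcases h with rfl | rfl | rfl | rfl | rfl | rfl | rfl | rfl | rfl | rfl | rfl | rfl | rfl | rfl | rfl | rfl | rfl | rfl | rfl | rfl | rfl | rfl | rfl | rfl | rfl | rfl | rfl | rfl | rfl | rfl
  exacts [conjE8_1_120, conjE8_1_121, conjE8_1_122, conjE8_1_123, conjE8_1_124, conjE8_1_125, conjE8_1_126, conjE8_1_127, conjE8_1_128, conjE8_1_129, conjE8_1_130, conjE8_1_131, conjE8_1_132, conjE8_1_133, conjE8_1_134, conjE8_1_135, conjE8_1_136, conjE8_1_137, conjE8_1_138, conjE8_1_139, conjE8_1_140, conjE8_1_141, conjE8_1_142, conjE8_1_143, conjE8_1_144, conjE8_1_145, conjE8_1_146, conjE8_1_147, conjE8_1_148, conjE8_1_149]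

theorem conjE8_1_150 : conjCheck chevE8 (pMonoCol chevE8 1 permE8_1 etaE8_1) 150 (dec8 permE8_1 150) (etaOf etaE8_1 150) = true := by
  decide +kernel

theorem conjE8_1_151 : conjCheck chevE8 (pMonoCol chevE8 1 permE8_1 etaE8_1) 151 (dec8 permE8_1 151) (etaOf etaE8_1 151) = true := by
  decide +kernel

theorem conjE8_1_152 : conjCheck chevE8 (pMonoCol chevE8 1 permE8_1 etaE8_1) 152 (dec8 permE8_1 152) (etaOf etaE8_1 152) = true := by
  decide +kernel

theorem conjE8_1_153 : conjCheck chevE8 (pMonoCol chevE8 1 permE8_1 etaE8_1) 153 (dec8 permE8_1 153) (etaOf etaE8_1 153) = true := by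
  decide +kernel

theorem conjE8_1_154 : conjCheck chevE8 (pMonoCol chevE8 1 permE8_1 etaE8_1) 154 (dec8 permE8_1 154) (etaOf etaE8_1 154) = true := by
  decide +kernel

theorem conjE8_1_155 : conjCheck chevE8 (pMonoCol chevE8 1 permE8_1 etaE8_1) 155 (dec8 permE8_1 155) (etaOf etaE8_1 155) = true := by
  decide +kernel

theorem conjE8_1_156 : conjCheck chevE8 (pMonoCol chevE8 1 permE8_1 etaE8_1) 156 (dec8 permE8_1 156) (etaOf etaE8_1 156) = true := by
  decide +kernel

theorem conjE8_1_157 : conjCheck chevE8 (pMonoCol chevE8 1 permE8_1 etaE8_1) 157 (dec8 permE8_1 157) (etaOf etaE8_1 157) = true := by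
  decide +kernel

theorem conjE8_1_158 : conjCheck chevE8 (pMonoCol chevE8 1 permE8_1 etaE8_1) 158 (dec8 permE8_1 158) (etaOf etaE8_1 158) = true := by
  decide +kernel

theorem conjE8_1_159 : conjCheck chevE8 (pMonoCol chevE8 1 permE8_1 etaE8_1) 159 (dec8 permE8_1 159) (etaOf etaE8_1 159) = true := by
  decide +kernel

theorem conjE8_1_160 : conjCheck chevE8 (pMonoCol chevE8 1 permE8_1 etaE8_1) 160 (dec8 permE8_1 160) (etaOf etaE8_1 160) = true := by
  decide +kernel

theorem conjE8_1_161 : conjCheck chevE8 (pMonoCol chevE8 1 permE8_1 etaE8_1) 161 (dec8 permE8_1 161) (etaOf etaE8_1 161) = true := by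
  decide +kernel

theorem conjE8_1_162 : conjCheck chevE8 (pMonoCol chevE8 1 permE8_1 etaE8_1) 162 (dec8 permE8_1 162) (etaOf etaE8_1 162) = true := by
  decide +kernel

theorem conjE8_1_163 : conjCheck chevE8 (pMonoCol chevE8 1 permE8_1 etaE8_1) 163 (dec8 permE8_1 163) (etaOf etaE8_1 163) = true := by
  decide +kernel

theorem conjE8_1_164 : conjCheck chevE8 (pMonoCol chevE8 1 permE8_1 etaE8_1) 164 (dec8 permE8_1 164) (etaOf etaE8_1 164) = true := by
  decide +kernel

theorem conjE8_1_165 : conjCheck chevE8 (pMonoCol chevE8 1 permE8_1 etaE8_1) 165 (dec8 permE8_1 165) (etaOf etaE8_1 165) = true := by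
  decide +kernel

theorem conjE8_1_166 : conjCheck chevE8 (pMonoCol chevE8 1 permE8_1 etaE8_1) 166 (dec8 permE8_1 166) (etaOf etaE8_1 166) = true := by
  decide +kernel

theorem conjE8_1_167 : conjCheck chevE8 (pMonoCol chevE8 1 permE8_1 etaE8_1) 167 (dec8 permE8_1 167) (etaOf etaE8_1 167) = true := by
  decide +kernel

theorem conjE8_1_168 : conjCheck chevE8 (pMonoCol chevE8 1 permE8_1 etaE8_1) 168 (dec8 permE8_1 168) (etaOf etaE8_1 168) = true := by
  decide +kernel

theorem conjE8_1_169 : conjCheck chevE8 (pMonoCol chevE8 1 permE8_1 etaE8_1) 169 (dec8 permE8_1 169) (etaOf etaE8_1 169) = true := by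
  decide +kernel

theorem conjE8_1_170 : conjCheck chevE8 (pMonoCol chevE8 1 permE8_1 etaE8_1) 170 (dec8 permE8_1 170) (etaOf etaE8_1 170) = true := by
  decide +kernel

theorem conjE8_1_171 : conjCheck chevE8 (pMonoCol chevE8 1 permE8_1 etaE8_1) 171 (dec8 permE8_1 171) (etaOf etaE8_1 171) = true := by
  decide +kernel

theorem conjE8_1_172 : conjCheck chevE8 (pMonoCol chevE8 1 permE8_1 etaE8_1) 172 (dec8 permE8_1 172) (etaOf etaE8_1 172) = true := by
  decide +kernel

theorem conjE8_1_173 : conjCheck chevE8 (pMonoCol chevE8 1 permE8_1 etaE8_1) 173 (dec8 permE8_1 173) (etaOf etaE8_1 173) = true := by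
  decide +kernel

theorem conjE8_1_174 : conjCheck chevE8 (pMonoCol chevE8 1 permE8_1 etaE8_1) 174 (dec8 permE8_1 174) (etaOf etaE8_1 174) = true := by
  decide +kernel

theorem conjE8_1_175 : conjCheck chevE8 (pMonoCol chevE8 1 permE8_1 etaE8_1) 175 (dec8 permE8_1 175) (etaOf etaE8_1 175) = true := by
  decide +kernel

theorem conjE8_1_176 : conjCheck chevE8 (pMonoCol chevE8 1 permE8_1 etaE8_1) 176 (dec8 permE8_1 176) (etaOf etaE8_1 176) = true := by
  decide +kernel

theorem conjE8_1_177 : conjCheck chevE8 (pMonoCol chevE8 1 permE8_1 etaE8_1) 177 (dec8 permE8_1 177) (etaOf etaE8_1 177) = true := by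
  decide +kernel

theorem conjE8_1_178 : conjCheck chevE8 (pMonoCol chevE8 1 permE8_1 etaE8_1) 178 (dec8 permE8_1 178) (etaOf etaE8_1 178) = true := by
  decide +kernel

theorem conjE8_1_179 : conjCheck chevE8 (pMonoCol chevE8 1 permE8_1 etaE8_1) 179 (dec8 permE8_1 179) (etaOf etaE8_1 179) = true := by
  decide +kernel

theorem conjE8_1_from150 (s : ℕ) (h1 : 150 ≤ s) (h2 : s < 180) : conjCheck chevE8 (pMonoCol chevE8 1 permE8_1 etaE8_1) s (dec8 permE8_1 s) (etaOf etaE8_1 s) = true := by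
  have h : s = 150 ∨ s = 151 ∨ s = 152 ∨ s = 153 ∨ s = 154 ∨ s = 155 ∨ s = 156 ∨ s = 157 ∨ s = 158 ∨ s = 159 ∨ s = 160 ∨ s = 161 ∨ s = 162 ∨ s = 163 ∨ s = 164 ∨ s = 165 ∨ s = 166 ∨ s = 167 ∨ s = 168 ∨ s = 169 ∨ s = 170 ∨ s = 171 ∨ s = 172 ∨ s = 173 ∨ s = 174 ∨ s = 175 ∨ s = 176 ∨ s = 177 ∨ s = 178 ∨ s = 179 := by omega
  rcases h with rfl | rfl | rfl | rfl | rfl | rfl | rfl | rfl | rfl | rfl | rfl | rfl | rfl | rfl | rfl | rfl | rfl | rfl | rfl | rfl | rfl | rfl | rfl | rfl | rfl | rfl | rfl | rfl | rfl | rfl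
  exacts [conjE8_1_150, conjE8_1_151, conjE8_1_152, conjE8_1_153, conjE8_1_154, conjE8_1_155, conjE8_1_156, conjE8_1_157, conjE8_1_158, conjE8_1_159, conjE8_1_160, conjE8_1_161, conjE8_1_162, conjE8_1_163, conjE8_1_164, conjE8_1_165, conjE8_1_166, conjE8_1_167, conjE8_1_168, conjE8_1_169, conjE8_1_170, conjE8_1_171, conjE8_1_172, conjE8_1_173, conjE8_1_174, conjE8_1_175, conjE8_1_176, conjE8_1_177, conjE8_1_178, conjE8_1_179]

end Cfsg.Agent.Helper18
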