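import Cfsg.Agent.Lib.Helper18.ConjData

set_option autoImplicit false
set_option maxRecDepth 100000

namespace Cfsg.Agent.Helper18

open Cfsg.Lie

theorem conjE8_1_180 : conjCheck chevE8 (pMonoCol chevE8 1 permE8_1 etaE8_1) 180 (dec8 permE8_1 180) (etaOf etaE8_1 180) = true := by
  decide +kernel

theorem conjE8_1_181 : conjCheck chevE8 (pMonoCol chevE8 1 permE8_1 etaE8_1) 181 (dec8 permE8_1 181) (etaOf etaE8_1 181) = true := by
  decide +kernel

theorem conjE8_1_182 : conjCheck chevE8 (pMonoCol chevE8 1 permE8_1 etaE8_1) 182 (dec8 permE8_1 182) (etaOf etaE8_1 182) = true := by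
  decide +kernel

theorem conjE8_1_183 : conjCheck chevE8 (pMonoCol chevE8 1 permE8_1 etaE8_1) 183 (dec8 permE8_1 183) (etaOf etaE8_1 183) = true := by
  decide +kernel

theorem conjE8_1_184 : conjCheck chevE8 (pMonoCol chevE8 1 permE8_1 etaE8_1) 184 (dec8 permE8_1 184) (etaOf etaE8_1 184) = true := by
  decide +kernel

theorem conjE8_1_185 : conjCheck chevE8 (pMonoCol chevE8 1 permE8_1 etaE8_1) 185 (dec8 permE8_1 185) (etaOf etaE8_1 185) = true := by
  decide +kernel

theorem conjE8_1_186 : conjCheck chevE8 (pMonoCol chevE8 1 permE8_1 etaE8_1) 186 (dec8 permE8_1 186) (etaOf etaE8_1 186) = true := by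
  decide +kernel

theorem conjE8_1_187 : conjCheck chevE8 (pMonoCol chevE8 1 permE8_1 etaE8_1) 187 (dec8 permE8_1 187) (etaOf etaE8_1 187) = true := by
  decide +kernel

theorem conjE8_1_188 : conjCheck chevE8 (pMonoCol chevE8 1 permE8_1 etaE8_1) 188 (dec8 permE8_1 188) (etaOf etaE8_1 188) = true := by
  decide +kernel

theorem conjE8_1_189 : conjCheck chevE8 (pMonoCol chevE8 1 permE8_1 etaE8_1) 189 (dec8 permE8_1 189) (etaOf etaE8_1 189) = true := by
  decide +kernel

theorem conjE8_1_190 : conjCheck chevE8 (pMonoCol chevE8 1 permE8_1 etaE8_1) 190 (dec8 permE8_1 190) (etaOf etaE8_1 190) = true := by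
  decide +kernel

theorem conjE8_1_191 : conjCheck chevE8 (pMonoCol chevE8 1 permE8_1 etaE8_1) 191 (dec8 permE8_1 191) (etaOf etaE8_1 191) = true := by
  decide +kernel

theorem conjE8_1_192 : conjCheck chevE8 (pMonoCol chevE8 1 permE8_1 etaE8_1) 192 (dec8 permE8_1 192) (etaOf etaE8_1 192) = true := by
  decide +kernel

theorem conjE8_1_193 : conjCheck chevE8 (pMonoCol chevE8 1 permE8_1 etaE8_1) 193 (dec8 permE8_1 193) (etaOf etaE8_1 193) = true := by
  decide +kernel

theorem conjE8_1_194 : conjCheck chevE8 (pMonoCol chevE8 1 permE8_1 etaE8_1) 194 (dec8 permE8_1 194) (etaOf etaE8_1 194) = true := by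
  decide +kernel

theorem conjE8_1_195 : conjCheck chevE8 (pMonoCol chevE8 1 permE8_1 etaE8_1) 195 (dec8 permE8_1 195) (etaOf etaE8_1 195) = true := by
  decide +kernel

theorem conjE8_1_196 : conjCheck chevE8 (pMonoCol chevE8 1 permE8_1 etaE8_1) 196 (dec8 permE8_1 196) (etaOf etaE8_1 196) = true := by
  decide +kernel

theorem conjE8_1_197 : conjCheck chevE8 (pMonoCol chevE8 1 permE8_1 etaE8_1) 197 (dec8 permE8_1 197) (etaOf etaE8_1 197) = true := by
  decide +kernel

theorem conjE8_1_198 : conjCheck chevE8 (pMonoCol chevE8 1 permE8_1 etaE8_1) 198 (dec8 permE8_1 198) (etaOf etaE8_1 198) = true := by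
  decide +kernel

theorem conjE8_1_199 : conjCheck chevE8 (pMonoCol chevE8 1 permE8_1 etaE8_1) 199 (dec8 permE8_1 199) (etaOf etaE8_1 199) = true := by
  decide +kernel

theorem conjE8_1_200 : conjCheck chevE8 (pMonoCol chevE8 1 permE8_1 etaE8_1) 200 (dec8 permE8_1 200) (etaOf etaE8_1 200) = true := by
  decide +kernel

theorem conjE8_1_201 : conjCheck chevE8 (pMonoCol chevE8 1 permE8_1 etaE8_1) 201 (dec8 permE8_1 201) (etaOf etaE8_1 201) = true := by
  decide +kernel

theorem conjE8_1_202 : conjCheck chevE8 (pMonoCol chevE8 1 permE8_1 etaE8_1) 202 (dec8 permE8_1 202) (etaOf etaE8_1 202) = true := by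
  decide +kernel

theorem conjE8_1_203 : conjCheck chevE8 (pMonoCol chevE8 1 permE8_1 etaE8_1) 203 (dec8 permE8_1 203) (etaOf etaE8_1 203) = true := by
  decide +kernel

theorem conjE8_1_204 : conjCheck chevE8 (pMonoCol chevE8 1 permE8_1 etaE8_1) 204 (dec8 permE8_1 204) (etaOf etaE8_1 204) = true := by
  decide +kernel

theorem conjE8_1_205 : conjCheck chevE8 (pMonoCol chevE8 1 permE8_1 etaE8_1) 205 (dec8 permE8_1 205) (etaOf etaE8_1 205) = true := by
  decide +kernel

theorem conjE8_1_206 : conjCheck chevE8 (pMonoCol chevE8 1 permE8_1 etaE8_1) 206 (dec8 permE8_1 206) (etaOf etaE8_1 206) = true := by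
  decide +kernel

theorem conjE8_1_207 : conjCheck chevE8 (pMonoCol chevE8 1 permE8_1 etaE8_1) 207 (dec8 permE8_1 207) (etaOf etaE8_1 207) = true := by
  decide +kernel

theorem conjE8_1_208 : conjCheck chevE8 (pMonoCol chevE8 1 permE8_1 etaE8_1) 208 (dec8 permE8_1 208) (etaOf etaE8_1 208) = true := by
  decide +kernel

theorem conjE8_1_209 : conjCheck chevE8 (pMonoCol chevE8 1 permE8_1 etaE8_1) 209 (dec8 permE8_1 209) (etaOf etaE8_1 209) = true := by
  decide +kernel

theorem conjE8_1_from180 (s : ℕ) (h1 : 180 ≤ s) (h2 : s < 210) : conjCheck chevE8 (pMonoCol chevE8 1 permE8_1 etaE8_1) s (dec8 permE8_1 s) (etaOf etaE8_1 s) = true := by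
  have h : s = 180 ∨ s = 181 ∨ s = 182 ∨ s = 183 ∨ s = 184 ∨ s = 185 ∨ s = 186 ∨ s = 187 ∨ s = 188 ∨ s = 189 ∨ s = 190 ∨ s = 191 ∨ s = 192 ∨ s = 193 ∨ s = 194 ∨ s = 195 ∨ s = 196 ∨ s = 197 ∨ s = 198 ∨ s = 199 ∨ s = 200 ∨ s = 201 ∨ s = 202 ∨ s = 203 ∨ s = 204 ∨ s = 205 ∨ s = 206 ∨ s = 207 ∨ s = 208 ∨ s = 209 := by omega
  rcases h with rfl | rfl | rfl | rfl | rfl | rfl | rfl | rfl | rfl | rfl | rfl | rfl | rfl | rfl | rfl | rfl | rfl | rfl | rfl | rfl | rfl | rfl | rfl | rfl | rfl | rfl | rfl | rfl | rfl | rfl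
  exacts [conjE8_1_180, conjE8_1_181, conjE8_1_182, conjE8_1_183, conjE8_1_184, conjE8_1_185, conjE8_1_186, conjE8_1_187, conjE8_1_188, conjE8_1_189, conjE8_1_190, conjE8_1_191, conjE8_1_192, conjE8_1_193, conjE8_1_194, conjE8_1_195, conjE8_1_196, conjE8_1_197, conjE8_1_198, conjE8_1_199, conjE8_1_200, conjE8_1_201, conjE8_1_202, conjE8_1_203, conjE8_1_204, conjE8_1_205, conjE8_1_206, conjE8_1_207, conjE8_1_208, conjE8_1_209]

theorem conjE8_1_210 : conjCheck chevE8 (pMonoCol chevE8 1 permE8_1 etaE8_1) 210 (dec8 permE8_1 210) (etaOf etaE8_1 210) = true := by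
  decide +kernel

theorem conjE8_1_211 : conjCheck chevE8 (pMonoCol chevE8 1 permE8_1 etaE8_1) 211 (dec8 permE8_1 211) (etaOf etaE8_1 211) = true := by
  decide +kernel

theorem conjE8_1_212 : conjCheck chevE8 (pMonoCol chevE8 1 permE8_1 etaE8_1) 212 (dec8 permE8_1 212) (etaOf etaE8_1 212) = true := by
  decide +kernel

theorem conjE8_1_213 : conjCheck chevE8 (pMonoCol chevE8 1 permE8_1 etaE8_1) 213 (dec8 permE8_1 213) (etaOf etaE8_1 213) = true := by
  decide +kernel

theorem conjE8_1_214 : conjCheck chevE8 (pMonoCol chevE8 1 permE8_1 etaE8_1) 214 (dec8 permE8_1 214) (etaOf etaE8_1 214) = true := by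
  decide +kernel

theorem conjE8_1_215 : conjCheck chevE8 (pMonoCol chevE8 1 permE8_1 etaE8_1) 215 (dec8 permE8_1 215) (etaOf etaE8_1 215) = true := by
  decide +kernel

theorem conjE8_1_216 : conjCheck chevE8 (pMonoCol chevE8 1 permE8_1 etaE8_1) 216 (dec8 permE8_1 216) (etaOf etaE8_1 216) = true := by
  decide +kernel

theorem conjE8_1_217 : conjCheck chevE8 (pMonoCol chevE8 1 permE8_1 etaE8_1) 217 (dec8 permE8_1 217) (etaOf etaE8_1 217) = true := by
  decide +kernel

theorem conjE8_1_218 : conjCheck chevE8 (pMonoCol chevE8 1 permE8_1 etaE8_1) 218 (dec8 permE8_1 218) (etaOf etaE8_1 218) = true := by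
  decide +kernel

theorem conjE8_1_219 : conjCheck chevE8 (pMonoCol chevE8 1 permE8_1 etaE8_1) 219 (dec8 permE8_1 219) (etaOf etaE8_1 219) = true := by
  decide +kernel

theorem conjE8_1_220 : conjCheck chevE8 (pMonoCol chevE8 1 permE8_1 etaE8_1) 220 (dec8 permE8_1 220) (etaOf etaE8_1 220) = true := by
  decide +kernel

theorem conjE8_1_221 : conjCheck chevE8 (pMonoCol chevE8 1 permE8_1 etaE8_1) 221 (dec8 permE8_1 221) (etaOf etaE8_1 221) = true := by
  decide +kernel

theorem conjE8_1_222 : conjCheck chevE8 (pMonoCol chevE8 1 permE8_1 etaE8_1) 222 (dec8 permE8_1 222) (etaOf etaE8_1 222) = true := by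
  decide +kernel

theorem conjE8_1_223 : conjCheck chevE8 (pMonoCol chevE8 1 permE8_1 etaE8_1) 223 (dec8 permE8_1 223) (etaOf etaE8_1 223) = true := by
  decide +kernel

theorem conjE8_1_224 : conjCheck chevE8 (pMonoCol chevE8 1 permE8_1 etaE8_1) 224 (dec8 permE8_1 224) (etaOf etaE8_1 224) = true := by
  decide +kernel

theorem conjE8_1_225 : conjCheck chevE8 (pMonoCol chevE8 1 permE8_1 etaE8_1) 225 (dec8 permE8_1 225) (etaOf etaE8_1 225) = true := by
  decide +kernel

theorem conjE8_1_226 : conjCheck chevE8 (pMonoCol chevE8 1 permE8_1 etaE8_1) 226 (dec8 permE8_1 226) (etaOf etaE8_1 226) = true := by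
  decide +kernel

theorem conjE8_1_227 : conjCheck chevE8 (pMonoCol chevE8 1 permE8_1 etaE8_1) 227 (dec8 permE8_1 227) (etaOf etaE8_1 227) = true := by
  decide +kernel

theorem conjE8_1_228 : conjCheck chevE8 (pMonoCol chevE8 1 permE8_1 etaE8_1) 228 (dec8 permE8_1 228) (etaOf etaE8_1 228) = true := by
  decide +kernel

theorem conjE8_1_229 : conjCheck chevE8 (pMonoCol chevE8 1 permE8_1 etaE8_1) 229 (dec8 permE8_1 229) (etaOf etaE8_1 229) = true := by
  decide +kernel

theorem conjE8_1_230 : conjCheck chevE8 (pMonoCol chevE8 1 permE8_1 etaE8_1) 230 (dec8 permE8_1 230) (etaOf etaE8_1 230) = true := by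
  decide +kernel

theorem conjE8_1_231 : conjCheck chevE8 (pMonoCol chevE8 1 permE8_1 etaE8_1) 231 (dec8 permE8_1 231) (etaOf etaE8_1 231) = true := by
  decide +kernel

theorem conjE8_1_232 : conjCheck chevE8 (pMonoCol chevE8 1 permE8_1 etaE8_1) 232 (dec8 permE8_1 232) (etaOf etaE8_1 232) = true := by
  decide +kernel

theorem conjE8_1_233 : conjCheck chevE8 (pMonoCol chevE8 1 permE8_1 etaE8_1) 233 (dec8 permE8_1 233) (etaOf etaE8_1 233) = true := by
  decide +kernel

theorem conjE8_1_234 : conjCheck chevE8 (pMonoCol chevE8 1 permE8_1 etaE8_1) 234 (dec8 permE8_1 234) (etaOf etaE8_1 234) = true := by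
  decide +kernel

theorem conjE8_1_235 : conjCheck chevE8 (pMonoCol chevE8 1 permE8_1 etaE8_1) 235 (dec8 permE8_1 235) (etaOf etaE8_1 235) = true := by
  decide +kernel

theorem conjE8_1_236 : conjCheck chevE8 (pMonoCol chevE8 1 permE8_1 etaE8_1) 236 (dec8 permE8_1 236) (etaOf etaE8_1 236) = true := by
  decide +kernel

theorem conjE8_1_237 : conjCheck chevE8 (pMonoCol chevE8 1 permE8_1 etaE8_1) 237 (dec8 permE8_1 237) (etaOf etaE8_1 237) = true := by
  decide +kernel

theorem conjE8_1_238 : conjCheck chevE8 (pMonoCol chevE8 1 permE8_1 etaE8_1) 238 (dec8 permE8_1 238) (etaOf etaE8_1 238) = true := by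
  decide +kernel

theorem conjE8_1_239 : conjCheck chevE8 (pMonoCol chevE8 1 permE8_1 etaE8_1) 239 (dec8 permE8_1 239) (etaOf etaE8_1 239) = true := by
  decide +kernel

theorem conjE8_1_from210 (s : ℕ) (h1 : 210 ≤ s) (h2 : s < 240) : conjCheck chevE8 (pMonoCol chevE8 1 permE8_1 etaE8_1) s (dec8 permE8_1 s) (etaOf etaE8_1 s) = true := by
  have h : s = 210 ∨ s = 211 ∨ s = 212 ∨ s = 213 ∨ s = 214 ∨ s = 215 ∨ s = 216 ∨ s = 217 ∨ s = 218 ∨ s = 219 ∨ s = 220 ∨ s = 221 ∨ s = 222 ∨ s = 223 ∨ s = 224 ∨ s = 225 ∨ s = 226 ∨ s = 227 ∨ s = 228 ∨ s = 229 ∨ s = 230 ∨ s = 231 ∨ s = 232 ∨ s = 233 ∨ s = 234 ∨ s = 235 ∨ s = 236 ∨ s = 237 ∨ s = 238 ∨ s = 239 := by omega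
  rcases h with rfl | rfl | rfl | rfl | rfl | rfl | rfl | rfl | rfl | rfl | rfl | rfl | rfl | rfl | rfl | rfl | rfl | rfl | rfl | rfl | rfl | rfl | rfl | rfl | rfl | rfl | rfl | rfl | rfl | rfl
  exacts [conjE8_1_210, conjE8_1_211, conjE8_1_212, conjE8_1_213, conjE8_1_214, conjE8_1_215, conjE8_1_216, conjE8_1_217, conjE8_1_218, conjE8_1_219, conjE8_1_220, conjE8_1_221, conjE8_1_222, conjE8_1_223, conjE8_1_224, conjE8_1_225, conjE8_1_226, conjE8_1_227, conjE8_1_228, conjE8_1_229, conjE8_1_230, conjE8_1_231, conjE8_1_232, conjE8_1_233, conjE8_1_234, conjE8_1_235, conjE8_1_236, conjE8_1_237, conjE8_1_238, conjE8_1_239]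

end Cfsg.Agent.Helper18
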