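import Cfsg.Agent.Lib.Helper18.ConjData

set_option autoImplicit false
set_option maxRecDepth 100000

namespace Cfsg.Agent.Helper18

open Cfsg.Lie

theorem conjE8_2_0 : conjCheck chevE8 (pMonoCol chevE8 2 permE8_2 etaE8_2) 0 (dec8 permE8_2 0) (etaOf etaE8_2 0) = true := by
  decide +kernel

theorem conjE8_2_1 : conjCheck chevE8 (pMonoCol chevE8 2 permE8_2 etaE8_2) 1 (dec8 permE8_2 1) (etaOf etaE8_2 1) = true := by
  decide +kernel

theorem conjE8_2_2 : conjCheck chevE8 (pMonoCol chevE8 2 permE8_2 etaE8_2) 2 (dec8 permE8_2 2) (etaOf etaE8_2 2) = true := by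
  decide +kernel

theorem conjE8_2_3 : conjCheck chevE8 (pMonoCol chevE8 2 permE8_2 etaE8_2) 3 (dec8 permE8_2 3) (etaOf etaE8_2 3) = true := by
  decide +kernel

theorem conjE8_2_4 : conjCheck chevE8 (pMonoCol chevE8 2 permE8_2 etaE8_2) 4 (dec8 permE8_2 4) (etaOf etaE8_2 4) = true := by
  decide +kernel

theorem conjE8_2_5 : conjCheck chevE8 (pMonoCol chevE8 2 permE8_2 etaE8_2) 5 (dec8 permE8_2 5) (etaOf etaE8_2 5) = true := by
  decide +kernel

theorem conjE8_2_6 : conjCheck chevE8 (pMonoCol chevE8 2 permE8_2 etaE8_2) 6 (dec8 permE8_2 6) (etaOf etaE8_2 6) = true := by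
  decide +kernel

theorem conjE8_2_7 : conjCheck chevE8 (pMonoCol chevE8 2 permE8_2 etaE8_2) 7 (dec8 permE8_2 7) (etaOf etaE8_2 7) = true := by
  decide +kernel

theorem conjE8_2_8 : conjCheck chevE8 (pMonoCol chevE8 2 permE8_2 etaE8_2) 8 (dec8 permE8_2 8) (etaOf etaE8_2 8) = true := by
  decide +kernel

theorem conjE8_2_9 : conjCheck chevE8 (pMonoCol chevE8 2 permE8_2 etaE8_2) 9 (dec8 permE8_2 9) (etaOf etaE8_2 9) = true := by
  decide +kernel

theorem conjE8_2_10 : conjCheck chevE8 (pMonoCol chevE8 2 permE8_2 etaE8_2) 10 (dec8 permE8_2 10) (etaOf etaE8_2 10) = true := by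
  decide +kernel

theorem conjE8_2_11 : conjCheck chevE8 (pMonoCol chevE8 2 permE8_2 etaE8_2) 11 (dec8 permE8_2 11) (etaOf etaE8_2 11) = true := by
  decide +kernel

theorem conjE8_2_12 : conjCheck chevE8 (pMonoCol chevE8 2 permE8_2 etaE8_2) 12 (dec8 permE8_2 12) (etaOf etaE8_2 12) = true := by
  decide +kernel

theorem conjE8_2_13 : conjCheck chevE8 (pMonoCol chevE8 2 permE8_2 etaE8_2) 13 (dec8 permE8_2 13) (etaOf etaE8_2 13) = true := by
  decide +kernel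

theorem conjE8_2_14 : conjCheck chevE8 (pMonoCol chevE8 2 permE8_2 etaE8_2) 14 (dec8 permE8_2 14) (etaOf etaE8_2 14) = true := by
  decide +kernel

theorem conjE8_2_15 : conjCheck chevE8 (pMonoCol chevE8 2 permE8_2 etaE8_2) 15 (dec8 permE8_2 15) (etaOf etaE8_2 15) = true := by
  decide +kernel

theorem conjE8_2_16 : conjCheck chevE8 (pMonoCol chevE8 2 permE8_2 etaE8_2) 16 (dec8 permE8_2 16) (etaOf etaE8_2 16) = true := by
  decide +kernel

theorem conjE8_2_17 : conjCheck chevE8 (pMonoCol chevE8 2 permE8_2 etaE8_2) 17 (dec8 permE8_2 17) (etaOf etaE8_2 17) = true := by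
  decide +kernel

theorem conjE8_2_18 : conjCheck chevE8 (pMonoCol chevE8 2 permE8_2 etaE8_2) 18 (dec8 permE8_2 18) (etaOf etaE8_2 18) = true := by
  decide +kernel

theorem conjE8_2_19 : conjCheck chevE8 (pMonoCol chevE8 2 permE8_2 etaE8_2) 19 (dec8 permE8_2 19) (etaOf etaE8_2 19) = true := by
  decide +kernel

theorem conjE8_2_20 : conjCheck chevE8 (pMonoCol chevE8 2 permE8_2 etaE8_2) 20 (dec8 permE8_2 20) (etaOf etaE8_2 20) = true := by
  decide +kernel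

theorem conjE8_2_21 : conjCheck chevE8 (pMonoCol chevE8 2 permE8_2 etaE8_2) 21 (dec8 permE8_2 21) (etaOf etaE8_2 21) = true := by
  decide +kernel

theorem conjE8_2_22 : conjCheck chevE8 (pMonoCol chevE8 2 permE8_2 etaE8_2) 22 (dec8 permE8_2 22) (etaOf etaE8_2 22) = true := by
  decide +kernel

theorem conjE8_2_23 : conjCheck chevE8 (pMonoCol chevE8 2 permE8_2 etaE8_2) 23 (dec8 permE8_2 23) (etaOf etaE8_2 23) = true := by
  decide +kernel

theorem conjE8_2_24 : conjCheck chevE8 (pMonoCol chevE8 2 permE8_2 etaE8_2) 24 (dec8 permE8_2 24) (etaOf etaE8_2 24) = true := by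
  decide +kernel

theorem conjE8_2_25 : conjCheck chevE8 (pMonoCol chevE8 2 permE8_2 etaE8_2) 25 (dec8 permE8_2 25) (etaOf etaE8_2 25) = true := by
  decide +kernel

theorem conjE8_2_26 : conjCheck chevE8 (pMonoCol chevE8 2 permE8_2 etaE8_2) 26 (dec8 permE8_2 26) (etaOf etaE8_2 26) = true := by
  decide +kernel

theorem conjE8_2_27 : conjCheck chevE8 (pMonoCol chevE8 2 permE8_2 etaE8_2) 27 (dec8 permE8_2 27) (etaOf etaE8_2 27) = true := by
  decide +kernel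

theorem conjE8_2_28 : conjCheck chevE8 (pMonoCol chevE8 2 permE8_2 etaE8_2) 28 (dec8 permE8_2 28) (etaOf etaE8_2 28) = true := by
  decide +kernel

theorem conjE8_2_29 : conjCheck chevE8 (pMonoCol chevE8 2 permE8_2 etaE8_2) 29 (dec8 permE8_2 29) (etaOf etaE8_2 29) = true := by
  decide +kernel

theorem conjE8_2_from0 (s : ℕ) (h1 : 0 ≤ s) (h2 : s < 30) : conjCheck chevE8 (pMonoCol chevE8 2 permE8_2 etaE8_2) s (dec8 permE8_2 s) (etaOf etaE8_2 s) = true := by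
  have h : s = 0 ∨ s = 1 ∨ s = 2 ∨ s = 3 ∨ s = 4 ∨ s = 5 ∨ s = 6 ∨ s = 7 ∨ s = 8 ∨ s = 9 ∨ s = 10 ∨ s = 11 ∨ s = 12 ∨ s = 13 ∨ s = 14 ∨ s = 15 ∨ s = 16 ∨ s = 17 ∨ s = 18 ∨ s = 19 ∨ s = 20 ∨ s = 21 ∨ s = 22 ∨ s = 23 ∨ s = 24 ∨ s = 25 ∨ s = 26 ∨ s = 27 ∨ s = 28 ∨ s = 29 := by omega
  rcases h with rfl | rfl | rfl | rfl | rfl | rfl | rfl | rfl | rfl | rfl | rfl | rfl | rfl | rfl | rfl | rfl | rfl | rfl | rfl | rfl | rfl | rfl | rfl | rfl | rfl | rfl | rfl | rfl | rfl | rfl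
  exacts [conjE8_2_0, conjE8_2_1, conjE8_2_2, conjE8_2_3, conjE8_2_4, conjE8_2_5, conjE8_2_6, conjE8_2_7, conjE8_2_8, conjE8_2_9, conjE8_2_10, conjE8_2_11, conjE8_2_12, conjE8_2_13, conjE8_2_14, conjE8_2_15, conjE8_2_16, conjE8_2_17, conjE8_2_18, conjE8_2_19, conjE8_2_20, conjE8_2_21, conjE8_2_22, conjE8_2_23, conjE8_2_24, conjE8_2_25, conjE8_2_26, conjE8_2_27, conjE8_2_28, conjE8_2_29]

theorem conjE8_2_30 : conjCheck chevE8 (pMonoCol chevE8 2 permE8_2 etaE8_2) 30 (dec8 permE8_2 30) (etaOf etaE8_2 30) = true := by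
  decide +kernel

theorem conjE8_2_31 : conjCheck chevE8 (pMonoCol chevE8 2 permE8_2 etaE8_2) 31 (dec8 permE8_2 31) (etaOf etaE8_2 31) = true := by
  decide +kernel

theorem conjE8_2_32 : conjCheck chevE8 (pMonoCol chevE8 2 permE8_2 etaE8_2) 32 (dec8 permE8_2 32) (etaOf etaE8_2 32) = true := by
  decide +kernel

theorem conjE8_2_33 : conjCheck chevE8 (pMonoCol chevE8 2 permE8_2 etaE8_2) 33 (dec8 permE8_2 33) (etaOf etaE8_2 33) = true := by
  decide +kernel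

theorem conjE8_2_34 : conjCheck chevE8 (pMonoCol chevE8 2 permE8_2 etaE8_2) 34 (dec8 permE8_2 34) (etaOf etaE8_2 34) = true := by
  decide +kernel

theorem conjE8_2_35 : conjCheck chevE8 (pMonoCol chevE8 2 permE8_2 etaE8_2) 35 (dec8 permE8_2 35) (etaOf etaE8_2 35) = true := by
  decide +kernel

theorem conjE8_2_36 : conjCheck chevE8 (pMonoCol chevE8 2 permE8_2 etaE8_2) 36 (dec8 permE8_2 36) (etaOf etaE8_2 36) = true := by
  decide +kernel

theorem conjE8_2_37 : conjCheck chevE8 (pMonoCol chevE8 2 permE8_2 etaE8_2) 37 (dec8 permE8_2 37) (etaOf etaE8_2 37) = true := by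
  decide +kernel

theorem conjE8_2_38 : conjCheck chevE8 (pMonoCol chevE8 2 permE8_2 etaE8_2) 38 (dec8 permE8_2 38) (etaOf etaE8_2 38) = true := by
  decide +kernel

theorem conjE8_2_39 : conjCheck chevE8 (pMonoCol chevE8 2 permE8_2 etaE8_2) 39 (dec8 permE8_2 39) (etaOf etaE8_2 39) = true := by
  decide +kernel

theorem conjE8_2_40 : conjCheck chevE8 (pMonoCol chevE8 2 permE8_2 etaE8_2) 40 (dec8 permE8_2 40) (etaOf etaE8_2 40) = true := by
  decide +kernel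

theorem conjE8_2_41 : conjCheck chevE8 (pMonoCol chevE8 2 permE8_2 etaE8_2) 41 (dec8 permE8_2 41) (etaOf etaE8_2 41) = true := by
  decide +kernel

theorem conjE8_2_42 : conjCheck chevE8 (pMonoCol chevE8 2 permE8_2 etaE8_2) 42 (dec8 permE8_2 42) (etaOf etaE8_2 42) = true := by
  decide +kernel

theorem conjE8_2_43 : conjCheck chevE8 (pMonoCol chevE8 2 permE8_2 etaE8_2) 43 (dec8 permE8_2 43) (etaOf etaE8_2 43) = true := by
  decide +kernel

theorem conjE8_2_44 : conjCheck chevE8 (pMonoCol chevE8 2 permE8_2 etaE8_2) 44 (dec8 permE8_2 44) (etaOf etaE8_2 44) = true := by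
  decide +kernel

theorem conjE8_2_45 : conjCheck chevE8 (pMonoCol chevE8 2 permE8_2 etaE8_2) 45 (dec8 permE8_2 45) (etaOf etaE8_2 45) = true := by
  decide +kernel

theorem conjE8_2_46 : conjCheck chevE8 (pMonoCol chevE8 2 permE8_2 etaE8_2) 46 (dec8 permE8_2 46) (etaOf etaE8_2 46) = true := by
  decide +kernel

theorem conjE8_2_47 : conjCheck chevE8 (pMonoCol chevE8 2 permE8_2 etaE8_2) 47 (dec8 permE8_2 47) (etaOf etaE8_2 47) = true := by
  decide +kernel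

theorem conjE8_2_48 : conjCheck chevE8 (pMonoCol chevE8 2 permE8_2 etaE8_2) 48 (dec8 permE8_2 48) (etaOf etaE8_2 48) = true := by
  decide +kernel

theorem conjE8_2_49 : conjCheck chevE8 (pMonoCol chevE8 2 permE8_2 etaE8_2) 49 (dec8 permE8_2 49) (etaOf etaE8_2 49) = true := by
  decide +kernel

theorem conjE8_2_50 : conjCheck chevE8 (pMonoCol chevE8 2 permE8_2 etaE8_2) 50 (dec8 permE8_2 50) (etaOf etaE8_2 50) = true := by
  decide +kernel

theorem conjE8_2_51 : conjCheck chevE8 (pMonoCol chevE8 2 permE8_2 etaE8_2) 51 (dec8 permE8_2 51) (etaOf etaE8_2 51) = true := by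
  decide +kernel

theorem conjE8_2_52 : conjCheck chevE8 (pMonoCol chevE8 2 permE8_2 etaE8_2) 52 (dec8 permE8_2 52) (etaOf etaE8_2 52) = true := by
  decide +kernel

theorem conjE8_2_53 : conjCheck chevE8 (pMonoCol chevE8 2 permE8_2 etaE8_2) 53 (dec8 permE8_2 53) (etaOf etaE8_2 53) = true := by
  decide +kernel

theorem conjE8_2_54 : conjCheck chevE8 (pMonoCol chevE8 2 permE8_2 etaE8_2) 54 (dec8 permE8_2 54) (etaOf etaE8_2 54) = true := by
  decide +kernel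

theorem conjE8_2_55 : conjCheck chevE8 (pMonoCol chevE8 2 permE8_2 etaE8_2) 55 (dec8 permE8_2 55) (etaOf etaE8_2 55) = true := by
  decide +kernel

theorem conjE8_2_56 : conjCheck chevE8 (pMonoCol chevE8 2 permE8_2 etaE8_2) 56 (dec8 permE8_2 56) (etaOf etaE8_2 56) = true := by
  decide +kernel

theorem conjE8_2_57 : conjCheck chevE8 (pMonoCol chevE8 2 permE8_2 etaE8_2) 57 (dec8 permE8_2 57) (etaOf etaE8_2 57) = true := by
  decide +kernel

theorem conjE8_2_58 : conjCheck chevE8 (pMonoCol chevE8 2 permE8_2 etaE8_2) 58 (dec8 permE8_2 58) (etaOf etaE8_2 58) = true := by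
  decide +kernel

theorem conjE8_2_59 : conjCheck chevE8 (pMonoCol chevE8 2 permE8_2 etaE8_2) 59 (dec8 permE8_2 59) (etaOf etaE8_2 59) = true := by
  decide +kernel

theorem conjE8_2_from30 (s : ℕ) (h1 : 30 ≤ s) (h2 : s < 60) : conjCheck chevE8 (pMonoCol chevE8 2 permE8_2 etaE8_2) s (dec8 permE8_2 s) (etaOf etaE8_2 s) = true := by
  have h : s = 30 ∨ s = 31 ∨ s = 32 ∨ s = 33 ∨ s = 34 ∨ s = 35 ∨ s = 36 ∨ s = 37 ∨ s = 38 ∨ s = 39 ∨ s = 40 ∨ s = 41 ∨ s = 42 ∨ s = 43 ∨ s = 44 ∨ s = 45 ∨ s = 46 ∨ s = 47 ∨ s = 48 ∨ s = 49 ∨ s = 50 ∨ s = 51 ∨ s = 52 ∨ s = 53 ∨ s = 54 ∨ s = 55 ∨ s = 56 ∨ s = 57 ∨ s = 58 ∨ s = 59 := by omega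
  rcases h with rfl | rfl | rfl | rfl | rfl | rfl | rfl | rfl | rfl | rfl | rfl | rfl | rfl | rfl | rfl | rfl | rfl | rfl | rfl | rfl | rfl | rfl | rfl | rfl | rfl | rfl | rfl | rfl | rfl | rfl
  exacts [conjE8_2_30, conjE8_2_31, conjE8_2_32, conjE8_2_33, conjE8_2_34, conjE8_2_35, conjE8_2_36, conjE8_2_37, conjE8_2_38, conjE8_2_39, conjE8_2_40, conjE8_2_41, conjE8_2_42, conjE8_2_43, conjE8_2_44, conjE8_2_45, conjE8_2_46, conjE8_2_47, conjE8_2_48, conjE8_2_49, conjE8_2_50, conjE8_2_51, conjE8_2_52, conjE8_2_53, conjE8_2_54, conjE8_2_55, conjE8_2_56, conjE8_2_57, conjE8_2_58, conjE8_2_59]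

end Cfsg.Agent.Helper18
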