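import Cfsg.Agent.Lib.Helper18.ConjData

set_option autoImplicit false
set_option maxRecDepth 100000

namespace Cfsg.Agent.Helper18

open Cfsg.Lie

theorem conjE8_2_60 : conjCheck chevE8 (pMonoCol chevE8 2 permE8_2 etaE8_2) 60 (dec8 permE8_2 60) (etaOf etaE8_2 60) = true := by
  decide +kernel

theorem conjE8_2_61 : conjCheck chevE8 (pMonoCol chevE8 2 permE8_2 etaE8_2) 61 (dec8 permE8_2 61) (etaOf etaE8_2 61) = true := by
  decide +kernel

theorem conjE8_2_62 : conjCheck chevE8 (pMonoCol chevE8 2 permE8_2 etaE8_2) 62 (dec8 permE8_2 62) (etaOf etaE8_2 62) = true := by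
  decide +kernel

theorem conjE8_2_63 : conjCheck chevE8 (pMonoCol chevE8 2 permE8_2 etaE8_2) 63 (dec8 permE8_2 63) (etaOf etaE8_2 63) = true := by
  decide +kernel

theorem conjE8_2_64 : conjCheck chevE8 (pMonoCol chevE8 2 permE8_2 etaE8_2) 64 (dec8 permE8_2 64) (etaOf etaE8_2 64) = true := by
  decide +kernel

theorem conjE8_2_65 : conjCheck chevE8 (pMonoCol chevE8 2 permE8_2 etaE8_2) 65 (dec8 permE8_2 65) (etaOf etaE8_2 65) = true := by
  decide +kernel

theorem conjE8_2_66 : conjCheck chevE8 (pMonoCol chevE8 2 permE8_2 etaE8_2) 66 (dec8 permE8_2 66) (etaOf etaE8_2 66) = true := by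
  decide +kernel

theorem conjE8_2_67 : conjCheck chevE8 (pMonoCol chevE8 2 permE8_2 etaE8_2) 67 (dec8 permE8_2 67) (etaOf etaE8_2 67) = true := by
  decide +kernel

theorem conjE8_2_68 : conjCheck chevE8 (pMonoCol chevE8 2 permE8_2 etaE8_2) 68 (dec8 permE8_2 68) (etaOf etaE8_2 68) = true := by
  decide +kernel

theorem conjE8_2_69 : conjCheck chevE8 (pMonoCol chevE8 2 permE8_2 etaE8_2) 69 (dec8 permE8_2 69) (etaOf etaE8_2 69) = true := by
  decide +kernel

theorem conjE8_2_70 : conjCheck chevE8 (pMonoCol chevE8 2 permE8_2 etaE8_2) 70 (dec8 permE8_2 70) (etaOf etaE8_2 70) = true := by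
  decide +kernel

theorem conjE8_2_71 : conjCheck chevE8 (pMonoCol chevE8 2 permE8_2 etaE8_2) 71 (dec8 permE8_2 71) (etaOf etaE8_2 71) = true := by
  decide +kernel

theorem conjE8_2_72 : conjCheck chevE8 (pMonoCol chevE8 2 permE8_2 etaE8_2) 72 (dec8 permE8_2 72) (etaOf etaE8_2 72) = true := by
  decide +kernel

theorem conjE8_2_73 : conjCheck chevE8 (pMonoCol chevE8 2 permE8_2 etaE8_2) 73 (dec8 permE8_2 73) (etaOf etaE8_2 73) = true := by
  decide +kernel

theorem conjE8_2_74 : conjCheck chevE8 (pMonoCol chevE8 2 permE8_2 etaE8_2) 74 (dec8 permE8_2 74) (etaOf etaE8_2 74) = true := by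
  decide +kernel

theorem conjE8_2_75 : conjCheck chevE8 (pMonoCol chevE8 2 permE8_2 etaE8_2) 75 (dec8 permE8_2 75) (etaOf etaE8_2 75) = true := by
  decide +kernel

theorem conjE8_2_76 : conjCheck chevE8 (pMonoCol chevE8 2 permE8_2 etaE8_2) 76 (dec8 permE8_2 76) (etaOf etaE8_2 76) = true := by
  decide +kernel

theorem conjE8_2_77 : conjCheck chevE8 (pMonoCol chevE8 2 permE8_2 etaE8_2) 77 (dec8 permE8_2 77) (etaOf etaE8_2 77) = true := by
  decide +kernel

theorem conjE8_2_78 : conjCheck chevE8 (pMonoCol chevE8 2 permE8_2 etaE8_2) 78 (dec8 permE8_2 78) (etaOf etaE8_2 78) = true := by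
  decide +kernel

theorem conjE8_2_79 : conjCheck chevE8 (pMonoCol chevE8 2 permE8_2 etaE8_2) 79 (dec8 permE8_2 79) (etaOf etaE8_2 79) = true := by
  decide +kernel

theorem conjE8_2_80 : conjCheck chevE8 (pMonoCol chevE8 2 permE8_2 etaE8_2) 80 (dec8 permE8_2 80) (etaOf etaE8_2 80) = true := by
  decide +kernel

theorem conjE8_2_81 : conjCheck chevE8 (pMonoCol chevE8 2 permE8_2 etaE8_2) 81 (dec8 permE8_2 81) (etaOf etaE8_2 81) = true := by
  decide +kernel

theorem conjE8_2_82 : conjCheck chevE8 (pMonoCol chevE8 2 permE8_2 etaE8_2) 82 (dec8 permE8_2 82) (etaOf etaE8_2 82) = true := by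
  decide +kernel

theorem conjE8_2_83 : conjCheck chevE8 (pMonoCol chevE8 2 permE8_2 etaE8_2) 83 (dec8 permE8_2 83) (etaOf etaE8_2 83) = true := by
  decide +kernel

theorem conjE8_2_84 : conjCheck chevE8 (pMonoCol chevE8 2 permE8_2 etaE8_2) 84 (dec8 permE8_2 84) (etaOf etaE8_2 84) = true := by
  decide +kernel

theorem conjE8_2_85 : conjCheck chevE8 (pMonoCol chevE8 2 permE8_2 etaE8_2) 85 (dec8 permE8_2 85) (etaOf etaE8_2 85) = true := by
  decide +kernel

theorem conjE8_2_86 : conjCheck chevE8 (pMonoCol chevE8 2 permE8_2 etaE8_2) 86 (dec8 permE8_2 86) (etaOf etaE8_2 86) = true := by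
  decide +kernel

theorem conjE8_2_87 : conjCheck chevE8 (pMonoCol chevE8 2 permE8_2 etaE8_2) 87 (dec8 permE8_2 87) (etaOf etaE8_2 87) = true := by
  decide +kernel

theorem conjE8_2_88 : conjCheck chevE8 (pMonoCol chevE8 2 permE8_2 etaE8_2) 88 (dec8 permE8_2 88) (etaOf etaE8_2 88) = true := by
  decide +kernel

theorem conjE8_2_89 : conjCheck chevE8 (pMonoCol chevE8 2 permE8_2 etaE8_2) 89 (dec8 permE8_2 89) (etaOf etaE8_2 89) = true := by
  decide +kernel

theorem conjE8_2_from60 (s : ℕ) (h1 : 60 ≤ s) (h2 : s < 90) : conjCheck chevE8 (pMonoCol chevE8 2 permE8_2 etaE8_2) s (dec8 permE8_2 s) (etaOf etaE8_2 s) = true := by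
  have h : s = 60 ∨ s = 61 ∨ s = 62 ∨ s = 63 ∨ s = 64 ∨ s = 65 ∨ s = 66 ∨ s = 67 ∨ s = 68 ∨ s = 69 ∨ s = 70 ∨ s = 71 ∨ s = 72 ∨ s = 73 ∨ s = 74 ∨ s = 75 ∨ s = 76 ∨ s = 77 ∨ s = 78 ∨ s = 79 ∨ s = 80 ∨ s = 81 ∨ s = 82 ∨ s = 83 ∨ s = 84 ∨ s = 85 ∨ s = 86 ∨ s = 87 ∨ s = 88 ∨ s = 89 := by omega
  rcases h with rfl | rfl | rfl | rfl | rfl | rfl | rfl | rfl | rfl | rfl | rfl | rfl | rfl | rfl | rfl | rfl | rfl | rfl | rfl | rfl | rfl | rfl | rfl | rfl | rfl | rfl | rfl | rfl | rfl | rfl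
  exacts [conjE8_2_60, conjE8_2_61, conjE8_2_62, conjE8_2_63, conjE8_2_64, conjE8_2_65, conjE8_2_66, conjE8_2_67, conjE8_2_68, conjE8_2_69, conjE8_2_70, conjE8_2_71, conjE8_2_72, conjE8_2_73, conjE8_2_74, conjE8_2_75, conjE8_2_76, conjE8_2_77, conjE8_2_78, conjE8_2_79, conjE8_2_80, conjE8_2_81, conjE8_2_82, conjE8_2_83, conjE8_2_84, conjE8_2_85, conjE8_2_86, conjE8_2_87, conjE8_2_88, conjE8_2_89]

theorem conjE8_2_90 : conjCheck chevE8 (pMonoCol chevE8 2 permE8_2 etaE8_2) 90 (dec8 permE8_2 90) (etaOf etaE8_2 90) = true := by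
  decide +kernel

theorem conjE8_2_91 : conjCheck chevE8 (pMonoCol chevE8 2 permE8_2 etaE8_2) 91 (dec8 permE8_2 91) (etaOf etaE8_2 91) = true := by
  decide +kernel

theorem conjE8_2_92 : conjCheck chevE8 (pMonoCol chevE8 2 permE8_2 etaE8_2) 92 (dec8 permE8_2 92) (etaOf etaE8_2 92) = true := by
  decide +kernel

theorem conjE8_2_93 : conjCheck chevE8 (pMonoCol chevE8 2 permE8_2 etaE8_2) 93 (dec8 permE8_2 93) (etaOf etaE8_2 93) = true := by
  decide +kernel

theorem conjE8_2_94 : conjCheck chevE8 (pMonoCol chevE8 2 permE8_2 etaE8_2) 94 (dec8 permE8_2 94) (etaOf etaE8_2 94) = true := by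
  decide +kernel

theorem conjE8_2_95 : conjCheck chevE8 (pMonoCol chevE8 2 permE8_2 etaE8_2) 95 (dec8 permE8_2 95) (etaOf etaE8_2 95) = true := by
  decide +kernel

theorem conjE8_2_96 : conjCheck chevE8 (pMonoCol chevE8 2 permE8_2 etaE8_2) 96 (dec8 permE8_2 96) (etaOf etaE8_2 96) = true := by
  decide +kernel

theorem conjE8_2_97 : conjCheck chevE8 (pMonoCol chevE8 2 permE8_2 etaE8_2) 97 (dec8 permE8_2 97) (etaOf etaE8_2 97) = true := by
  decide +kernel

theorem conjE8_2_98 : conjCheck chevE8 (pMonoCol chevE8 2 permE8_2 etaE8_2) 98 (dec8 permE8_2 98) (etaOf etaE8_2 98) = true := by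
  decide +kernel

theorem conjE8_2_99 : conjCheck chevE8 (pMonoCol chevE8 2 permE8_2 etaE8_2) 99 (dec8 permE8_2 99) (etaOf etaE8_2 99) = true := by
  decide +kernel

theorem conjE8_2_100 : conjCheck chevE8 (pMonoCol chevE8 2 permE8_2 etaE8_2) 100 (dec8 permE8_2 100) (etaOf etaE8_2 100) = true := by
  decide +kernel

theorem conjE8_2_101 : conjCheck chevE8 (pMonoCol chevE8 2 permE8_2 etaE8_2) 101 (dec8 permE8_2 101) (etaOf etaE8_2 101) = true := by
  decide +kernel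

theorem conjE8_2_102 : conjCheck chevE8 (pMonoCol chevE8 2 permE8_2 etaE8_2) 102 (dec8 permE8_2 102) (etaOf etaE8_2 102) = true := by
  decide +kernel

theorem conjE8_2_103 : conjCheck chevE8 (pMonoCol chevE8 2 permE8_2 etaE8_2) 103 (dec8 permE8_2 103) (etaOf etaE8_2 103) = true := by
  decide +kernel

theorem conjE8_2_104 : conjCheck chevE8 (pMonoCol chevE8 2 permE8_2 etaE8_2) 104 (dec8 permE8_2 104) (etaOf etaE8_2 104) = true := by
  decide +kernel

theorem conjE8_2_105 : conjCheck chevE8 (pMonoCol chevE8 2 permE8_2 etaE8_2) 105 (dec8 permE8_2 105) (etaOf etaE8_2 105) = true := by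
  decide +kernel

theorem conjE8_2_106 : conjCheck chevE8 (pMonoCol chevE8 2 permE8_2 etaE8_2) 106 (dec8 permE8_2 106) (etaOf etaE8_2 106) = true := by
  decide +kernel

theorem conjE8_2_107 : conjCheck chevE8 (pMonoCol chevE8 2 permE8_2 etaE8_2) 107 (dec8 permE8_2 107) (etaOf etaE8_2 107) = true := by
  decide +kernel

theorem conjE8_2_108 : conjCheck chevE8 (pMonoCol chevE8 2 permE8_2 etaE8_2) 108 (dec8 permE8_2 108) (etaOf etaE8_2 108) = true := by
  decide +kernel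

theorem conjE8_2_109 : conjCheck chevE8 (pMonoCol chevE8 2 permE8_2 etaE8_2) 109 (dec8 permE8_2 109) (etaOf etaE8_2 109) = true := by
  decide +kernel

theorem conjE8_2_110 : conjCheck chevE8 (pMonoCol chevE8 2 permE8_2 etaE8_2) 110 (dec8 permE8_2 110) (etaOf etaE8_2 110) = true := by
  decide +kernel

theorem conjE8_2_111 : conjCheck chevE8 (pMonoCol chevE8 2 permE8_2 etaE8_2) 111 (dec8 permE8_2 111) (etaOf etaE8_2 111) = true := by
  decide +kernel

theorem conjE8_2_112 : conjCheck chevE8 (pMonoCol chevE8 2 permE8_2 etaE8_2) 112 (dec8 permE8_2 112) (etaOf etaE8_2 112) = true := by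
  decide +kernel

theorem conjE8_2_113 : conjCheck chevE8 (pMonoCol chevE8 2 permE8_2 etaE8_2) 113 (dec8 permE8_2 113) (etaOf etaE8_2 113) = true := by
  decide +kernel

theorem conjE8_2_114 : conjCheck chevE8 (pMonoCol chevE8 2 permE8_2 etaE8_2) 114 (dec8 permE8_2 114) (etaOf etaE8_2 114) = true := by
  decide +kernel

theorem conjE8_2_115 : conjCheck chevE8 (pMonoCol chevE8 2 permE8_2 etaE8_2) 115 (dec8 permE8_2 115) (etaOf etaE8_2 115) = true := by
  decide +kernel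

theorem conjE8_2_116 : conjCheck chevE8 (pMonoCol chevE8 2 permE8_2 etaE8_2) 116 (dec8 permE8_2 116) (etaOf etaE8_2 116) = true := by
  decide +kernel

theorem conjE8_2_117 : conjCheck chevE8 (pMonoCol chevE8 2 permE8_2 etaE8_2) 117 (dec8 permE8_2 117) (etaOf etaE8_2 117) = true := by
  decide +kernel

theorem conjE8_2_118 : conjCheck chevE8 (pMonoCol chevE8 2 permE8_2 etaE8_2) 118 (dec8 permE8_2 118) (etaOf etaE8_2 118) = true := by
  decide +kernel

theorem conjE8_2_119 : conjCheck chevE8 (pMonoCol chevE8 2 permE8_2 etaE8_2) 119 (dec8 permE8_2 119) (etaOf etaE8_2 119) = true := by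
  decide +kernel

theorem conjE8_2_from90 (s : ℕ) (h1 : 90 ≤ s) (h2 : s < 120) : conjCheck chevE8 (pMonoCol chevE8 2 permE8_2 etaE8_2) s (dec8 permE8_2 s) (etaOf etaE8_2 s) = true := by
  have h : s = 90 ∨ s = 91 ∨ s = 92 ∨ s = 93 ∨ s = 94 ∨ s = 95 ∨ s = 96 ∨ s = 97 ∨ s = 98 ∨ s = 99 ∨ s = 100 ∨ s = 101 ∨ s = 102 ∨ s = 103 ∨ s = 104 ∨ s = 105 ∨ s = 106 ∨ s = 107 ∨ s = 108 ∨ s = 109 ∨ s = 110 ∨ s = 111 ∨ s = 112 ∨ s = 113 ∨ s = 114 ∨ s = 115 ∨ s = 116 ∨ s = 117 ∨ s = 118 ∨ s = 119 := by omega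
  rcases h with rfl | rfl | rfl | rfl | rfl | rfl | rfl | rfl | rfl | rfl | rfl | rfl | rfl | rfl | rfl | rfl | rfl | rfl | rfl | rfl | rfl | rfl | rfl | rfl | rfl | rfl | rfl | rfl | rfl | rfl
  exacts [conjE8_2_90, conjE8_2_91, conjE8_2_92, conjE8_2_93, conjE8_2_94, conjE8_2_95, conjE8_2_96, conjE8_2_97, conjE8_2_98, conjE8_2_99, conjE8_2_100, conjE8_2_101, conjE8_2_102, conjE8_2_103, conjE8_2_104, conjE8_2_105, conjE8_2_106, conjE8_2_107, conjE8_2_108, conjE8_2_109, conjE8_2_110, conjE8_2_111, conjE8_2_112, conjE8_2_113, conjE8_2_114, conjE8_2_115, conjE8_2_116, conjE8_2_117, conjE8_2_118, conjE8_2_119]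

end Cfsg.Agent.Helper18
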