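import Cfsg.Agent.Lib.Helper18.ConjData

set_option autoImplicit false
set_option maxRecDepth 100000

namespace Cfsg.Agent.Helper18

open Cfsg.Lie

theorem conjE8_2_120 : conjCheck chevE8 (pMonoCol chevE8 2 permE8_2 etaE8_2) 120 (dec8 permE8_2 120) (etaOf etaE8_2 120) = true := by
  decide +kernel

theorem conjE8_2_121 : conjCheck chevE8 (pMonoCol chevE8 2 permE8_2 etaE8_2) 121 (dec8 permE8_2 121) (etaOf etaE8_2 121) = true := by
  decide +kernel

theorem conjE8_2_122 : conjCheck chevE8 (pMonoCol chevE8 2 permE8_2 etaE8_2) 122 (dec8 permE8_2 122) (etaOf etaE8_2 122) = true := by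
  decide +kernel

theorem conjE8_2_123 : conjCheck chevE8 (pMonoCol chevE8 2 permE8_2 etaE8_2) 123 (dec8 permE8_2 123) (etaOf etaE8_2 123) = true := by
  decide +kernel

theorem conjE8_2_124 : conjCheck chevE8 (pMonoCol chevE8 2 permE8_2 etaE8_2) 124 (dec8 permE8_2 124) (etaOf etaE8_2 124) = true := by
  decide +kernel

theorem conjE8_2_125 : conjCheck chevE8 (pMonoCol chevE8 2 permE8_2 etaE8_2) 125 (dec8 permE8_2 125) (etaOf etaE8_2 125) = true := by
  decide +kernel

theorem conjE8_2_126 : conjCheck chevE8 (pMonoCol chevE8 2 permE8_2 etaE8_2) 126 (dec8 permE8_2 126) (etaOf etaE8_2 126) = true := by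
  decide +kernel

theorem conjE8_2_127 : conjCheck chevE8 (pMonoCol chevE8 2 permE8_2 etaE8_2) 127 (dec8 permE8_2 127) (etaOf etaE8_2 127) = true := by
  decide +kernel

theorem conjE8_2_128 : conjCheck chevE8 (pMonoCol chevE8 2 permE8_2 etaE8_2) 128 (dec8 permE8_2 128) (etaOf etaE8_2 128) = true := by
  decide +kernel

theorem conjE8_2_129 : conjCheck chevE8 (pMonoCol chevE8 2 permE8_2 etaE8_2) 129 (dec8 permE8_2 129) (etaOf etaE8_2 129) = true := by
  decide +kernel

theorem conjE8_2_130 : conjCheck chevE8 (pMonoCol chevE8 2 permE8_2 etaE8_2) 130 (dec8 permE8_2 130) (etaOf etaE8_2 130) = true := by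
  decide +kernel

theorem conjE8_2_131 : conjCheck chevE8 (pMonoCol chevE8 2 permE8_2 etaE8_2) 131 (dec8 permE8_2 131) (etaOf etaE8_2 131) = true := by
  decide +kernel

theorem conjE8_2_132 : conjCheck chevE8 (pMonoCol chevE8 2 permE8_2 etaE8_2) 132 (dec8 permE8_2 132) (etaOf etaE8_2 132) = true := by
  decide +kernel

theorem conjE8_2_133 : conjCheck chevE8 (pMonoCol chevE8 2 permE8_2 etaE8_2) 133 (dec8 permE8_2 133) (etaOf etaE8_2 133) = true := by
  decide +kernel

theorem conjE8_2_134 : conjCheck chevE8 (pMonoCol chevE8 2 permE8_2 etaE8_2) 134 (dec8 permE8_2 134) (etaOf etaE8_2 134) = true := by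
  decide +kernel

theorem conjE8_2_135 : conjCheck chevE8 (pMonoCol chevE8 2 permE8_2 etaE8_2) 135 (dec8 permE8_2 135) (etaOf etaE8_2 135) = true := by
  decide +kernel

theorem conjE8_2_136 : conjCheck chevE8 (pMonoCol chevE8 2 permE8_2 etaE8_2) 136 (dec8 permE8_2 136) (etaOf etaE8_2 136) = true := by
  decide +kernel

theorem conjE8_2_137 : conjCheck chevE8 (pMonoCol chevE8 2 permE8_2 etaE8_2) 137 (dec8 permE8_2 137) (etaOf etaE8_2 137) = true := by
  decide +kernel

theorem conjE8_2_138 : conjCheck chevE8 (pMonoCol chevE8 2 permE8_2 etaE8_2) 138 (dec8 permE8_2 138) (etaOf etaE8_2 138) = true := by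
  decide +kernel

theorem conjE8_2_139 : conjCheck chevE8 (pMonoCol chevE8 2 permE8_2 etaE8_2) 139 (dec8 permE8_2 139) (etaOf etaE8_2 139) = true := by
  decide +kernel

theorem conjE8_2_140 : conjCheck chevE8 (pMonoCol chevE8 2 permE8_2 etaE8_2) 140 (dec8 permE8_2 140) (etaOf etaE8_2 140) = true := by
  decide +kernel

theorem conjE8_2_141 : conjCheck chevE8 (pMonoCol chevE8 2 permE8_2 etaE8_2) 141 (dec8 permE8_2 141) (etaOf etaE8_2 141) = true := by
  decide +kernel

theorem conjE8_2_142 : conjCheck chevE8 (pMonoCol chevE8 2 permE8_2 etaE8_2) 142 (dec8 permE8_2 142) (etaOf etaE8_2 142) = true := by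
  decide +kernel

theorem conjE8_2_143 : conjCheck chevE8 (pMonoCol chevE8 2 permE8_2 etaE8_2) 143 (dec8 permE8_2 143) (etaOf etaE8_2 143) = true := by
  decide +kernel

theorem conjE8_2_144 : conjCheck chevE8 (pMonoCol chevE8 2 permE8_2 etaE8_2) 144 (dec8 permE8_2 144) (etaOf etaE8_2 144) = true := by
  decide +kernel

theorem conjE8_2_145 : conjCheck chevE8 (pMonoCol chevE8 2 permE8_2 etaE8_2) 145 (dec8 permE8_2 145) (etaOf etaE8_2 145) = true := by
  decide +kernel

theorem conjE8_2_146 : conjCheck chevE8 (pMonoCol chevE8 2 permE8_2 etaE8_2) 146 (dec8 permE8_2 146) (etaOf etaE8_2 146) = true := by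
  decide +kernel

theorem conjE8_2_147 : conjCheck chevE8 (pMonoCol chevE8 2 permE8_2 etaE8_2) 147 (dec8 permE8_2 147) (etaOf etaE8_2 147) = true := by
  decide +kernel

theorem conjE8_2_148 : conjCheck chevE8 (pMonoCol chevE8 2 permE8_2 etaE8_2) 148 (dec8 permE8_2 148) (etaOf etaE8_2 148) = true := by
  decide +kernel

theorem conjE8_2_149 : conjCheck chevE8 (pMonoCol chevE8 2 permE8_2 etaE8_2) 149 (dec8 permE8_2 149) (etaOf etaE8_2 149) = true := by
  decide +kernel

theorem conjE8_2_from120 (s : ℕ) (h1 : 120 ≤ s) (h2 : s < 150) : conjCheck chevE8 (pMonoCol chevE8 2 permE8_2 etaE8_2) s (dec8 permE8_2 s) (etaOf etaE8_2 s) = true := by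
  have h : s = 120 ∨ s = 121 ∨ s = 122 ∨ s = 123 ∨ s = 124 ∨ s = 125 ∨ s = 126 ∨ s = 127 ∨ s = 128 ∨ s = 129 ∨ s = 130 ∨ s = 131 ∨ s = 132 ∨ s = 133 ∨ s = 134 ∨ s = 135 ∨ s = 136 ∨ s = 137 ∨ s = 138 ∨ s = 139 ∨ s = 140 ∨ s = 141 ∨ s = 142 ∨ s = 143 ∨ s = 144 ∨ s = 145 ∨ s = 146 ∨ s = 147 ∨ s = 148 ∨ s = 149 := by omega
  rcases h with rfl | rfl | rfl | rfl | rfl | rfl | rfl | rfl | rfl | rfl | rfl | rfl | rfl | rfl | rfl | rfl | rfl | rfl | rfl | rfl | rfl | rfl | rfl | rfl | rfl | rfl | rfl | rfl | rfl | rfl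
  exacts [conjE8_2_120, conjE8_2_121, conjE8_2_122, conjE8_2_123, conjE8_2_124, conjE8_2_125, conjE8_2_126, conjE8_2_127, conjE8_2_128, conjE8_2_129, conjE8_2_130, conjE8_2_131, conjE8_2_132, conjE8_2_133, conjE8_2_134, conjE8_2_135, conjE8_2_136, conjE8_2_137, conjE8_2_138, conjE8_2_139, conjE8_2_140, conjE8_2_141, conjE8_2_142, conjE8_2_143, conjE8_2_144, conjE8_2_145, conjE8_2_146, conjE8_2_147, conjE8_2_148, conjE8_2_149]

theorem conjE8_2_150 : conjCheck chevE8 (pMonoCol chevE8 2 permE8_2 etaE8_2) 150 (dec8 permE8_2 150) (etaOf etaE8_2 150) = true := by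
  decide +kernel

theorem conjE8_2_151 : conjCheck chevE8 (pMonoCol chevE8 2 permE8_2 etaE8_2) 151 (dec8 permE8_2 151) (etaOf etaE8_2 151) = true := by
  decide +kernel

theorem conjE8_2_152 : conjCheck chevE8 (pMonoCol chevE8 2 permE8_2 etaE8_2) 152 (dec8 permE8_2 152) (etaOf etaE8_2 152) = true := by
  decide +kernel

theorem conjE8_2_153 : conjCheck chevE8 (pMonoCol chevE8 2 permE8_2 etaE8_2) 153 (dec8 permE8_2 153) (etaOf etaE8_2 153) = true := by
  decide +kernel

theorem conjE8_2_154 : conjCheck chevE8 (pMonoCol chevE8 2 permE8_2 etaE8_2) 154 (dec8 permE8_2 154) (etaOf etaE8_2 154) = true := by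
  decide +kernel

theorem conjE8_2_155 : conjCheck chevE8 (pMonoCol chevE8 2 permE8_2 etaE8_2) 155 (dec8 permE8_2 155) (etaOf etaE8_2 155) = true := by
  decide +kernel

theorem conjE8_2_156 : conjCheck chevE8 (pMonoCol chevE8 2 permE8_2 etaE8_2) 156 (dec8 permE8_2 156) (etaOf etaE8_2 156) = true := by
  decide +kernel

theorem conjE8_2_157 : conjCheck chevE8 (pMonoCol chevE8 2 permE8_2 etaE8_2) 157 (dec8 permE8_2 157) (etaOf etaE8_2 157) = true := by
  decide +kernel

theorem conjE8_2_158 : conjCheck chevE8 (pMonoCol chevE8 2 permE8_2 etaE8_2) 158 (dec8 permE8_2 158) (etaOf etaE8_2 158) = true := by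
  decide +kernel

theorem conjE8_2_159 : conjCheck chevE8 (pMonoCol chevE8 2 permE8_2 etaE8_2) 159 (dec8 permE8_2 159) (etaOf etaE8_2 159) = true := by
  decide +kernel

theorem conjE8_2_160 : conjCheck chevE8 (pMonoCol chevE8 2 permE8_2 etaE8_2) 160 (dec8 permE8_2 160) (etaOf etaE8_2 160) = true := by
  decide +kernel

theorem conjE8_2_161 : conjCheck chevE8 (pMonoCol chevE8 2 permE8_2 etaE8_2) 161 (dec8 permE8_2 161) (etaOf etaE8_2 161) = true := by
  decide +kernel

theorem conjE8_2_162 : conjCheck chevE8 (pMonoCol chevE8 2 permE8_2 etaE8_2) 162 (dec8 permE8_2 162) (etaOf etaE8_2 162) = true := by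
  decide +kernel

theorem conjE8_2_163 : conjCheck chevE8 (pMonoCol chevE8 2 permE8_2 etaE8_2) 163 (dec8 permE8_2 163) (etaOf etaE8_2 163) = true := by
  decide +kernel

theorem conjE8_2_164 : conjCheck chevE8 (pMonoCol chevE8 2 permE8_2 etaE8_2) 164 (dec8 permE8_2 164) (etaOf etaE8_2 164) = true := by
  decide +kernel

theorem conjE8_2_165 : conjCheck chevE8 (pMonoCol chevE8 2 permE8_2 etaE8_2) 165 (dec8 permE8_2 165) (etaOf etaE8_2 165) = true := by
  decide +kernel

theorem conjE8_2_166 : conjCheck chevE8 (pMonoCol chevE8 2 permE8_2 etaE8_2) 166 (dec8 permE8_2 166) (etaOf etaE8_2 166) = true := by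
  decide +kernel

theorem conjE8_2_167 : conjCheck chevE8 (pMonoCol chevE8 2 permE8_2 etaE8_2) 167 (dec8 permE8_2 167) (etaOf etaE8_2 167) = true := by
  decide +kernel

theorem conjE8_2_168 : conjCheck chevE8 (pMonoCol chevE8 2 permE8_2 etaE8_2) 168 (dec8 permE8_2 168) (etaOf etaE8_2 168) = true := by
  decide +kernel

theorem conjE8_2_169 : conjCheck chevE8 (pMonoCol chevE8 2 permE8_2 etaE8_2) 169 (dec8 permE8_2 169) (etaOf etaE8_2 169) = true := by
  decide +kernel

theorem conjE8_2_170 : conjCheck chevE8 (pMonoCol chevE8 2 permE8_2 etaE8_2) 170 (dec8 permE8_2 170) (etaOf etaE8_2 170) = true := by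
  decide +kernel

theorem conjE8_2_171 : conjCheck chevE8 (pMonoCol chevE8 2 permE8_2 etaE8_2) 171 (dec8 permE8_2 171) (etaOf etaE8_2 171) = true := by
  decide +kernel

theorem conjE8_2_172 : conjCheck chevE8 (pMonoCol chevE8 2 permE8_2 etaE8_2) 172 (dec8 permE8_2 172) (etaOf etaE8_2 172) = true := by
  decide +kernel

theorem conjE8_2_173 : conjCheck chevE8 (pMonoCol chevE8 2 permE8_2 etaE8_2) 173 (dec8 permE8_2 173) (etaOf etaE8_2 173) = true := by
  decide +kernel

theorem conjE8_2_174 : conjCheck chevE8 (pMonoCol chevE8 2 permE8_2 etaE8_2) 174 (dec8 permE8_2 174) (etaOf etaE8_2 174) = true := by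
  decide +kernel

theorem conjE8_2_175 : conjCheck chevE8 (pMonoCol chevE8 2 permE8_2 etaE8_2) 175 (dec8 permE8_2 175) (etaOf etaE8_2 175) = true := by
  decide +kernel

theorem conjE8_2_176 : conjCheck chevE8 (pMonoCol chevE8 2 permE8_2 etaE8_2) 176 (dec8 permE8_2 176) (etaOf etaE8_2 176) = true := by
  decide +kernel

theorem conjE8_2_177 : conjCheck chevE8 (pMonoCol chevE8 2 permE8_2 etaE8_2) 177 (dec8 permE8_2 177) (etaOf etaE8_2 177) = true := by
  decide +kernel

theorem conjE8_2_178 : conjCheck chevE8 (pMonoCol chevE8 2 permE8_2 etaE8_2) 178 (dec8 permE8_2 178) (etaOf etaE8_2 178) = true := by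
  decide +kernel

theorem conjE8_2_179 : conjCheck chevE8 (pMonoCol chevE8 2 permE8_2 etaE8_2) 179 (dec8 permE8_2 179) (etaOf etaE8_2 179) = true := by
  decide +kernel

theorem conjE8_2_from150 (s : ℕ) (h1 : 150 ≤ s) (h2 : s < 180) : conjCheck chevE8 (pMonoCol chevE8 2 permE8_2 etaE8_2) s (dec8 permE8_2 s) (etaOf etaE8_2 s) = true := by
  have h : s = 150 ∨ s = 151 ∨ s = 152 ∨ s = 153 ∨ s = 154 ∨ s = 155 ∨ s = 156 ∨ s = 157 ∨ s = 158 ∨ s = 159 ∨ s = 160 ∨ s = 161 ∨ s = 162 ∨ s = 163 ∨ s = 164 ∨ s = 165 ∨ s = 166 ∨ s = 167 ∨ s = 168 ∨ s = 169 ∨ s = 170 ∨ s = 171 ∨ s = 172 ∨ s = 173 ∨ s = 174 ∨ s = 175 ∨ s = 176 ∨ s = 177 ∨ s = 178 ∨ s = 179 := by omega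
  rcases h with rfl | rfl | rfl | rfl | rfl | rfl | rfl | rfl | rfl | rfl | rfl | rfl | rfl | rfl | rfl | rfl | rfl | rfl | rfl | rfl | rfl | rfl | rfl | rfl | rfl | rfl | rfl | rfl | rfl | rfl
  exacts [conjE8_2_150, conjE8_2_151, conjE8_2_152, conjE8_2_153, conjE8_2_154, conjE8_2_155, conjE8_2_156, conjE8_2_157, conjE8_2_158, conjE8_2_159, conjE8_2_160, conjE8_2_161, conjE8_2_162, conjE8_2_163, conjE8_2_164, conjE8_2_165, conjE8_2_166, conjE8_2_167, conjE8_2_168, conjE8_2_169, conjE8_2_170, conjE8_2_171, conjE8_2_172, conjE8_2_173, conjE8_2_174, conjE8_2_175, conjE8_2_176, conjE8_2_177, conjE8_2_178, conjE8_2_179]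

end Cfsg.Agent.Helper18
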