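import Cfsg.Agent.Lib.Helper18.ConjData

set_option autoImplicit false
set_option maxRecDepth 100000

namespace Cfsg.Agent.Helper18

open Cfsg.Lie

theorem conjE8_2_180 : conjCheck chevE8 (pMonoCol chevE8 2 permE8_2 etaE8_2) 180 (dec8 permE8_2 180) (etaOf etaE8_2 180) = true := by
  decide +kernel

theorem conjE8_2_181 : conjCheck chevE8 (pMonoCol chevE8 2 permE8_2 etaE8_2) 181 (dec8 permE8_2 181) (etaOf etaE8_2 181) = true := by
  decide +kernel

theorem conjE8_2_182 : conjCheck chevE8 (pMonoCol chevE8 2 permE8_2 etaE8_2) 182 (dec8 permE8_2 182) (etaOf etaE8_2 182) = true := by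
  decide +kernel

theorem conjE8_2_183 : conjCheck chevE8 (pMonoCol chevE8 2 permE8_2 etaE8_2) 183 (dec8 permE8_2 183) (etaOf etaE8_2 183) = true := by
  decide +kernel

theorem conjE8_2_184 : conjCheck chevE8 (pMonoCol chevE8 2 permE8_2 etaE8_2) 184 (dec8 permE8_2 184) (etaOf etaE8_2 184) = true := by
  decide +kernel

theorem conjE8_2_185 : conjCheck chevE8 (pMonoCol chevE8 2 permE8_2 etaE8_2) 185 (dec8 permE8_2 185) (etaOf etaE8_2 185) = true := by
  decide +kernel

theorem conjE8_2_186 : conjCheck chevE8 (pMonoCol chevE8 2 permE8_2 etaE8_2) 186 (dec8 permE8_2 186) (etaOf etaE8_2 186) = true := by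
  decide +kernel

theorem conjE8_2_187 : conjCheck chevE8 (pMonoCol chevE8 2 permE8_2 etaE8_2) 187 (dec8 permE8_2 187) (etaOf etaE8_2 187) = true := by
  decide +kernel

theorem conjE8_2_188 : conjCheck chevE8 (pMonoCol chevE8 2 permE8_2 etaE8_2) 188 (dec8 permE8_2 188) (etaOf etaE8_2 188) = true := by
  decide +kernel

theorem conjE8_2_189 : conjCheck chevE8 (pMonoCol chevE8 2 permE8_2 etaE8_2) 189 (dec8 permE8_2 189) (etaOf etaE8_2 189) = true := by
  decide +kernel

theorem conjE8_2_190 : conjCheck chevE8 (pMonoCol chevE8 2 permE8_2 etaE8_2) 190 (dec8 permE8_2 190) (etaOf etaE8_2 190) = true := by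
  decide +kernel

theorem conjE8_2_191 : conjCheck chevE8 (pMonoCol chevE8 2 permE8_2 etaE8_2) 191 (dec8 permE8_2 191) (etaOf etaE8_2 191) = true := by
  decide +kernel

theorem conjE8_2_192 : conjCheck chevE8 (pMonoCol chevE8 2 permE8_2 etaE8_2) 192 (dec8 permE8_2 192) (etaOf etaE8_2 192) = true := by
  decide +kernel

theorem conjE8_2_193 : conjCheck chevE8 (pMonoCol chevE8 2 permE8_2 etaE8_2) 193 (dec8 permE8_2 193) (etaOf etaE8_2 193) = true := by
  decide +kernel

theorem conjE8_2_194 : conjCheck chevE8 (pMonoCol chevE8 2 permE8_2 etaE8_2) 194 (dec8 permE8_2 194) (etaOf etaE8_2 194) = true := by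
  decide +kernel

theorem conjE8_2_195 : conjCheck chevE8 (pMonoCol chevE8 2 permE8_2 etaE8_2) 195 (dec8 permE8_2 195) (etaOf etaE8_2 195) = true := by
  decide +kernel

theorem conjE8_2_196 : conjCheck chevE8 (pMonoCol chevE8 2 permE8_2 etaE8_2) 196 (dec8 permE8_2 196) (etaOf etaE8_2 196) = true := by
  decide +kernel

theorem conjE8_2_197 : conjCheck chevE8 (pMonoCol chevE8 2 permE8_2 etaE8_2) 197 (dec8 permE8_2 197) (etaOf etaE8_2 197) = true := by
  decide +kernel

theorem conjE8_2_198 : conjCheck chevE8 (pMonoCol chevE8 2 permE8_2 etaE8_2) 198 (dec8 permE8_2 198) (etaOf etaE8_2 198) = true := by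
  decide +kernel

theorem conjE8_2_199 : conjCheck chevE8 (pMonoCol chevE8 2 permE8_2 etaE8_2) 199 (dec8 permE8_2 199) (etaOf etaE8_2 199) = true := by
  decide +kernel

theorem conjE8_2_200 : conjCheck chevE8 (pMonoCol chevE8 2 permE8_2 etaE8_2) 200 (dec8 permE8_2 200) (etaOf etaE8_2 200) = true := by
  decide +kernel

theorem conjE8_2_201 : conjCheck chevE8 (pMonoCol chevE8 2 permE8_2 etaE8_2) 201 (dec8 permE8_2 201) (etaOf etaE8_2 201) = true := by
  decide +kernel

theorem conjE8_2_202 : conjCheck chevE8 (pMonoCol chevE8 2 permE8_2 etaE8_2) 202 (dec8 permE8_2 202) (etaOf etaE8_2 202) = true := by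
  decide +kernel

theorem conjE8_2_203 : conjCheck chevE8 (pMonoCol chevE8 2 permE8_2 etaE8_2) 203 (dec8 permE8_2 203) (etaOf etaE8_2 203) = true := by
  decide +kernel

theorem conjE8_2_204 : conjCheck chevE8 (pMonoCol chevE8 2 permE8_2 etaE8_2) 204 (dec8 permE8_2 204) (etaOf etaE8_2 204) = true := by
  decide +kernel

theorem conjE8_2_205 : conjCheck chevE8 (pMonoCol chevE8 2 permE8_2 etaE8_2) 205 (dec8 permE8_2 205) (etaOf etaE8_2 205) = true := by
  decide +kernel

theorem conjE8_2_206 : conjCheck chevE8 (pMonoCol chevE8 2 permE8_2 etaE8_2) 206 (dec8 permE8_2 206) (etaOf etaE8_2 206) = true := by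
  decide +kernel

theorem conjE8_2_207 : conjCheck chevE8 (pMonoCol chevE8 2 permE8_2 etaE8_2) 207 (dec8 permE8_2 207) (etaOf etaE8_2 207) = true := by
  decide +kernel

theorem conjE8_2_208 : conjCheck chevE8 (pMonoCol chevE8 2 permE8_2 etaE8_2) 208 (dec8 permE8_2 208) (etaOf etaE8_2 208) = true := by
  decide +kernel

theorem conjE8_2_209 : conjCheck chevE8 (pMonoCol chevE8 2 permE8_2 etaE8_2) 209 (dec8 permE8_2 209) (etaOf etaE8_2 209) = true := by
  decide +kernel

theorem conjE8_2_from180 (s : ℕ) (h1 : 180 ≤ s) (h2 : s < 210) : conjCheck chevE8 (pMonoCol chevE8 2 permE8_2 etaE8_2) s (dec8 permE8_2 s) (etaOf etaE8_2 s) = true := by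
  have h : s = 180 ∨ s = 181 ∨ s = 182 ∨ s = 183 ∨ s = 184 ∨ s = 185 ∨ s = 186 ∨ s = 187 ∨ s = 188 ∨ s = 189 ∨ s = 190 ∨ s = 191 ∨ s = 192 ∨ s = 193 ∨ s = 194 ∨ s = 195 ∨ s = 196 ∨ s = 197 ∨ s = 198 ∨ s = 199 ∨ s = 200 ∨ s = 201 ∨ s = 202 ∨ s = 203 ∨ s = 204 ∨ s = 205 ∨ s = 206 ∨ s = 207 ∨ s = 208 ∨ s = 209 := by omega
  rcases h with rfl | rfl | rfl | rfl | rfl | rfl | rfl | rfl | rfl | rfl | rfl | rfl | rfl | rfl | rfl | rfl | rfl | rfl | rfl | rfl | rfl | rfl | rfl | rfl | rfl | rfl | rfl | rfl | rfl | rfl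
  exacts [conjE8_2_180, conjE8_2_181, conjE8_2_182, conjE8_2_183, conjE8_2_184, conjE8_2_185, conjE8_2_186, conjE8_2_187, conjE8_2_188, conjE8_2_189, conjE8_2_190, conjE8_2_191, conjE8_2_192, conjE8_2_193, conjE8_2_194, conjE8_2_195, conjE8_2_196, conjE8_2_197, conjE8_2_198, conjE8_2_199, conjE8_2_200, conjE8_2_201, conjE8_2_202, conjE8_2_203, conjE8_2_204, conjE8_2_205, conjE8_2_206, conjE8_2_207, conjE8_2_208, conjE8_2_209]

theorem conjE8_2_210 : conjCheck chevE8 (pMonoCol chevE8 2 permE8_2 etaE8_2) 210 (dec8 permE8_2 210) (etaOf etaE8_2 210) = true := by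
  decide +kernel

theorem conjE8_2_211 : conjCheck chevE8 (pMonoCol chevE8 2 permE8_2 etaE8_2) 211 (dec8 permE8_2 211) (etaOf etaE8_2 211) = true := by
  decide +kernel

theorem conjE8_2_212 : conjCheck chevE8 (pMonoCol chevE8 2 permE8_2 etaE8_2) 212 (dec8 permE8_2 212) (etaOf etaE8_2 212) = true := by
  decide +kernel

theorem conjE8_2_213 : conjCheck chevE8 (pMonoCol chevE8 2 permE8_2 etaE8_2) 213 (dec8 permE8_2 213) (etaOf etaE8_2 213) = true := by
  decide +kernel

theorem conjE8_2_214 : conjCheck chevE8 (pMonoCol chevE8 2 permE8_2 etaE8_2) 214 (dec8 permE8_2 214) (etaOf etaE8_2 214) = true := by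
  decide +kernel

theorem conjE8_2_215 : conjCheck chevE8 (pMonoCol chevE8 2 permE8_2 etaE8_2) 215 (dec8 permE8_2 215) (etaOf etaE8_2 215) = true := by
  decide +kernel

theorem conjE8_2_216 : conjCheck chevE8 (pMonoCol chevE8 2 permE8_2 etaE8_2) 216 (dec8 permE8_2 216) (etaOf etaE8_2 216) = true := by
  decide +kernel

theorem conjE8_2_217 : conjCheck chevE8 (pMonoCol chevE8 2 permE8_2 etaE8_2) 217 (dec8 permE8_2 217) (etaOf etaE8_2 217) = true := by
  decide +kernel

theorem conjE8_2_218 : conjCheck chevE8 (pMonoCol chevE8 2 permE8_2 etaE8_2) 218 (dec8 permE8_2 218) (etaOf etaE8_2 218) = true := by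
  decide +kernel

theorem conjE8_2_219 : conjCheck chevE8 (pMonoCol chevE8 2 permE8_2 etaE8_2) 219 (dec8 permE8_2 219) (etaOf etaE8_2 219) = true := by
  decide +kernel

theorem conjE8_2_220 : conjCheck chevE8 (pMonoCol chevE8 2 permE8_2 etaE8_2) 220 (dec8 permE8_2 220) (etaOf etaE8_2 220) = true := by
  decide +kernel

theorem conjE8_2_221 : conjCheck chevE8 (pMonoCol chevE8 2 permE8_2 etaE8_2) 221 (dec8 permE8_2 221) (etaOf etaE8_2 221) = true := by
  decide +kernel

theorem conjE8_2_222 : conjCheck chevE8 (pMonoCol chevE8 2 permE8_2 etaE8_2) 222 (dec8 permE8_2 222) (etaOf etaE8_2 222) = true := by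
  decide +kernel

theorem conjE8_2_223 : conjCheck chevE8 (pMonoCol chevE8 2 permE8_2 etaE8_2) 223 (dec8 permE8_2 223) (etaOf etaE8_2 223) = true := by
  decide +kernel

theorem conjE8_2_224 : conjCheck chevE8 (pMonoCol chevE8 2 permE8_2 etaE8_2) 224 (dec8 permE8_2 224) (etaOf etaE8_2 224) = true := by
  decide +kernel

theorem conjE8_2_225 : conjCheck chevE8 (pMonoCol chevE8 2 permE8_2 etaE8_2) 225 (dec8 permE8_2 225) (etaOf etaE8_2 225) = true := by
  decide +kernel

theorem conjE8_2_226 : conjCheck chevE8 (pMonoCol chevE8 2 permE8_2 etaE8_2) 226 (dec8 permE8_2 226) (etaOf etaE8_2 226) = true := by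
  decide +kernel

theorem conjE8_2_227 : conjCheck chevE8 (pMonoCol chevE8 2 permE8_2 etaE8_2) 227 (dec8 permE8_2 227) (etaOf etaE8_2 227) = true := by
  decide +kernel

theorem conjE8_2_228 : conjCheck chevE8 (pMonoCol chevE8 2 permE8_2 etaE8_2) 228 (dec8 permE8_2 228) (etaOf etaE8_2 228) = true := by
  decide +kernel

theorem conjE8_2_229 : conjCheck chevE8 (pMonoCol chevE8 2 permE8_2 etaE8_2) 229 (dec8 permE8_2 229) (etaOf etaE8_2 229) = true := by
  decide +kernel

theorem conjE8_2_230 : conjCheck chevE8 (pMonoCol chevE8 2 permE8_2 etaE8_2) 230 (dec8 permE8_2 230) (etaOf etaE8_2 230) = true := by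
  decide +kernel

theorem conjE8_2_231 : conjCheck chevE8 (pMonoCol chevE8 2 permE8_2 etaE8_2) 231 (dec8 permE8_2 231) (etaOf etaE8_2 231) = true := by
  decide +kernel

theorem conjE8_2_232 : conjCheck chevE8 (pMonoCol chevE8 2 permE8_2 etaE8_2) 232 (dec8 permE8_2 232) (etaOf etaE8_2 232) = true := by
  decide +kernel

theorem conjE8_2_233 : conjCheck chevE8 (pMonoCol chevE8 2 permE8_2 etaE8_2) 233 (dec8 permE8_2 233) (etaOf etaE8_2 233) = true := by
  decide +kernel

theorem conjE8_2_234 : conjCheck chevE8 (pMonoCol chevE8 2 permE8_2 etaE8_2) 234 (dec8 permE8_2 234) (etaOf etaE8_2 234) = true := by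
  decide +kernel

theorem conjE8_2_235 : conjCheck chevE8 (pMonoCol chevE8 2 permE8_2 etaE8_2) 235 (dec8 permE8_2 235) (etaOf etaE8_2 235) = true := by
  decide +kernel

theorem conjE8_2_236 : conjCheck chevE8 (pMonoCol chevE8 2 permE8_2 etaE8_2) 236 (dec8 permE8_2 236) (etaOf etaE8_2 236) = true := by
  decide +kernel

theorem conjE8_2_237 : conjCheck chevE8 (pMonoCol chevE8 2 permE8_2 etaE8_2) 237 (dec8 permE8_2 237) (etaOf etaE8_2 237) = true := by
  decide +kernel

theorem conjE8_2_238 : conjCheck chevE8 (pMonoCol chevE8 2 permE8_2 etaE8_2) 238 (dec8 permE8_2 238) (etaOf etaE8_2 238) = true := by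
  decide +kernel

theorem conjE8_2_239 : conjCheck chevE8 (pMonoCol chevE8 2 permE8_2 etaE8_2) 239 (dec8 permE8_2 239) (etaOf etaE8_2 239) = true := by
  decide +kernel

theorem conjE8_2_from210 (s : ℕ) (h1 : 210 ≤ s) (h2 : s < 240) : conjCheck chevE8 (pMonoCol chevE8 2 permE8_2 etaE8_2) s (dec8 permE8_2 s) (etaOf etaE8_2 s) = true := by
  have h : s = 210 ∨ s = 211 ∨ s = 212 ∨ s = 213 ∨ s = 214 ∨ s = 215 ∨ s = 216 ∨ s = 217 ∨ s = 218 ∨ s = 219 ∨ s = 220 ∨ s = 221 ∨ s = 222 ∨ s = 223 ∨ s = 224 ∨ s = 225 ∨ s = 226 ∨ s = 227 ∨ s = 228 ∨ s = 229 ∨ s = 230 ∨ s = 231 ∨ s = 232 ∨ s = 233 ∨ s = 234 ∨ s = 235 ∨ s = 236 ∨ s = 237 ∨ s = 238 ∨ s = 239 := by omega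
  rcases h with rfl | rfl | rfl | rfl | rfl | rfl | rfl | rfl | rfl | rfl | rfl | rfl | rfl | rfl | rfl | rfl | rfl | rfl | rfl | rfl | rfl | rfl | rfl | rfl | rfl | rfl | rfl | rfl | rfl | rfl
  exacts [conjE8_2_210, conjE8_2_211, conjE8_2_212, conjE8_2_213, conjE8_2_214, conjE8_2_215, conjE8_2_216, conjE8_2_217, conjE8_2_218, conjE8_2_219, conjE8_2_220, conjE8_2_221, conjE8_2_222, conjE8_2_223, conjE8_2_224, conjE8_2_225, conjE8_2_226, conjE8_2_227, conjE8_2_228, conjE8_2_229, conjE8_2_230, conjE8_2_231, conjE8_2_232, conjE8_2_233, conjE8_2_234, conjE8_2_235, conjE8_2_236, conjE8_2_237, conjE8_2_238, conjE8_2_239]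

end Cfsg.Agent.Helper18
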