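import Cfsg.Agent.Lib.Helper18.ConjData

set_option autoImplicit false
set_option maxRecDepth 100000
set_option Elab.async false

namespace Cfsg.Agent.Helper18

open Cfsg.Lie

theorem conjE8_3_0 : conjCheck chevE8 (pMonoCol chevE8 3 permE8_3 etaE8_3) 0 (dec8 permE8_3 0) (etaOf etaE8_3 0) = true := by
  decide +kernel

theorem conjE8_3_1 : conjCheck chevE8 (pMonoCol chevE8 3 permE8_3 etaE8_3) 1 (dec8 permE8_3 1) (etaOf etaE8_3 1) = true := by
  decide +kernel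

theorem conjE8_3_2 : conjCheck chevE8 (pMonoCol chevE8 3 permE8_3 etaE8_3) 2 (dec8 permE8_3 2) (etaOf etaE8_3 2) = true := by
  decide +kernel

theorem conjE8_3_3 : conjCheck chevE8 (pMonoCol chevE8 3 permE8_3 etaE8_3) 3 (dec8 permE8_3 3) (etaOf etaE8_3 3) = true := by
  decide +kernel

theorem conjE8_3_4 : conjCheck chevE8 (pMonoCol chevE8 3 permE8_3 etaE8_3) 4 (dec8 permE8_3 4) (etaOf etaE8_3 4) = true := by
  decide +kernel

theorem conjE8_3_5 : conjCheck chevE8 (pMonoCol chevE8 3 permE8_3 etaE8_3) 5 (dec8 permE8_3 5) (etaOf etaE8_3 5) = true := by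
  decide +kernel

theorem conjE8_3_6 : conjCheck chevE8 (pMonoCol chevE8 3 permE8_3 etaE8_3) 6 (dec8 permE8_3 6) (etaOf etaE8_3 6) = true := by
  decide +kernel

theorem conjE8_3_7 : conjCheck chevE8 (pMonoCol chevE8 3 permE8_3 etaE8_3) 7 (dec8 permE8_3 7) (etaOf etaE8_3 7) = true := by
  decide +kernel

theorem conjE8_3_8 : conjCheck chevE8 (pMonoCol chevE8 3 permE8_3 etaE8_3) 8 (dec8 permE8_3 8) (etaOf etaE8_3 8) = true := by
  decide +kernel

theorem conjE8_3_9 : conjCheck chevE8 (pMonoCol chevE8 3 permE8_3 etaE8_3) 9 (dec8 permE8_3 9) (etaOf etaE8_3 9) = true := by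
  decide +kernel

theorem conjE8_3_10 : conjCheck chevE8 (pMonoCol chevE8 3 permE8_3 etaE8_3) 10 (dec8 permE8_3 10) (etaOf etaE8_3 10) = true := by
  decide +kernel

theorem conjE8_3_11 : conjCheck chevE8 (pMonoCol chevE8 3 permE8_3 etaE8_3) 11 (dec8 permE8_3 11) (etaOf etaE8_3 11) = true := by
  decide +kernel

theorem conjE8_3_12 : conjCheck chevE8 (pMonoCol chevE8 3 permE8_3 etaE8_3) 12 (dec8 permE8_3 12) (etaOf etaE8_3 12) = true := by
  decide +kernel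

theorem conjE8_3_13 : conjCheck chevE8 (pMonoCol chevE8 3 permE8_3 etaE8_3) 13 (dec8 permE8_3 13) (etaOf etaE8_3 13) = true := by
  decide +kernel

theorem conjE8_3_14 : conjCheck chevE8 (pMonoCol chevE8 3 permE8_3 etaE8_3) 14 (dec8 permE8_3 14) (etaOf etaE8_3 14) = true := by
  decide +kernel

theorem conjE8_3_15 : conjCheck chevE8 (pMonoCol chevE8 3 permE8_3 etaE8_3) 15 (dec8 permE8_3 15) (etaOf etaE8_3 15) = true := by
  decide +kernel

theorem conjE8_3_16 : conjCheck chevE8 (pMonoCol chevE8 3 permE8_3 etaE8_3) 16 (dec8 permE8_3 16) (etaOf etaE8_3 16) = true := by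
  decide +kernel

theorem conjE8_3_17 : conjCheck chevE8 (pMonoCol chevE8 3 permE8_3 etaE8_3) 17 (dec8 permE8_3 17) (etaOf etaE8_3 17) = true := by
  decide +kernel

theorem conjE8_3_18 : conjCheck chevE8 (pMonoCol chevE8 3 permE8_3 etaE8_3) 18 (dec8 permE8_3 18) (etaOf etaE8_3 18) = true := by
  decide +kernel

theorem conjE8_3_19 : conjCheck chevE8 (pMonoCol chevE8 3 permE8_3 etaE8_3) 19 (dec8 permE8_3 19) (etaOf etaE8_3 19) = true := by
  decide +kernel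

theorem conjE8_3_20 : conjCheck chevE8 (pMonoCol chevE8 3 permE8_3 etaE8_3) 20 (dec8 permE8_3 20) (etaOf etaE8_3 20) = true := by
  decide +kernel

theorem conjE8_3_21 : conjCheck chevE8 (pMonoCol chevE8 3 permE8_3 etaE8_3) 21 (dec8 permE8_3 21) (etaOf etaE8_3 21) = true := by
  decide +kernel

theorem conjE8_3_22 : conjCheck chevE8 (pMonoCol chevE8 3 permE8_3 etaE8_3) 22 (dec8 permE8_3 22) (etaOf etaE8_3 22) = true := by
  decide +kernel

theorem conjE8_3_23 : conjCheck chevE8 (pMonoCol chevE8 3 permE8_3 etaE8_3) 23 (dec8 permE8_3 23) (etaOf etaE8_3 23) = true := by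
  decide +kernel

theorem conjE8_3_24 : conjCheck chevE8 (pMonoCol chevE8 3 permE8_3 etaE8_3) 24 (dec8 permE8_3 24) (etaOf etaE8_3 24) = true := by
  decide +kernel

theorem conjE8_3_25 : conjCheck chevE8 (pMonoCol chevE8 3 permE8_3 etaE8_3) 25 (dec8 permE8_3 25) (etaOf etaE8_3 25) = true := by
  decide +kernel

theorem conjE8_3_26 : conjCheck chevE8 (pMonoCol chevE8 3 permE8_3 etaE8_3) 26 (dec8 permE8_3 26) (etaOf etaE8_3 26) = true := by
  decide +kernel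

theorem conjE8_3_27 : conjCheck chevE8 (pMonoCol chevE8 3 permE8_3 etaE8_3) 27 (dec8 permE8_3 27) (etaOf etaE8_3 27) = true := by
  decide +kernel

theorem conjE8_3_28 : conjCheck chevE8 (pMonoCol chevE8 3 permE8_3 etaE8_3) 28 (dec8 permE8_3 28) (etaOf etaE8_3 28) = true := by
  decide +kernel

theorem conjE8_3_29 : conjCheck chevE8 (pMonoCol chevE8 3 permE8_3 etaE8_3) 29 (dec8 permE8_3 29) (etaOf etaE8_3 29) = true := by
  decide +kernel

theorem conjE8_3_from0 (s : ℕ) (h1 : 0 ≤ s) (h2 : s < 30) : conjCheck chevE8 (pMonoCol chevE8 3 permE8_3 etaE8_3) s (dec8 permE8_3 s) (etaOf etaE8_3 s) = true := by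
  have h : s = 0 ∨ s = 1 ∨ s = 2 ∨ s = 3 ∨ s = 4 ∨ s = 5 ∨ s = 6 ∨ s = 7 ∨ s = 8 ∨ s = 9 ∨ s = 10 ∨ s = 11 ∨ s = 12 ∨ s = 13 ∨ s = 14 ∨ s = 15 ∨ s = 16 ∨ s = 17 ∨ s = 18 ∨ s = 19 ∨ s = 20 ∨ s = 21 ∨ s = 22 ∨ s = 23 ∨ s = 24 ∨ s = 25 ∨ s = 26 ∨ s = 27 ∨ s = 28 ∨ s = 29 := by omega
  rcases h with rfl | rfl | rfl | rfl | rfl | rfl | rfl | rfl | rfl | rfl | rfl | rfl | rfl | rfl | rfl | rfl | rfl | rfl | rfl | rfl | rfl | rfl | rfl | rfl | rfl | rfl | rfl | rfl | rfl | rfl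
  exacts [conjE8_3_0, conjE8_3_1, conjE8_3_2, conjE8_3_3, conjE8_3_4, conjE8_3_5, conjE8_3_6, conjE8_3_7, conjE8_3_8, conjE8_3_9, conjE8_3_10, conjE8_3_11, conjE8_3_12, conjE8_3_13, conjE8_3_14, conjE8_3_15, conjE8_3_16, conjE8_3_17, conjE8_3_18, conjE8_3_19, conjE8_3_20, conjE8_3_21, conjE8_3_22, conjE8_3_23, conjE8_3_24, conjE8_3_25, conjE8_3_26, conjE8_3_27, conjE8_3_28, conjE8_3_29]

theorem conjE8_3_30 : conjCheck chevE8 (pMonoCol chevE8 3 permE8_3 etaE8_3) 30 (dec8 permE8_3 30) (etaOf etaE8_3 30) = true := by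
  decide +kernel

theorem conjE8_3_31 : conjCheck chevE8 (pMonoCol chevE8 3 permE8_3 etaE8_3) 31 (dec8 permE8_3 31) (etaOf etaE8_3 31) = true := by
  decide +kernel

theorem conjE8_3_32 : conjCheck chevE8 (pMonoCol chevE8 3 permE8_3 etaE8_3) 32 (dec8 permE8_3 32) (etaOf etaE8_3 32) = true := by
  decide +kernel

theorem conjE8_3_33 : conjCheck chevE8 (pMonoCol chevE8 3 permE8_3 etaE8_3) 33 (dec8 permE8_3 33) (etaOf etaE8_3 33) = true := by
  decide +kernel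

theorem conjE8_3_34 : conjCheck chevE8 (pMonoCol chevE8 3 permE8_3 etaE8_3) 34 (dec8 permE8_3 34) (etaOf etaE8_3 34) = true := by
  decide +kernel

theorem conjE8_3_35 : conjCheck chevE8 (pMonoCol chevE8 3 permE8_3 etaE8_3) 35 (dec8 permE8_3 35) (etaOf etaE8_3 35) = true := by
  decide +kernel

theorem conjE8_3_36 : conjCheck chevE8 (pMonoCol chevE8 3 permE8_3 etaE8_3) 36 (dec8 permE8_3 36) (etaOf etaE8_3 36) = true := by
  decide +kernel

theorem conjE8_3_37 : conjCheck chevE8 (pMonoCol chevE8 3 permE8_3 etaE8_3) 37 (dec8 permE8_3 37) (etaOf etaE8_3 37) = true := by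
  decide +kernel

theorem conjE8_3_38 : conjCheck chevE8 (pMonoCol chevE8 3 permE8_3 etaE8_3) 38 (dec8 permE8_3 38) (etaOf etaE8_3 38) = true := by
  decide +kernel

theorem conjE8_3_39 : conjCheck chevE8 (pMonoCol chevE8 3 permE8_3 etaE8_3) 39 (dec8 permE8_3 39) (etaOf etaE8_3 39) = true := by
  decide +kernel

theorem conjE8_3_40 : conjCheck chevE8 (pMonoCol chevE8 3 permE8_3 etaE8_3) 40 (dec8 permE8_3 40) (etaOf etaE8_3 40) = true := by
  decide +kernel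

theorem conjE8_3_41 : conjCheck chevE8 (pMonoCol chevE8 3 permE8_3 etaE8_3) 41 (dec8 permE8_3 41) (etaOf etaE8_3 41) = true := by
  decide +kernel

theorem conjE8_3_42 : conjCheck chevE8 (pMonoCol chevE8 3 permE8_3 etaE8_3) 42 (dec8 permE8_3 42) (etaOf etaE8_3 42) = true := by
  decide +kernel

theorem conjE8_3_43 : conjCheck chevE8 (pMonoCol chevE8 3 permE8_3 etaE8_3) 43 (dec8 permE8_3 43) (etaOf etaE8_3 43) = true := by
  decide +kernel

theorem conjE8_3_44 : conjCheck chevE8 (pMonoCol chevE8 3 permE8_3 etaE8_3) 44 (dec8 permE8_3 44) (etaOf etaE8_3 44) = true := by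
  decide +kernel

theorem conjE8_3_45 : conjCheck chevE8 (pMonoCol chevE8 3 permE8_3 etaE8_3) 45 (dec8 permE8_3 45) (etaOf etaE8_3 45) = true := by
  decide +kernel

theorem conjE8_3_46 : conjCheck chevE8 (pMonoCol chevE8 3 permE8_3 etaE8_3) 46 (dec8 permE8_3 46) (etaOf etaE8_3 46) = true := by
  decide +kernel

theorem conjE8_3_47 : conjCheck chevE8 (pMonoCol chevE8 3 permE8_3 etaE8_3) 47 (dec8 permE8_3 47) (etaOf etaE8_3 47) = true := by
  decide +kernel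

theorem conjE8_3_48 : conjCheck chevE8 (pMonoCol chevE8 3 permE8_3 etaE8_3) 48 (dec8 permE8_3 48) (etaOf etaE8_3 48) = true := by
  decide +kernel

theorem conjE8_3_49 : conjCheck chevE8 (pMonoCol chevE8 3 permE8_3 etaE8_3) 49 (dec8 permE8_3 49) (etaOf etaE8_3 49) = true := by
  decide +kernel

theorem conjE8_3_50 : conjCheck chevE8 (pMonoCol chevE8 3 permE8_3 etaE8_3) 50 (dec8 permE8_3 50) (etaOf etaE8_3 50) = true := by
  decide +kernel

theorem conjE8_3_51 : conjCheck chevE8 (pMonoCol chevE8 3 permE8_3 etaE8_3) 51 (dec8 permE8_3 51) (etaOf etaE8_3 51) = true := by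
  decide +kernel

theorem conjE8_3_52 : conjCheck chevE8 (pMonoCol chevE8 3 permE8_3 etaE8_3) 52 (dec8 permE8_3 52) (etaOf etaE8_3 52) = true := by
  decide +kernel

theorem conjE8_3_53 : conjCheck chevE8 (pMonoCol chevE8 3 permE8_3 etaE8_3) 53 (dec8 permE8_3 53) (etaOf etaE8_3 53) = true := by
  decide +kernel

theorem conjE8_3_54 : conjCheck chevE8 (pMonoCol chevE8 3 permE8_3 etaE8_3) 54 (dec8 permE8_3 54) (etaOf etaE8_3 54) = true := by
  decide +kernel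

theorem conjE8_3_55 : conjCheck chevE8 (pMonoCol chevE8 3 permE8_3 etaE8_3) 55 (dec8 permE8_3 55) (etaOf etaE8_3 55) = true := by
  decide +kernel

theorem conjE8_3_56 : conjCheck chevE8 (pMonoCol chevE8 3 permE8_3 etaE8_3) 56 (dec8 permE8_3 56) (etaOf etaE8_3 56) = true := by
  decide +kernel

theorem conjE8_3_57 : conjCheck chevE8 (pMonoCol chevE8 3 permE8_3 etaE8_3) 57 (dec8 permE8_3 57) (etaOf etaE8_3 57) = true := by
  decide +kernel

theorem conjE8_3_58 : conjCheck chevE8 (pMonoCol chevE8 3 permE8_3 etaE8_3) 58 (dec8 permE8_3 58) (etaOf etaE8_3 58) = true := by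
  decide +kernel

theorem conjE8_3_59 : conjCheck chevE8 (pMonoCol chevE8 3 permE8_3 etaE8_3) 59 (dec8 permE8_3 59) (etaOf etaE8_3 59) = true := by
  decide +kernel

theorem conjE8_3_from30 (s : ℕ) (h1 : 30 ≤ s) (h2 : s < 60) : conjCheck chevE8 (pMonoCol chevE8 3 permE8_3 etaE8_3) s (dec8 permE8_3 s) (etaOf etaE8_3 s) = true := by
  have h : s = 30 ∨ s = 31 ∨ s = 32 ∨ s = 33 ∨ s = 34 ∨ s = 35 ∨ s = 36 ∨ s = 37 ∨ s = 38 ∨ s = 39 ∨ s = 40 ∨ s = 41 ∨ s = 42 ∨ s = 43 ∨ s = 44 ∨ s = 45 ∨ s = 46 ∨ s = 47 ∨ s = 48 ∨ s = 49 ∨ s = 50 ∨ s = 51 ∨ s = 52 ∨ s = 53 ∨ s = 54 ∨ s = 55 ∨ s = 56 ∨ s = 57 ∨ s = 58 ∨ s = 59 := by omega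
  rcases h with rfl | rfl | rfl | rfl | rfl | rfl | rfl | rfl | rfl | rfl | rfl | rfl | rfl | rfl | rfl | rfl | rfl | rfl | rfl | rfl | rfl | rfl | rfl | rfl | rfl | rfl | rfl | rfl | rfl | rfl
  exacts [conjE8_3_30, conjE8_3_31, conjE8_3_32, conjE8_3_33, conjE8_3_34, conjE8_3_35, conjE8_3_36, conjE8_3_37, conjE8_3_38, conjE8_3_39, conjE8_3_40, conjE8_3_41, conjE8_3_42, conjE8_3_43, conjE8_3_44, conjE8_3_45, conjE8_3_46, conjE8_3_47, conjE8_3_48, conjE8_3_49, conjE8_3_50, conjE8_3_51, conjE8_3_52, conjE8_3_53, conjE8_3_54, conjE8_3_55, conjE8_3_56, conjE8_3_57, conjE8_3_58, conjE8_3_59]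

end Cfsg.Agent.Helper18
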