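import Cfsg.Agent.Lib.Helper18.ConjData

set_option autoImplicit false
set_option maxRecDepth 100000

namespace Cfsg.Agent.Helper18

open Cfsg.Lie

theorem conjE8_3_120 : conjCheck chevE8 (pMonoCol chevE8 3 permE8_3 etaE8_3) 120 (dec8 permE8_3 120) (etaOf etaE8_3 120) = true := by
  decide +kernel

theorem conjE8_3_121 : conjCheck chevE8 (pMonoCol chevE8 3 permE8_3 etaE8_3) 121 (dec8 permE8_3 121) (etaOf etaE8_3 121) = true := by
  decide +kernel

theorem conjE8_3_122 : conjCheck chevE8 (pMonoCol chevE8 3 permE8_3 etaE8_3) 122 (dec8 permE8_3 122) (etaOf etaE8_3 122) = true := by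
  decide +kernel

theorem conjE8_3_123 : conjCheck chevE8 (pMonoCol chevE8 3 permE8_3 etaE8_3) 123 (dec8 permE8_3 123) (etaOf etaE8_3 123) = true := by
  decide +kernel

theorem conjE8_3_124 : conjCheck chevE8 (pMonoCol chevE8 3 permE8_3 etaE8_3) 124 (dec8 permE8_3 124) (etaOf etaE8_3 124) = true := by
  decide +kernel

theorem conjE8_3_125 : conjCheck chevE8 (pMonoCol chevE8 3 permE8_3 etaE8_3) 125 (dec8 permE8_3 125) (etaOf etaE8_3 125) = true := by
  decide +kernel

theorem conjE8_3_126 : conjCheck chevE8 (pMonoCol chevE8 3 permE8_3 etaE8_3) 126 (dec8 permE8_3 126) (etaOf etaE8_3 126) = true := by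
  decide +kernel

theorem conjE8_3_127 : conjCheck chevE8 (pMonoCol chevE8 3 permE8_3 etaE8_3) 127 (dec8 permE8_3 127) (etaOf etaE8_3 127) = true := by
  decide +kernel

theorem conjE8_3_128 : conjCheck chevE8 (pMonoCol chevE8 3 permE8_3 etaE8_3) 128 (dec8 permE8_3 128) (etaOf etaE8_3 128) = true := by
  decide +kernel

theorem conjE8_3_129 : conjCheck chevE8 (pMonoCol chevE8 3 permE8_3 etaE8_3) 129 (dec8 permE8_3 129) (etaOf etaE8_3 129) = true := by
  decide +kernel

theorem conjE8_3_130 : conjCheck chevE8 (pMonoCol chevE8 3 permE8_3 etaE8_3) 130 (dec8 permE8_3 130) (etaOf etaE8_3 130) = true := by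
  decide +kernel

theorem conjE8_3_131 : conjCheck chevE8 (pMonoCol chevE8 3 permE8_3 etaE8_3) 131 (dec8 permE8_3 131) (etaOf etaE8_3 131) = true := by
  decide +kernel

theorem conjE8_3_132 : conjCheck chevE8 (pMonoCol chevE8 3 permE8_3 etaE8_3) 132 (dec8 permE8_3 132) (etaOf etaE8_3 132) = true := by
  decide +kernel

theorem conjE8_3_133 : conjCheck chevE8 (pMonoCol chevE8 3 permE8_3 etaE8_3) 133 (dec8 permE8_3 133) (etaOf etaE8_3 133) = true := by
  decide +kernel

theorem conjE8_3_134 : conjCheck chevE8 (pMonoCol chevE8 3 permE8_3 etaE8_3) 134 (dec8 permE8_3 134) (etaOf etaE8_3 134) = true := by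
  decide +kernel

theorem conjE8_3_135 : conjCheck chevE8 (pMonoCol chevE8 3 permE8_3 etaE8_3) 135 (dec8 permE8_3 135) (etaOf etaE8_3 135) = true := by
  decide +kernel

theorem conjE8_3_136 : conjCheck chevE8 (pMonoCol chevE8 3 permE8_3 etaE8_3) 136 (dec8 permE8_3 136) (etaOf etaE8_3 136) = true := by
  decide +kernel

theorem conjE8_3_137 : conjCheck chevE8 (pMonoCol chevE8 3 permE8_3 etaE8_3) 137 (dec8 permE8_3 137) (etaOf etaE8_3 137) = true := by
  decide +kernel

theorem conjE8_3_138 : conjCheck chevE8 (pMonoCol chevE8 3 permE8_3 etaE8_3) 138 (dec8 permE8_3 138) (etaOf etaE8_3 138) = true := by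
  decide +kernel

theorem conjE8_3_139 : conjCheck chevE8 (pMonoCol chevE8 3 permE8_3 etaE8_3) 139 (dec8 permE8_3 139) (etaOf etaE8_3 139) = true := by
  decide +kernel

theorem conjE8_3_140 : conjCheck chevE8 (pMonoCol chevE8 3 permE8_3 etaE8_3) 140 (dec8 permE8_3 140) (etaOf etaE8_3 140) = true := by
  decide +kernel

theorem conjE8_3_141 : conjCheck chevE8 (pMonoCol chevE8 3 permE8_3 etaE8_3) 141 (dec8 permE8_3 141) (etaOf etaE8_3 141) = true := by
  decide +kernel

theorem conjE8_3_142 : conjCheck chevE8 (pMonoCol chevE8 3 permE8_3 etaE8_3) 142 (dec8 permE8_3 142) (etaOf etaE8_3 142) = true := by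
  decide +kernel

theorem conjE8_3_143 : conjCheck chevE8 (pMonoCol chevE8 3 permE8_3 etaE8_3) 143 (dec8 permE8_3 143) (etaOf etaE8_3 143) = true := by
  decide +kernel

theorem conjE8_3_144 : conjCheck chevE8 (pMonoCol chevE8 3 permE8_3 etaE8_3) 144 (dec8 permE8_3 144) (etaOf etaE8_3 144) = true := by
  decide +kernel

theorem conjE8_3_145 : conjCheck chevE8 (pMonoCol chevE8 3 permE8_3 etaE8_3) 145 (dec8 permE8_3 145) (etaOf etaE8_3 145) = true := by
  decide +kernel

theorem conjE8_3_146 : conjCheck chevE8 (pMonoCol chevE8 3 permE8_3 etaE8_3) 146 (dec8 permE8_3 146) (etaOf etaE8_3 146) = true := by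
  decide +kernel

theorem conjE8_3_147 : conjCheck chevE8 (pMonoCol chevE8 3 permE8_3 etaE8_3) 147 (dec8 permE8_3 147) (etaOf etaE8_3 147) = true := by
  decide +kernel

theorem conjE8_3_148 : conjCheck chevE8 (pMonoCol chevE8 3 permE8_3 etaE8_3) 148 (dec8 permE8_3 148) (etaOf etaE8_3 148) = true := by
  decide +kernel

theorem conjE8_3_149 : conjCheck chevE8 (pMonoCol chevE8 3 permE8_3 etaE8_3) 149 (dec8 permE8_3 149) (etaOf etaE8_3 149) = true := by
  decide +kernel

theorem conjE8_3_from120 (s : ℕ) (h1 : 120 ≤ s) (h2 : s < 150) : conjCheck chevE8 (pMonoCol chevE8 3 permE8_3 etaE8_3) s (dec8 permE8_3 s) (etaOf etaE8_3 s) = true := by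
  have h : s = 120 ∨ s = 121 ∨ s = 122 ∨ s = 123 ∨ s = 124 ∨ s = 125 ∨ s = 126 ∨ s = 127 ∨ s = 128 ∨ s = 129 ∨ s = 130 ∨ s = 131 ∨ s = 132 ∨ s = 133 ∨ s = 134 ∨ s = 135 ∨ s = 136 ∨ s = 137 ∨ s = 138 ∨ s = 139 ∨ s = 140 ∨ s = 141 ∨ s = 142 ∨ s = 143 ∨ s = 144 ∨ s = 145 ∨ s = 146 ∨ s = 147 ∨ s = 148 ∨ s = 149 := by omega
  rcases h with rfl | rfl | rfl | rfl | rfl | rfl | rfl | rfl | rfl | rfl | rfl | rfl | rfl | rfl | rfl | rfl | rfl | rfl | rfl | rfl | rfl | rfl | rfl | rfl | rfl | rfl | rfl | rfl | rfl | rfl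
  exacts [conjE8_3_120, conjE8_3_121, conjE8_3_122, conjE8_3_123, conjE8_3_124, conjE8_3_125, conjE8_3_126, conjE8_3_127, conjE8_3_128, conjE8_3_129, conjE8_3_130, conjE8_3_131, conjE8_3_132, conjE8_3_133, conjE8_3_134, conjE8_3_135, conjE8_3_136, conjE8_3_137, conjE8_3_138, conjE8_3_139, conjE8_3_140, conjE8_3_141, conjE8_3_142, conjE8_3_143, conjE8_3_144, conjE8_3_145, conjE8_3_146, conjE8_3_147, conjE8_3_148, conjE8_3_149]

theorem conjE8_3_150 : conjCheck chevE8 (pMonoCol chevE8 3 permE8_3 etaE8_3) 150 (dec8 permE8_3 150) (etaOf etaE8_3 150) = true := by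
  decide +kernel

theorem conjE8_3_151 : conjCheck chevE8 (pMonoCol chevE8 3 permE8_3 etaE8_3) 151 (dec8 permE8_3 151) (etaOf etaE8_3 151) = true := by
  decide +kernel

theorem conjE8_3_152 : conjCheck chevE8 (pMonoCol chevE8 3 permE8_3 etaE8_3) 152 (dec8 permE8_3 152) (etaOf etaE8_3 152) = true := by
  decide +kernel

theorem conjE8_3_153 : conjCheck chevE8 (pMonoCol chevE8 3 permE8_3 etaE8_3) 153 (dec8 permE8_3 153) (etaOf etaE8_3 153) = true := by
  decide +kernel

theorem conjE8_3_154 : conjCheck chevE8 (pMonoCol chevE8 3 permE8_3 etaE8_3) 154 (dec8 permE8_3 154) (etaOf etaE8_3 154) = true := by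
  decide +kernel

theorem conjE8_3_155 : conjCheck chevE8 (pMonoCol chevE8 3 permE8_3 etaE8_3) 155 (dec8 permE8_3 155) (etaOf etaE8_3 155) = true := by
  decide +kernel

theorem conjE8_3_156 : conjCheck chevE8 (pMonoCol chevE8 3 permE8_3 etaE8_3) 156 (dec8 permE8_3 156) (etaOf etaE8_3 156) = true := by
  decide +kernel

theorem conjE8_3_157 : conjCheck chevE8 (pMonoCol chevE8 3 permE8_3 etaE8_3) 157 (dec8 permE8_3 157) (etaOf etaE8_3 157) = true := by
  decide +kernel

theorem conjE8_3_158 : conjCheck chevE8 (pMonoCol chevE8 3 permE8_3 etaE8_3) 158 (dec8 permE8_3 158) (etaOf etaE8_3 158) = true := by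
  decide +kernel

theorem conjE8_3_159 : conjCheck chevE8 (pMonoCol chevE8 3 permE8_3 etaE8_3) 159 (dec8 permE8_3 159) (etaOf etaE8_3 159) = true := by
  decide +kernel

theorem conjE8_3_160 : conjCheck chevE8 (pMonoCol chevE8 3 permE8_3 etaE8_3) 160 (dec8 permE8_3 160) (etaOf etaE8_3 160) = true := by
  decide +kernel

theorem conjE8_3_161 : conjCheck chevE8 (pMonoCol chevE8 3 permE8_3 etaE8_3) 161 (dec8 permE8_3 161) (etaOf etaE8_3 161) = true := by
  decide +kernel

theorem conjE8_3_162 : conjCheck chevE8 (pMonoCol chevE8 3 permE8_3 etaE8_3) 162 (dec8 permE8_3 162) (etaOf etaE8_3 162) = true := by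
  decide +kernel

theorem conjE8_3_163 : conjCheck chevE8 (pMonoCol chevE8 3 permE8_3 etaE8_3) 163 (dec8 permE8_3 163) (etaOf etaE8_3 163) = true := by
  decide +kernel

theorem conjE8_3_164 : conjCheck chevE8 (pMonoCol chevE8 3 permE8_3 etaE8_3) 164 (dec8 permE8_3 164) (etaOf etaE8_3 164) = true := by
  decide +kernel

theorem conjE8_3_165 : conjCheck chevE8 (pMonoCol chevE8 3 permE8_3 etaE8_3) 165 (dec8 permE8_3 165) (etaOf etaE8_3 165) = true := by
  decide +kernel

theorem conjE8_3_166 : conjCheck chevE8 (pMonoCol chevE8 3 permE8_3 etaE8_3) 166 (dec8 permE8_3 166) (etaOf etaE8_3 166) = true := by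
  decide +kernel

theorem conjE8_3_167 : conjCheck chevE8 (pMonoCol chevE8 3 permE8_3 etaE8_3) 167 (dec8 permE8_3 167) (etaOf etaE8_3 167) = true := by
  decide +kernel

theorem conjE8_3_168 : conjCheck chevE8 (pMonoCol chevE8 3 permE8_3 etaE8_3) 168 (dec8 permE8_3 168) (etaOf etaE8_3 168) = true := by
  decide +kernel

theorem conjE8_3_169 : conjCheck chevE8 (pMonoCol chevE8 3 permE8_3 etaE8_3) 169 (dec8 permE8_3 169) (etaOf etaE8_3 169) = true := by
  decide +kernel

theorem conjE8_3_170 : conjCheck chevE8 (pMonoCol chevE8 3 permE8_3 etaE8_3) 170 (dec8 permE8_3 170) (etaOf etaE8_3 170) = true := by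
  decide +kernel

theorem conjE8_3_171 : conjCheck chevE8 (pMonoCol chevE8 3 permE8_3 etaE8_3) 171 (dec8 permE8_3 171) (etaOf etaE8_3 171) = true := by
  decide +kernel

theorem conjE8_3_172 : conjCheck chevE8 (pMonoCol chevE8 3 permE8_3 etaE8_3) 172 (dec8 permE8_3 172) (etaOf etaE8_3 172) = true := by
  decide +kernel

theorem conjE8_3_173 : conjCheck chevE8 (pMonoCol chevE8 3 permE8_3 etaE8_3) 173 (dec8 permE8_3 173) (etaOf etaE8_3 173) = true := by
  decide +kernel

theorem conjE8_3_174 : conjCheck chevE8 (pMonoCol chevE8 3 permE8_3 etaE8_3) 174 (dec8 permE8_3 174) (etaOf etaE8_3 174) = true := by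
  decide +kernel

theorem conjE8_3_175 : conjCheck chevE8 (pMonoCol chevE8 3 permE8_3 etaE8_3) 175 (dec8 permE8_3 175) (etaOf etaE8_3 175) = true := by
  decide +kernel

theorem conjE8_3_176 : conjCheck chevE8 (pMonoCol chevE8 3 permE8_3 etaE8_3) 176 (dec8 permE8_3 176) (etaOf etaE8_3 176) = true := by
  decide +kernel

theorem conjE8_3_177 : conjCheck chevE8 (pMonoCol chevE8 3 permE8_3 etaE8_3) 177 (dec8 permE8_3 177) (etaOf etaE8_3 177) = true := by
  decide +kernel

theorem conjE8_3_178 : conjCheck chevE8 (pMonoCol chevE8 3 permE8_3 etaE8_3) 178 (dec8 permE8_3 178) (etaOf etaE8_3 178) = true := by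
  decide +kernel

theorem conjE8_3_179 : conjCheck chevE8 (pMonoCol chevE8 3 permE8_3 etaE8_3) 179 (dec8 permE8_3 179) (etaOf etaE8_3 179) = true := by
  decide +kernel

theorem conjE8_3_from150 (s : ℕ) (h1 : 150 ≤ s) (h2 : s < 180) : conjCheck chevE8 (pMonoCol chevE8 3 permE8_3 etaE8_3) s (dec8 permE8_3 s) (etaOf etaE8_3 s) = true := by
  have h : s = 150 ∨ s = 151 ∨ s = 152 ∨ s = 153 ∨ s = 154 ∨ s = 155 ∨ s = 156 ∨ s = 157 ∨ s = 158 ∨ s = 159 ∨ s = 160 ∨ s = 161 ∨ s = 162 ∨ s = 163 ∨ s = 164 ∨ s = 165 ∨ s = 166 ∨ s = 167 ∨ s = 168 ∨ s = 169 ∨ s = 170 ∨ s = 171 ∨ s = 172 ∨ s = 173 ∨ s = 174 ∨ s = 175 ∨ s = 176 ∨ s = 177 ∨ s = 178 ∨ s = 179 := by omega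
  rcases h with rfl | rfl | rfl | rfl | rfl | rfl | rfl | rfl | rfl | rfl | rfl | rfl | rfl | rfl | rfl | rfl | rfl | rfl | rfl | rfl | rfl | rfl | rfl | rfl | rfl | rfl | rfl | rfl | rfl | rfl
  exacts [conjE8_3_150, conjE8_3_151, conjE8_3_152, conjE8_3_153, conjE8_3_154, conjE8_3_155, conjE8_3_156, conjE8_3_157, conjE8_3_158, conjE8_3_159, conjE8_3_160, conjE8_3_161, conjE8_3_162, conjE8_3_163, conjE8_3_164, conjE8_3_165, conjE8_3_166, conjE8_3_167, conjE8_3_168, conjE8_3_169, conjE8_3_170, conjE8_3_171, conjE8_3_172, conjE8_3_173, conjE8_3_174, conjE8_3_175, conjE8_3_176, conjE8_3_177, conjE8_3_178, conjE8_3_179]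

end Cfsg.Agent.Helper18
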