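import Cfsg.Agent.Lib.Helper18.ConjData

set_option autoImplicit false
set_option maxRecDepth 100000

namespace Cfsg.Agent.Helper18

open Cfsg.Lie

theorem conjE8_3_180 : conjCheck chevE8 (pMonoCol chevE8 3 permE8_3 etaE8_3) 180 (dec8 permE8_3 180) (etaOf etaE8_3 180) = true := by
  decide +kernel

theorem conjE8_3_181 : conjCheck chevE8 (pMonoCol chevE8 3 permE8_3 etaE8_3) 181 (dec8 permE8_3 181) (etaOf etaE8_3 181) = true := by
  decide +kernel

theorem conjE8_3_182 : conjCheck chevE8 (pMonoCol chevE8 3 permE8_3 etaE8_3) 182 (dec8 permE8_3 182) (etaOf etaE8_3 182) = true := by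
  decide +kernel

theorem conjE8_3_183 : conjCheck chevE8 (pMonoCol chevE8 3 permE8_3 etaE8_3) 183 (dec8 permE8_3 183) (etaOf etaE8_3 183) = true := by
  decide +kernel

theorem conjE8_3_184 : conjCheck chevE8 (pMonoCol chevE8 3 permE8_3 etaE8_3) 184 (dec8 permE8_3 184) (etaOf etaE8_3 184) = true := by
  decide +kernel

theorem conjE8_3_185 : conjCheck chevE8 (pMonoCol chevE8 3 permE8_3 etaE8_3) 185 (dec8 permE8_3 185) (etaOf etaE8_3 185) = true := by
  decide +kernel

theorem conjE8_3_186 : conjCheck chevE8 (pMonoCol chevE8 3 permE8_3 etaE8_3) 186 (dec8 permE8_3 186) (etaOf etaE8_3 186) = true := by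
  decide +kernel

theorem conjE8_3_187 : conjCheck chevE8 (pMonoCol chevE8 3 permE8_3 etaE8_3) 187 (dec8 permE8_3 187) (etaOf etaE8_3 187) = true := by
  decide +kernel

theorem conjE8_3_188 : conjCheck chevE8 (pMonoCol chevE8 3 permE8_3 etaE8_3) 188 (dec8 permE8_3 188) (etaOf etaE8_3 188) = true := by
  decide +kernel

theorem conjE8_3_189 : conjCheck chevE8 (pMonoCol chevE8 3 permE8_3 etaE8_3) 189 (dec8 permE8_3 189) (etaOf etaE8_3 189) = true := by
  decide +kernel

theorem conjE8_3_190 : conjCheck chevE8 (pMonoCol chevE8 3 permE8_3 etaE8_3) 190 (dec8 permE8_3 190) (etaOf etaE8_3 190) = true := by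
  decide +kernel

theorem conjE8_3_191 : conjCheck chevE8 (pMonoCol chevE8 3 permE8_3 etaE8_3) 191 (dec8 permE8_3 191) (etaOf etaE8_3 191) = true := by
  decide +kernel

theorem conjE8_3_192 : conjCheck chevE8 (pMonoCol chevE8 3 permE8_3 etaE8_3) 192 (dec8 permE8_3 192) (etaOf etaE8_3 192) = true := by
  decide +kernel

theorem conjE8_3_193 : conjCheck chevE8 (pMonoCol chevE8 3 permE8_3 etaE8_3) 193 (dec8 permE8_3 193) (etaOf etaE8_3 193) = true := by
  decide +kernel

theorem conjE8_3_194 : conjCheck chevE8 (pMonoCol chevE8 3 permE8_3 etaE8_3) 194 (dec8 permE8_3 194) (etaOf etaE8_3 194) = true := by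
  decide +kernel

theorem conjE8_3_195 : conjCheck chevE8 (pMonoCol chevE8 3 permE8_3 etaE8_3) 195 (dec8 permE8_3 195) (etaOf etaE8_3 195) = true := by
  decide +kernel

theorem conjE8_3_196 : conjCheck chevE8 (pMonoCol chevE8 3 permE8_3 etaE8_3) 196 (dec8 permE8_3 196) (etaOf etaE8_3 196) = true := by
  decide +kernel

theorem conjE8_3_197 : conjCheck chevE8 (pMonoCol chevE8 3 permE8_3 etaE8_3) 197 (dec8 permE8_3 197) (etaOf etaE8_3 197) = true := by
  decide +kernel

theorem conjE8_3_198 : conjCheck chevE8 (pMonoCol chevE8 3 permE8_3 etaE8_3) 198 (dec8 permE8_3 198) (etaOf etaE8_3 198) = true := by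
  decide +kernel

theorem conjE8_3_199 : conjCheck chevE8 (pMonoCol chevE8 3 permE8_3 etaE8_3) 199 (dec8 permE8_3 199) (etaOf etaE8_3 199) = true := by
  decide +kernel

theorem conjE8_3_200 : conjCheck chevE8 (pMonoCol chevE8 3 permE8_3 etaE8_3) 200 (dec8 permE8_3 200) (etaOf etaE8_3 200) = true := by
  decide +kernel

theorem conjE8_3_201 : conjCheck chevE8 (pMonoCol chevE8 3 permE8_3 etaE8_3) 201 (dec8 permE8_3 201) (etaOf etaE8_3 201) = true := by
  decide +kernel

theorem conjE8_3_202 : conjCheck chevE8 (pMonoCol chevE8 3 permE8_3 etaE8_3) 202 (dec8 permE8_3 202) (etaOf etaE8_3 202) = true := by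
  decide +kernel

theorem conjE8_3_203 : conjCheck chevE8 (pMonoCol chevE8 3 permE8_3 etaE8_3) 203 (dec8 permE8_3 203) (etaOf etaE8_3 203) = true := by
  decide +kernel

theorem conjE8_3_204 : conjCheck chevE8 (pMonoCol chevE8 3 permE8_3 etaE8_3) 204 (dec8 permE8_3 204) (etaOf etaE8_3 204) = true := by
  decide +kernel

theorem conjE8_3_205 : conjCheck chevE8 (pMonoCol chevE8 3 permE8_3 etaE8_3) 205 (dec8 permE8_3 205) (etaOf etaE8_3 205) = true := by
  decide +kernel

theorem conjE8_3_206 : conjCheck chevE8 (pMonoCol chevE8 3 permE8_3 etaE8_3) 206 (dec8 permE8_3 206) (etaOf etaE8_3 206) = true := by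
  decide +kernel

theorem conjE8_3_207 : conjCheck chevE8 (pMonoCol chevE8 3 permE8_3 etaE8_3) 207 (dec8 permE8_3 207) (etaOf etaE8_3 207) = true := by
  decide +kernel

theorem conjE8_3_208 : conjCheck chevE8 (pMonoCol chevE8 3 permE8_3 etaE8_3) 208 (dec8 permE8_3 208) (etaOf etaE8_3 208) = true := by
  decide +kernel

theorem conjE8_3_209 : conjCheck chevE8 (pMonoCol chevE8 3 permE8_3 etaE8_3) 209 (dec8 permE8_3 209) (etaOf etaE8_3 209) = true := by
  decide +kernel

theorem conjE8_3_from180 (s : ℕ) (h1 : 180 ≤ s) (h2 : s < 210) : conjCheck chevE8 (pMonoCol chevE8 3 permE8_3 etaE8_3) s (dec8 permE8_3 s) (etaOf etaE8_3 s) = true := by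
  have h : s = 180 ∨ s = 181 ∨ s = 182 ∨ s = 183 ∨ s = 184 ∨ s = 185 ∨ s = 186 ∨ s = 187 ∨ s = 188 ∨ s = 189 ∨ s = 190 ∨ s = 191 ∨ s = 192 ∨ s = 193 ∨ s = 194 ∨ s = 195 ∨ s = 196 ∨ s = 197 ∨ s = 198 ∨ s = 199 ∨ s = 200 ∨ s = 201 ∨ s = 202 ∨ s = 203 ∨ s = 204 ∨ s = 205 ∨ s = 206 ∨ s = 207 ∨ s = 208 ∨ s = 209 := by omega
  rcases h with rfl | rfl | rfl | rfl | rfl | rfl | rfl | rfl | rfl | rfl | rfl | rfl | rfl | rfl | rfl | rfl | rfl | rfl | rfl | rfl | rfl | rfl | rfl | rfl | rfl | rfl | rfl | rfl | rfl | rfl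
  exacts [conjE8_3_180, conjE8_3_181, conjE8_3_182, conjE8_3_183, conjE8_3_184, conjE8_3_185, conjE8_3_186, conjE8_3_187, conjE8_3_188, conjE8_3_189, conjE8_3_190, conjE8_3_191, conjE8_3_192, conjE8_3_193, conjE8_3_194, conjE8_3_195, conjE8_3_196, conjE8_3_197, conjE8_3_198, conjE8_3_199, conjE8_3_200, conjE8_3_201, conjE8_3_202, conjE8_3_203, conjE8_3_204, conjE8_3_205, conjE8_3_206, conjE8_3_207, conjE8_3_208, conjE8_3_209]

theorem conjE8_3_210 : conjCheck chevE8 (pMonoCol chevE8 3 permE8_3 etaE8_3) 210 (dec8 permE8_3 210) (etaOf etaE8_3 210) = true := by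
  decide +kernel

theorem conjE8_3_211 : conjCheck chevE8 (pMonoCol chevE8 3 permE8_3 etaE8_3) 211 (dec8 permE8_3 211) (etaOf etaE8_3 211) = true := by
  decide +kernel

theorem conjE8_3_212 : conjCheck chevE8 (pMonoCol chevE8 3 permE8_3 etaE8_3) 212 (dec8 permE8_3 212) (etaOf etaE8_3 212) = true := by
  decide +kernel

theorem conjE8_3_213 : conjCheck chevE8 (pMonoCol chevE8 3 permE8_3 etaE8_3) 213 (dec8 permE8_3 213) (etaOf etaE8_3 213) = true := by
  decide +kernel

theorem conjE8_3_214 : conjCheck chevE8 (pMonoCol chevE8 3 permE8_3 etaE8_3) 214 (dec8 permE8_3 214) (etaOf etaE8_3 214) = true := by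
  decide +kernel

theorem conjE8_3_215 : conjCheck chevE8 (pMonoCol chevE8 3 permE8_3 etaE8_3) 215 (dec8 permE8_3 215) (etaOf etaE8_3 215) = true := by
  decide +kernel

theorem conjE8_3_216 : conjCheck chevE8 (pMonoCol chevE8 3 permE8_3 etaE8_3) 216 (dec8 permE8_3 216) (etaOf etaE8_3 216) = true := by
  decide +kernel

theorem conjE8_3_217 : conjCheck chevE8 (pMonoCol chevE8 3 permE8_3 etaE8_3) 217 (dec8 permE8_3 217) (etaOf etaE8_3 217) = true := by
  decide +kernel

theorem conjE8_3_218 : conjCheck chevE8 (pMonoCol chevE8 3 permE8_3 etaE8_3) 218 (dec8 permE8_3 218) (etaOf etaE8_3 218) = true := by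
  decide +kernel

theorem conjE8_3_219 : conjCheck chevE8 (pMonoCol chevE8 3 permE8_3 etaE8_3) 219 (dec8 permE8_3 219) (etaOf etaE8_3 219) = true := by
  decide +kernel

theorem conjE8_3_220 : conjCheck chevE8 (pMonoCol chevE8 3 permE8_3 etaE8_3) 220 (dec8 permE8_3 220) (etaOf etaE8_3 220) = true := by
  decide +kernel

theorem conjE8_3_221 : conjCheck chevE8 (pMonoCol chevE8 3 permE8_3 etaE8_3) 221 (dec8 permE8_3 221) (etaOf etaE8_3 221) = true := by
  decide +kernel

theorem conjE8_3_222 : conjCheck chevE8 (pMonoCol chevE8 3 permE8_3 etaE8_3) 222 (dec8 permE8_3 222) (etaOf etaE8_3 222) = true := by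
  decide +kernel

theorem conjE8_3_223 : conjCheck chevE8 (pMonoCol chevE8 3 permE8_3 etaE8_3) 223 (dec8 permE8_3 223) (etaOf etaE8_3 223) = true := by
  decide +kernel

theorem conjE8_3_224 : conjCheck chevE8 (pMonoCol chevE8 3 permE8_3 etaE8_3) 224 (dec8 permE8_3 224) (etaOf etaE8_3 224) = true := by
  decide +kernel

theorem conjE8_3_225 : conjCheck chevE8 (pMonoCol chevE8 3 permE8_3 etaE8_3) 225 (dec8 permE8_3 225) (etaOf etaE8_3 225) = true := by
  decide +kernel

theorem conjE8_3_226 : conjCheck chevE8 (pMonoCol chevE8 3 permE8_3 etaE8_3) 226 (dec8 permE8_3 226) (etaOf etaE8_3 226) = true := by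
  decide +kernel

theorem conjE8_3_227 : conjCheck chevE8 (pMonoCol chevE8 3 permE8_3 etaE8_3) 227 (dec8 permE8_3 227) (etaOf etaE8_3 227) = true := by
  decide +kernel

theorem conjE8_3_228 : conjCheck chevE8 (pMonoCol chevE8 3 permE8_3 etaE8_3) 228 (dec8 permE8_3 228) (etaOf etaE8_3 228) = true := by
  decide +kernel

theorem conjE8_3_229 : conjCheck chevE8 (pMonoCol chevE8 3 permE8_3 etaE8_3) 229 (dec8 permE8_3 229) (etaOf etaE8_3 229) = true := by
  decide +kernel

theorem conjE8_3_230 : conjCheck chevE8 (pMonoCol chevE8 3 permE8_3 etaE8_3) 230 (dec8 permE8_3 230) (etaOf etaE8_3 230) = true := by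
  decide +kernel

theorem conjE8_3_231 : conjCheck chevE8 (pMonoCol chevE8 3 permE8_3 etaE8_3) 231 (dec8 permE8_3 231) (etaOf etaE8_3 231) = true := by
  decide +kernel

theorem conjE8_3_232 : conjCheck chevE8 (pMonoCol chevE8 3 permE8_3 etaE8_3) 232 (dec8 permE8_3 232) (etaOf etaE8_3 232) = true := by
  decide +kernel

theorem conjE8_3_233 : conjCheck chevE8 (pMonoCol chevE8 3 permE8_3 etaE8_3) 233 (dec8 permE8_3 233) (etaOf etaE8_3 233) = true := by
  decide +kernel

theorem conjE8_3_234 : conjCheck chevE8 (pMonoCol chevE8 3 permE8_3 etaE8_3) 234 (dec8 permE8_3 234) (etaOf etaE8_3 234) = true := by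
  decide +kernel

theorem conjE8_3_235 : conjCheck chevE8 (pMonoCol chevE8 3 permE8_3 etaE8_3) 235 (dec8 permE8_3 235) (etaOf etaE8_3 235) = true := by
  decide +kernel

theorem conjE8_3_236 : conjCheck chevE8 (pMonoCol chevE8 3 permE8_3 etaE8_3) 236 (dec8 permE8_3 236) (etaOf etaE8_3 236) = true := by
  decide +kernel

theorem conjE8_3_237 : conjCheck chevE8 (pMonoCol chevE8 3 permE8_3 etaE8_3) 237 (dec8 permE8_3 237) (etaOf etaE8_3 237) = true := by
  decide +kernel

theorem conjE8_3_238 : conjCheck chevE8 (pMonoCol chevE8 3 permE8_3 etaE8_3) 238 (dec8 permE8_3 238) (etaOf etaE8_3 238) = true := by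
  decide +kernel

theorem conjE8_3_239 : conjCheck chevE8 (pMonoCol chevE8 3 permE8_3 etaE8_3) 239 (dec8 permE8_3 239) (etaOf etaE8_3 239) = true := by
  decide +kernel

theorem conjE8_3_from210 (s : ℕ) (h1 : 210 ≤ s) (h2 : s < 240) : conjCheck chevE8 (pMonoCol chevE8 3 permE8_3 etaE8_3) s (dec8 permE8_3 s) (etaOf etaE8_3 s) = true := by
  have h : s = 210 ∨ s = 211 ∨ s = 212 ∨ s = 213 ∨ s = 214 ∨ s = 215 ∨ s = 216 ∨ s = 217 ∨ s = 218 ∨ s = 219 ∨ s = 220 ∨ s = 221 ∨ s = 222 ∨ s = 223 ∨ s = 224 ∨ s = 225 ∨ s = 226 ∨ s = 227 ∨ s = 228 ∨ s = 229 ∨ s = 230 ∨ s = 231 ∨ s = 232 ∨ s = 233 ∨ s = 234 ∨ s = 235 ∨ s = 236 ∨ s = 237 ∨ s = 238 ∨ s = 239 := by omega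
  rcases h with rfl | rfl | rfl | rfl | rfl | rfl | rfl | rfl | rfl | rfl | rfl | rfl | rfl | rfl | rfl | rfl | rfl | rfl | rfl | rfl | rfl | rfl | rfl | rfl | rfl | rfl | rfl | rfl | rfl | rfl
  exacts [conjE8_3_210, conjE8_3_211, conjE8_3_212, conjE8_3_213, conjE8_3_214, conjE8_3_215, conjE8_3_216, conjE8_3_217, conjE8_3_218, conjE8_3_219, conjE8_3_220, conjE8_3_221, conjE8_3_222, conjE8_3_223, conjE8_3_224, conjE8_3_225, conjE8_3_226, conjE8_3_227, conjE8_3_228, conjE8_3_229, conjE8_3_230, conjE8_3_231, conjE8_3_232, conjE8_3_233, conjE8_3_234, conjE8_3_235, conjE8_3_236, conjE8_3_237, conjE8_3_238, conjE8_3_239]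

end Cfsg.Agent.Helper18
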