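import Cfsg.Agent.Lib.Helper18.ConjData

set_option autoImplicit false
set_option maxRecDepth 100000

namespace Cfsg.Agent.Helper18

open Cfsg.Lie

theorem conjE8_4_0 : conjCheck chevE8 (pMonoCol chevE8 4 permE8_4 etaE8_4) 0 (dec8 permE8_4 0) (etaOf etaE8_4 0) = true := by
  decide +kernel

theorem conjE8_4_1 : conjCheck chevE8 (pMonoCol chevE8 4 permE8_4 etaE8_4) 1 (dec8 permE8_4 1) (etaOf etaE8_4 1) = true := by
  decide +kernel

theorem conjE8_4_2 : conjCheck chevE8 (pMonoCol chevE8 4 permE8_4 etaE8_4) 2 (dec8 permE8_4 2) (etaOf etaE8_4 2) = true := by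
  decide +kernel

theorem conjE8_4_3 : conjCheck chevE8 (pMonoCol chevE8 4 permE8_4 etaE8_4) 3 (dec8 permE8_4 3) (etaOf etaE8_4 3) = true := by
  decide +kernel

theorem conjE8_4_4 : conjCheck chevE8 (pMonoCol chevE8 4 permE8_4 etaE8_4) 4 (dec8 permE8_4 4) (etaOf etaE8_4 4) = true := by
  decide +kernel

theorem conjE8_4_5 : conjCheck chevE8 (pMonoCol chevE8 4 permE8_4 etaE8_4) 5 (dec8 permE8_4 5) (etaOf etaE8_4 5) = true := by
  decide +kernel

theorem conjE8_4_6 : conjCheck chevE8 (pMonoCol chevE8 4 permE8_4 etaE8_4) 6 (dec8 permE8_4 6) (etaOf etaE8_4 6) = true := by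
  decide +kernel

theorem conjE8_4_7 : conjCheck chevE8 (pMonoCol chevE8 4 permE8_4 etaE8_4) 7 (dec8 permE8_4 7) (etaOf etaE8_4 7) = true := by
  decide +kernel

theorem conjE8_4_8 : conjCheck chevE8 (pMonoCol chevE8 4 permE8_4 etaE8_4) 8 (dec8 permE8_4 8) (etaOf etaE8_4 8) = true := by
  decide +kernel

theorem conjE8_4_9 : conjCheck chevE8 (pMonoCol chevE8 4 permE8_4 etaE8_4) 9 (dec8 permE8_4 9) (etaOf etaE8_4 9) = true := by
  decide +kernel

theorem conjE8_4_10 : conjCheck chevE8 (pMonoCol chevE8 4 permE8_4 etaE8_4) 10 (dec8 permE8_4 10) (etaOf etaE8_4 10) = true := by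
  decide +kernel

theorem conjE8_4_11 : conjCheck chevE8 (pMonoCol chevE8 4 permE8_4 etaE8_4) 11 (dec8 permE8_4 11) (etaOf etaE8_4 11) = true := by
  decide +kernel

theorem conjE8_4_12 : conjCheck chevE8 (pMonoCol chevE8 4 permE8_4 etaE8_4) 12 (dec8 permE8_4 12) (etaOf etaE8_4 12) = true := by
  decide +kernel

theorem conjE8_4_13 : conjCheck chevE8 (pMonoCol chevE8 4 permE8_4 etaE8_4) 13 (dec8 permE8_4 13) (etaOf etaE8_4 13) = true := by
  decide +kernel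

theorem conjE8_4_14 : conjCheck chevE8 (pMonoCol chevE8 4 permE8_4 etaE8_4) 14 (dec8 permE8_4 14) (etaOf etaE8_4 14) = true := by
  decide +kernel

theorem conjE8_4_15 : conjCheck chevE8 (pMonoCol chevE8 4 permE8_4 etaE8_4) 15 (dec8 permE8_4 15) (etaOf etaE8_4 15) = true := by
  decide +kernel

theorem conjE8_4_16 : conjCheck chevE8 (pMonoCol chevE8 4 permE8_4 etaE8_4) 16 (dec8 permE8_4 16) (etaOf etaE8_4 16) = true := by
  decide +kernel

theorem conjE8_4_17 : conjCheck chevE8 (pMonoCol chevE8 4 permE8_4 etaE8_4) 17 (dec8 permE8_4 17) (etaOf etaE8_4 17) = true := by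
  decide +kernel

theorem conjE8_4_18 : conjCheck chevE8 (pMonoCol chevE8 4 permE8_4 etaE8_4) 18 (dec8 permE8_4 18) (etaOf etaE8_4 18) = true := by
  decide +kernel

theorem conjE8_4_19 : conjCheck chevE8 (pMonoCol chevE8 4 permE8_4 etaE8_4) 19 (dec8 permE8_4 19) (etaOf etaE8_4 19) = true := by
  decide +kernel

theorem conjE8_4_20 : conjCheck chevE8 (pMonoCol chevE8 4 permE8_4 etaE8_4) 20 (dec8 permE8_4 20) (etaOf etaE8_4 20) = true := by
  decide +kernel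

theorem conjE8_4_21 : conjCheck chevE8 (pMonoCol chevE8 4 permE8_4 etaE8_4) 21 (dec8 permE8_4 21) (etaOf etaE8_4 21) = true := by
  decide +kernel

theorem conjE8_4_22 : conjCheck chevE8 (pMonoCol chevE8 4 permE8_4 etaE8_4) 22 (dec8 permE8_4 22) (etaOf etaE8_4 22) = true := by
  decide +kernel

theorem conjE8_4_23 : conjCheck chevE8 (pMonoCol chevE8 4 permE8_4 etaE8_4) 23 (dec8 permE8_4 23) (etaOf etaE8_4 23) = true := by
  decide +kernel

theorem conjE8_4_24 : conjCheck chevE8 (pMonoCol chevE8 4 permE8_4 etaE8_4) 24 (dec8 permE8_4 24) (etaOf etaE8_4 24) = true := by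
  decide +kernel

theorem conjE8_4_25 : conjCheck chevE8 (pMonoCol chevE8 4 permE8_4 etaE8_4) 25 (dec8 permE8_4 25) (etaOf etaE8_4 25) = true := by
  decide +kernel

theorem conjE8_4_26 : conjCheck chevE8 (pMonoCol chevE8 4 permE8_4 etaE8_4) 26 (dec8 permE8_4 26) (etaOf etaE8_4 26) = true := by
  decide +kernel

theorem conjE8_4_27 : conjCheck chevE8 (pMonoCol chevE8 4 permE8_4 etaE8_4) 27 (dec8 permE8_4 27) (etaOf etaE8_4 27) = true := by
  decide +kernel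

theorem conjE8_4_28 : conjCheck chevE8 (pMonoCol chevE8 4 permE8_4 etaE8_4) 28 (dec8 permE8_4 28) (etaOf etaE8_4 28) = true := by
  decide +kernel

theorem conjE8_4_29 : conjCheck chevE8 (pMonoCol chevE8 4 permE8_4 etaE8_4) 29 (dec8 permE8_4 29) (etaOf etaE8_4 29) = true := by
  decide +kernel

theorem conjE8_4_from0 (s : ℕ) (h1 : 0 ≤ s) (h2 : s < 30) : conjCheck chevE8 (pMonoCol chevE8 4 permE8_4 etaE8_4) s (dec8 permE8_4 s) (etaOf etaE8_4 s) = true := by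
  have h : s = 0 ∨ s = 1 ∨ s = 2 ∨ s = 3 ∨ s = 4 ∨ s = 5 ∨ s = 6 ∨ s = 7 ∨ s = 8 ∨ s = 9 ∨ s = 10 ∨ s = 11 ∨ s = 12 ∨ s = 13 ∨ s = 14 ∨ s = 15 ∨ s = 16 ∨ s = 17 ∨ s = 18 ∨ s = 19 ∨ s = 20 ∨ s = 21 ∨ s = 22 ∨ s = 23 ∨ s = 24 ∨ s = 25 ∨ s = 26 ∨ s = 27 ∨ s = 28 ∨ s = 29 := by omega
  rcases h with rfl | rfl | rfl | rfl | rfl | rfl | rfl | rfl | rfl | rfl | rfl | rfl | rfl | rfl | rfl | rfl | rfl | rfl | rfl | rfl | rfl | rfl | rfl | rfl | rfl | rfl | rfl | rfl | rfl | rfl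
  exacts [conjE8_4_0, conjE8_4_1, conjE8_4_2, conjE8_4_3, conjE8_4_4, conjE8_4_5, conjE8_4_6, conjE8_4_7, conjE8_4_8, conjE8_4_9, conjE8_4_10, conjE8_4_11, conjE8_4_12, conjE8_4_13, conjE8_4_14, conjE8_4_15, conjE8_4_16, conjE8_4_17, conjE8_4_18, conjE8_4_19, conjE8_4_20, conjE8_4_21, conjE8_4_22, conjE8_4_23, conjE8_4_24, conjE8_4_25, conjE8_4_26, conjE8_4_27, conjE8_4_28, conjE8_4_29]

theorem conjE8_4_30 : conjCheck chevE8 (pMonoCol chevE8 4 permE8_4 etaE8_4) 30 (dec8 permE8_4 30) (etaOf etaE8_4 30) = true := by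
  decide +kernel

theorem conjE8_4_31 : conjCheck chevE8 (pMonoCol chevE8 4 permE8_4 etaE8_4) 31 (dec8 permE8_4 31) (etaOf etaE8_4 31) = true := by
  decide +kernel

theorem conjE8_4_32 : conjCheck chevE8 (pMonoCol chevE8 4 permE8_4 etaE8_4) 32 (dec8 permE8_4 32) (etaOf etaE8_4 32) = true := by
  decide +kernel

theorem conjE8_4_33 : conjCheck chevE8 (pMonoCol chevE8 4 permE8_4 etaE8_4) 33 (dec8 permE8_4 33) (etaOf etaE8_4 33) = true := by
  decide +kernel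

theorem conjE8_4_34 : conjCheck chevE8 (pMonoCol chevE8 4 permE8_4 etaE8_4) 34 (dec8 permE8_4 34) (etaOf etaE8_4 34) = true := by
  decide +kernel

theorem conjE8_4_35 : conjCheck chevE8 (pMonoCol chevE8 4 permE8_4 etaE8_4) 35 (dec8 permE8_4 35) (etaOf etaE8_4 35) = true := by
  decide +kernel

theorem conjE8_4_36 : conjCheck chevE8 (pMonoCol chevE8 4 permE8_4 etaE8_4) 36 (dec8 permE8_4 36) (etaOf etaE8_4 36) = true := by
  decide +kernel

theorem conjE8_4_37 : conjCheck chevE8 (pMonoCol chevE8 4 permE8_4 etaE8_4) 37 (dec8 permE8_4 37) (etaOf etaE8_4 37) = true := by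
  decide +kernel

theorem conjE8_4_38 : conjCheck chevE8 (pMonoCol chevE8 4 permE8_4 etaE8_4) 38 (dec8 permE8_4 38) (etaOf etaE8_4 38) = true := by
  decide +kernel

theorem conjE8_4_39 : conjCheck chevE8 (pMonoCol chevE8 4 permE8_4 etaE8_4) 39 (dec8 permE8_4 39) (etaOf etaE8_4 39) = true := by
  decide +kernel

theorem conjE8_4_40 : conjCheck chevE8 (pMonoCol chevE8 4 permE8_4 etaE8_4) 40 (dec8 permE8_4 40) (etaOf etaE8_4 40) = true := by
  decide +kernel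

theorem conjE8_4_41 : conjCheck chevE8 (pMonoCol chevE8 4 permE8_4 etaE8_4) 41 (dec8 permE8_4 41) (etaOf etaE8_4 41) = true := by
  decide +kernel

theorem conjE8_4_42 : conjCheck chevE8 (pMonoCol chevE8 4 permE8_4 etaE8_4) 42 (dec8 permE8_4 42) (etaOf etaE8_4 42) = true := by
  decide +kernel

theorem conjE8_4_43 : conjCheck chevE8 (pMonoCol chevE8 4 permE8_4 etaE8_4) 43 (dec8 permE8_4 43) (etaOf etaE8_4 43) = true := by
  decide +kernel

theorem conjE8_4_44 : conjCheck chevE8 (pMonoCol chevE8 4 permE8_4 etaE8_4) 44 (dec8 permE8_4 44) (etaOf etaE8_4 44) = true := by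
  decide +kernel

theorem conjE8_4_45 : conjCheck chevE8 (pMonoCol chevE8 4 permE8_4 etaE8_4) 45 (dec8 permE8_4 45) (etaOf etaE8_4 45) = true := by
  decide +kernel

theorem conjE8_4_46 : conjCheck chevE8 (pMonoCol chevE8 4 permE8_4 etaE8_4) 46 (dec8 permE8_4 46) (etaOf etaE8_4 46) = true := by
  decide +kernel

theorem conjE8_4_47 : conjCheck chevE8 (pMonoCol chevE8 4 permE8_4 etaE8_4) 47 (dec8 permE8_4 47) (etaOf etaE8_4 47) = true := by
  decide +kernel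

theorem conjE8_4_48 : conjCheck chevE8 (pMonoCol chevE8 4 permE8_4 etaE8_4) 48 (dec8 permE8_4 48) (etaOf etaE8_4 48) = true := by
  decide +kernel

theorem conjE8_4_49 : conjCheck chevE8 (pMonoCol chevE8 4 permE8_4 etaE8_4) 49 (dec8 permE8_4 49) (etaOf etaE8_4 49) = true := by
  decide +kernel

theorem conjE8_4_50 : conjCheck chevE8 (pMonoCol chevE8 4 permE8_4 etaE8_4) 50 (dec8 permE8_4 50) (etaOf etaE8_4 50) = true := by
  decide +kernel

theorem conjE8_4_51 : conjCheck chevE8 (pMonoCol chevE8 4 permE8_4 etaE8_4) 51 (dec8 permE8_4 51) (etaOf etaE8_4 51) = true := by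
  decide +kernel

theorem conjE8_4_52 : conjCheck chevE8 (pMonoCol chevE8 4 permE8_4 etaE8_4) 52 (dec8 permE8_4 52) (etaOf etaE8_4 52) = true := by
  decide +kernel

theorem conjE8_4_53 : conjCheck chevE8 (pMonoCol chevE8 4 permE8_4 etaE8_4) 53 (dec8 permE8_4 53) (etaOf etaE8_4 53) = true := by
  decide +kernel

theorem conjE8_4_54 : conjCheck chevE8 (pMonoCol chevE8 4 permE8_4 etaE8_4) 54 (dec8 permE8_4 54) (etaOf etaE8_4 54) = true := by
  decide +kernel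

theorem conjE8_4_55 : conjCheck chevE8 (pMonoCol chevE8 4 permE8_4 etaE8_4) 55 (dec8 permE8_4 55) (etaOf etaE8_4 55) = true := by
  decide +kernel

theorem conjE8_4_56 : conjCheck chevE8 (pMonoCol chevE8 4 permE8_4 etaE8_4) 56 (dec8 permE8_4 56) (etaOf etaE8_4 56) = true := by
  decide +kernel

theorem conjE8_4_57 : conjCheck chevE8 (pMonoCol chevE8 4 permE8_4 etaE8_4) 57 (dec8 permE8_4 57) (etaOf etaE8_4 57) = true := by
  decide +kernel

theorem conjE8_4_58 : conjCheck chevE8 (pMonoCol chevE8 4 permE8_4 etaE8_4) 58 (dec8 permE8_4 58) (etaOf etaE8_4 58) = true := by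
  decide +kernel

theorem conjE8_4_59 : conjCheck chevE8 (pMonoCol chevE8 4 permE8_4 etaE8_4) 59 (dec8 permE8_4 59) (etaOf etaE8_4 59) = true := by
  decide +kernel

theorem conjE8_4_from30 (s : ℕ) (h1 : 30 ≤ s) (h2 : s < 60) : conjCheck chevE8 (pMonoCol chevE8 4 permE8_4 etaE8_4) s (dec8 permE8_4 s) (etaOf etaE8_4 s) = true := by
  have h : s = 30 ∨ s = 31 ∨ s = 32 ∨ s = 33 ∨ s = 34 ∨ s = 35 ∨ s = 36 ∨ s = 37 ∨ s = 38 ∨ s = 39 ∨ s = 40 ∨ s = 41 ∨ s = 42 ∨ s = 43 ∨ s = 44 ∨ s = 45 ∨ s = 46 ∨ s = 47 ∨ s = 48 ∨ s = 49 ∨ s = 50 ∨ s = 51 ∨ s = 52 ∨ s = 53 ∨ s = 54 ∨ s = 55 ∨ s = 56 ∨ s = 57 ∨ s = 58 ∨ s = 59 := by omega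
  rcases h with rfl | rfl | rfl | rfl | rfl | rfl | rfl | rfl | rfl | rfl | rfl | rfl | rfl | rfl | rfl | rfl | rfl | rfl | rfl | rfl | rfl | rfl | rfl | rfl | rfl | rfl | rfl | rfl | rfl | rfl
  exacts [conjE8_4_30, conjE8_4_31, conjE8_4_32, conjE8_4_33, conjE8_4_34, conjE8_4_35, conjE8_4_36, conjE8_4_37, conjE8_4_38, conjE8_4_39, conjE8_4_40, conjE8_4_41, conjE8_4_42, conjE8_4_43, conjE8_4_44, conjE8_4_45, conjE8_4_46, conjE8_4_47, conjE8_4_48, conjE8_4_49, conjE8_4_50, conjE8_4_51, conjE8_4_52, conjE8_4_53, conjE8_4_54, conjE8_4_55, conjE8_4_56, conjE8_4_57, conjE8_4_58, conjE8_4_59]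

end Cfsg.Agent.Helper18
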