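import Cfsg.Agent.Lib.Helper18.ConjData

set_option autoImplicit false
set_option maxRecDepth 100000
set_option Elab.async false

namespace Cfsg.Agent.Helper18

open Cfsg.Lie

theorem conjE8_4_60 : conjCheck chevE8 (pMonoCol chevE8 4 permE8_4 etaE8_4) 60 (dec8 permE8_4 60) (etaOf etaE8_4 60) = true := by
  decide +kernel

theorem conjE8_4_61 : conjCheck chevE8 (pMonoCol chevE8 4 permE8_4 etaE8_4) 61 (dec8 permE8_4 61) (etaOf etaE8_4 61) = true := by
  decide +kernel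

theorem conjE8_4_62 : conjCheck chevE8 (pMonoCol chevE8 4 permE8_4 etaE8_4) 62 (dec8 permE8_4 62) (etaOf etaE8_4 62) = true := by
  decide +kernel

theorem conjE8_4_63 : conjCheck chevE8 (pMonoCol chevE8 4 permE8_4 etaE8_4) 63 (dec8 permE8_4 63) (etaOf etaE8_4 63) = true := by
  decide +kernel

theorem conjE8_4_64 : conjCheck chevE8 (pMonoCol chevE8 4 permE8_4 etaE8_4) 64 (dec8 permE8_4 64) (etaOf etaE8_4 64) = true := by
  decide +kernel

theorem conjE8_4_65 : conjCheck chevE8 (pMonoCol chevE8 4 permE8_4 etaE8_4) 65 (dec8 permE8_4 65) (etaOf etaE8_4 65) = true := by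
  decide +kernel

theorem conjE8_4_66 : conjCheck chevE8 (pMonoCol chevE8 4 permE8_4 etaE8_4) 66 (dec8 permE8_4 66) (etaOf etaE8_4 66) = true := by
  decide +kernel

theorem conjE8_4_67 : conjCheck chevE8 (pMonoCol chevE8 4 permE8_4 etaE8_4) 67 (dec8 permE8_4 67) (etaOf etaE8_4 67) = true := by
  decide +kernel

theorem conjE8_4_68 : conjCheck chevE8 (pMonoCol chevE8 4 permE8_4 etaE8_4) 68 (dec8 permE8_4 68) (etaOf etaE8_4 68) = true := by
  decide +kernel

theorem conjE8_4_69 : conjCheck chevE8 (pMonoCol chevE8 4 permE8_4 etaE8_4) 69 (dec8 permE8_4 69) (etaOf etaE8_4 69) = true := by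
  decide +kernel

theorem conjE8_4_70 : conjCheck chevE8 (pMonoCol chevE8 4 permE8_4 etaE8_4) 70 (dec8 permE8_4 70) (etaOf etaE8_4 70) = true := by
  decide +kernel

theorem conjE8_4_71 : conjCheck chevE8 (pMonoCol chevE8 4 permE8_4 etaE8_4) 71 (dec8 permE8_4 71) (etaOf etaE8_4 71) = true := by
  decide +kernel

theorem conjE8_4_72 : conjCheck chevE8 (pMonoCol chevE8 4 permE8_4 etaE8_4) 72 (dec8 permE8_4 72) (etaOf etaE8_4 72) = true := by
  decide +kernel

theorem conjE8_4_73 : conjCheck chevE8 (pMonoCol chevE8 4 permE8_4 etaE8_4) 73 (dec8 permE8_4 73) (etaOf etaE8_4 73) = true := by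
  decide +kernel

theorem conjE8_4_74 : conjCheck chevE8 (pMonoCol chevE8 4 permE8_4 etaE8_4) 74 (dec8 permE8_4 74) (etaOf etaE8_4 74) = true := by
  decide +kernel

theorem conjE8_4_75 : conjCheck chevE8 (pMonoCol chevE8 4 permE8_4 etaE8_4) 75 (dec8 permE8_4 75) (etaOf etaE8_4 75) = true := by
  decide +kernel

theorem conjE8_4_76 : conjCheck chevE8 (pMonoCol chevE8 4 permE8_4 etaE8_4) 76 (dec8 permE8_4 76) (etaOf etaE8_4 76) = true := by
  decide +kernel

theorem conjE8_4_77 : conjCheck chevE8 (pMonoCol chevE8 4 permE8_4 etaE8_4) 77 (dec8 permE8_4 77) (etaOf etaE8_4 77) = true := by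
  decide +kernel

theorem conjE8_4_78 : conjCheck chevE8 (pMonoCol chevE8 4 permE8_4 etaE8_4) 78 (dec8 permE8_4 78) (etaOf etaE8_4 78) = true := by
  decide +kernel

theorem conjE8_4_79 : conjCheck chevE8 (pMonoCol chevE8 4 permE8_4 etaE8_4) 79 (dec8 permE8_4 79) (etaOf etaE8_4 79) = true := by
  decide +kernel

theorem conjE8_4_80 : conjCheck chevE8 (pMonoCol chevE8 4 permE8_4 etaE8_4) 80 (dec8 permE8_4 80) (etaOf etaE8_4 80) = true := by
  decide +kernel

theorem conjE8_4_81 : conjCheck chevE8 (pMonoCol chevE8 4 permE8_4 etaE8_4) 81 (dec8 permE8_4 81) (etaOf etaE8_4 81) = true := by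
  decide +kernel

theorem conjE8_4_82 : conjCheck chevE8 (pMonoCol chevE8 4 permE8_4 etaE8_4) 82 (dec8 permE8_4 82) (etaOf etaE8_4 82) = true := by
  decide +kernel

theorem conjE8_4_83 : conjCheck chevE8 (pMonoCol chevE8 4 permE8_4 etaE8_4) 83 (dec8 permE8_4 83) (etaOf etaE8_4 83) = true := by
  decide +kernel

theorem conjE8_4_84 : conjCheck chevE8 (pMonoCol chevE8 4 permE8_4 etaE8_4) 84 (dec8 permE8_4 84) (etaOf etaE8_4 84) = true := by
  decide +kernel

theorem conjE8_4_85 : conjCheck chevE8 (pMonoCol chevE8 4 permE8_4 etaE8_4) 85 (dec8 permE8_4 85) (etaOf etaE8_4 85) = true := by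
  decide +kernel

theorem conjE8_4_86 : conjCheck chevE8 (pMonoCol chevE8 4 permE8_4 etaE8_4) 86 (dec8 permE8_4 86) (etaOf etaE8_4 86) = true := by
  decide +kernel

theorem conjE8_4_87 : conjCheck chevE8 (pMonoCol chevE8 4 permE8_4 etaE8_4) 87 (dec8 permE8_4 87) (etaOf etaE8_4 87) = true := by
  decide +kernel

theorem conjE8_4_88 : conjCheck chevE8 (pMonoCol chevE8 4 permE8_4 etaE8_4) 88 (dec8 permE8_4 88) (etaOf etaE8_4 88) = true := by
  decide +kernel

theorem conjE8_4_89 : conjCheck chevE8 (pMonoCol chevE8 4 permE8_4 etaE8_4) 89 (dec8 permE8_4 89) (etaOf etaE8_4 89) = true := by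
  decide +kernel

theorem conjE8_4_from60 (s : ℕ) (h1 : 60 ≤ s) (h2 : s < 90) : conjCheck chevE8 (pMonoCol chevE8 4 permE8_4 etaE8_4) s (dec8 permE8_4 s) (etaOf etaE8_4 s) = true := by
  have h : s = 60 ∨ s = 61 ∨ s = 62 ∨ s = 63 ∨ s = 64 ∨ s = 65 ∨ s = 66 ∨ s = 67 ∨ s = 68 ∨ s = 69 ∨ s = 70 ∨ s = 71 ∨ s = 72 ∨ s = 73 ∨ s = 74 ∨ s = 75 ∨ s = 76 ∨ s = 77 ∨ s = 78 ∨ s = 79 ∨ s = 80 ∨ s = 81 ∨ s = 82 ∨ s = 83 ∨ s = 84 ∨ s = 85 ∨ s = 86 ∨ s = 87 ∨ s = 88 ∨ s = 89 := by omega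
  rcases h with rfl | rfl | rfl | rfl | rfl | rfl | rfl | rfl | rfl | rfl | rfl | rfl | rfl | rfl | rfl | rfl | rfl | rfl | rfl | rfl | rfl | rfl | rfl | rfl | rfl | rfl | rfl | rfl | rfl | rfl
  exacts [conjE8_4_60, conjE8_4_61, conjE8_4_62, conjE8_4_63, conjE8_4_64, conjE8_4_65, conjE8_4_66, conjE8_4_67, conjE8_4_68, conjE8_4_69, conjE8_4_70, conjE8_4_71, conjE8_4_72, conjE8_4_73, conjE8_4_74, conjE8_4_75, conjE8_4_76, conjE8_4_77, conjE8_4_78, conjE8_4_79, conjE8_4_80, conjE8_4_81, conjE8_4_82, conjE8_4_83, conjE8_4_84, conjE8_4_85, conjE8_4_86, conjE8_4_87, conjE8_4_88, conjE8_4_89]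

theorem conjE8_4_90 : conjCheck chevE8 (pMonoCol chevE8 4 permE8_4 etaE8_4) 90 (dec8 permE8_4 90) (etaOf etaE8_4 90) = true := by
  decide +kernel

theorem conjE8_4_91 : conjCheck chevE8 (pMonoCol chevE8 4 permE8_4 etaE8_4) 91 (dec8 permE8_4 91) (etaOf etaE8_4 91) = true := by
  decide +kernel

theorem conjE8_4_92 : conjCheck chevE8 (pMonoCol chevE8 4 permE8_4 etaE8_4) 92 (dec8 permE8_4 92) (etaOf etaE8_4 92) = true := by
  decide +kernel

theorem conjE8_4_93 : conjCheck chevE8 (pMonoCol chevE8 4 permE8_4 etaE8_4) 93 (dec8 permE8_4 93) (etaOf etaE8_4 93) = true := by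
  decide +kernel

theorem conjE8_4_94 : conjCheck chevE8 (pMonoCol chevE8 4 permE8_4 etaE8_4) 94 (dec8 permE8_4 94) (etaOf etaE8_4 94) = true := by
  decide +kernel

theorem conjE8_4_95 : conjCheck chevE8 (pMonoCol chevE8 4 permE8_4 etaE8_4) 95 (dec8 permE8_4 95) (etaOf etaE8_4 95) = true := by
  decide +kernel

theorem conjE8_4_96 : conjCheck chevE8 (pMonoCol chevE8 4 permE8_4 etaE8_4) 96 (dec8 permE8_4 96) (etaOf etaE8_4 96) = true := by
  decide +kernel

theorem conjE8_4_97 : conjCheck chevE8 (pMonoCol chevE8 4 permE8_4 etaE8_4) 97 (dec8 permE8_4 97) (etaOf etaE8_4 97) = true := by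
  decide +kernel

theorem conjE8_4_98 : conjCheck chevE8 (pMonoCol chevE8 4 permE8_4 etaE8_4) 98 (dec8 permE8_4 98) (etaOf etaE8_4 98) = true := by
  decide +kernel

theorem conjE8_4_99 : conjCheck chevE8 (pMonoCol chevE8 4 permE8_4 etaE8_4) 99 (dec8 permE8_4 99) (etaOf etaE8_4 99) = true := by
  decide +kernel

theorem conjE8_4_100 : conjCheck chevE8 (pMonoCol chevE8 4 permE8_4 etaE8_4) 100 (dec8 permE8_4 100) (etaOf etaE8_4 100) = true := by
  decide +kernel

theorem conjE8_4_101 : conjCheck chevE8 (pMonoCol chevE8 4 permE8_4 etaE8_4) 101 (dec8 permE8_4 101) (etaOf etaE8_4 101) = true := by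
  decide +kernel

theorem conjE8_4_102 : conjCheck chevE8 (pMonoCol chevE8 4 permE8_4 etaE8_4) 102 (dec8 permE8_4 102) (etaOf etaE8_4 102) = true := by
  decide +kernel

theorem conjE8_4_103 : conjCheck chevE8 (pMonoCol chevE8 4 permE8_4 etaE8_4) 103 (dec8 permE8_4 103) (etaOf etaE8_4 103) = true := by
  decide +kernel

theorem conjE8_4_104 : conjCheck chevE8 (pMonoCol chevE8 4 permE8_4 etaE8_4) 104 (dec8 permE8_4 104) (etaOf etaE8_4 104) = true := by
  decide +kernel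

theorem conjE8_4_105 : conjCheck chevE8 (pMonoCol chevE8 4 permE8_4 etaE8_4) 105 (dec8 permE8_4 105) (etaOf etaE8_4 105) = true := by
  decide +kernel

theorem conjE8_4_106 : conjCheck chevE8 (pMonoCol chevE8 4 permE8_4 etaE8_4) 106 (dec8 permE8_4 106) (etaOf etaE8_4 106) = true := by
  decide +kernel

theorem conjE8_4_107 : conjCheck chevE8 (pMonoCol chevE8 4 permE8_4 etaE8_4) 107 (dec8 permE8_4 107) (etaOf etaE8_4 107) = true := by
  decide +kernel

theorem conjE8_4_108 : conjCheck chevE8 (pMonoCol chevE8 4 permE8_4 etaE8_4) 108 (dec8 permE8_4 108) (etaOf etaE8_4 108) = true := by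
  decide +kernel

theorem conjE8_4_109 : conjCheck chevE8 (pMonoCol chevE8 4 permE8_4 etaE8_4) 109 (dec8 permE8_4 109) (etaOf etaE8_4 109) = true := by
  decide +kernel

theorem conjE8_4_110 : conjCheck chevE8 (pMonoCol chevE8 4 permE8_4 etaE8_4) 110 (dec8 permE8_4 110) (etaOf etaE8_4 110) = true := by
  decide +kernel

theorem conjE8_4_111 : conjCheck chevE8 (pMonoCol chevE8 4 permE8_4 etaE8_4) 111 (dec8 permE8_4 111) (etaOf etaE8_4 111) = true := by
  decide +kernel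

theorem conjE8_4_112 : conjCheck chevE8 (pMonoCol chevE8 4 permE8_4 etaE8_4) 112 (dec8 permE8_4 112) (etaOf etaE8_4 112) = true := by
  decide +kernel

theorem conjE8_4_113 : conjCheck chevE8 (pMonoCol chevE8 4 permE8_4 etaE8_4) 113 (dec8 permE8_4 113) (etaOf etaE8_4 113) = true := by
  decide +kernel

theorem conjE8_4_114 : conjCheck chevE8 (pMonoCol chevE8 4 permE8_4 etaE8_4) 114 (dec8 permE8_4 114) (etaOf etaE8_4 114) = true := by
  decide +kernel

theorem conjE8_4_115 : conjCheck chevE8 (pMonoCol chevE8 4 permE8_4 etaE8_4) 115 (dec8 permE8_4 115) (etaOf etaE8_4 115) = true := by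
  decide +kernel

theorem conjE8_4_116 : conjCheck chevE8 (pMonoCol chevE8 4 permE8_4 etaE8_4) 116 (dec8 permE8_4 116) (etaOf etaE8_4 116) = true := by
  decide +kernel

theorem conjE8_4_117 : conjCheck chevE8 (pMonoCol chevE8 4 permE8_4 etaE8_4) 117 (dec8 permE8_4 117) (etaOf etaE8_4 117) = true := by
  decide +kernel

theorem conjE8_4_118 : conjCheck chevE8 (pMonoCol chevE8 4 permE8_4 etaE8_4) 118 (dec8 permE8_4 118) (etaOf etaE8_4 118) = true := by
  decide +kernel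

theorem conjE8_4_119 : conjCheck chevE8 (pMonoCol chevE8 4 permE8_4 etaE8_4) 119 (dec8 permE8_4 119) (etaOf etaE8_4 119) = true := by
  decide +kernel

theorem conjE8_4_from90 (s : ℕ) (h1 : 90 ≤ s) (h2 : s < 120) : conjCheck chevE8 (pMonoCol chevE8 4 permE8_4 etaE8_4) s (dec8 permE8_4 s) (etaOf etaE8_4 s) = true := by
  have h : s = 90 ∨ s = 91 ∨ s = 92 ∨ s = 93 ∨ s = 94 ∨ s = 95 ∨ s = 96 ∨ s = 97 ∨ s = 98 ∨ s = 99 ∨ s = 100 ∨ s = 101 ∨ s = 102 ∨ s = 103 ∨ s = 104 ∨ s = 105 ∨ s = 106 ∨ s = 107 ∨ s = 108 ∨ s = 109 ∨ s = 110 ∨ s = 111 ∨ s = 112 ∨ s = 113 ∨ s = 114 ∨ s = 115 ∨ s = 116 ∨ s = 117 ∨ s = 118 ∨ s = 119 := by omega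
  rcases h with rfl | rfl | rfl | rfl | rfl | rfl | rfl | rfl | rfl | rfl | rfl | rfl | rfl | rfl | rfl | rfl | rfl | rfl | rfl | rfl | rfl | rfl | rfl | rfl | rfl | rfl | rfl | rfl | rfl | rfl
  exacts [conjE8_4_90, conjE8_4_91, conjE8_4_92, conjE8_4_93, conjE8_4_94, conjE8_4_95, conjE8_4_96, conjE8_4_97, conjE8_4_98, conjE8_4_99, conjE8_4_100, conjE8_4_101, conjE8_4_102, conjE8_4_103, conjE8_4_104, conjE8_4_105, conjE8_4_106, conjE8_4_107, conjE8_4_108, conjE8_4_109, conjE8_4_110, conjE8_4_111, conjE8_4_112, conjE8_4_113, conjE8_4_114, conjE8_4_115, conjE8_4_116, conjE8_4_117, conjE8_4_118, conjE8_4_119]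

end Cfsg.Agent.Helper18
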