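import Cfsg.Agent.Lib.Helper18.ConjData

set_option autoImplicit false
set_option maxRecDepth 100000

namespace Cfsg.Agent.Helper18

open Cfsg.Lie

theorem conjE8_4_120 : conjCheck chevE8 (pMonoCol chevE8 4 permE8_4 etaE8_4) 120 (dec8 permE8_4 120) (etaOf etaE8_4 120) = true := by
  decide +kernel

theorem conjE8_4_121 : conjCheck chevE8 (pMonoCol chevE8 4 permE8_4 etaE8_4) 121 (dec8 permE8_4 121) (etaOf etaE8_4 121) = true := by
  decide +kernel

theorem conjE8_4_122 : conjCheck chevE8 (pMonoCol chevE8 4 permE8_4 etaE8_4) 122 (dec8 permE8_4 122) (etaOf etaE8_4 122) = true := by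
  decide +kernel

theorem conjE8_4_123 : conjCheck chevE8 (pMonoCol chevE8 4 permE8_4 etaE8_4) 123 (dec8 permE8_4 123) (etaOf etaE8_4 123) = true := by
  decide +kernel

theorem conjE8_4_124 : conjCheck chevE8 (pMonoCol chevE8 4 permE8_4 etaE8_4) 124 (dec8 permE8_4 124) (etaOf etaE8_4 124) = true := by
  decide +kernel

theorem conjE8_4_125 : conjCheck chevE8 (pMonoCol chevE8 4 permE8_4 etaE8_4) 125 (dec8 permE8_4 125) (etaOf etaE8_4 125) = true := by
  decide +kernel

theorem conjE8_4_126 : conjCheck chevE8 (pMonoCol chevE8 4 permE8_4 etaE8_4) 126 (dec8 permE8_4 126) (etaOf etaE8_4 126) = true := by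
  decide +kernel

theorem conjE8_4_127 : conjCheck chevE8 (pMonoCol chevE8 4 permE8_4 etaE8_4) 127 (dec8 permE8_4 127) (etaOf etaE8_4 127) = true := by
  decide +kernel

theorem conjE8_4_128 : conjCheck chevE8 (pMonoCol chevE8 4 permE8_4 etaE8_4) 128 (dec8 permE8_4 128) (etaOf etaE8_4 128) = true := by
  decide +kernel

theorem conjE8_4_129 : conjCheck chevE8 (pMonoCol chevE8 4 permE8_4 etaE8_4) 129 (dec8 permE8_4 129) (etaOf etaE8_4 129) = true := by
  decide +kernel

theorem conjE8_4_130 : conjCheck chevE8 (pMonoCol chevE8 4 permE8_4 etaE8_4) 130 (dec8 permE8_4 130) (etaOf etaE8_4 130) = true := by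
  decide +kernel

theorem conjE8_4_131 : conjCheck chevE8 (pMonoCol chevE8 4 permE8_4 etaE8_4) 131 (dec8 permE8_4 131) (etaOf etaE8_4 131) = true := by
  decide +kernel

theorem conjE8_4_132 : conjCheck chevE8 (pMonoCol chevE8 4 permE8_4 etaE8_4) 132 (dec8 permE8_4 132) (etaOf etaE8_4 132) = true := by
  decide +kernel

theorem conjE8_4_133 : conjCheck chevE8 (pMonoCol chevE8 4 permE8_4 etaE8_4) 133 (dec8 permE8_4 133) (etaOf etaE8_4 133) = true := by
  decide +kernel

theorem conjE8_4_134 : conjCheck chevE8 (pMonoCol chevE8 4 permE8_4 etaE8_4) 134 (dec8 permE8_4 134) (etaOf etaE8_4 134) = true := by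
  decide +kernel

theorem conjE8_4_135 : conjCheck chevE8 (pMonoCol chevE8 4 permE8_4 etaE8_4) 135 (dec8 permE8_4 135) (etaOf etaE8_4 135) = true := by
  decide +kernel

theorem conjE8_4_136 : conjCheck chevE8 (pMonoCol chevE8 4 permE8_4 etaE8_4) 136 (dec8 permE8_4 136) (etaOf etaE8_4 136) = true := by
  decide +kernel

theorem conjE8_4_137 : conjCheck chevE8 (pMonoCol chevE8 4 permE8_4 etaE8_4) 137 (dec8 permE8_4 137) (etaOf etaE8_4 137) = true := by
  decide +kernel

theorem conjE8_4_138 : conjCheck chevE8 (pMonoCol chevE8 4 permE8_4 etaE8_4) 138 (dec8 permE8_4 138) (etaOf etaE8_4 138) = true := by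
  decide +kernel

theorem conjE8_4_139 : conjCheck chevE8 (pMonoCol chevE8 4 permE8_4 etaE8_4) 139 (dec8 permE8_4 139) (etaOf etaE8_4 139) = true := by
  decide +kernel

theorem conjE8_4_140 : conjCheck chevE8 (pMonoCol chevE8 4 permE8_4 etaE8_4) 140 (dec8 permE8_4 140) (etaOf etaE8_4 140) = true := by
  decide +kernel

theorem conjE8_4_141 : conjCheck chevE8 (pMonoCol chevE8 4 permE8_4 etaE8_4) 141 (dec8 permE8_4 141) (etaOf etaE8_4 141) = true := by
  decide +kernel

theorem conjE8_4_142 : conjCheck chevE8 (pMonoCol chevE8 4 permE8_4 etaE8_4) 142 (dec8 permE8_4 142) (etaOf etaE8_4 142) = true := by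
  decide +kernel

theorem conjE8_4_143 : conjCheck chevE8 (pMonoCol chevE8 4 permE8_4 etaE8_4) 143 (dec8 permE8_4 143) (etaOf etaE8_4 143) = true := by
  decide +kernel

theorem conjE8_4_144 : conjCheck chevE8 (pMonoCol chevE8 4 permE8_4 etaE8_4) 144 (dec8 permE8_4 144) (etaOf etaE8_4 144) = true := by
  decide +kernel

theorem conjE8_4_145 : conjCheck chevE8 (pMonoCol chevE8 4 permE8_4 etaE8_4) 145 (dec8 permE8_4 145) (etaOf etaE8_4 145) = true := by
  decide +kernel

theorem conjE8_4_146 : conjCheck chevE8 (pMonoCol chevE8 4 permE8_4 etaE8_4) 146 (dec8 permE8_4 146) (etaOf etaE8_4 146) = true := by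
  decide +kernel

theorem conjE8_4_147 : conjCheck chevE8 (pMonoCol chevE8 4 permE8_4 etaE8_4) 147 (dec8 permE8_4 147) (etaOf etaE8_4 147) = true := by
  decide +kernel

theorem conjE8_4_148 : conjCheck chevE8 (pMonoCol chevE8 4 permE8_4 etaE8_4) 148 (dec8 permE8_4 148) (etaOf etaE8_4 148) = true := by
  decide +kernel

theorem conjE8_4_149 : conjCheck chevE8 (pMonoCol chevE8 4 permE8_4 etaE8_4) 149 (dec8 permE8_4 149) (etaOf etaE8_4 149) = true := by
  decide +kernel

theorem conjE8_4_from120 (s : ℕ) (h1 : 120 ≤ s) (h2 : s < 150) : conjCheck chevE8 (pMonoCol chevE8 4 permE8_4 etaE8_4) s (dec8 permE8_4 s) (etaOf etaE8_4 s) = true := by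
  have h : s = 120 ∨ s = 121 ∨ s = 122 ∨ s = 123 ∨ s = 124 ∨ s = 125 ∨ s = 126 ∨ s = 127 ∨ s = 128 ∨ s = 129 ∨ s = 130 ∨ s = 131 ∨ s = 132 ∨ s = 133 ∨ s = 134 ∨ s = 135 ∨ s = 136 ∨ s = 137 ∨ s = 138 ∨ s = 139 ∨ s = 140 ∨ s = 141 ∨ s = 142 ∨ s = 143 ∨ s = 144 ∨ s = 145 ∨ s = 146 ∨ s = 147 ∨ s = 148 ∨ s = 149 := by omega
  rcases h with rfl | rfl | rfl | rfl | rfl | rfl | rfl | rfl | rfl | rfl | rfl | rfl | rfl | rfl | rfl | rfl | rfl | rfl | rfl | rfl | rfl | rfl | rfl | rfl | rfl | rfl | rfl | rfl | rfl | rfl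
  exacts [conjE8_4_120, conjE8_4_121, conjE8_4_122, conjE8_4_123, conjE8_4_124, conjE8_4_125, conjE8_4_126, conjE8_4_127, conjE8_4_128, conjE8_4_129, conjE8_4_130, conjE8_4_131, conjE8_4_132, conjE8_4_133, conjE8_4_134, conjE8_4_135, conjE8_4_136, conjE8_4_137, conjE8_4_138, conjE8_4_139, conjE8_4_140, conjE8_4_141, conjE8_4_142, conjE8_4_143, conjE8_4_144, conjE8_4_145, conjE8_4_146, conjE8_4_147, conjE8_4_148, conjE8_4_149]

theorem conjE8_4_150 : conjCheck chevE8 (pMonoCol chevE8 4 permE8_4 etaE8_4) 150 (dec8 permE8_4 150) (etaOf etaE8_4 150) = true := by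
  decide +kernel

theorem conjE8_4_151 : conjCheck chevE8 (pMonoCol chevE8 4 permE8_4 etaE8_4) 151 (dec8 permE8_4 151) (etaOf etaE8_4 151) = true := by
  decide +kernel

theorem conjE8_4_152 : conjCheck chevE8 (pMonoCol chevE8 4 permE8_4 etaE8_4) 152 (dec8 permE8_4 152) (etaOf etaE8_4 152) = true := by
  decide +kernel

theorem conjE8_4_153 : conjCheck chevE8 (pMonoCol chevE8 4 permE8_4 etaE8_4) 153 (dec8 permE8_4 153) (etaOf etaE8_4 153) = true := by
  decide +kernel

theorem conjE8_4_154 : conjCheck chevE8 (pMonoCol chevE8 4 permE8_4 etaE8_4) 154 (dec8 permE8_4 154) (etaOf etaE8_4 154) = true := by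
  decide +kernel

theorem conjE8_4_155 : conjCheck chevE8 (pMonoCol chevE8 4 permE8_4 etaE8_4) 155 (dec8 permE8_4 155) (etaOf etaE8_4 155) = true := by
  decide +kernel

theorem conjE8_4_156 : conjCheck chevE8 (pMonoCol chevE8 4 permE8_4 etaE8_4) 156 (dec8 permE8_4 156) (etaOf etaE8_4 156) = true := by
  decide +kernel

theorem conjE8_4_157 : conjCheck chevE8 (pMonoCol chevE8 4 permE8_4 etaE8_4) 157 (dec8 permE8_4 157) (etaOf etaE8_4 157) = true := by
  decide +kernel

theorem conjE8_4_158 : conjCheck chevE8 (pMonoCol chevE8 4 permE8_4 etaE8_4) 158 (dec8 permE8_4 158) (etaOf etaE8_4 158) = true := by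
  decide +kernel

theorem conjE8_4_159 : conjCheck chevE8 (pMonoCol chevE8 4 permE8_4 etaE8_4) 159 (dec8 permE8_4 159) (etaOf etaE8_4 159) = true := by
  decide +kernel

theorem conjE8_4_160 : conjCheck chevE8 (pMonoCol chevE8 4 permE8_4 etaE8_4) 160 (dec8 permE8_4 160) (etaOf etaE8_4 160) = true := by
  decide +kernel

theorem conjE8_4_161 : conjCheck chevE8 (pMonoCol chevE8 4 permE8_4 etaE8_4) 161 (dec8 permE8_4 161) (etaOf etaE8_4 161) = true := by
  decide +kernel

theorem conjE8_4_162 : conjCheck chevE8 (pMonoCol chevE8 4 permE8_4 etaE8_4) 162 (dec8 permE8_4 162) (etaOf etaE8_4 162) = true := by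
  decide +kernel

theorem conjE8_4_163 : conjCheck chevE8 (pMonoCol chevE8 4 permE8_4 etaE8_4) 163 (dec8 permE8_4 163) (etaOf etaE8_4 163) = true := by
  decide +kernel

theorem conjE8_4_164 : conjCheck chevE8 (pMonoCol chevE8 4 permE8_4 etaE8_4) 164 (dec8 permE8_4 164) (etaOf etaE8_4 164) = true := by
  decide +kernel

theorem conjE8_4_165 : conjCheck chevE8 (pMonoCol chevE8 4 permE8_4 etaE8_4) 165 (dec8 permE8_4 165) (etaOf etaE8_4 165) = true := by
  decide +kernel

theorem conjE8_4_166 : conjCheck chevE8 (pMonoCol chevE8 4 permE8_4 etaE8_4) 166 (dec8 permE8_4 166) (etaOf etaE8_4 166) = true := by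
  decide +kernel

theorem conjE8_4_167 : conjCheck chevE8 (pMonoCol chevE8 4 permE8_4 etaE8_4) 167 (dec8 permE8_4 167) (etaOf etaE8_4 167) = true := by
  decide +kernel

theorem conjE8_4_168 : conjCheck chevE8 (pMonoCol chevE8 4 permE8_4 etaE8_4) 168 (dec8 permE8_4 168) (etaOf etaE8_4 168) = true := by
  decide +kernel

theorem conjE8_4_169 : conjCheck chevE8 (pMonoCol chevE8 4 permE8_4 etaE8_4) 169 (dec8 permE8_4 169) (etaOf etaE8_4 169) = true := by
  decide +kernel

theorem conjE8_4_170 : conjCheck chevE8 (pMonoCol chevE8 4 permE8_4 etaE8_4) 170 (dec8 permE8_4 170) (etaOf etaE8_4 170) = true := by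
  decide +kernel

theorem conjE8_4_171 : conjCheck chevE8 (pMonoCol chevE8 4 permE8_4 etaE8_4) 171 (dec8 permE8_4 171) (etaOf etaE8_4 171) = true := by
  decide +kernel

theorem conjE8_4_172 : conjCheck chevE8 (pMonoCol chevE8 4 permE8_4 etaE8_4) 172 (dec8 permE8_4 172) (etaOf etaE8_4 172) = true := by
  decide +kernel

theorem conjE8_4_173 : conjCheck chevE8 (pMonoCol chevE8 4 permE8_4 etaE8_4) 173 (dec8 permE8_4 173) (etaOf etaE8_4 173) = true := by
  decide +kernel

theorem conjE8_4_174 : conjCheck chevE8 (pMonoCol chevE8 4 permE8_4 etaE8_4) 174 (dec8 permE8_4 174) (etaOf etaE8_4 174) = true := by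
  decide +kernel

theorem conjE8_4_175 : conjCheck chevE8 (pMonoCol chevE8 4 permE8_4 etaE8_4) 175 (dec8 permE8_4 175) (etaOf etaE8_4 175) = true := by
  decide +kernel

theorem conjE8_4_176 : conjCheck chevE8 (pMonoCol chevE8 4 permE8_4 etaE8_4) 176 (dec8 permE8_4 176) (etaOf etaE8_4 176) = true := by
  decide +kernel

theorem conjE8_4_177 : conjCheck chevE8 (pMonoCol chevE8 4 permE8_4 etaE8_4) 177 (dec8 permE8_4 177) (etaOf etaE8_4 177) = true := by
  decide +kernel

theorem conjE8_4_178 : conjCheck chevE8 (pMonoCol chevE8 4 permE8_4 etaE8_4) 178 (dec8 permE8_4 178) (etaOf etaE8_4 178) = true := by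
  decide +kernel

theorem conjE8_4_179 : conjCheck chevE8 (pMonoCol chevE8 4 permE8_4 etaE8_4) 179 (dec8 permE8_4 179) (etaOf etaE8_4 179) = true := by
  decide +kernel

theorem conjE8_4_from150 (s : ℕ) (h1 : 150 ≤ s) (h2 : s < 180) : conjCheck chevE8 (pMonoCol chevE8 4 permE8_4 etaE8_4) s (dec8 permE8_4 s) (etaOf etaE8_4 s) = true := by
  have h : s = 150 ∨ s = 151 ∨ s = 152 ∨ s = 153 ∨ s = 154 ∨ s = 155 ∨ s = 156 ∨ s = 157 ∨ s = 158 ∨ s = 159 ∨ s = 160 ∨ s = 161 ∨ s = 162 ∨ s = 163 ∨ s = 164 ∨ s = 165 ∨ s = 166 ∨ s = 167 ∨ s = 168 ∨ s = 169 ∨ s = 170 ∨ s = 171 ∨ s = 172 ∨ s = 173 ∨ s = 174 ∨ s = 175 ∨ s = 176 ∨ s = 177 ∨ s = 178 ∨ s = 179 := by omega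
  rcases h with rfl | rfl | rfl | rfl | rfl | rfl | rfl | rfl | rfl | rfl | rfl | rfl | rfl | rfl | rfl | rfl | rfl | rfl | rfl | rfl | rfl | rfl | rfl | rfl | rfl | rfl | rfl | rfl | rfl | rfl
  exacts [conjE8_4_150, conjE8_4_151, conjE8_4_152, conjE8_4_153, conjE8_4_154, conjE8_4_155, conjE8_4_156, conjE8_4_157, conjE8_4_158, conjE8_4_159, conjE8_4_160, conjE8_4_161, conjE8_4_162, conjE8_4_163, conjE8_4_164, conjE8_4_165, conjE8_4_166, conjE8_4_167, conjE8_4_168, conjE8_4_169, conjE8_4_170, conjE8_4_171, conjE8_4_172, conjE8_4_173, conjE8_4_174, conjE8_4_175, conjE8_4_176, conjE8_4_177, conjE8_4_178, conjE8_4_179]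

end Cfsg.Agent.Helper18
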