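import Cfsg.Agent.Lib.Helper18.ConjData

set_option autoImplicit false
set_option maxRecDepth 100000

namespace Cfsg.Agent.Helper18

open Cfsg.Lie

theorem conjE8_4_180 : conjCheck chevE8 (pMonoCol chevE8 4 permE8_4 etaE8_4) 180 (dec8 permE8_4 180) (etaOf etaE8_4 180) = true := by
  decide +kernel

theorem conjE8_4_181 : conjCheck chevE8 (pMonoCol chevE8 4 permE8_4 etaE8_4) 181 (dec8 permE8_4 181) (etaOf etaE8_4 181) = true := by
  decide +kernel

theorem conjE8_4_182 : conjCheck chevE8 (pMonoCol chevE8 4 permE8_4 etaE8_4) 182 (dec8 permE8_4 182) (etaOf etaE8_4 182) = true := by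
  decide +kernel

theorem conjE8_4_183 : conjCheck chevE8 (pMonoCol chevE8 4 permE8_4 etaE8_4) 183 (dec8 permE8_4 183) (etaOf etaE8_4 183) = true := by
  decide +kernel

theorem conjE8_4_184 : conjCheck chevE8 (pMonoCol chevE8 4 permE8_4 etaE8_4) 184 (dec8 permE8_4 184) (etaOf etaE8_4 184) = true := by
  decide +kernel

theorem conjE8_4_185 : conjCheck chevE8 (pMonoCol chevE8 4 permE8_4 etaE8_4) 185 (dec8 permE8_4 185) (etaOf etaE8_4 185) = true := by
  decide +kernel

theorem conjE8_4_186 : conjCheck chevE8 (pMonoCol chevE8 4 permE8_4 etaE8_4) 186 (dec8 permE8_4 186) (etaOf etaE8_4 186) = true := by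
  decide +kernel

theorem conjE8_4_187 : conjCheck chevE8 (pMonoCol chevE8 4 permE8_4 etaE8_4) 187 (dec8 permE8_4 187) (etaOf etaE8_4 187) = true := by
  decide +kernel

theorem conjE8_4_188 : conjCheck chevE8 (pMonoCol chevE8 4 permE8_4 etaE8_4) 188 (dec8 permE8_4 188) (etaOf etaE8_4 188) = true := by
  decide +kernel

theorem conjE8_4_189 : conjCheck chevE8 (pMonoCol chevE8 4 permE8_4 etaE8_4) 189 (dec8 permE8_4 189) (etaOf etaE8_4 189) = true := by
  decide +kernel

theorem conjE8_4_190 : conjCheck chevE8 (pMonoCol chevE8 4 permE8_4 etaE8_4) 190 (dec8 permE8_4 190) (etaOf etaE8_4 190) = true := by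
  decide +kernel

theorem conjE8_4_191 : conjCheck chevE8 (pMonoCol chevE8 4 permE8_4 etaE8_4) 191 (dec8 permE8_4 191) (etaOf etaE8_4 191) = true := by
  decide +kernel

theorem conjE8_4_192 : conjCheck chevE8 (pMonoCol chevE8 4 permE8_4 etaE8_4) 192 (dec8 permE8_4 192) (etaOf etaE8_4 192) = true := by
  decide +kernel

theorem conjE8_4_193 : conjCheck chevE8 (pMonoCol chevE8 4 permE8_4 etaE8_4) 193 (dec8 permE8_4 193) (etaOf etaE8_4 193) = true := by
  decide +kernel

theorem conjE8_4_194 : conjCheck chevE8 (pMonoCol chevE8 4 permE8_4 etaE8_4) 194 (dec8 permE8_4 194) (etaOf etaE8_4 194) = true := by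
  decide +kernel

theorem conjE8_4_195 : conjCheck chevE8 (pMonoCol chevE8 4 permE8_4 etaE8_4) 195 (dec8 permE8_4 195) (etaOf etaE8_4 195) = true := by
  decide +kernel

theorem conjE8_4_196 : conjCheck chevE8 (pMonoCol chevE8 4 permE8_4 etaE8_4) 196 (dec8 permE8_4 196) (etaOf etaE8_4 196) = true := by
  decide +kernel

theorem conjE8_4_197 : conjCheck chevE8 (pMonoCol chevE8 4 permE8_4 etaE8_4) 197 (dec8 permE8_4 197) (etaOf etaE8_4 197) = true := by
  decide +kernel

theorem conjE8_4_198 : conjCheck chevE8 (pMonoCol chevE8 4 permE8_4 etaE8_4) 198 (dec8 permE8_4 198) (etaOf etaE8_4 198) = true := by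
  decide +kernel

theorem conjE8_4_199 : conjCheck chevE8 (pMonoCol chevE8 4 permE8_4 etaE8_4) 199 (dec8 permE8_4 199) (etaOf etaE8_4 199) = true := by
  decide +kernel

theorem conjE8_4_200 : conjCheck chevE8 (pMonoCol chevE8 4 permE8_4 etaE8_4) 200 (dec8 permE8_4 200) (etaOf etaE8_4 200) = true := by
  decide +kernel

theorem conjE8_4_201 : conjCheck chevE8 (pMonoCol chevE8 4 permE8_4 etaE8_4) 201 (dec8 permE8_4 201) (etaOf etaE8_4 201) = true := by
  decide +kernel

theorem conjE8_4_202 : conjCheck chevE8 (pMonoCol chevE8 4 permE8_4 etaE8_4) 202 (dec8 permE8_4 202) (etaOf etaE8_4 202) = true := by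
  decide +kernel

theorem conjE8_4_203 : conjCheck chevE8 (pMonoCol chevE8 4 permE8_4 etaE8_4) 203 (dec8 permE8_4 203) (etaOf etaE8_4 203) = true := by
  decide +kernel

theorem conjE8_4_204 : conjCheck chevE8 (pMonoCol chevE8 4 permE8_4 etaE8_4) 204 (dec8 permE8_4 204) (etaOf etaE8_4 204) = true := by
  decide +kernel

theorem conjE8_4_205 : conjCheck chevE8 (pMonoCol chevE8 4 permE8_4 etaE8_4) 205 (dec8 permE8_4 205) (etaOf etaE8_4 205) = true := by
  decide +kernel

theorem conjE8_4_206 : conjCheck chevE8 (pMonoCol chevE8 4 permE8_4 etaE8_4) 206 (dec8 permE8_4 206) (etaOf etaE8_4 206) = true := by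
  decide +kernel

theorem conjE8_4_207 : conjCheck chevE8 (pMonoCol chevE8 4 permE8_4 etaE8_4) 207 (dec8 permE8_4 207) (etaOf etaE8_4 207) = true := by
  decide +kernel

theorem conjE8_4_208 : conjCheck chevE8 (pMonoCol chevE8 4 permE8_4 etaE8_4) 208 (dec8 permE8_4 208) (etaOf etaE8_4 208) = true := by
  decide +kernel

theorem conjE8_4_209 : conjCheck chevE8 (pMonoCol chevE8 4 permE8_4 etaE8_4) 209 (dec8 permE8_4 209) (etaOf etaE8_4 209) = true := by
  decide +kernel

theorem conjE8_4_from180 (s : ℕ) (h1 : 180 ≤ s) (h2 : s < 210) : conjCheck chevE8 (pMonoCol chevE8 4 permE8_4 etaE8_4) s (dec8 permE8_4 s) (etaOf etaE8_4 s) = true := by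
  have h : s = 180 ∨ s = 181 ∨ s = 182 ∨ s = 183 ∨ s = 184 ∨ s = 185 ∨ s = 186 ∨ s = 187 ∨ s = 188 ∨ s = 189 ∨ s = 190 ∨ s = 191 ∨ s = 192 ∨ s = 193 ∨ s = 194 ∨ s = 195 ∨ s = 196 ∨ s = 197 ∨ s = 198 ∨ s = 199 ∨ s = 200 ∨ s = 201 ∨ s = 202 ∨ s = 203 ∨ s = 204 ∨ s = 205 ∨ s = 206 ∨ s = 207 ∨ s = 208 ∨ s = 209 := by omega
  rcases h with rfl | rfl | rfl | rfl | rfl | rfl | rfl | rfl | rfl | rfl | rfl | rfl | rfl | rfl | rfl | rfl | rfl | rfl | rfl | rfl | rfl | rfl | rfl | rfl | rfl | rfl | rfl | rfl | rfl | rfl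
  exacts [conjE8_4_180, conjE8_4_181, conjE8_4_182, conjE8_4_183, conjE8_4_184, conjE8_4_185, conjE8_4_186, conjE8_4_187, conjE8_4_188, conjE8_4_189, conjE8_4_190, conjE8_4_191, conjE8_4_192, conjE8_4_193, conjE8_4_194, conjE8_4_195, conjE8_4_196, conjE8_4_197, conjE8_4_198, conjE8_4_199, conjE8_4_200, conjE8_4_201, conjE8_4_202, conjE8_4_203, conjE8_4_204, conjE8_4_205, conjE8_4_206, conjE8_4_207, conjE8_4_208, conjE8_4_209]

theorem conjE8_4_210 : conjCheck chevE8 (pMonoCol chevE8 4 permE8_4 etaE8_4) 210 (dec8 permE8_4 210) (etaOf etaE8_4 210) = true := by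
  decide +kernel

theorem conjE8_4_211 : conjCheck chevE8 (pMonoCol chevE8 4 permE8_4 etaE8_4) 211 (dec8 permE8_4 211) (etaOf etaE8_4 211) = true := by
  decide +kernel

theorem conjE8_4_212 : conjCheck chevE8 (pMonoCol chevE8 4 permE8_4 etaE8_4) 212 (dec8 permE8_4 212) (etaOf etaE8_4 212) = true := by
  decide +kernel

theorem conjE8_4_213 : conjCheck chevE8 (pMonoCol chevE8 4 permE8_4 etaE8_4) 213 (dec8 permE8_4 213) (etaOf etaE8_4 213) = true := by
  decide +kernel

theorem conjE8_4_214 : conjCheck chevE8 (pMonoCol chevE8 4 permE8_4 etaE8_4) 214 (dec8 permE8_4 214) (etaOf etaE8_4 214) = true := by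
  decide +kernel

theorem conjE8_4_215 : conjCheck chevE8 (pMonoCol chevE8 4 permE8_4 etaE8_4) 215 (dec8 permE8_4 215) (etaOf etaE8_4 215) = true := by
  decide +kernel

theorem conjE8_4_216 : conjCheck chevE8 (pMonoCol chevE8 4 permE8_4 etaE8_4) 216 (dec8 permE8_4 216) (etaOf etaE8_4 216) = true := by
  decide +kernel

theorem conjE8_4_217 : conjCheck chevE8 (pMonoCol chevE8 4 permE8_4 etaE8_4) 217 (dec8 permE8_4 217) (etaOf etaE8_4 217) = true := by
  decide +kernel

theorem conjE8_4_218 : conjCheck chevE8 (pMonoCol chevE8 4 permE8_4 etaE8_4) 218 (dec8 permE8_4 218) (etaOf etaE8_4 218) = true := by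
  decide +kernel

theorem conjE8_4_219 : conjCheck chevE8 (pMonoCol chevE8 4 permE8_4 etaE8_4) 219 (dec8 permE8_4 219) (etaOf etaE8_4 219) = true := by
  decide +kernel

theorem conjE8_4_220 : conjCheck chevE8 (pMonoCol chevE8 4 permE8_4 etaE8_4) 220 (dec8 permE8_4 220) (etaOf etaE8_4 220) = true := by
  decide +kernel

theorem conjE8_4_221 : conjCheck chevE8 (pMonoCol chevE8 4 permE8_4 etaE8_4) 221 (dec8 permE8_4 221) (etaOf etaE8_4 221) = true := by
  decide +kernel

theorem conjE8_4_222 : conjCheck chevE8 (pMonoCol chevE8 4 permE8_4 etaE8_4) 222 (dec8 permE8_4 222) (etaOf etaE8_4 222) = true := by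
  decide +kernel

theorem conjE8_4_223 : conjCheck chevE8 (pMonoCol chevE8 4 permE8_4 etaE8_4) 223 (dec8 permE8_4 223) (etaOf etaE8_4 223) = true := by
  decide +kernel

theorem conjE8_4_224 : conjCheck chevE8 (pMonoCol chevE8 4 permE8_4 etaE8_4) 224 (dec8 permE8_4 224) (etaOf etaE8_4 224) = true := by
  decide +kernel

theorem conjE8_4_225 : conjCheck chevE8 (pMonoCol chevE8 4 permE8_4 etaE8_4) 225 (dec8 permE8_4 225) (etaOf etaE8_4 225) = true := by
  decide +kernel

theorem conjE8_4_226 : conjCheck chevE8 (pMonoCol chevE8 4 permE8_4 etaE8_4) 226 (dec8 permE8_4 226) (etaOf etaE8_4 226) = true := by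
  decide +kernel

theorem conjE8_4_227 : conjCheck chevE8 (pMonoCol chevE8 4 permE8_4 etaE8_4) 227 (dec8 permE8_4 227) (etaOf etaE8_4 227) = true := by
  decide +kernel

theorem conjE8_4_228 : conjCheck chevE8 (pMonoCol chevE8 4 permE8_4 etaE8_4) 228 (dec8 permE8_4 228) (etaOf etaE8_4 228) = true := by
  decide +kernel

theorem conjE8_4_229 : conjCheck chevE8 (pMonoCol chevE8 4 permE8_4 etaE8_4) 229 (dec8 permE8_4 229) (etaOf etaE8_4 229) = true := by
  decide +kernel

theorem conjE8_4_230 : conjCheck chevE8 (pMonoCol chevE8 4 permE8_4 etaE8_4) 230 (dec8 permE8_4 230) (etaOf etaE8_4 230) = true := by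
  decide +kernel

theorem conjE8_4_231 : conjCheck chevE8 (pMonoCol chevE8 4 permE8_4 etaE8_4) 231 (dec8 permE8_4 231) (etaOf etaE8_4 231) = true := by
  decide +kernel

theorem conjE8_4_232 : conjCheck chevE8 (pMonoCol chevE8 4 permE8_4 etaE8_4) 232 (dec8 permE8_4 232) (etaOf etaE8_4 232) = true := by
  decide +kernel

theorem conjE8_4_233 : conjCheck chevE8 (pMonoCol chevE8 4 permE8_4 etaE8_4) 233 (dec8 permE8_4 233) (etaOf etaE8_4 233) = true := by
  decide +kernel

theorem conjE8_4_234 : conjCheck chevE8 (pMonoCol chevE8 4 permE8_4 etaE8_4) 234 (dec8 permE8_4 234) (etaOf etaE8_4 234) = true := by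
  decide +kernel

theorem conjE8_4_235 : conjCheck chevE8 (pMonoCol chevE8 4 permE8_4 etaE8_4) 235 (dec8 permE8_4 235) (etaOf etaE8_4 235) = true := by
  decide +kernel

theorem conjE8_4_236 : conjCheck chevE8 (pMonoCol chevE8 4 permE8_4 etaE8_4) 236 (dec8 permE8_4 236) (etaOf etaE8_4 236) = true := by
  decide +kernel

theorem conjE8_4_237 : conjCheck chevE8 (pMonoCol chevE8 4 permE8_4 etaE8_4) 237 (dec8 permE8_4 237) (etaOf etaE8_4 237) = true := by
  decide +kernel

theorem conjE8_4_238 : conjCheck chevE8 (pMonoCol chevE8 4 permE8_4 etaE8_4) 238 (dec8 permE8_4 238) (etaOf etaE8_4 238) = true := by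
  decide +kernel

theorem conjE8_4_239 : conjCheck chevE8 (pMonoCol chevE8 4 permE8_4 etaE8_4) 239 (dec8 permE8_4 239) (etaOf etaE8_4 239) = true := by
  decide +kernel

theorem conjE8_4_from210 (s : ℕ) (h1 : 210 ≤ s) (h2 : s < 240) : conjCheck chevE8 (pMonoCol chevE8 4 permE8_4 etaE8_4) s (dec8 permE8_4 s) (etaOf etaE8_4 s) = true := by
  have h : s = 210 ∨ s = 211 ∨ s = 212 ∨ s = 213 ∨ s = 214 ∨ s = 215 ∨ s = 216 ∨ s = 217 ∨ s = 218 ∨ s = 219 ∨ s = 220 ∨ s = 221 ∨ s = 222 ∨ s = 223 ∨ s = 224 ∨ s = 225 ∨ s = 226 ∨ s = 227 ∨ s = 228 ∨ s = 229 ∨ s = 230 ∨ s = 231 ∨ s = 232 ∨ s = 233 ∨ s = 234 ∨ s = 235 ∨ s = 236 ∨ s = 237 ∨ s = 238 ∨ s = 239 := by omega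
  rcases h with rfl | rfl | rfl | rfl | rfl | rfl | rfl | rfl | rfl | rfl | rfl | rfl | rfl | rfl | rfl | rfl | rfl | rfl | rfl | rfl | rfl | rfl | rfl | rfl | rfl | rfl | rfl | rfl | rfl | rfl
  exacts [conjE8_4_210, conjE8_4_211, conjE8_4_212, conjE8_4_213, conjE8_4_214, conjE8_4_215, conjE8_4_216, conjE8_4_217, conjE8_4_218, conjE8_4_219, conjE8_4_220, conjE8_4_221, conjE8_4_222, conjE8_4_223, conjE8_4_224, conjE8_4_225, conjE8_4_226, conjE8_4_227, conjE8_4_228, conjE8_4_229, conjE8_4_230, conjE8_4_231, conjE8_4_232, conjE8_4_233, conjE8_4_234, conjE8_4_235, conjE8_4_236, conjE8_4_237, conjE8_4_238, conjE8_4_239]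

end Cfsg.Agent.Helper18
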