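import Cfsg.Agent.Lib.Helper18.ConjData

set_option autoImplicit false
set_option maxRecDepth 100000
set_option Elab.async false

namespace Cfsg.Agent.Helper18

open Cfsg.Lie

theorem conjE8_5_0 : conjCheck chevE8 (pMonoCol chevE8 5 permE8_5 etaE8_5) 0 (dec8 permE8_5 0) (etaOf etaE8_5 0) = true := by
  decide +kernel

theorem conjE8_5_1 : conjCheck chevE8 (pMonoCol chevE8 5 permE8_5 etaE8_5) 1 (dec8 permE8_5 1) (etaOf etaE8_5 1) = true := by
  decide +kernel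

theorem conjE8_5_2 : conjCheck chevE8 (pMonoCol chevE8 5 permE8_5 etaE8_5) 2 (dec8 permE8_5 2) (etaOf etaE8_5 2) = true := by
  decide +kernel

theorem conjE8_5_3 : conjCheck chevE8 (pMonoCol chevE8 5 permE8_5 etaE8_5) 3 (dec8 permE8_5 3) (etaOf etaE8_5 3) = true := by
  decide +kernel

theorem conjE8_5_4 : conjCheck chevE8 (pMonoCol chevE8 5 permE8_5 etaE8_5) 4 (dec8 permE8_5 4) (etaOf etaE8_5 4) = true := by
  decide +kernel

theorem conjE8_5_5 : conjCheck chevE8 (pMonoCol chevE8 5 permE8_5 etaE8_5) 5 (dec8 permE8_5 5) (etaOf etaE8_5 5) = true := by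
  decide +kernel

theorem conjE8_5_6 : conjCheck chevE8 (pMonoCol chevE8 5 permE8_5 etaE8_5) 6 (dec8 permE8_5 6) (etaOf etaE8_5 6) = true := by
  decide +kernel

theorem conjE8_5_7 : conjCheck chevE8 (pMonoCol chevE8 5 permE8_5 etaE8_5) 7 (dec8 permE8_5 7) (etaOf etaE8_5 7) = true := by
  decide +kernel

theorem conjE8_5_8 : conjCheck chevE8 (pMonoCol chevE8 5 permE8_5 etaE8_5) 8 (dec8 permE8_5 8) (etaOf etaE8_5 8) = true := by
  decide +kernel

theorem conjE8_5_9 : conjCheck chevE8 (pMonoCol chevE8 5 permE8_5 etaE8_5) 9 (dec8 permE8_5 9) (etaOf etaE8_5 9) = true := by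
  decide +kernel

theorem conjE8_5_10 : conjCheck chevE8 (pMonoCol chevE8 5 permE8_5 etaE8_5) 10 (dec8 permE8_5 10) (etaOf etaE8_5 10) = true := by
  decide +kernel

theorem conjE8_5_11 : conjCheck chevE8 (pMonoCol chevE8 5 permE8_5 etaE8_5) 11 (dec8 permE8_5 11) (etaOf etaE8_5 11) = true := by
  decide +kernel

theorem conjE8_5_12 : conjCheck chevE8 (pMonoCol chevE8 5 permE8_5 etaE8_5) 12 (dec8 permE8_5 12) (etaOf etaE8_5 12) = true := by
  decide +kernel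

theorem conjE8_5_13 : conjCheck chevE8 (pMonoCol chevE8 5 permE8_5 etaE8_5) 13 (dec8 permE8_5 13) (etaOf etaE8_5 13) = true := by
  decide +kernel

theorem conjE8_5_14 : conjCheck chevE8 (pMonoCol chevE8 5 permE8_5 etaE8_5) 14 (dec8 permE8_5 14) (etaOf etaE8_5 14) = true := by
  decide +kernel

theorem conjE8_5_15 : conjCheck chevE8 (pMonoCol chevE8 5 permE8_5 etaE8_5) 15 (dec8 permE8_5 15) (etaOf etaE8_5 15) = true := by
  decide +kernel

theorem conjE8_5_16 : conjCheck chevE8 (pMonoCol chevE8 5 permE8_5 etaE8_5) 16 (dec8 permE8_5 16) (etaOf etaE8_5 16) = true := by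
  decide +kernel

theorem conjE8_5_17 : conjCheck chevE8 (pMonoCol chevE8 5 permE8_5 etaE8_5) 17 (dec8 permE8_5 17) (etaOf etaE8_5 17) = true := by
  decide +kernel

theorem conjE8_5_18 : conjCheck chevE8 (pMonoCol chevE8 5 permE8_5 etaE8_5) 18 (dec8 permE8_5 18) (etaOf etaE8_5 18) = true := by
  decide +kernel

theorem conjE8_5_19 : conjCheck chevE8 (pMonoCol chevE8 5 permE8_5 etaE8_5) 19 (dec8 permE8_5 19) (etaOf etaE8_5 19) = true := by
  decide +kernel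

theorem conjE8_5_20 : conjCheck chevE8 (pMonoCol chevE8 5 permE8_5 etaE8_5) 20 (dec8 permE8_5 20) (etaOf etaE8_5 20) = true := by
  decide +kernel

theorem conjE8_5_21 : conjCheck chevE8 (pMonoCol chevE8 5 permE8_5 etaE8_5) 21 (dec8 permE8_5 21) (etaOf etaE8_5 21) = true := by
  decide +kernel

theorem conjE8_5_22 : conjCheck chevE8 (pMonoCol chevE8 5 permE8_5 etaE8_5) 22 (dec8 permE8_5 22) (etaOf etaE8_5 22) = true := by
  decide +kernel

theorem conjE8_5_23 : conjCheck chevE8 (pMonoCol chevE8 5 permE8_5 etaE8_5) 23 (dec8 permE8_5 23) (etaOf etaE8_5 23) = true := by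
  decide +kernel

theorem conjE8_5_24 : conjCheck chevE8 (pMonoCol chevE8 5 permE8_5 etaE8_5) 24 (dec8 permE8_5 24) (etaOf etaE8_5 24) = true := by
  decide +kernel

theorem conjE8_5_25 : conjCheck chevE8 (pMonoCol chevE8 5 permE8_5 etaE8_5) 25 (dec8 permE8_5 25) (etaOf etaE8_5 25) = true := by
  decide +kernel

theorem conjE8_5_26 : conjCheck chevE8 (pMonoCol chevE8 5 permE8_5 etaE8_5) 26 (dec8 permE8_5 26) (etaOf etaE8_5 26) = true := by
  decide +kernel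

theorem conjE8_5_27 : conjCheck chevE8 (pMonoCol chevE8 5 permE8_5 etaE8_5) 27 (dec8 permE8_5 27) (etaOf etaE8_5 27) = true := by
  decide +kernel

theorem conjE8_5_28 : conjCheck chevE8 (pMonoCol chevE8 5 permE8_5 etaE8_5) 28 (dec8 permE8_5 28) (etaOf etaE8_5 28) = true := by
  decide +kernel

theorem conjE8_5_29 : conjCheck chevE8 (pMonoCol chevE8 5 permE8_5 etaE8_5) 29 (dec8 permE8_5 29) (etaOf etaE8_5 29) = true := by
  decide +kernel

theorem conjE8_5_from0 (s : ℕ) (h1 : 0 ≤ s) (h2 : s < 30) : conjCheck chevE8 (pMonoCol chevE8 5 permE8_5 etaE8_5) s (dec8 permE8_5 s) (etaOf etaE8_5 s) = true := by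
  have h : s = 0 ∨ s = 1 ∨ s = 2 ∨ s = 3 ∨ s = 4 ∨ s = 5 ∨ s = 6 ∨ s = 7 ∨ s = 8 ∨ s = 9 ∨ s = 10 ∨ s = 11 ∨ s = 12 ∨ s = 13 ∨ s = 14 ∨ s = 15 ∨ s = 16 ∨ s = 17 ∨ s = 18 ∨ s = 19 ∨ s = 20 ∨ s = 21 ∨ s = 22 ∨ s = 23 ∨ s = 24 ∨ s = 25 ∨ s = 26 ∨ s = 27 ∨ s = 28 ∨ s = 29 := by omega
  rcases h with rfl | rfl | rfl | rfl | rfl | rfl | rfl | rfl | rfl | rfl | rfl | rfl | rfl | rfl | rfl | rfl | rfl | rfl | rfl | rfl | rfl | rfl | rfl | rfl | rfl | rfl | rfl | rfl | rfl | rfl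
  exacts [conjE8_5_0, conjE8_5_1, conjE8_5_2, conjE8_5_3, conjE8_5_4, conjE8_5_5, conjE8_5_6, conjE8_5_7, conjE8_5_8, conjE8_5_9, conjE8_5_10, conjE8_5_11, conjE8_5_12, conjE8_5_13, conjE8_5_14, conjE8_5_15, conjE8_5_16, conjE8_5_17, conjE8_5_18, conjE8_5_19, conjE8_5_20, conjE8_5_21, conjE8_5_22, conjE8_5_23, conjE8_5_24, conjE8_5_25, conjE8_5_26, conjE8_5_27, conjE8_5_28, conjE8_5_29]

theorem conjE8_5_30 : conjCheck chevE8 (pMonoCol chevE8 5 permE8_5 etaE8_5) 30 (dec8 permE8_5 30) (etaOf etaE8_5 30) = true := by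
  decide +kernel

theorem conjE8_5_31 : conjCheck chevE8 (pMonoCol chevE8 5 permE8_5 etaE8_5) 31 (dec8 permE8_5 31) (etaOf etaE8_5 31) = true := by
  decide +kernel

theorem conjE8_5_32 : conjCheck chevE8 (pMonoCol chevE8 5 permE8_5 etaE8_5) 32 (dec8 permE8_5 32) (etaOf etaE8_5 32) = true := by
  decide +kernel

theorem conjE8_5_33 : conjCheck chevE8 (pMonoCol chevE8 5 permE8_5 etaE8_5) 33 (dec8 permE8_5 33) (etaOf etaE8_5 33) = true := by
  decide +kernel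

theorem conjE8_5_34 : conjCheck chevE8 (pMonoCol chevE8 5 permE8_5 etaE8_5) 34 (dec8 permE8_5 34) (etaOf etaE8_5 34) = true := by
  decide +kernel

theorem conjE8_5_35 : conjCheck chevE8 (pMonoCol chevE8 5 permE8_5 etaE8_5) 35 (dec8 permE8_5 35) (etaOf etaE8_5 35) = true := by
  decide +kernel

theorem conjE8_5_36 : conjCheck chevE8 (pMonoCol chevE8 5 permE8_5 etaE8_5) 36 (dec8 permE8_5 36) (etaOf etaE8_5 36) = true := by
  decide +kernel

theorem conjE8_5_37 : conjCheck chevE8 (pMonoCol chevE8 5 permE8_5 etaE8_5) 37 (dec8 permE8_5 37) (etaOf etaE8_5 37) = true := by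
  decide +kernel

theorem conjE8_5_38 : conjCheck chevE8 (pMonoCol chevE8 5 permE8_5 etaE8_5) 38 (dec8 permE8_5 38) (etaOf etaE8_5 38) = true := by
  decide +kernel

theorem conjE8_5_39 : conjCheck chevE8 (pMonoCol chevE8 5 permE8_5 etaE8_5) 39 (dec8 permE8_5 39) (etaOf etaE8_5 39) = true := by
  decide +kernel

theorem conjE8_5_40 : conjCheck chevE8 (pMonoCol chevE8 5 permE8_5 etaE8_5) 40 (dec8 permE8_5 40) (etaOf etaE8_5 40) = true := by
  decide +kernel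

theorem conjE8_5_41 : conjCheck chevE8 (pMonoCol chevE8 5 permE8_5 etaE8_5) 41 (dec8 permE8_5 41) (etaOf etaE8_5 41) = true := by
  decide +kernel

theorem conjE8_5_42 : conjCheck chevE8 (pMonoCol chevE8 5 permE8_5 etaE8_5) 42 (dec8 permE8_5 42) (etaOf etaE8_5 42) = true := by
  decide +kernel

theorem conjE8_5_43 : conjCheck chevE8 (pMonoCol chevE8 5 permE8_5 etaE8_5) 43 (dec8 permE8_5 43) (etaOf etaE8_5 43) = true := by
  decide +kernel

theorem conjE8_5_44 : conjCheck chevE8 (pMonoCol chevE8 5 permE8_5 etaE8_5) 44 (dec8 permE8_5 44) (etaOf etaE8_5 44) = true := by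
  decide +kernel

theorem conjE8_5_45 : conjCheck chevE8 (pMonoCol chevE8 5 permE8_5 etaE8_5) 45 (dec8 permE8_5 45) (etaOf etaE8_5 45) = true := by
  decide +kernel

theorem conjE8_5_46 : conjCheck chevE8 (pMonoCol chevE8 5 permE8_5 etaE8_5) 46 (dec8 permE8_5 46) (etaOf etaE8_5 46) = true := by
  decide +kernel

theorem conjE8_5_47 : conjCheck chevE8 (pMonoCol chevE8 5 permE8_5 etaE8_5) 47 (dec8 permE8_5 47) (etaOf etaE8_5 47) = true := by
  decide +kernel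

theorem conjE8_5_48 : conjCheck chevE8 (pMonoCol chevE8 5 permE8_5 etaE8_5) 48 (dec8 permE8_5 48) (etaOf etaE8_5 48) = true := by
  decide +kernel

theorem conjE8_5_49 : conjCheck chevE8 (pMonoCol chevE8 5 permE8_5 etaE8_5) 49 (dec8 permE8_5 49) (etaOf etaE8_5 49) = true := by
  decide +kernel

theorem conjE8_5_50 : conjCheck chevE8 (pMonoCol chevE8 5 permE8_5 etaE8_5) 50 (dec8 permE8_5 50) (etaOf etaE8_5 50) = true := by
  decide +kernel

theorem conjE8_5_51 : conjCheck chevE8 (pMonoCol chevE8 5 permE8_5 etaE8_5) 51 (dec8 permE8_5 51) (etaOf etaE8_5 51) = true := by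
  decide +kernel

theorem conjE8_5_52 : conjCheck chevE8 (pMonoCol chevE8 5 permE8_5 etaE8_5) 52 (dec8 permE8_5 52) (etaOf etaE8_5 52) = true := by
  decide +kernel

theorem conjE8_5_53 : conjCheck chevE8 (pMonoCol chevE8 5 permE8_5 etaE8_5) 53 (dec8 permE8_5 53) (etaOf etaE8_5 53) = true := by
  decide +kernel

theorem conjE8_5_54 : conjCheck chevE8 (pMonoCol chevE8 5 permE8_5 etaE8_5) 54 (dec8 permE8_5 54) (etaOf etaE8_5 54) = true := by
  decide +kernel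

theorem conjE8_5_55 : conjCheck chevE8 (pMonoCol chevE8 5 permE8_5 etaE8_5) 55 (dec8 permE8_5 55) (etaOf etaE8_5 55) = true := by
  decide +kernel

theorem conjE8_5_56 : conjCheck chevE8 (pMonoCol chevE8 5 permE8_5 etaE8_5) 56 (dec8 permE8_5 56) (etaOf etaE8_5 56) = true := by
  decide +kernel

theorem conjE8_5_57 : conjCheck chevE8 (pMonoCol chevE8 5 permE8_5 etaE8_5) 57 (dec8 permE8_5 57) (etaOf etaE8_5 57) = true := by
  decide +kernel

theorem conjE8_5_58 : conjCheck chevE8 (pMonoCol chevE8 5 permE8_5 etaE8_5) 58 (dec8 permE8_5 58) (etaOf etaE8_5 58) = true := by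
  decide +kernel

theorem conjE8_5_59 : conjCheck chevE8 (pMonoCol chevE8 5 permE8_5 etaE8_5) 59 (dec8 permE8_5 59) (etaOf etaE8_5 59) = true := by
  decide +kernel

theorem conjE8_5_from30 (s : ℕ) (h1 : 30 ≤ s) (h2 : s < 60) : conjCheck chevE8 (pMonoCol chevE8 5 permE8_5 etaE8_5) s (dec8 permE8_5 s) (etaOf etaE8_5 s) = true := by
  have h : s = 30 ∨ s = 31 ∨ s = 32 ∨ s = 33 ∨ s = 34 ∨ s = 35 ∨ s = 36 ∨ s = 37 ∨ s = 38 ∨ s = 39 ∨ s = 40 ∨ s = 41 ∨ s = 42 ∨ s = 43 ∨ s = 44 ∨ s = 45 ∨ s = 46 ∨ s = 47 ∨ s = 48 ∨ s = 49 ∨ s = 50 ∨ s = 51 ∨ s = 52 ∨ s = 53 ∨ s = 54 ∨ s = 55 ∨ s = 56 ∨ s = 57 ∨ s = 58 ∨ s = 59 := by omega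
  rcases h with rfl | rfl | rfl | rfl | rfl | rfl | rfl | rfl | rfl | rfl | rfl | rfl | rfl | rfl | rfl | rfl | rfl | rfl | rfl | rfl | rfl | rfl | rfl | rfl | rfl | rfl | rfl | rfl | rfl | rfl
  exacts [conjE8_5_30, conjE8_5_31, conjE8_5_32, conjE8_5_33, conjE8_5_34, conjE8_5_35, conjE8_5_36, conjE8_5_37, conjE8_5_38, conjE8_5_39, conjE8_5_40, conjE8_5_41, conjE8_5_42, conjE8_5_43, conjE8_5_44, conjE8_5_45, conjE8_5_46, conjE8_5_47, conjE8_5_48, conjE8_5_49, conjE8_5_50, conjE8_5_51, conjE8_5_52, conjE8_5_53, conjE8_5_54, conjE8_5_55, conjE8_5_56, conjE8_5_57, conjE8_5_58, conjE8_5_59]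

end Cfsg.Agent.Helper18
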