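import Cfsg.Agent.Lib.Helper18.ConjData

set_option autoImplicit false
set_option maxRecDepth 100000

namespace Cfsg.Agent.Helper18

open Cfsg.Lie

theorem conjE8_5_60 : conjCheck chevE8 (pMonoCol chevE8 5 permE8_5 etaE8_5) 60 (dec8 permE8_5 60) (etaOf etaE8_5 60) = true := by
  decide +kernel

theorem conjE8_5_61 : conjCheck chevE8 (pMonoCol chevE8 5 permE8_5 etaE8_5) 61 (dec8 permE8_5 61) (etaOf etaE8_5 61) = true := by
  decide +kernel

theorem conjE8_5_62 : conjCheck chevE8 (pMonoCol chevE8 5 permE8_5 etaE8_5) 62 (dec8 permE8_5 62) (etaOf etaE8_5 62) = true := by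
  decide +kernel

theorem conjE8_5_63 : conjCheck chevE8 (pMonoCol chevE8 5 permE8_5 etaE8_5) 63 (dec8 permE8_5 63) (etaOf etaE8_5 63) = true := by
  decide +kernel

theorem conjE8_5_64 : conjCheck chevE8 (pMonoCol chevE8 5 permE8_5 etaE8_5) 64 (dec8 permE8_5 64) (etaOf etaE8_5 64) = true := by
  decide +kernel

theorem conjE8_5_65 : conjCheck chevE8 (pMonoCol chevE8 5 permE8_5 etaE8_5) 65 (dec8 permE8_5 65) (etaOf etaE8_5 65) = true := by
  decide +kernel

theorem conjE8_5_66 : conjCheck chevE8 (pMonoCol chevE8 5 permE8_5 etaE8_5) 66 (dec8 permE8_5 66) (etaOf etaE8_5 66) = true := by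
  decide +kernel

theorem conjE8_5_67 : conjCheck chevE8 (pMonoCol chevE8 5 permE8_5 etaE8_5) 67 (dec8 permE8_5 67) (etaOf etaE8_5 67) = true := by
  decide +kernel

theorem conjE8_5_68 : conjCheck chevE8 (pMonoCol chevE8 5 permE8_5 etaE8_5) 68 (dec8 permE8_5 68) (etaOf etaE8_5 68) = true := by
  decide +kernel

theorem conjE8_5_69 : conjCheck chevE8 (pMonoCol chevE8 5 permE8_5 etaE8_5) 69 (dec8 permE8_5 69) (etaOf etaE8_5 69) = true := by
  decide +kernel

theorem conjE8_5_70 : conjCheck chevE8 (pMonoCol chevE8 5 permE8_5 etaE8_5) 70 (dec8 permE8_5 70) (etaOf etaE8_5 70) = true := by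
  decide +kernel

theorem conjE8_5_71 : conjCheck chevE8 (pMonoCol chevE8 5 permE8_5 etaE8_5) 71 (dec8 permE8_5 71) (etaOf etaE8_5 71) = true := by
  decide +kernel

theorem conjE8_5_72 : conjCheck chevE8 (pMonoCol chevE8 5 permE8_5 etaE8_5) 72 (dec8 permE8_5 72) (etaOf etaE8_5 72) = true := by
  decide +kernel

theorem conjE8_5_73 : conjCheck chevE8 (pMonoCol chevE8 5 permE8_5 etaE8_5) 73 (dec8 permE8_5 73) (etaOf etaE8_5 73) = true := by
  decide +kernel

theorem conjE8_5_74 : conjCheck chevE8 (pMonoCol chevE8 5 permE8_5 etaE8_5) 74 (dec8 permE8_5 74) (etaOf etaE8_5 74) = true := by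
  decide +kernel

theorem conjE8_5_75 : conjCheck chevE8 (pMonoCol chevE8 5 permE8_5 etaE8_5) 75 (dec8 permE8_5 75) (etaOf etaE8_5 75) = true := by
  decide +kernel

theorem conjE8_5_76 : conjCheck chevE8 (pMonoCol chevE8 5 permE8_5 etaE8_5) 76 (dec8 permE8_5 76) (etaOf etaE8_5 76) = true := by
  decide +kernel

theorem conjE8_5_77 : conjCheck chevE8 (pMonoCol chevE8 5 permE8_5 etaE8_5) 77 (dec8 permE8_5 77) (etaOf etaE8_5 77) = true := by
  decide +kernel

theorem conjE8_5_78 : conjCheck chevE8 (pMonoCol chevE8 5 permE8_5 etaE8_5) 78 (dec8 permE8_5 78) (etaOf etaE8_5 78) = true := by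
  decide +kernel

theorem conjE8_5_79 : conjCheck chevE8 (pMonoCol chevE8 5 permE8_5 etaE8_5) 79 (dec8 permE8_5 79) (etaOf etaE8_5 79) = true := by
  decide +kernel

theorem conjE8_5_80 : conjCheck chevE8 (pMonoCol chevE8 5 permE8_5 etaE8_5) 80 (dec8 permE8_5 80) (etaOf etaE8_5 80) = true := by
  decide +kernel

theorem conjE8_5_81 : conjCheck chevE8 (pMonoCol chevE8 5 permE8_5 etaE8_5) 81 (dec8 permE8_5 81) (etaOf etaE8_5 81) = true := by
  decide +kernel

theorem conjE8_5_82 : conjCheck chevE8 (pMonoCol chevE8 5 permE8_5 etaE8_5) 82 (dec8 permE8_5 82) (etaOf etaE8_5 82) = true := by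
  decide +kernel

theorem conjE8_5_83 : conjCheck chevE8 (pMonoCol chevE8 5 permE8_5 etaE8_5) 83 (dec8 permE8_5 83) (etaOf etaE8_5 83) = true := by
  decide +kernel

theorem conjE8_5_84 : conjCheck chevE8 (pMonoCol chevE8 5 permE8_5 etaE8_5) 84 (dec8 permE8_5 84) (etaOf etaE8_5 84) = true := by
  decide +kernel

theorem conjE8_5_85 : conjCheck chevE8 (pMonoCol chevE8 5 permE8_5 etaE8_5) 85 (dec8 permE8_5 85) (etaOf etaE8_5 85) = true := by
  decide +kernel

theorem conjE8_5_86 : conjCheck chevE8 (pMonoCol chevE8 5 permE8_5 etaE8_5) 86 (dec8 permE8_5 86) (etaOf etaE8_5 86) = true := by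
  decide +kernel

theorem conjE8_5_87 : conjCheck chevE8 (pMonoCol chevE8 5 permE8_5 etaE8_5) 87 (dec8 permE8_5 87) (etaOf etaE8_5 87) = true := by
  decide +kernel

theorem conjE8_5_88 : conjCheck chevE8 (pMonoCol chevE8 5 permE8_5 etaE8_5) 88 (dec8 permE8_5 88) (etaOf etaE8_5 88) = true := by
  decide +kernel

theorem conjE8_5_89 : conjCheck chevE8 (pMonoCol chevE8 5 permE8_5 etaE8_5) 89 (dec8 permE8_5 89) (etaOf etaE8_5 89) = true := by
  decide +kernel

theorem conjE8_5_from60 (s : ℕ) (h1 : 60 ≤ s) (h2 : s < 90) : conjCheck chevE8 (pMonoCol chevE8 5 permE8_5 etaE8_5) s (dec8 permE8_5 s) (etaOf etaE8_5 s) = true := by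
  have h : s = 60 ∨ s = 61 ∨ s = 62 ∨ s = 63 ∨ s = 64 ∨ s = 65 ∨ s = 66 ∨ s = 67 ∨ s = 68 ∨ s = 69 ∨ s = 70 ∨ s = 71 ∨ s = 72 ∨ s = 73 ∨ s = 74 ∨ s = 75 ∨ s = 76 ∨ s = 77 ∨ s = 78 ∨ s = 79 ∨ s = 80 ∨ s = 81 ∨ s = 82 ∨ s = 83 ∨ s = 84 ∨ s = 85 ∨ s = 86 ∨ s = 87 ∨ s = 88 ∨ s = 89 := by omega
  rcases h with rfl | rfl | rfl | rfl | rfl | rfl | rfl | rfl | rfl | rfl | rfl | rfl | rfl | rfl | rfl | rfl | rfl | rfl | rfl | rfl | rfl | rfl | rfl | rfl | rfl | rfl | rfl | rfl | rfl | rfl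
  exacts [conjE8_5_60, conjE8_5_61, conjE8_5_62, conjE8_5_63, conjE8_5_64, conjE8_5_65, conjE8_5_66, conjE8_5_67, conjE8_5_68, conjE8_5_69, conjE8_5_70, conjE8_5_71, conjE8_5_72, conjE8_5_73, conjE8_5_74, conjE8_5_75, conjE8_5_76, conjE8_5_77, conjE8_5_78, conjE8_5_79, conjE8_5_80, conjE8_5_81, conjE8_5_82, conjE8_5_83, conjE8_5_84, conjE8_5_85, conjE8_5_86, conjE8_5_87, conjE8_5_88, conjE8_5_89]

theorem conjE8_5_90 : conjCheck chevE8 (pMonoCol chevE8 5 permE8_5 etaE8_5) 90 (dec8 permE8_5 90) (etaOf etaE8_5 90) = true := by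
  decide +kernel

theorem conjE8_5_91 : conjCheck chevE8 (pMonoCol chevE8 5 permE8_5 etaE8_5) 91 (dec8 permE8_5 91) (etaOf etaE8_5 91) = true := by
  decide +kernel

theorem conjE8_5_92 : conjCheck chevE8 (pMonoCol chevE8 5 permE8_5 etaE8_5) 92 (dec8 permE8_5 92) (etaOf etaE8_5 92) = true := by
  decide +kernel

theorem conjE8_5_93 : conjCheck chevE8 (pMonoCol chevE8 5 permE8_5 etaE8_5) 93 (dec8 permE8_5 93) (etaOf etaE8_5 93) = true := by
  decide +kernel

theorem conjE8_5_94 : conjCheck chevE8 (pMonoCol chevE8 5 permE8_5 etaE8_5) 94 (dec8 permE8_5 94) (etaOf etaE8_5 94) = true := by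
  decide +kernel

theorem conjE8_5_95 : conjCheck chevE8 (pMonoCol chevE8 5 permE8_5 etaE8_5) 95 (dec8 permE8_5 95) (etaOf etaE8_5 95) = true := by
  decide +kernel

theorem conjE8_5_96 : conjCheck chevE8 (pMonoCol chevE8 5 permE8_5 etaE8_5) 96 (dec8 permE8_5 96) (etaOf etaE8_5 96) = true := by
  decide +kernel

theorem conjE8_5_97 : conjCheck chevE8 (pMonoCol chevE8 5 permE8_5 etaE8_5) 97 (dec8 permE8_5 97) (etaOf etaE8_5 97) = true := by
  decide +kernel

theorem conjE8_5_98 : conjCheck chevE8 (pMonoCol chevE8 5 permE8_5 etaE8_5) 98 (dec8 permE8_5 98) (etaOf etaE8_5 98) = true := by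
  decide +kernel

theorem conjE8_5_99 : conjCheck chevE8 (pMonoCol chevE8 5 permE8_5 etaE8_5) 99 (dec8 permE8_5 99) (etaOf etaE8_5 99) = true := by
  decide +kernel

theorem conjE8_5_100 : conjCheck chevE8 (pMonoCol chevE8 5 permE8_5 etaE8_5) 100 (dec8 permE8_5 100) (etaOf etaE8_5 100) = true := by
  decide +kernel

theorem conjE8_5_101 : conjCheck chevE8 (pMonoCol chevE8 5 permE8_5 etaE8_5) 101 (dec8 permE8_5 101) (etaOf etaE8_5 101) = true := by
  decide +kernel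

theorem conjE8_5_102 : conjCheck chevE8 (pMonoCol chevE8 5 permE8_5 etaE8_5) 102 (dec8 permE8_5 102) (etaOf etaE8_5 102) = true := by
  decide +kernel

theorem conjE8_5_103 : conjCheck chevE8 (pMonoCol chevE8 5 permE8_5 etaE8_5) 103 (dec8 permE8_5 103) (etaOf etaE8_5 103) = true := by
  decide +kernel

theorem conjE8_5_104 : conjCheck chevE8 (pMonoCol chevE8 5 permE8_5 etaE8_5) 104 (dec8 permE8_5 104) (etaOf etaE8_5 104) = true := by
  decide +kernel

theorem conjE8_5_105 : conjCheck chevE8 (pMonoCol chevE8 5 permE8_5 etaE8_5) 105 (dec8 permE8_5 105) (etaOf etaE8_5 105) = true := by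
  decide +kernel

theorem conjE8_5_106 : conjCheck chevE8 (pMonoCol chevE8 5 permE8_5 etaE8_5) 106 (dec8 permE8_5 106) (etaOf etaE8_5 106) = true := by
  decide +kernel

theorem conjE8_5_107 : conjCheck chevE8 (pMonoCol chevE8 5 permE8_5 etaE8_5) 107 (dec8 permE8_5 107) (etaOf etaE8_5 107) = true := by
  decide +kernel

theorem conjE8_5_108 : conjCheck chevE8 (pMonoCol chevE8 5 permE8_5 etaE8_5) 108 (dec8 permE8_5 108) (etaOf etaE8_5 108) = true := by
  decide +kernel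

theorem conjE8_5_109 : conjCheck chevE8 (pMonoCol chevE8 5 permE8_5 etaE8_5) 109 (dec8 permE8_5 109) (etaOf etaE8_5 109) = true := by
  decide +kernel

theorem conjE8_5_110 : conjCheck chevE8 (pMonoCol chevE8 5 permE8_5 etaE8_5) 110 (dec8 permE8_5 110) (etaOf etaE8_5 110) = true := by
  decide +kernel

theorem conjE8_5_111 : conjCheck chevE8 (pMonoCol chevE8 5 permE8_5 etaE8_5) 111 (dec8 permE8_5 111) (etaOf etaE8_5 111) = true := by
  decide +kernel

theorem conjE8_5_112 : conjCheck chevE8 (pMonoCol chevE8 5 permE8_5 etaE8_5) 112 (dec8 permE8_5 112) (etaOf etaE8_5 112) = true := by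
  decide +kernel

theorem conjE8_5_113 : conjCheck chevE8 (pMonoCol chevE8 5 permE8_5 etaE8_5) 113 (dec8 permE8_5 113) (etaOf etaE8_5 113) = true := by
  decide +kernel

theorem conjE8_5_114 : conjCheck chevE8 (pMonoCol chevE8 5 permE8_5 etaE8_5) 114 (dec8 permE8_5 114) (etaOf etaE8_5 114) = true := by
  decide +kernel

theorem conjE8_5_115 : conjCheck chevE8 (pMonoCol chevE8 5 permE8_5 etaE8_5) 115 (dec8 permE8_5 115) (etaOf etaE8_5 115) = true := by
  decide +kernel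

theorem conjE8_5_116 : conjCheck chevE8 (pMonoCol chevE8 5 permE8_5 etaE8_5) 116 (dec8 permE8_5 116) (etaOf etaE8_5 116) = true := by
  decide +kernel

theorem conjE8_5_117 : conjCheck chevE8 (pMonoCol chevE8 5 permE8_5 etaE8_5) 117 (dec8 permE8_5 117) (etaOf etaE8_5 117) = true := by
  decide +kernel

theorem conjE8_5_118 : conjCheck chevE8 (pMonoCol chevE8 5 permE8_5 etaE8_5) 118 (dec8 permE8_5 118) (etaOf etaE8_5 118) = true := by
  decide +kernel

theorem conjE8_5_119 : conjCheck chevE8 (pMonoCol chevE8 5 permE8_5 etaE8_5) 119 (dec8 permE8_5 119) (etaOf etaE8_5 119) = true := by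
  decide +kernel

theorem conjE8_5_from90 (s : ℕ) (h1 : 90 ≤ s) (h2 : s < 120) : conjCheck chevE8 (pMonoCol chevE8 5 permE8_5 etaE8_5) s (dec8 permE8_5 s) (etaOf etaE8_5 s) = true := by
  have h : s = 90 ∨ s = 91 ∨ s = 92 ∨ s = 93 ∨ s = 94 ∨ s = 95 ∨ s = 96 ∨ s = 97 ∨ s = 98 ∨ s = 99 ∨ s = 100 ∨ s = 101 ∨ s = 102 ∨ s = 103 ∨ s = 104 ∨ s = 105 ∨ s = 106 ∨ s = 107 ∨ s = 108 ∨ s = 109 ∨ s = 110 ∨ s = 111 ∨ s = 112 ∨ s = 113 ∨ s = 114 ∨ s = 115 ∨ s = 116 ∨ s = 117 ∨ s = 118 ∨ s = 119 := by omega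
  rcases h with rfl | rfl | rfl | rfl | rfl | rfl | rfl | rfl | rfl | rfl | rfl | rfl | rfl | rfl | rfl | rfl | rfl | rfl | rfl | rfl | rfl | rfl | rfl | rfl | rfl | rfl | rfl | rfl | rfl | rfl
  exacts [conjE8_5_90, conjE8_5_91, conjE8_5_92, conjE8_5_93, conjE8_5_94, conjE8_5_95, conjE8_5_96, conjE8_5_97, conjE8_5_98, conjE8_5_99, conjE8_5_100, conjE8_5_101, conjE8_5_102, conjE8_5_103, conjE8_5_104, conjE8_5_105, conjE8_5_106, conjE8_5_107, conjE8_5_108, conjE8_5_109, conjE8_5_110, conjE8_5_111, conjE8_5_112, conjE8_5_113, conjE8_5_114, conjE8_5_115, conjE8_5_116, conjE8_5_117, conjE8_5_118, conjE8_5_119]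

end Cfsg.Agent.Helper18
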