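import Cfsg.Agent.Lib.Helper18.ConjData

set_option autoImplicit false
set_option maxRecDepth 100000

namespace Cfsg.Agent.Helper18

open Cfsg.Lie

theorem conjE8_5_120 : conjCheck chevE8 (pMonoCol chevE8 5 permE8_5 etaE8_5) 120 (dec8 permE8_5 120) (etaOf etaE8_5 120) = true := by
  decide +kernel

theorem conjE8_5_121 : conjCheck chevE8 (pMonoCol chevE8 5 permE8_5 etaE8_5) 121 (dec8 permE8_5 121) (etaOf etaE8_5 121) = true := by
  decide +kernel

theorem conjE8_5_122 : conjCheck chevE8 (pMonoCol chevE8 5 permE8_5 etaE8_5) 122 (dec8 permE8_5 122) (etaOf etaE8_5 122) = true := by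
  decide +kernel

theorem conjE8_5_123 : conjCheck chevE8 (pMonoCol chevE8 5 permE8_5 etaE8_5) 123 (dec8 permE8_5 123) (etaOf etaE8_5 123) = true := by
  decide +kernel

theorem conjE8_5_124 : conjCheck chevE8 (pMonoCol chevE8 5 permE8_5 etaE8_5) 124 (dec8 permE8_5 124) (etaOf etaE8_5 124) = true := by
  decide +kernel

theorem conjE8_5_125 : conjCheck chevE8 (pMonoCol chevE8 5 permE8_5 etaE8_5) 125 (dec8 permE8_5 125) (etaOf etaE8_5 125) = true := by
  decide +kernel

theorem conjE8_5_126 : conjCheck chevE8 (pMonoCol chevE8 5 permE8_5 etaE8_5) 126 (dec8 permE8_5 126) (etaOf etaE8_5 126) = true := by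
  decide +kernel

theorem conjE8_5_127 : conjCheck chevE8 (pMonoCol chevE8 5 permE8_5 etaE8_5) 127 (dec8 permE8_5 127) (etaOf etaE8_5 127) = true := by
  decide +kernel

theorem conjE8_5_128 : conjCheck chevE8 (pMonoCol chevE8 5 permE8_5 etaE8_5) 128 (dec8 permE8_5 128) (etaOf etaE8_5 128) = true := by
  decide +kernel

theorem conjE8_5_129 : conjCheck chevE8 (pMonoCol chevE8 5 permE8_5 etaE8_5) 129 (dec8 permE8_5 129) (etaOf etaE8_5 129) = true := by
  decide +kernel

theorem conjE8_5_130 : conjCheck chevE8 (pMonoCol chevE8 5 permE8_5 etaE8_5) 130 (dec8 permE8_5 130) (etaOf etaE8_5 130) = true := by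
  decide +kernel

theorem conjE8_5_131 : conjCheck chevE8 (pMonoCol chevE8 5 permE8_5 etaE8_5) 131 (dec8 permE8_5 131) (etaOf etaE8_5 131) = true := by
  decide +kernel

theorem conjE8_5_132 : conjCheck chevE8 (pMonoCol chevE8 5 permE8_5 etaE8_5) 132 (dec8 permE8_5 132) (etaOf etaE8_5 132) = true := by
  decide +kernel

theorem conjE8_5_133 : conjCheck chevE8 (pMonoCol chevE8 5 permE8_5 etaE8_5) 133 (dec8 permE8_5 133) (etaOf etaE8_5 133) = true := by
  decide +kernel

theorem conjE8_5_134 : conjCheck chevE8 (pMonoCol chevE8 5 permE8_5 etaE8_5) 134 (dec8 permE8_5 134) (etaOf etaE8_5 134) = true := by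
  decide +kernel

theorem conjE8_5_135 : conjCheck chevE8 (pMonoCol chevE8 5 permE8_5 etaE8_5) 135 (dec8 permE8_5 135) (etaOf etaE8_5 135) = true := by
  decide +kernel

theorem conjE8_5_136 : conjCheck chevE8 (pMonoCol chevE8 5 permE8_5 etaE8_5) 136 (dec8 permE8_5 136) (etaOf etaE8_5 136) = true := by
  decide +kernel

theorem conjE8_5_137 : conjCheck chevE8 (pMonoCol chevE8 5 permE8_5 etaE8_5) 137 (dec8 permE8_5 137) (etaOf etaE8_5 137) = true := by
  decide +kernel

theorem conjE8_5_138 : conjCheck chevE8 (pMonoCol chevE8 5 permE8_5 etaE8_5) 138 (dec8 permE8_5 138) (etaOf etaE8_5 138) = true := by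
  decide +kernel

theorem conjE8_5_139 : conjCheck chevE8 (pMonoCol chevE8 5 permE8_5 etaE8_5) 139 (dec8 permE8_5 139) (etaOf etaE8_5 139) = true := by
  decide +kernel

theorem conjE8_5_140 : conjCheck chevE8 (pMonoCol chevE8 5 permE8_5 etaE8_5) 140 (dec8 permE8_5 140) (etaOf etaE8_5 140) = true := by
  decide +kernel

theorem conjE8_5_141 : conjCheck chevE8 (pMonoCol chevE8 5 permE8_5 etaE8_5) 141 (dec8 permE8_5 141) (etaOf etaE8_5 141) = true := by
  decide +kernel

theorem conjE8_5_142 : conjCheck chevE8 (pMonoCol chevE8 5 permE8_5 etaE8_5) 142 (dec8 permE8_5 142) (etaOf etaE8_5 142) = true := by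
  decide +kernel

theorem conjE8_5_143 : conjCheck chevE8 (pMonoCol chevE8 5 permE8_5 etaE8_5) 143 (dec8 permE8_5 143) (etaOf etaE8_5 143) = true := by
  decide +kernel

theorem conjE8_5_144 : conjCheck chevE8 (pMonoCol chevE8 5 permE8_5 etaE8_5) 144 (dec8 permE8_5 144) (etaOf etaE8_5 144) = true := by
  decide +kernel

theorem conjE8_5_145 : conjCheck chevE8 (pMonoCol chevE8 5 permE8_5 etaE8_5) 145 (dec8 permE8_5 145) (etaOf etaE8_5 145) = true := by
  decide +kernel

theorem conjE8_5_146 : conjCheck chevE8 (pMonoCol chevE8 5 permE8_5 etaE8_5) 146 (dec8 permE8_5 146) (etaOf etaE8_5 146) = true := by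
  decide +kernel

theorem conjE8_5_147 : conjCheck chevE8 (pMonoCol chevE8 5 permE8_5 etaE8_5) 147 (dec8 permE8_5 147) (etaOf etaE8_5 147) = true := by
  decide +kernel

theorem conjE8_5_148 : conjCheck chevE8 (pMonoCol chevE8 5 permE8_5 etaE8_5) 148 (dec8 permE8_5 148) (etaOf etaE8_5 148) = true := by
  decide +kernel

theorem conjE8_5_149 : conjCheck chevE8 (pMonoCol chevE8 5 permE8_5 etaE8_5) 149 (dec8 permE8_5 149) (etaOf etaE8_5 149) = true := by
  decide +kernel

theorem conjE8_5_from120 (s : ℕ) (h1 : 120 ≤ s) (h2 : s < 150) : conjCheck chevE8 (pMonoCol chevE8 5 permE8_5 etaE8_5) s (dec8 permE8_5 s) (etaOf etaE8_5 s) = true := by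
  have h : s = 120 ∨ s = 121 ∨ s = 122 ∨ s = 123 ∨ s = 124 ∨ s = 125 ∨ s = 126 ∨ s = 127 ∨ s = 128 ∨ s = 129 ∨ s = 130 ∨ s = 131 ∨ s = 132 ∨ s = 133 ∨ s = 134 ∨ s = 135 ∨ s = 136 ∨ s = 137 ∨ s = 138 ∨ s = 139 ∨ s = 140 ∨ s = 141 ∨ s = 142 ∨ s = 143 ∨ s = 144 ∨ s = 145 ∨ s = 146 ∨ s = 147 ∨ s = 148 ∨ s = 149 := by omega
  rcases h with rfl | rfl | rfl | rfl | rfl | rfl | rfl | rfl | rfl | rfl | rfl | rfl | rfl | rfl | rfl | rfl | rfl | rfl | rfl | rfl | rfl | rfl | rfl | rfl | rfl | rfl | rfl | rfl | rfl | rfl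
  exacts [conjE8_5_120, conjE8_5_121, conjE8_5_122, conjE8_5_123, conjE8_5_124, conjE8_5_125, conjE8_5_126, conjE8_5_127, conjE8_5_128, conjE8_5_129, conjE8_5_130, conjE8_5_131, conjE8_5_132, conjE8_5_133, conjE8_5_134, conjE8_5_135, conjE8_5_136, conjE8_5_137, conjE8_5_138, conjE8_5_139, conjE8_5_140, conjE8_5_141, conjE8_5_142, conjE8_5_143, conjE8_5_144, conjE8_5_145, conjE8_5_146, conjE8_5_147, conjE8_5_148, conjE8_5_149]

theorem conjE8_5_150 : conjCheck chevE8 (pMonoCol chevE8 5 permE8_5 etaE8_5) 150 (dec8 permE8_5 150) (etaOf etaE8_5 150) = true := by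
  decide +kernel

theorem conjE8_5_151 : conjCheck chevE8 (pMonoCol chevE8 5 permE8_5 etaE8_5) 151 (dec8 permE8_5 151) (etaOf etaE8_5 151) = true := by
  decide +kernel

theorem conjE8_5_152 : conjCheck chevE8 (pMonoCol chevE8 5 permE8_5 etaE8_5) 152 (dec8 permE8_5 152) (etaOf etaE8_5 152) = true := by
  decide +kernel

theorem conjE8_5_153 : conjCheck chevE8 (pMonoCol chevE8 5 permE8_5 etaE8_5) 153 (dec8 permE8_5 153) (etaOf etaE8_5 153) = true := by
  decide +kernel

theorem conjE8_5_154 : conjCheck chevE8 (pMonoCol chevE8 5 permE8_5 etaE8_5) 154 (dec8 permE8_5 154) (etaOf etaE8_5 154) = true := by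
  decide +kernel

theorem conjE8_5_155 : conjCheck chevE8 (pMonoCol chevE8 5 permE8_5 etaE8_5) 155 (dec8 permE8_5 155) (etaOf etaE8_5 155) = true := by
  decide +kernel

theorem conjE8_5_156 : conjCheck chevE8 (pMonoCol chevE8 5 permE8_5 etaE8_5) 156 (dec8 permE8_5 156) (etaOf etaE8_5 156) = true := by
  decide +kernel

theorem conjE8_5_157 : conjCheck chevE8 (pMonoCol chevE8 5 permE8_5 etaE8_5) 157 (dec8 permE8_5 157) (etaOf etaE8_5 157) = true := by
  decide +kernel

theorem conjE8_5_158 : conjCheck chevE8 (pMonoCol chevE8 5 permE8_5 etaE8_5) 158 (dec8 permE8_5 158) (etaOf etaE8_5 158) = true := by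
  decide +kernel

theorem conjE8_5_159 : conjCheck chevE8 (pMonoCol chevE8 5 permE8_5 etaE8_5) 159 (dec8 permE8_5 159) (etaOf etaE8_5 159) = true := by
  decide +kernel

theorem conjE8_5_160 : conjCheck chevE8 (pMonoCol chevE8 5 permE8_5 etaE8_5) 160 (dec8 permE8_5 160) (etaOf etaE8_5 160) = true := by
  decide +kernel

theorem conjE8_5_161 : conjCheck chevE8 (pMonoCol chevE8 5 permE8_5 etaE8_5) 161 (dec8 permE8_5 161) (etaOf etaE8_5 161) = true := by
  decide +kernel

theorem conjE8_5_162 : conjCheck chevE8 (pMonoCol chevE8 5 permE8_5 etaE8_5) 162 (dec8 permE8_5 162) (etaOf etaE8_5 162) = true := by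
  decide +kernel

theorem conjE8_5_163 : conjCheck chevE8 (pMonoCol chevE8 5 permE8_5 etaE8_5) 163 (dec8 permE8_5 163) (etaOf etaE8_5 163) = true := by
  decide +kernel

theorem conjE8_5_164 : conjCheck chevE8 (pMonoCol chevE8 5 permE8_5 etaE8_5) 164 (dec8 permE8_5 164) (etaOf etaE8_5 164) = true := by
  decide +kernel

theorem conjE8_5_165 : conjCheck chevE8 (pMonoCol chevE8 5 permE8_5 etaE8_5) 165 (dec8 permE8_5 165) (etaOf etaE8_5 165) = true := by
  decide +kernel

theorem conjE8_5_166 : conjCheck chevE8 (pMonoCol chevE8 5 permE8_5 etaE8_5) 166 (dec8 permE8_5 166) (etaOf etaE8_5 166) = true := by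
  decide +kernel

theorem conjE8_5_167 : conjCheck chevE8 (pMonoCol chevE8 5 permE8_5 etaE8_5) 167 (dec8 permE8_5 167) (etaOf etaE8_5 167) = true := by
  decide +kernel

theorem conjE8_5_168 : conjCheck chevE8 (pMonoCol chevE8 5 permE8_5 etaE8_5) 168 (dec8 permE8_5 168) (etaOf etaE8_5 168) = true := by
  decide +kernel

theorem conjE8_5_169 : conjCheck chevE8 (pMonoCol chevE8 5 permE8_5 etaE8_5) 169 (dec8 permE8_5 169) (etaOf etaE8_5 169) = true := by
  decide +kernel

theorem conjE8_5_170 : conjCheck chevE8 (pMonoCol chevE8 5 permE8_5 etaE8_5) 170 (dec8 permE8_5 170) (etaOf etaE8_5 170) = true := by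
  decide +kernel

theorem conjE8_5_171 : conjCheck chevE8 (pMonoCol chevE8 5 permE8_5 etaE8_5) 171 (dec8 permE8_5 171) (etaOf etaE8_5 171) = true := by
  decide +kernel

theorem conjE8_5_172 : conjCheck chevE8 (pMonoCol chevE8 5 permE8_5 etaE8_5) 172 (dec8 permE8_5 172) (etaOf etaE8_5 172) = true := by
  decide +kernel

theorem conjE8_5_173 : conjCheck chevE8 (pMonoCol chevE8 5 permE8_5 etaE8_5) 173 (dec8 permE8_5 173) (etaOf etaE8_5 173) = true := by
  decide +kernel

theorem conjE8_5_174 : conjCheck chevE8 (pMonoCol chevE8 5 permE8_5 etaE8_5) 174 (dec8 permE8_5 174) (etaOf etaE8_5 174) = true := by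
  decide +kernel

theorem conjE8_5_175 : conjCheck chevE8 (pMonoCol chevE8 5 permE8_5 etaE8_5) 175 (dec8 permE8_5 175) (etaOf etaE8_5 175) = true := by
  decide +kernel

theorem conjE8_5_176 : conjCheck chevE8 (pMonoCol chevE8 5 permE8_5 etaE8_5) 176 (dec8 permE8_5 176) (etaOf etaE8_5 176) = true := by
  decide +kernel

theorem conjE8_5_177 : conjCheck chevE8 (pMonoCol chevE8 5 permE8_5 etaE8_5) 177 (dec8 permE8_5 177) (etaOf etaE8_5 177) = true := by
  decide +kernel

theorem conjE8_5_178 : conjCheck chevE8 (pMonoCol chevE8 5 permE8_5 etaE8_5) 178 (dec8 permE8_5 178) (etaOf etaE8_5 178) = true := by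
  decide +kernel

theorem conjE8_5_179 : conjCheck chevE8 (pMonoCol chevE8 5 permE8_5 etaE8_5) 179 (dec8 permE8_5 179) (etaOf etaE8_5 179) = true := by
  decide +kernel

theorem conjE8_5_from150 (s : ℕ) (h1 : 150 ≤ s) (h2 : s < 180) : conjCheck chevE8 (pMonoCol chevE8 5 permE8_5 etaE8_5) s (dec8 permE8_5 s) (etaOf etaE8_5 s) = true := by
  have h : s = 150 ∨ s = 151 ∨ s = 152 ∨ s = 153 ∨ s = 154 ∨ s = 155 ∨ s = 156 ∨ s = 157 ∨ s = 158 ∨ s = 159 ∨ s = 160 ∨ s = 161 ∨ s = 162 ∨ s = 163 ∨ s = 164 ∨ s = 165 ∨ s = 166 ∨ s = 167 ∨ s = 168 ∨ s = 169 ∨ s = 170 ∨ s = 171 ∨ s = 172 ∨ s = 173 ∨ s = 174 ∨ s = 175 ∨ s = 176 ∨ s = 177 ∨ s = 178 ∨ s = 179 := by omega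
  rcases h with rfl | rfl | rfl | rfl | rfl | rfl | rfl | rfl | rfl | rfl | rfl | rfl | rfl | rfl | rfl | rfl | rfl | rfl | rfl | rfl | rfl | rfl | rfl | rfl | rfl | rfl | rfl | rfl | rfl | rfl
  exacts [conjE8_5_150, conjE8_5_151, conjE8_5_152, conjE8_5_153, conjE8_5_154, conjE8_5_155, conjE8_5_156, conjE8_5_157, conjE8_5_158, conjE8_5_159, conjE8_5_160, conjE8_5_161, conjE8_5_162, conjE8_5_163, conjE8_5_164, conjE8_5_165, conjE8_5_166, conjE8_5_167, conjE8_5_168, conjE8_5_169, conjE8_5_170, conjE8_5_171, conjE8_5_172, conjE8_5_173, conjE8_5_174, conjE8_5_175, conjE8_5_176, conjE8_5_177, conjE8_5_178, conjE8_5_179]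

end Cfsg.Agent.Helper18
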