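import Cfsg.Agent.Lib.Helper18.ConjData

set_option autoImplicit false
set_option maxRecDepth 100000

namespace Cfsg.Agent.Helper18

open Cfsg.Lie

theorem conjE8_5_180 : conjCheck chevE8 (pMonoCol chevE8 5 permE8_5 etaE8_5) 180 (dec8 permE8_5 180) (etaOf etaE8_5 180) = true := by
  decide +kernel

theorem conjE8_5_181 : conjCheck chevE8 (pMonoCol chevE8 5 permE8_5 etaE8_5) 181 (dec8 permE8_5 181) (etaOf etaE8_5 181) = true := by
  decide +kernel

theorem conjE8_5_182 : conjCheck chevE8 (pMonoCol chevE8 5 permE8_5 etaE8_5) 182 (dec8 permE8_5 182) (etaOf etaE8_5 182) = true := by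
  decide +kernel

theorem conjE8_5_183 : conjCheck chevE8 (pMonoCol chevE8 5 permE8_5 etaE8_5) 183 (dec8 permE8_5 183) (etaOf etaE8_5 183) = true := by
  decide +kernel

theorem conjE8_5_184 : conjCheck chevE8 (pMonoCol chevE8 5 permE8_5 etaE8_5) 184 (dec8 permE8_5 184) (etaOf etaE8_5 184) = true := by
  decide +kernel

theorem conjE8_5_185 : conjCheck chevE8 (pMonoCol chevE8 5 permE8_5 etaE8_5) 185 (dec8 permE8_5 185) (etaOf etaE8_5 185) = true := by
  decide +kernel

theorem conjE8_5_186 : conjCheck chevE8 (pMonoCol chevE8 5 permE8_5 etaE8_5) 186 (dec8 permE8_5 186) (etaOf etaE8_5 186) = true := by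
  decide +kernel

theorem conjE8_5_187 : conjCheck chevE8 (pMonoCol chevE8 5 permE8_5 etaE8_5) 187 (dec8 permE8_5 187) (etaOf etaE8_5 187) = true := by
  decide +kernel

theorem conjE8_5_188 : conjCheck chevE8 (pMonoCol chevE8 5 permE8_5 etaE8_5) 188 (dec8 permE8_5 188) (etaOf etaE8_5 188) = true := by
  decide +kernel

theorem conjE8_5_189 : conjCheck chevE8 (pMonoCol chevE8 5 permE8_5 etaE8_5) 189 (dec8 permE8_5 189) (etaOf etaE8_5 189) = true := by
  decide +kernel

theorem conjE8_5_190 : conjCheck chevE8 (pMonoCol chevE8 5 permE8_5 etaE8_5) 190 (dec8 permE8_5 190) (etaOf etaE8_5 190) = true := by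
  decide +kernel

theorem conjE8_5_191 : conjCheck chevE8 (pMonoCol chevE8 5 permE8_5 etaE8_5) 191 (dec8 permE8_5 191) (etaOf etaE8_5 191) = true := by
  decide +kernel

theorem conjE8_5_192 : conjCheck chevE8 (pMonoCol chevE8 5 permE8_5 etaE8_5) 192 (dec8 permE8_5 192) (etaOf etaE8_5 192) = true := by
  decide +kernel

theorem conjE8_5_193 : conjCheck chevE8 (pMonoCol chevE8 5 permE8_5 etaE8_5) 193 (dec8 permE8_5 193) (etaOf etaE8_5 193) = true := by
  decide +kernel

theorem conjE8_5_194 : conjCheck chevE8 (pMonoCol chevE8 5 permE8_5 etaE8_5) 194 (dec8 permE8_5 194) (etaOf etaE8_5 194) = true := by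
  decide +kernel

theorem conjE8_5_195 : conjCheck chevE8 (pMonoCol chevE8 5 permE8_5 etaE8_5) 195 (dec8 permE8_5 195) (etaOf etaE8_5 195) = true := by
  decide +kernel

theorem conjE8_5_196 : conjCheck chevE8 (pMonoCol chevE8 5 permE8_5 etaE8_5) 196 (dec8 permE8_5 196) (etaOf etaE8_5 196) = true := by
  decide +kernel

theorem conjE8_5_197 : conjCheck chevE8 (pMonoCol chevE8 5 permE8_5 etaE8_5) 197 (dec8 permE8_5 197) (etaOf etaE8_5 197) = true := by
  decide +kernel

theorem conjE8_5_198 : conjCheck chevE8 (pMonoCol chevE8 5 permE8_5 etaE8_5) 198 (dec8 permE8_5 198) (etaOf etaE8_5 198) = true := by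
  decide +kernel

theorem conjE8_5_199 : conjCheck chevE8 (pMonoCol chevE8 5 permE8_5 etaE8_5) 199 (dec8 permE8_5 199) (etaOf etaE8_5 199) = true := by
  decide +kernel

theorem conjE8_5_200 : conjCheck chevE8 (pMonoCol chevE8 5 permE8_5 etaE8_5) 200 (dec8 permE8_5 200) (etaOf etaE8_5 200) = true := by
  decide +kernel

theorem conjE8_5_201 : conjCheck chevE8 (pMonoCol chevE8 5 permE8_5 etaE8_5) 201 (dec8 permE8_5 201) (etaOf etaE8_5 201) = true := by
  decide +kernel

theorem conjE8_5_202 : conjCheck chevE8 (pMonoCol chevE8 5 permE8_5 etaE8_5) 202 (dec8 permE8_5 202) (etaOf etaE8_5 202) = true := by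
  decide +kernel

theorem conjE8_5_203 : conjCheck chevE8 (pMonoCol chevE8 5 permE8_5 etaE8_5) 203 (dec8 permE8_5 203) (etaOf etaE8_5 203) = true := by
  decide +kernel

theorem conjE8_5_204 : conjCheck chevE8 (pMonoCol chevE8 5 permE8_5 etaE8_5) 204 (dec8 permE8_5 204) (etaOf etaE8_5 204) = true := by
  decide +kernel

theorem conjE8_5_205 : conjCheck chevE8 (pMonoCol chevE8 5 permE8_5 etaE8_5) 205 (dec8 permE8_5 205) (etaOf etaE8_5 205) = true := by
  decide +kernel

theorem conjE8_5_206 : conjCheck chevE8 (pMonoCol chevE8 5 permE8_5 etaE8_5) 206 (dec8 permE8_5 206) (etaOf etaE8_5 206) = true := by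
  decide +kernel

theorem conjE8_5_207 : conjCheck chevE8 (pMonoCol chevE8 5 permE8_5 etaE8_5) 207 (dec8 permE8_5 207) (etaOf etaE8_5 207) = true := by
  decide +kernel

theorem conjE8_5_208 : conjCheck chevE8 (pMonoCol chevE8 5 permE8_5 etaE8_5) 208 (dec8 permE8_5 208) (etaOf etaE8_5 208) = true := by
  decide +kernel

theorem conjE8_5_209 : conjCheck chevE8 (pMonoCol chevE8 5 permE8_5 etaE8_5) 209 (dec8 permE8_5 209) (etaOf etaE8_5 209) = true := by
  decide +kernel

theorem conjE8_5_from180 (s : ℕ) (h1 : 180 ≤ s) (h2 : s < 210) : conjCheck chevE8 (pMonoCol chevE8 5 permE8_5 etaE8_5) s (dec8 permE8_5 s) (etaOf etaE8_5 s) = true := by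
  have h : s = 180 ∨ s = 181 ∨ s = 182 ∨ s = 183 ∨ s = 184 ∨ s = 185 ∨ s = 186 ∨ s = 187 ∨ s = 188 ∨ s = 189 ∨ s = 190 ∨ s = 191 ∨ s = 192 ∨ s = 193 ∨ s = 194 ∨ s = 195 ∨ s = 196 ∨ s = 197 ∨ s = 198 ∨ s = 199 ∨ s = 200 ∨ s = 201 ∨ s = 202 ∨ s = 203 ∨ s = 204 ∨ s = 205 ∨ s = 206 ∨ s = 207 ∨ s = 208 ∨ s = 209 := by omega
  rcases h with rfl | rfl | rfl | rfl | rfl | rfl | rfl | rfl | rfl | rfl | rfl | rfl | rfl | rfl | rfl | rfl | rfl | rfl | rfl | rfl | rfl | rfl | rfl | rfl | rfl | rfl | rfl | rfl | rfl | rfl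
  exacts [conjE8_5_180, conjE8_5_181, conjE8_5_182, conjE8_5_183, conjE8_5_184, conjE8_5_185, conjE8_5_186, conjE8_5_187, conjE8_5_188, conjE8_5_189, conjE8_5_190, conjE8_5_191, conjE8_5_192, conjE8_5_193, conjE8_5_194, conjE8_5_195, conjE8_5_196, conjE8_5_197, conjE8_5_198, conjE8_5_199, conjE8_5_200, conjE8_5_201, conjE8_5_202, conjE8_5_203, conjE8_5_204, conjE8_5_205, conjE8_5_206, conjE8_5_207, conjE8_5_208, conjE8_5_209]

theorem conjE8_5_210 : conjCheck chevE8 (pMonoCol chevE8 5 permE8_5 etaE8_5) 210 (dec8 permE8_5 210) (etaOf etaE8_5 210) = true := by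
  decide +kernel

theorem conjE8_5_211 : conjCheck chevE8 (pMonoCol chevE8 5 permE8_5 etaE8_5) 211 (dec8 permE8_5 211) (etaOf etaE8_5 211) = true := by
  decide +kernel

theorem conjE8_5_212 : conjCheck chevE8 (pMonoCol chevE8 5 permE8_5 etaE8_5) 212 (dec8 permE8_5 212) (etaOf etaE8_5 212) = true := by
  decide +kernel

theorem conjE8_5_213 : conjCheck chevE8 (pMonoCol chevE8 5 permE8_5 etaE8_5) 213 (dec8 permE8_5 213) (etaOf etaE8_5 213) = true := by
  decide +kernel

theorem conjE8_5_214 : conjCheck chevE8 (pMonoCol chevE8 5 permE8_5 etaE8_5) 214 (dec8 permE8_5 214) (etaOf etaE8_5 214) = true := by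
  decide +kernel

theorem conjE8_5_215 : conjCheck chevE8 (pMonoCol chevE8 5 permE8_5 etaE8_5) 215 (dec8 permE8_5 215) (etaOf etaE8_5 215) = true := by
  decide +kernel

theorem conjE8_5_216 : conjCheck chevE8 (pMonoCol chevE8 5 permE8_5 etaE8_5) 216 (dec8 permE8_5 216) (etaOf etaE8_5 216) = true := by
  decide +kernel

theorem conjE8_5_217 : conjCheck chevE8 (pMonoCol chevE8 5 permE8_5 etaE8_5) 217 (dec8 permE8_5 217) (etaOf etaE8_5 217) = true := by
  decide +kernel

theorem conjE8_5_218 : conjCheck chevE8 (pMonoCol chevE8 5 permE8_5 etaE8_5) 218 (dec8 permE8_5 218) (etaOf etaE8_5 218) = true := by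
  decide +kernel

theorem conjE8_5_219 : conjCheck chevE8 (pMonoCol chevE8 5 permE8_5 etaE8_5) 219 (dec8 permE8_5 219) (etaOf etaE8_5 219) = true := by
  decide +kernel

theorem conjE8_5_220 : conjCheck chevE8 (pMonoCol chevE8 5 permE8_5 etaE8_5) 220 (dec8 permE8_5 220) (etaOf etaE8_5 220) = true := by
  decide +kernel

theorem conjE8_5_221 : conjCheck chevE8 (pMonoCol chevE8 5 permE8_5 etaE8_5) 221 (dec8 permE8_5 221) (etaOf etaE8_5 221) = true := by
  decide +kernel

theorem conjE8_5_222 : conjCheck chevE8 (pMonoCol chevE8 5 permE8_5 etaE8_5) 222 (dec8 permE8_5 222) (etaOf etaE8_5 222) = true := by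
  decide +kernel

theorem conjE8_5_223 : conjCheck chevE8 (pMonoCol chevE8 5 permE8_5 etaE8_5) 223 (dec8 permE8_5 223) (etaOf etaE8_5 223) = true := by
  decide +kernel

theorem conjE8_5_224 : conjCheck chevE8 (pMonoCol chevE8 5 permE8_5 etaE8_5) 224 (dec8 permE8_5 224) (etaOf etaE8_5 224) = true := by
  decide +kernel

theorem conjE8_5_225 : conjCheck chevE8 (pMonoCol chevE8 5 permE8_5 etaE8_5) 225 (dec8 permE8_5 225) (etaOf etaE8_5 225) = true := by
  decide +kernel

theorem conjE8_5_226 : conjCheck chevE8 (pMonoCol chevE8 5 permE8_5 etaE8_5) 226 (dec8 permE8_5 226) (etaOf etaE8_5 226) = true := by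
  decide +kernel

theorem conjE8_5_227 : conjCheck chevE8 (pMonoCol chevE8 5 permE8_5 etaE8_5) 227 (dec8 permE8_5 227) (etaOf etaE8_5 227) = true := by
  decide +kernel

theorem conjE8_5_228 : conjCheck chevE8 (pMonoCol chevE8 5 permE8_5 etaE8_5) 228 (dec8 permE8_5 228) (etaOf etaE8_5 228) = true := by
  decide +kernel

theorem conjE8_5_229 : conjCheck chevE8 (pMonoCol chevE8 5 permE8_5 etaE8_5) 229 (dec8 permE8_5 229) (etaOf etaE8_5 229) = true := by
  decide +kernel

theorem conjE8_5_230 : conjCheck chevE8 (pMonoCol chevE8 5 permE8_5 etaE8_5) 230 (dec8 permE8_5 230) (etaOf etaE8_5 230) = true := by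
  decide +kernel

theorem conjE8_5_231 : conjCheck chevE8 (pMonoCol chevE8 5 permE8_5 etaE8_5) 231 (dec8 permE8_5 231) (etaOf etaE8_5 231) = true := by
  decide +kernel

theorem conjE8_5_232 : conjCheck chevE8 (pMonoCol chevE8 5 permE8_5 etaE8_5) 232 (dec8 permE8_5 232) (etaOf etaE8_5 232) = true := by
  decide +kernel

theorem conjE8_5_233 : conjCheck chevE8 (pMonoCol chevE8 5 permE8_5 etaE8_5) 233 (dec8 permE8_5 233) (etaOf etaE8_5 233) = true := by
  decide +kernel

theorem conjE8_5_234 : conjCheck chevE8 (pMonoCol chevE8 5 permE8_5 etaE8_5) 234 (dec8 permE8_5 234) (etaOf etaE8_5 234) = true := by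
  decide +kernel

theorem conjE8_5_235 : conjCheck chevE8 (pMonoCol chevE8 5 permE8_5 etaE8_5) 235 (dec8 permE8_5 235) (etaOf etaE8_5 235) = true := by
  decide +kernel

theorem conjE8_5_236 : conjCheck chevE8 (pMonoCol chevE8 5 permE8_5 etaE8_5) 236 (dec8 permE8_5 236) (etaOf etaE8_5 236) = true := by
  decide +kernel

theorem conjE8_5_237 : conjCheck chevE8 (pMonoCol chevE8 5 permE8_5 etaE8_5) 237 (dec8 permE8_5 237) (etaOf etaE8_5 237) = true := by
  decide +kernel

theorem conjE8_5_238 : conjCheck chevE8 (pMonoCol chevE8 5 permE8_5 etaE8_5) 238 (dec8 permE8_5 238) (etaOf etaE8_5 238) = true := by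
  decide +kernel

theorem conjE8_5_239 : conjCheck chevE8 (pMonoCol chevE8 5 permE8_5 etaE8_5) 239 (dec8 permE8_5 239) (etaOf etaE8_5 239) = true := by
  decide +kernel

theorem conjE8_5_from210 (s : ℕ) (h1 : 210 ≤ s) (h2 : s < 240) : conjCheck chevE8 (pMonoCol chevE8 5 permE8_5 etaE8_5) s (dec8 permE8_5 s) (etaOf etaE8_5 s) = true := by
  have h : s = 210 ∨ s = 211 ∨ s = 212 ∨ s = 213 ∨ s = 214 ∨ s = 215 ∨ s = 216 ∨ s = 217 ∨ s = 218 ∨ s = 219 ∨ s = 220 ∨ s = 221 ∨ s = 222 ∨ s = 223 ∨ s = 224 ∨ s = 225 ∨ s = 226 ∨ s = 227 ∨ s = 228 ∨ s = 229 ∨ s = 230 ∨ s = 231 ∨ s = 232 ∨ s = 233 ∨ s = 234 ∨ s = 235 ∨ s = 236 ∨ s = 237 ∨ s = 238 ∨ s = 239 := by omega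
  rcases h with rfl | rfl | rfl | rfl | rfl | rfl | rfl | rfl | rfl | rfl | rfl | rfl | rfl | rfl | rfl | rfl | rfl | rfl | rfl | rfl | rfl | rfl | rfl | rfl | rfl | rfl | rfl | rfl | rfl | rfl
  exacts [conjE8_5_210, conjE8_5_211, conjE8_5_212, conjE8_5_213, conjE8_5_214, conjE8_5_215, conjE8_5_216, conjE8_5_217, conjE8_5_218, conjE8_5_219, conjE8_5_220, conjE8_5_221, conjE8_5_222, conjE8_5_223, conjE8_5_224, conjE8_5_225, conjE8_5_226, conjE8_5_227, conjE8_5_228, conjE8_5_229, conjE8_5_230, conjE8_5_231, conjE8_5_232, conjE8_5_233, conjE8_5_234, conjE8_5_235, conjE8_5_236, conjE8_5_237, conjE8_5_238, conjE8_5_239]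

end Cfsg.Agent.Helper18
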