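import Cfsg.Agent.Lib.Helper18.ConjData

set_option autoImplicit false
set_option maxRecDepth 100000

namespace Cfsg.Agent.Helper18

open Cfsg.Lie

theorem conjE8_6_0 : conjCheck chevE8 (pMonoCol chevE8 6 permE8_6 etaE8_6) 0 (dec8 permE8_6 0) (etaOf etaE8_6 0) = true := by
  decide +kernel

theorem conjE8_6_1 : conjCheck chevE8 (pMonoCol chevE8 6 permE8_6 etaE8_6) 1 (dec8 permE8_6 1) (etaOf etaE8_6 1) = true := by
  decide +kernel

theorem conjE8_6_2 : conjCheck chevE8 (pMonoCol chevE8 6 permE8_6 etaE8_6) 2 (dec8 permE8_6 2) (etaOf etaE8_6 2) = true := by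
  decide +kernel

theorem conjE8_6_3 : conjCheck chevE8 (pMonoCol chevE8 6 permE8_6 etaE8_6) 3 (dec8 permE8_6 3) (etaOf etaE8_6 3) = true := by
  decide +kernel

theorem conjE8_6_4 : conjCheck chevE8 (pMonoCol chevE8 6 permE8_6 etaE8_6) 4 (dec8 permE8_6 4) (etaOf etaE8_6 4) = true := by
  decide +kernel

theorem conjE8_6_5 : conjCheck chevE8 (pMonoCol chevE8 6 permE8_6 etaE8_6) 5 (dec8 permE8_6 5) (etaOf etaE8_6 5) = true := by
  decide +kernel

theorem conjE8_6_6 : conjCheck chevE8 (pMonoCol chevE8 6 permE8_6 etaE8_6) 6 (dec8 permE8_6 6) (etaOf etaE8_6 6) = true := by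
  decide +kernel

theorem conjE8_6_7 : conjCheck chevE8 (pMonoCol chevE8 6 permE8_6 etaE8_6) 7 (dec8 permE8_6 7) (etaOf etaE8_6 7) = true := by
  decide +kernel

theorem conjE8_6_8 : conjCheck chevE8 (pMonoCol chevE8 6 permE8_6 etaE8_6) 8 (dec8 permE8_6 8) (etaOf etaE8_6 8) = true := by
  decide +kernel

theorem conjE8_6_9 : conjCheck chevE8 (pMonoCol chevE8 6 permE8_6 etaE8_6) 9 (dec8 permE8_6 9) (etaOf etaE8_6 9) = true := by
  decide +kernel

theorem conjE8_6_10 : conjCheck chevE8 (pMonoCol chevE8 6 permE8_6 etaE8_6) 10 (dec8 permE8_6 10) (etaOf etaE8_6 10) = true := by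
  decide +kernel

theorem conjE8_6_11 : conjCheck chevE8 (pMonoCol chevE8 6 permE8_6 etaE8_6) 11 (dec8 permE8_6 11) (etaOf etaE8_6 11) = true := by
  decide +kernel

theorem conjE8_6_12 : conjCheck chevE8 (pMonoCol chevE8 6 permE8_6 etaE8_6) 12 (dec8 permE8_6 12) (etaOf etaE8_6 12) = true := by
  decide +kernel

theorem conjE8_6_13 : conjCheck chevE8 (pMonoCol chevE8 6 permE8_6 etaE8_6) 13 (dec8 permE8_6 13) (etaOf etaE8_6 13) = true := by
  decide +kernel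

theorem conjE8_6_14 : conjCheck chevE8 (pMonoCol chevE8 6 permE8_6 etaE8_6) 14 (dec8 permE8_6 14) (etaOf etaE8_6 14) = true := by
  decide +kernel

theorem conjE8_6_15 : conjCheck chevE8 (pMonoCol chevE8 6 permE8_6 etaE8_6) 15 (dec8 permE8_6 15) (etaOf etaE8_6 15) = true := by
  decide +kernel

theorem conjE8_6_16 : conjCheck chevE8 (pMonoCol chevE8 6 permE8_6 etaE8_6) 16 (dec8 permE8_6 16) (etaOf etaE8_6 16) = true := by
  decide +kernel

theorem conjE8_6_17 : conjCheck chevE8 (pMonoCol chevE8 6 permE8_6 etaE8_6) 17 (dec8 permE8_6 17) (etaOf etaE8_6 17) = true := by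
  decide +kernel

theorem conjE8_6_18 : conjCheck chevE8 (pMonoCol chevE8 6 permE8_6 etaE8_6) 18 (dec8 permE8_6 18) (etaOf etaE8_6 18) = true := by
  decide +kernel

theorem conjE8_6_19 : conjCheck chevE8 (pMonoCol chevE8 6 permE8_6 etaE8_6) 19 (dec8 permE8_6 19) (etaOf etaE8_6 19) = true := by
  decide +kernel

theorem conjE8_6_20 : conjCheck chevE8 (pMonoCol chevE8 6 permE8_6 etaE8_6) 20 (dec8 permE8_6 20) (etaOf etaE8_6 20) = true := by
  decide +kernel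

theorem conjE8_6_21 : conjCheck chevE8 (pMonoCol chevE8 6 permE8_6 etaE8_6) 21 (dec8 permE8_6 21) (etaOf etaE8_6 21) = true := by
  decide +kernel

theorem conjE8_6_22 : conjCheck chevE8 (pMonoCol chevE8 6 permE8_6 etaE8_6) 22 (dec8 permE8_6 22) (etaOf etaE8_6 22) = true := by
  decide +kernel

theorem conjE8_6_23 : conjCheck chevE8 (pMonoCol chevE8 6 permE8_6 etaE8_6) 23 (dec8 permE8_6 23) (etaOf etaE8_6 23) = true := by
  decide +kernel

theorem conjE8_6_24 : conjCheck chevE8 (pMonoCol chevE8 6 permE8_6 etaE8_6) 24 (dec8 permE8_6 24) (etaOf etaE8_6 24) = true := by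
  decide +kernel

theorem conjE8_6_25 : conjCheck chevE8 (pMonoCol chevE8 6 permE8_6 etaE8_6) 25 (dec8 permE8_6 25) (etaOf etaE8_6 25) = true := by
  decide +kernel

theorem conjE8_6_26 : conjCheck chevE8 (pMonoCol chevE8 6 permE8_6 etaE8_6) 26 (dec8 permE8_6 26) (etaOf etaE8_6 26) = true := by
  decide +kernel

theorem conjE8_6_27 : conjCheck chevE8 (pMonoCol chevE8 6 permE8_6 etaE8_6) 27 (dec8 permE8_6 27) (etaOf etaE8_6 27) = true := by
  decide +kernel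

theorem conjE8_6_28 : conjCheck chevE8 (pMonoCol chevE8 6 permE8_6 etaE8_6) 28 (dec8 permE8_6 28) (etaOf etaE8_6 28) = true := by
  decide +kernel

theorem conjE8_6_29 : conjCheck chevE8 (pMonoCol chevE8 6 permE8_6 etaE8_6) 29 (dec8 permE8_6 29) (etaOf etaE8_6 29) = true := by
  decide +kernel

theorem conjE8_6_from0 (s : ℕ) (h1 : 0 ≤ s) (h2 : s < 30) : conjCheck chevE8 (pMonoCol chevE8 6 permE8_6 etaE8_6) s (dec8 permE8_6 s) (etaOf etaE8_6 s) = true := by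
  have h : s = 0 ∨ s = 1 ∨ s = 2 ∨ s = 3 ∨ s = 4 ∨ s = 5 ∨ s = 6 ∨ s = 7 ∨ s = 8 ∨ s = 9 ∨ s = 10 ∨ s = 11 ∨ s = 12 ∨ s = 13 ∨ s = 14 ∨ s = 15 ∨ s = 16 ∨ s = 17 ∨ s = 18 ∨ s = 19 ∨ s = 20 ∨ s = 21 ∨ s = 22 ∨ s = 23 ∨ s = 24 ∨ s = 25 ∨ s = 26 ∨ s = 27 ∨ s = 28 ∨ s = 29 := by omega
  rcases h with rfl | rfl | rfl | rfl | rfl | rfl | rfl | rfl | rfl | rfl | rfl | rfl | rfl | rfl | rfl | rfl | rfl | rfl | rfl | rfl | rfl | rfl | rfl | rfl | rfl | rfl | rfl | rfl | rfl | rfl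
  exacts [conjE8_6_0, conjE8_6_1, conjE8_6_2, conjE8_6_3, conjE8_6_4, conjE8_6_5, conjE8_6_6, conjE8_6_7, conjE8_6_8, conjE8_6_9, conjE8_6_10, conjE8_6_11, conjE8_6_12, conjE8_6_13, conjE8_6_14, conjE8_6_15, conjE8_6_16, conjE8_6_17, conjE8_6_18, conjE8_6_19, conjE8_6_20, conjE8_6_21, conjE8_6_22, conjE8_6_23, conjE8_6_24, conjE8_6_25, conjE8_6_26, conjE8_6_27, conjE8_6_28, conjE8_6_29]

theorem conjE8_6_30 : conjCheck chevE8 (pMonoCol chevE8 6 permE8_6 etaE8_6) 30 (dec8 permE8_6 30) (etaOf etaE8_6 30) = true := by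
  decide +kernel

theorem conjE8_6_31 : conjCheck chevE8 (pMonoCol chevE8 6 permE8_6 etaE8_6) 31 (dec8 permE8_6 31) (etaOf etaE8_6 31) = true := by
  decide +kernel

theorem conjE8_6_32 : conjCheck chevE8 (pMonoCol chevE8 6 permE8_6 etaE8_6) 32 (dec8 permE8_6 32) (etaOf etaE8_6 32) = true := by
  decide +kernel

theorem conjE8_6_33 : conjCheck chevE8 (pMonoCol chevE8 6 permE8_6 etaE8_6) 33 (dec8 permE8_6 33) (etaOf etaE8_6 33) = true := by
  decide +kernel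

theorem conjE8_6_34 : conjCheck chevE8 (pMonoCol chevE8 6 permE8_6 etaE8_6) 34 (dec8 permE8_6 34) (etaOf etaE8_6 34) = true := by
  decide +kernel

theorem conjE8_6_35 : conjCheck chevE8 (pMonoCol chevE8 6 permE8_6 etaE8_6) 35 (dec8 permE8_6 35) (etaOf etaE8_6 35) = true := by
  decide +kernel

theorem conjE8_6_36 : conjCheck chevE8 (pMonoCol chevE8 6 permE8_6 etaE8_6) 36 (dec8 permE8_6 36) (etaOf etaE8_6 36) = true := by
  decide +kernel

theorem conjE8_6_37 : conjCheck chevE8 (pMonoCol chevE8 6 permE8_6 etaE8_6) 37 (dec8 permE8_6 37) (etaOf etaE8_6 37) = true := by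
  decide +kernel

theorem conjE8_6_38 : conjCheck chevE8 (pMonoCol chevE8 6 permE8_6 etaE8_6) 38 (dec8 permE8_6 38) (etaOf etaE8_6 38) = true := by
  decide +kernel

theorem conjE8_6_39 : conjCheck chevE8 (pMonoCol chevE8 6 permE8_6 etaE8_6) 39 (dec8 permE8_6 39) (etaOf etaE8_6 39) = true := by
  decide +kernel

theorem conjE8_6_40 : conjCheck chevE8 (pMonoCol chevE8 6 permE8_6 etaE8_6) 40 (dec8 permE8_6 40) (etaOf etaE8_6 40) = true := by
  decide +kernel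

theorem conjE8_6_41 : conjCheck chevE8 (pMonoCol chevE8 6 permE8_6 etaE8_6) 41 (dec8 permE8_6 41) (etaOf etaE8_6 41) = true := by
  decide +kernel

theorem conjE8_6_42 : conjCheck chevE8 (pMonoCol chevE8 6 permE8_6 etaE8_6) 42 (dec8 permE8_6 42) (etaOf etaE8_6 42) = true := by
  decide +kernel

theorem conjE8_6_43 : conjCheck chevE8 (pMonoCol chevE8 6 permE8_6 etaE8_6) 43 (dec8 permE8_6 43) (etaOf etaE8_6 43) = true := by
  decide +kernel

theorem conjE8_6_44 : conjCheck chevE8 (pMonoCol chevE8 6 permE8_6 etaE8_6) 44 (dec8 permE8_6 44) (etaOf etaE8_6 44) = true := by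
  decide +kernel

theorem conjE8_6_45 : conjCheck chevE8 (pMonoCol chevE8 6 permE8_6 etaE8_6) 45 (dec8 permE8_6 45) (etaOf etaE8_6 45) = true := by
  decide +kernel

theorem conjE8_6_46 : conjCheck chevE8 (pMonoCol chevE8 6 permE8_6 etaE8_6) 46 (dec8 permE8_6 46) (etaOf etaE8_6 46) = true := by
  decide +kernel

theorem conjE8_6_47 : conjCheck chevE8 (pMonoCol chevE8 6 permE8_6 etaE8_6) 47 (dec8 permE8_6 47) (etaOf etaE8_6 47) = true := by
  decide +kernel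

theorem conjE8_6_48 : conjCheck chevE8 (pMonoCol chevE8 6 permE8_6 etaE8_6) 48 (dec8 permE8_6 48) (etaOf etaE8_6 48) = true := by
  decide +kernel

theorem conjE8_6_49 : conjCheck chevE8 (pMonoCol chevE8 6 permE8_6 etaE8_6) 49 (dec8 permE8_6 49) (etaOf etaE8_6 49) = true := by
  decide +kernel

theorem conjE8_6_50 : conjCheck chevE8 (pMonoCol chevE8 6 permE8_6 etaE8_6) 50 (dec8 permE8_6 50) (etaOf etaE8_6 50) = true := by
  decide +kernel

theorem conjE8_6_51 : conjCheck chevE8 (pMonoCol chevE8 6 permE8_6 etaE8_6) 51 (dec8 permE8_6 51) (etaOf etaE8_6 51) = true := by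
  decide +kernel

theorem conjE8_6_52 : conjCheck chevE8 (pMonoCol chevE8 6 permE8_6 etaE8_6) 52 (dec8 permE8_6 52) (etaOf etaE8_6 52) = true := by
  decide +kernel

theorem conjE8_6_53 : conjCheck chevE8 (pMonoCol chevE8 6 permE8_6 etaE8_6) 53 (dec8 permE8_6 53) (etaOf etaE8_6 53) = true := by
  decide +kernel

theorem conjE8_6_54 : conjCheck chevE8 (pMonoCol chevE8 6 permE8_6 etaE8_6) 54 (dec8 permE8_6 54) (etaOf etaE8_6 54) = true := by
  decide +kernel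

theorem conjE8_6_55 : conjCheck chevE8 (pMonoCol chevE8 6 permE8_6 etaE8_6) 55 (dec8 permE8_6 55) (etaOf etaE8_6 55) = true := by
  decide +kernel

theorem conjE8_6_56 : conjCheck chevE8 (pMonoCol chevE8 6 permE8_6 etaE8_6) 56 (dec8 permE8_6 56) (etaOf etaE8_6 56) = true := by
  decide +kernel

theorem conjE8_6_57 : conjCheck chevE8 (pMonoCol chevE8 6 permE8_6 etaE8_6) 57 (dec8 permE8_6 57) (etaOf etaE8_6 57) = true := by
  decide +kernel

theorem conjE8_6_58 : conjCheck chevE8 (pMonoCol chevE8 6 permE8_6 etaE8_6) 58 (dec8 permE8_6 58) (etaOf etaE8_6 58) = true := by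
  decide +kernel

theorem conjE8_6_59 : conjCheck chevE8 (pMonoCol chevE8 6 permE8_6 etaE8_6) 59 (dec8 permE8_6 59) (etaOf etaE8_6 59) = true := by
  decide +kernel

theorem conjE8_6_from30 (s : ℕ) (h1 : 30 ≤ s) (h2 : s < 60) : conjCheck chevE8 (pMonoCol chevE8 6 permE8_6 etaE8_6) s (dec8 permE8_6 s) (etaOf etaE8_6 s) = true := by
  have h : s = 30 ∨ s = 31 ∨ s = 32 ∨ s = 33 ∨ s = 34 ∨ s = 35 ∨ s = 36 ∨ s = 37 ∨ s = 38 ∨ s = 39 ∨ s = 40 ∨ s = 41 ∨ s = 42 ∨ s = 43 ∨ s = 44 ∨ s = 45 ∨ s = 46 ∨ s = 47 ∨ s = 48 ∨ s = 49 ∨ s = 50 ∨ s = 51 ∨ s = 52 ∨ s = 53 ∨ s = 54 ∨ s = 55 ∨ s = 56 ∨ s = 57 ∨ s = 58 ∨ s = 59 := by omega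
  rcases h with rfl | rfl | rfl | rfl | rfl | rfl | rfl | rfl | rfl | rfl | rfl | rfl | rfl | rfl | rfl | rfl | rfl | rfl | rfl | rfl | rfl | rfl | rfl | rfl | rfl | rfl | rfl | rfl | rfl | rfl
  exacts [conjE8_6_30, conjE8_6_31, conjE8_6_32, conjE8_6_33, conjE8_6_34, conjE8_6_35, conjE8_6_36, conjE8_6_37, conjE8_6_38, conjE8_6_39, conjE8_6_40, conjE8_6_41, conjE8_6_42, conjE8_6_43, conjE8_6_44, conjE8_6_45, conjE8_6_46, conjE8_6_47, conjE8_6_48, conjE8_6_49, conjE8_6_50, conjE8_6_51, conjE8_6_52, conjE8_6_53, conjE8_6_54, conjE8_6_55, conjE8_6_56, conjE8_6_57, conjE8_6_58, conjE8_6_59]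

end Cfsg.Agent.Helper18
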