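import Cfsg.Agent.Lib.Helper18.ConjData

set_option autoImplicit false
set_option maxRecDepth 100000

namespace Cfsg.Agent.Helper18

open Cfsg.Lie

theorem conjE8_6_120 : conjCheck chevE8 (pMonoCol chevE8 6 permE8_6 etaE8_6) 120 (dec8 permE8_6 120) (etaOf etaE8_6 120) = true := by
  decide +kernel

theorem conjE8_6_121 : conjCheck chevE8 (pMonoCol chevE8 6 permE8_6 etaE8_6) 121 (dec8 permE8_6 121) (etaOf etaE8_6 121) = true := by
  decide +kernel

theorem conjE8_6_122 : conjCheck chevE8 (pMonoCol chevE8 6 permE8_6 etaE8_6) 122 (dec8 permE8_6 122) (etaOf etaE8_6 122) = true := by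
  decide +kernel

theorem conjE8_6_123 : conjCheck chevE8 (pMonoCol chevE8 6 permE8_6 etaE8_6) 123 (dec8 permE8_6 123) (etaOf etaE8_6 123) = true := by
  decide +kernel

theorem conjE8_6_124 : conjCheck chevE8 (pMonoCol chevE8 6 permE8_6 etaE8_6) 124 (dec8 permE8_6 124) (etaOf etaE8_6 124) = true := by
  decide +kernel

theorem conjE8_6_125 : conjCheck chevE8 (pMonoCol chevE8 6 permE8_6 etaE8_6) 125 (dec8 permE8_6 125) (etaOf etaE8_6 125) = true := by
  decide +kernel

theorem conjE8_6_126 : conjCheck chevE8 (pMonoCol chevE8 6 permE8_6 etaE8_6) 126 (dec8 permE8_6 126) (etaOf etaE8_6 126) = true := by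
  decide +kernel

theorem conjE8_6_127 : conjCheck chevE8 (pMonoCol chevE8 6 permE8_6 etaE8_6) 127 (dec8 permE8_6 127) (etaOf etaE8_6 127) = true := by
  decide +kernel

theorem conjE8_6_128 : conjCheck chevE8 (pMonoCol chevE8 6 permE8_6 etaE8_6) 128 (dec8 permE8_6 128) (etaOf etaE8_6 128) = true := by
  decide +kernel

theorem conjE8_6_129 : conjCheck chevE8 (pMonoCol chevE8 6 permE8_6 etaE8_6) 129 (dec8 permE8_6 129) (etaOf etaE8_6 129) = true := by
  decide +kernel

theorem conjE8_6_130 : conjCheck chevE8 (pMonoCol chevE8 6 permE8_6 etaE8_6) 130 (dec8 permE8_6 130) (etaOf etaE8_6 130) = true := by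
  decide +kernel

theorem conjE8_6_131 : conjCheck chevE8 (pMonoCol chevE8 6 permE8_6 etaE8_6) 131 (dec8 permE8_6 131) (etaOf etaE8_6 131) = true := by
  decide +kernel

theorem conjE8_6_132 : conjCheck chevE8 (pMonoCol chevE8 6 permE8_6 etaE8_6) 132 (dec8 permE8_6 132) (etaOf etaE8_6 132) = true := by
  decide +kernel

theorem conjE8_6_133 : conjCheck chevE8 (pMonoCol chevE8 6 permE8_6 etaE8_6) 133 (dec8 permE8_6 133) (etaOf etaE8_6 133) = true := by
  decide +kernel

theorem conjE8_6_134 : conjCheck chevE8 (pMonoCol chevE8 6 permE8_6 etaE8_6) 134 (dec8 permE8_6 134) (etaOf etaE8_6 134) = true := by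
  decide +kernel

theorem conjE8_6_135 : conjCheck chevE8 (pMonoCol chevE8 6 permE8_6 etaE8_6) 135 (dec8 permE8_6 135) (etaOf etaE8_6 135) = true := by
  decide +kernel

theorem conjE8_6_136 : conjCheck chevE8 (pMonoCol chevE8 6 permE8_6 etaE8_6) 136 (dec8 permE8_6 136) (etaOf etaE8_6 136) = true := by
  decide +kernel

theorem conjE8_6_137 : conjCheck chevE8 (pMonoCol chevE8 6 permE8_6 etaE8_6) 137 (dec8 permE8_6 137) (etaOf etaE8_6 137) = true := by
  decide +kernel

theorem conjE8_6_138 : conjCheck chevE8 (pMonoCol chevE8 6 permE8_6 etaE8_6) 138 (dec8 permE8_6 138) (etaOf etaE8_6 138) = true := by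
  decide +kernel

theorem conjE8_6_139 : conjCheck chevE8 (pMonoCol chevE8 6 permE8_6 etaE8_6) 139 (dec8 permE8_6 139) (etaOf etaE8_6 139) = true := by
  decide +kernel

theorem conjE8_6_140 : conjCheck chevE8 (pMonoCol chevE8 6 permE8_6 etaE8_6) 140 (dec8 permE8_6 140) (etaOf etaE8_6 140) = true := by
  decide +kernel

theorem conjE8_6_141 : conjCheck chevE8 (pMonoCol chevE8 6 permE8_6 etaE8_6) 141 (dec8 permE8_6 141) (etaOf etaE8_6 141) = true := by
  decide +kernel

theorem conjE8_6_142 : conjCheck chevE8 (pMonoCol chevE8 6 permE8_6 etaE8_6) 142 (dec8 permE8_6 142) (etaOf etaE8_6 142) = true := by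
  decide +kernel

theorem conjE8_6_143 : conjCheck chevE8 (pMonoCol chevE8 6 permE8_6 etaE8_6) 143 (dec8 permE8_6 143) (etaOf etaE8_6 143) = true := by
  decide +kernel

theorem conjE8_6_144 : conjCheck chevE8 (pMonoCol chevE8 6 permE8_6 etaE8_6) 144 (dec8 permE8_6 144) (etaOf etaE8_6 144) = true := by
  decide +kernel

theorem conjE8_6_145 : conjCheck chevE8 (pMonoCol chevE8 6 permE8_6 etaE8_6) 145 (dec8 permE8_6 145) (etaOf etaE8_6 145) = true := by
  decide +kernel

theorem conjE8_6_146 : conjCheck chevE8 (pMonoCol chevE8 6 permE8_6 etaE8_6) 146 (dec8 permE8_6 146) (etaOf etaE8_6 146) = true := by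
  decide +kernel

theorem conjE8_6_147 : conjCheck chevE8 (pMonoCol chevE8 6 permE8_6 etaE8_6) 147 (dec8 permE8_6 147) (etaOf etaE8_6 147) = true := by
  decide +kernel

theorem conjE8_6_148 : conjCheck chevE8 (pMonoCol chevE8 6 permE8_6 etaE8_6) 148 (dec8 permE8_6 148) (etaOf etaE8_6 148) = true := by
  decide +kernel

theorem conjE8_6_149 : conjCheck chevE8 (pMonoCol chevE8 6 permE8_6 etaE8_6) 149 (dec8 permE8_6 149) (etaOf etaE8_6 149) = true := by
  decide +kernel

theorem conjE8_6_from120 (s : ℕ) (h1 : 120 ≤ s) (h2 : s < 150) : conjCheck chevE8 (pMonoCol chevE8 6 permE8_6 etaE8_6) s (dec8 permE8_6 s) (etaOf etaE8_6 s) = true := by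
  have h : s = 120 ∨ s = 121 ∨ s = 122 ∨ s = 123 ∨ s = 124 ∨ s = 125 ∨ s = 126 ∨ s = 127 ∨ s = 128 ∨ s = 129 ∨ s = 130 ∨ s = 131 ∨ s = 132 ∨ s = 133 ∨ s = 134 ∨ s = 135 ∨ s = 136 ∨ s = 137 ∨ s = 138 ∨ s = 139 ∨ s = 140 ∨ s = 141 ∨ s = 142 ∨ s = 143 ∨ s = 144 ∨ s = 145 ∨ s = 146 ∨ s = 147 ∨ s = 148 ∨ s = 149 := by omega
  rcases h with rfl | rfl | rfl | rfl | rfl | rfl | rfl | rfl | rfl | rfl | rfl | rfl | rfl | rfl | rfl | rfl | rfl | rfl | rfl | rfl | rfl | rfl | rfl | rfl | rfl | rfl | rfl | rfl | rfl | rfl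
  exacts [conjE8_6_120, conjE8_6_121, conjE8_6_122, conjE8_6_123, conjE8_6_124, conjE8_6_125, conjE8_6_126, conjE8_6_127, conjE8_6_128, conjE8_6_129, conjE8_6_130, conjE8_6_131, conjE8_6_132, conjE8_6_133, conjE8_6_134, conjE8_6_135, conjE8_6_136, conjE8_6_137, conjE8_6_138, conjE8_6_139, conjE8_6_140, conjE8_6_141, conjE8_6_142, conjE8_6_143, conjE8_6_144, conjE8_6_145, conjE8_6_146, conjE8_6_147, conjE8_6_148, conjE8_6_149]

theorem conjE8_6_150 : conjCheck chevE8 (pMonoCol chevE8 6 permE8_6 etaE8_6) 150 (dec8 permE8_6 150) (etaOf etaE8_6 150) = true := by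
  decide +kernel

theorem conjE8_6_151 : conjCheck chevE8 (pMonoCol chevE8 6 permE8_6 etaE8_6) 151 (dec8 permE8_6 151) (etaOf etaE8_6 151) = true := by
  decide +kernel

theorem conjE8_6_152 : conjCheck chevE8 (pMonoCol chevE8 6 permE8_6 etaE8_6) 152 (dec8 permE8_6 152) (etaOf etaE8_6 152) = true := by
  decide +kernel

theorem conjE8_6_153 : conjCheck chevE8 (pMonoCol chevE8 6 permE8_6 etaE8_6) 153 (dec8 permE8_6 153) (etaOf etaE8_6 153) = true := by
  decide +kernel

theorem conjE8_6_154 : conjCheck chevE8 (pMonoCol chevE8 6 permE8_6 etaE8_6) 154 (dec8 permE8_6 154) (etaOf etaE8_6 154) = true := by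
  decide +kernel

theorem conjE8_6_155 : conjCheck chevE8 (pMonoCol chevE8 6 permE8_6 etaE8_6) 155 (dec8 permE8_6 155) (etaOf etaE8_6 155) = true := by
  decide +kernel

theorem conjE8_6_156 : conjCheck chevE8 (pMonoCol chevE8 6 permE8_6 etaE8_6) 156 (dec8 permE8_6 156) (etaOf etaE8_6 156) = true := by
  decide +kernel

theorem conjE8_6_157 : conjCheck chevE8 (pMonoCol chevE8 6 permE8_6 etaE8_6) 157 (dec8 permE8_6 157) (etaOf etaE8_6 157) = true := by
  decide +kernel

theorem conjE8_6_158 : conjCheck chevE8 (pMonoCol chevE8 6 permE8_6 etaE8_6) 158 (dec8 permE8_6 158) (etaOf etaE8_6 158) = true := by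
  decide +kernel

theorem conjE8_6_159 : conjCheck chevE8 (pMonoCol chevE8 6 permE8_6 etaE8_6) 159 (dec8 permE8_6 159) (etaOf etaE8_6 159) = true := by
  decide +kernel

theorem conjE8_6_160 : conjCheck chevE8 (pMonoCol chevE8 6 permE8_6 etaE8_6) 160 (dec8 permE8_6 160) (etaOf etaE8_6 160) = true := by
  decide +kernel

theorem conjE8_6_161 : conjCheck chevE8 (pMonoCol chevE8 6 permE8_6 etaE8_6) 161 (dec8 permE8_6 161) (etaOf etaE8_6 161) = true := by
  decide +kernel

theorem conjE8_6_162 : conjCheck chevE8 (pMonoCol chevE8 6 permE8_6 etaE8_6) 162 (dec8 permE8_6 162) (etaOf etaE8_6 162) = true := by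
  decide +kernel

theorem conjE8_6_163 : conjCheck chevE8 (pMonoCol chevE8 6 permE8_6 etaE8_6) 163 (dec8 permE8_6 163) (etaOf etaE8_6 163) = true := by
  decide +kernel

theorem conjE8_6_164 : conjCheck chevE8 (pMonoCol chevE8 6 permE8_6 etaE8_6) 164 (dec8 permE8_6 164) (etaOf etaE8_6 164) = true := by
  decide +kernel

theorem conjE8_6_165 : conjCheck chevE8 (pMonoCol chevE8 6 permE8_6 etaE8_6) 165 (dec8 permE8_6 165) (etaOf etaE8_6 165) = true := by
  decide +kernel

theorem conjE8_6_166 : conjCheck chevE8 (pMonoCol chevE8 6 permE8_6 etaE8_6) 166 (dec8 permE8_6 166) (etaOf etaE8_6 166) = true := by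
  decide +kernel

theorem conjE8_6_167 : conjCheck chevE8 (pMonoCol chevE8 6 permE8_6 etaE8_6) 167 (dec8 permE8_6 167) (etaOf etaE8_6 167) = true := by
  decide +kernel

theorem conjE8_6_168 : conjCheck chevE8 (pMonoCol chevE8 6 permE8_6 etaE8_6) 168 (dec8 permE8_6 168) (etaOf etaE8_6 168) = true := by
  decide +kernel

theorem conjE8_6_169 : conjCheck chevE8 (pMonoCol chevE8 6 permE8_6 etaE8_6) 169 (dec8 permE8_6 169) (etaOf etaE8_6 169) = true := by
  decide +kernel

theorem conjE8_6_170 : conjCheck chevE8 (pMonoCol chevE8 6 permE8_6 etaE8_6) 170 (dec8 permE8_6 170) (etaOf etaE8_6 170) = true := by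
  decide +kernel

theorem conjE8_6_171 : conjCheck chevE8 (pMonoCol chevE8 6 permE8_6 etaE8_6) 171 (dec8 permE8_6 171) (etaOf etaE8_6 171) = true := by
  decide +kernel

theorem conjE8_6_172 : conjCheck chevE8 (pMonoCol chevE8 6 permE8_6 etaE8_6) 172 (dec8 permE8_6 172) (etaOf etaE8_6 172) = true := by
  decide +kernel

theorem conjE8_6_173 : conjCheck chevE8 (pMonoCol chevE8 6 permE8_6 etaE8_6) 173 (dec8 permE8_6 173) (etaOf etaE8_6 173) = true := by
  decide +kernel

theorem conjE8_6_174 : conjCheck chevE8 (pMonoCol chevE8 6 permE8_6 etaE8_6) 174 (dec8 permE8_6 174) (etaOf etaE8_6 174) = true := by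
  decide +kernel

theorem conjE8_6_175 : conjCheck chevE8 (pMonoCol chevE8 6 permE8_6 etaE8_6) 175 (dec8 permE8_6 175) (etaOf etaE8_6 175) = true := by
  decide +kernel

theorem conjE8_6_176 : conjCheck chevE8 (pMonoCol chevE8 6 permE8_6 etaE8_6) 176 (dec8 permE8_6 176) (etaOf etaE8_6 176) = true := by
  decide +kernel

theorem conjE8_6_177 : conjCheck chevE8 (pMonoCol chevE8 6 permE8_6 etaE8_6) 177 (dec8 permE8_6 177) (etaOf etaE8_6 177) = true := by
  decide +kernel

theorem conjE8_6_178 : conjCheck chevE8 (pMonoCol chevE8 6 permE8_6 etaE8_6) 178 (dec8 permE8_6 178) (etaOf etaE8_6 178) = true := by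
  decide +kernel

theorem conjE8_6_179 : conjCheck chevE8 (pMonoCol chevE8 6 permE8_6 etaE8_6) 179 (dec8 permE8_6 179) (etaOf etaE8_6 179) = true := by
  decide +kernel

theorem conjE8_6_from150 (s : ℕ) (h1 : 150 ≤ s) (h2 : s < 180) : conjCheck chevE8 (pMonoCol chevE8 6 permE8_6 etaE8_6) s (dec8 permE8_6 s) (etaOf etaE8_6 s) = true := by
  have h : s = 150 ∨ s = 151 ∨ s = 152 ∨ s = 153 ∨ s = 154 ∨ s = 155 ∨ s = 156 ∨ s = 157 ∨ s = 158 ∨ s = 159 ∨ s = 160 ∨ s = 161 ∨ s = 162 ∨ s = 163 ∨ s = 164 ∨ s = 165 ∨ s = 166 ∨ s = 167 ∨ s = 168 ∨ s = 169 ∨ s = 170 ∨ s = 171 ∨ s = 172 ∨ s = 173 ∨ s = 174 ∨ s = 175 ∨ s = 176 ∨ s = 177 ∨ s = 178 ∨ s = 179 := by omega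
  rcases h with rfl | rfl | rfl | rfl | rfl | rfl | rfl | rfl | rfl | rfl | rfl | rfl | rfl | rfl | rfl | rfl | rfl | rfl | rfl | rfl | rfl | rfl | rfl | rfl | rfl | rfl | rfl | rfl | rfl | rfl
  exacts [conjE8_6_150, conjE8_6_151, conjE8_6_152, conjE8_6_153, conjE8_6_154, conjE8_6_155, conjE8_6_156, conjE8_6_157, conjE8_6_158, conjE8_6_159, conjE8_6_160, conjE8_6_161, conjE8_6_162, conjE8_6_163, conjE8_6_164, conjE8_6_165, conjE8_6_166, conjE8_6_167, conjE8_6_168, conjE8_6_169, conjE8_6_170, conjE8_6_171, conjE8_6_172, conjE8_6_173, conjE8_6_174, conjE8_6_175, conjE8_6_176, conjE8_6_177, conjE8_6_178, conjE8_6_179]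

end Cfsg.Agent.Helper18
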