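import Cfsg.Agent.Lib.Helper18.ConjData

set_option autoImplicit false
set_option maxRecDepth 100000

namespace Cfsg.Agent.Helper18

open Cfsg.Lie

theorem conjE8_6_180 : conjCheck chevE8 (pMonoCol chevE8 6 permE8_6 etaE8_6) 180 (dec8 permE8_6 180) (etaOf etaE8_6 180) = true := by
  decide +kernel

theorem conjE8_6_181 : conjCheck chevE8 (pMonoCol chevE8 6 permE8_6 etaE8_6) 181 (dec8 permE8_6 181) (etaOf etaE8_6 181) = true := by
  decide +kernel

theorem conjE8_6_182 : conjCheck chevE8 (pMonoCol chevE8 6 permE8_6 etaE8_6) 182 (dec8 permE8_6 182) (etaOf etaE8_6 182) = true := by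
  decide +kernel

theorem conjE8_6_183 : conjCheck chevE8 (pMonoCol chevE8 6 permE8_6 etaE8_6) 183 (dec8 permE8_6 183) (etaOf etaE8_6 183) = true := by
  decide +kernel

theorem conjE8_6_184 : conjCheck chevE8 (pMonoCol chevE8 6 permE8_6 etaE8_6) 184 (dec8 permE8_6 184) (etaOf etaE8_6 184) = true := by
  decide +kernel

theorem conjE8_6_185 : conjCheck chevE8 (pMonoCol chevE8 6 permE8_6 etaE8_6) 185 (dec8 permE8_6 185) (etaOf etaE8_6 185) = true := by
  decide +kernel

theorem conjE8_6_186 : conjCheck chevE8 (pMonoCol chevE8 6 permE8_6 etaE8_6) 186 (dec8 permE8_6 186) (etaOf etaE8_6 186) = true := by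
  decide +kernel

theorem conjE8_6_187 : conjCheck chevE8 (pMonoCol chevE8 6 permE8_6 etaE8_6) 187 (dec8 permE8_6 187) (etaOf etaE8_6 187) = true := by
  decide +kernel

theorem conjE8_6_188 : conjCheck chevE8 (pMonoCol chevE8 6 permE8_6 etaE8_6) 188 (dec8 permE8_6 188) (etaOf etaE8_6 188) = true := by
  decide +kernel

theorem conjE8_6_189 : conjCheck chevE8 (pMonoCol chevE8 6 permE8_6 etaE8_6) 189 (dec8 permE8_6 189) (etaOf etaE8_6 189) = true := by
  decide +kernel

theorem conjE8_6_190 : conjCheck chevE8 (pMonoCol chevE8 6 permE8_6 etaE8_6) 190 (dec8 permE8_6 190) (etaOf etaE8_6 190) = true := by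
  decide +kernel

theorem conjE8_6_191 : conjCheck chevE8 (pMonoCol chevE8 6 permE8_6 etaE8_6) 191 (dec8 permE8_6 191) (etaOf etaE8_6 191) = true := by
  decide +kernel

theorem conjE8_6_192 : conjCheck chevE8 (pMonoCol chevE8 6 permE8_6 etaE8_6) 192 (dec8 permE8_6 192) (etaOf etaE8_6 192) = true := by
  decide +kernel

theorem conjE8_6_193 : conjCheck chevE8 (pMonoCol chevE8 6 permE8_6 etaE8_6) 193 (dec8 permE8_6 193) (etaOf etaE8_6 193) = true := by
  decide +kernel

theorem conjE8_6_194 : conjCheck chevE8 (pMonoCol chevE8 6 permE8_6 etaE8_6) 194 (dec8 permE8_6 194) (etaOf etaE8_6 194) = true := by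
  decide +kernel

theorem conjE8_6_195 : conjCheck chevE8 (pMonoCol chevE8 6 permE8_6 etaE8_6) 195 (dec8 permE8_6 195) (etaOf etaE8_6 195) = true := by
  decide +kernel

theorem conjE8_6_196 : conjCheck chevE8 (pMonoCol chevE8 6 permE8_6 etaE8_6) 196 (dec8 permE8_6 196) (etaOf etaE8_6 196) = true := by
  decide +kernel

theorem conjE8_6_197 : conjCheck chevE8 (pMonoCol chevE8 6 permE8_6 etaE8_6) 197 (dec8 permE8_6 197) (etaOf etaE8_6 197) = true := by
  decide +kernel

theorem conjE8_6_198 : conjCheck chevE8 (pMonoCol chevE8 6 permE8_6 etaE8_6) 198 (dec8 permE8_6 198) (etaOf etaE8_6 198) = true := by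
  decide +kernel

theorem conjE8_6_199 : conjCheck chevE8 (pMonoCol chevE8 6 permE8_6 etaE8_6) 199 (dec8 permE8_6 199) (etaOf etaE8_6 199) = true := by
  decide +kernel

theorem conjE8_6_200 : conjCheck chevE8 (pMonoCol chevE8 6 permE8_6 etaE8_6) 200 (dec8 permE8_6 200) (etaOf etaE8_6 200) = true := by
  decide +kernel

theorem conjE8_6_201 : conjCheck chevE8 (pMonoCol chevE8 6 permE8_6 etaE8_6) 201 (dec8 permE8_6 201) (etaOf etaE8_6 201) = true := by
  decide +kernel

theorem conjE8_6_202 : conjCheck chevE8 (pMonoCol chevE8 6 permE8_6 etaE8_6) 202 (dec8 permE8_6 202) (etaOf etaE8_6 202) = true := by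
  decide +kernel

theorem conjE8_6_203 : conjCheck chevE8 (pMonoCol chevE8 6 permE8_6 etaE8_6) 203 (dec8 permE8_6 203) (etaOf etaE8_6 203) = true := by
  decide +kernel

theorem conjE8_6_204 : conjCheck chevE8 (pMonoCol chevE8 6 permE8_6 etaE8_6) 204 (dec8 permE8_6 204) (etaOf etaE8_6 204) = true := by
  decide +kernel

theorem conjE8_6_205 : conjCheck chevE8 (pMonoCol chevE8 6 permE8_6 etaE8_6) 205 (dec8 permE8_6 205) (etaOf etaE8_6 205) = true := by
  decide +kernel

theorem conjE8_6_206 : conjCheck chevE8 (pMonoCol chevE8 6 permE8_6 etaE8_6) 206 (dec8 permE8_6 206) (etaOf etaE8_6 206) = true := by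
  decide +kernel

theorem conjE8_6_207 : conjCheck chevE8 (pMonoCol chevE8 6 permE8_6 etaE8_6) 207 (dec8 permE8_6 207) (etaOf etaE8_6 207) = true := by
  decide +kernel

theorem conjE8_6_208 : conjCheck chevE8 (pMonoCol chevE8 6 permE8_6 etaE8_6) 208 (dec8 permE8_6 208) (etaOf etaE8_6 208) = true := by
  decide +kernel

theorem conjE8_6_209 : conjCheck chevE8 (pMonoCol chevE8 6 permE8_6 etaE8_6) 209 (dec8 permE8_6 209) (etaOf etaE8_6 209) = true := by
  decide +kernel

theorem conjE8_6_from180 (s : ℕ) (h1 : 180 ≤ s) (h2 : s < 210) : conjCheck chevE8 (pMonoCol chevE8 6 permE8_6 etaE8_6) s (dec8 permE8_6 s) (etaOf etaE8_6 s) = true := by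
  have h : s = 180 ∨ s = 181 ∨ s = 182 ∨ s = 183 ∨ s = 184 ∨ s = 185 ∨ s = 186 ∨ s = 187 ∨ s = 188 ∨ s = 189 ∨ s = 190 ∨ s = 191 ∨ s = 192 ∨ s = 193 ∨ s = 194 ∨ s = 195 ∨ s = 196 ∨ s = 197 ∨ s = 198 ∨ s = 199 ∨ s = 200 ∨ s = 201 ∨ s = 202 ∨ s = 203 ∨ s = 204 ∨ s = 205 ∨ s = 206 ∨ s = 207 ∨ s = 208 ∨ s = 209 := by omega
  rcases h with rfl | rfl | rfl | rfl | rfl | rfl | rfl | rfl | rfl | rfl | rfl | rfl | rfl | rfl | rfl | rfl | rfl | rfl | rfl | rfl | rfl | rfl | rfl | rfl | rfl | rfl | rfl | rfl | rfl | rfl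
  exacts [conjE8_6_180, conjE8_6_181, conjE8_6_182, conjE8_6_183, conjE8_6_184, conjE8_6_185, conjE8_6_186, conjE8_6_187, conjE8_6_188, conjE8_6_189, conjE8_6_190, conjE8_6_191, conjE8_6_192, conjE8_6_193, conjE8_6_194, conjE8_6_195, conjE8_6_196, conjE8_6_197, conjE8_6_198, conjE8_6_199, conjE8_6_200, conjE8_6_201, conjE8_6_202, conjE8_6_203, conjE8_6_204, conjE8_6_205, conjE8_6_206, conjE8_6_207, conjE8_6_208, conjE8_6_209]

theorem conjE8_6_210 : conjCheck chevE8 (pMonoCol chevE8 6 permE8_6 etaE8_6) 210 (dec8 permE8_6 210) (etaOf etaE8_6 210) = true := by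
  decide +kernel

theorem conjE8_6_211 : conjCheck chevE8 (pMonoCol chevE8 6 permE8_6 etaE8_6) 211 (dec8 permE8_6 211) (etaOf etaE8_6 211) = true := by
  decide +kernel

theorem conjE8_6_212 : conjCheck chevE8 (pMonoCol chevE8 6 permE8_6 etaE8_6) 212 (dec8 permE8_6 212) (etaOf etaE8_6 212) = true := by
  decide +kernel

theorem conjE8_6_213 : conjCheck chevE8 (pMonoCol chevE8 6 permE8_6 etaE8_6) 213 (dec8 permE8_6 213) (etaOf etaE8_6 213) = true := by
  decide +kernel

theorem conjE8_6_214 : conjCheck chevE8 (pMonoCol chevE8 6 permE8_6 etaE8_6) 214 (dec8 permE8_6 214) (etaOf etaE8_6 214) = true := by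
  decide +kernel

theorem conjE8_6_215 : conjCheck chevE8 (pMonoCol chevE8 6 permE8_6 etaE8_6) 215 (dec8 permE8_6 215) (etaOf etaE8_6 215) = true := by
  decide +kernel

theorem conjE8_6_216 : conjCheck chevE8 (pMonoCol chevE8 6 permE8_6 etaE8_6) 216 (dec8 permE8_6 216) (etaOf etaE8_6 216) = true := by
  decide +kernel

theorem conjE8_6_217 : conjCheck chevE8 (pMonoCol chevE8 6 permE8_6 etaE8_6) 217 (dec8 permE8_6 217) (etaOf etaE8_6 217) = true := by
  decide +kernel

theorem conjE8_6_218 : conjCheck chevE8 (pMonoCol chevE8 6 permE8_6 etaE8_6) 218 (dec8 permE8_6 218) (etaOf etaE8_6 218) = true := by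
  decide +kernel

theorem conjE8_6_219 : conjCheck chevE8 (pMonoCol chevE8 6 permE8_6 etaE8_6) 219 (dec8 permE8_6 219) (etaOf etaE8_6 219) = true := by
  decide +kernel

theorem conjE8_6_220 : conjCheck chevE8 (pMonoCol chevE8 6 permE8_6 etaE8_6) 220 (dec8 permE8_6 220) (etaOf etaE8_6 220) = true := by
  decide +kernel

theorem conjE8_6_221 : conjCheck chevE8 (pMonoCol chevE8 6 permE8_6 etaE8_6) 221 (dec8 permE8_6 221) (etaOf etaE8_6 221) = true := by
  decide +kernel

theorem conjE8_6_222 : conjCheck chevE8 (pMonoCol chevE8 6 permE8_6 etaE8_6) 222 (dec8 permE8_6 222) (etaOf etaE8_6 222) = true := by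
  decide +kernel

theorem conjE8_6_223 : conjCheck chevE8 (pMonoCol chevE8 6 permE8_6 etaE8_6) 223 (dec8 permE8_6 223) (etaOf etaE8_6 223) = true := by
  decide +kernel

theorem conjE8_6_224 : conjCheck chevE8 (pMonoCol chevE8 6 permE8_6 etaE8_6) 224 (dec8 permE8_6 224) (etaOf etaE8_6 224) = true := by
  decide +kernel

theorem conjE8_6_225 : conjCheck chevE8 (pMonoCol chevE8 6 permE8_6 etaE8_6) 225 (dec8 permE8_6 225) (etaOf etaE8_6 225) = true := by
  decide +kernel

theorem conjE8_6_226 : conjCheck chevE8 (pMonoCol chevE8 6 permE8_6 etaE8_6) 226 (dec8 permE8_6 226) (etaOf etaE8_6 226) = true := by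
  decide +kernel

theorem conjE8_6_227 : conjCheck chevE8 (pMonoCol chevE8 6 permE8_6 etaE8_6) 227 (dec8 permE8_6 227) (etaOf etaE8_6 227) = true := by
  decide +kernel

theorem conjE8_6_228 : conjCheck chevE8 (pMonoCol chevE8 6 permE8_6 etaE8_6) 228 (dec8 permE8_6 228) (etaOf etaE8_6 228) = true := by
  decide +kernel

theorem conjE8_6_229 : conjCheck chevE8 (pMonoCol chevE8 6 permE8_6 etaE8_6) 229 (dec8 permE8_6 229) (etaOf etaE8_6 229) = true := by
  decide +kernel

theorem conjE8_6_230 : conjCheck chevE8 (pMonoCol chevE8 6 permE8_6 etaE8_6) 230 (dec8 permE8_6 230) (etaOf etaE8_6 230) = true := by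
  decide +kernel

theorem conjE8_6_231 : conjCheck chevE8 (pMonoCol chevE8 6 permE8_6 etaE8_6) 231 (dec8 permE8_6 231) (etaOf etaE8_6 231) = true := by
  decide +kernel

theorem conjE8_6_232 : conjCheck chevE8 (pMonoCol chevE8 6 permE8_6 etaE8_6) 232 (dec8 permE8_6 232) (etaOf etaE8_6 232) = true := by
  decide +kernel

theorem conjE8_6_233 : conjCheck chevE8 (pMonoCol chevE8 6 permE8_6 etaE8_6) 233 (dec8 permE8_6 233) (etaOf etaE8_6 233) = true := by
  decide +kernel

theorem conjE8_6_234 : conjCheck chevE8 (pMonoCol chevE8 6 permE8_6 etaE8_6) 234 (dec8 permE8_6 234) (etaOf etaE8_6 234) = true := by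
  decide +kernel

theorem conjE8_6_235 : conjCheck chevE8 (pMonoCol chevE8 6 permE8_6 etaE8_6) 235 (dec8 permE8_6 235) (etaOf etaE8_6 235) = true := by
  decide +kernel

theorem conjE8_6_236 : conjCheck chevE8 (pMonoCol chevE8 6 permE8_6 etaE8_6) 236 (dec8 permE8_6 236) (etaOf etaE8_6 236) = true := by
  decide +kernel

theorem conjE8_6_237 : conjCheck chevE8 (pMonoCol chevE8 6 permE8_6 etaE8_6) 237 (dec8 permE8_6 237) (etaOf etaE8_6 237) = true := by
  decide +kernel

theorem conjE8_6_238 : conjCheck chevE8 (pMonoCol chevE8 6 permE8_6 etaE8_6) 238 (dec8 permE8_6 238) (etaOf etaE8_6 238) = true := by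
  decide +kernel

theorem conjE8_6_239 : conjCheck chevE8 (pMonoCol chevE8 6 permE8_6 etaE8_6) 239 (dec8 permE8_6 239) (etaOf etaE8_6 239) = true := by
  decide +kernel

theorem conjE8_6_from210 (s : ℕ) (h1 : 210 ≤ s) (h2 : s < 240) : conjCheck chevE8 (pMonoCol chevE8 6 permE8_6 etaE8_6) s (dec8 permE8_6 s) (etaOf etaE8_6 s) = true := by
  have h : s = 210 ∨ s = 211 ∨ s = 212 ∨ s = 213 ∨ s = 214 ∨ s = 215 ∨ s = 216 ∨ s = 217 ∨ s = 218 ∨ s = 219 ∨ s = 220 ∨ s = 221 ∨ s = 222 ∨ s = 223 ∨ s = 224 ∨ s = 225 ∨ s = 226 ∨ s = 227 ∨ s = 228 ∨ s = 229 ∨ s = 230 ∨ s = 231 ∨ s = 232 ∨ s = 233 ∨ s = 234 ∨ s = 235 ∨ s = 236 ∨ s = 237 ∨ s = 238 ∨ s = 239 := by omega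
  rcases h with rfl | rfl | rfl | rfl | rfl | rfl | rfl | rfl | rfl | rfl | rfl | rfl | rfl | rfl | rfl | rfl | rfl | rfl | rfl | rfl | rfl | rfl | rfl | rfl | rfl | rfl | rfl | rfl | rfl | rfl
  exacts [conjE8_6_210, conjE8_6_211, conjE8_6_212, conjE8_6_213, conjE8_6_214, conjE8_6_215, conjE8_6_216, conjE8_6_217, conjE8_6_218, conjE8_6_219, conjE8_6_220, conjE8_6_221, conjE8_6_222, conjE8_6_223, conjE8_6_224, conjE8_6_225, conjE8_6_226, conjE8_6_227, conjE8_6_228, conjE8_6_229, conjE8_6_230, conjE8_6_231, conjE8_6_232, conjE8_6_233, conjE8_6_234, conjE8_6_235, conjE8_6_236, conjE8_6_237, conjE8_6_238, conjE8_6_239]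

end Cfsg.Agent.Helper18
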