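import Cfsg.Agent.Lib.Helper18.ConjData

set_option autoImplicit false
set_option maxRecDepth 100000
set_option Elab.async false

namespace Cfsg.Agent.Helper18

open Cfsg.Lie

theorem conjE8_7_0 : conjCheck chevE8 (pMonoCol chevE8 7 permE8_7 etaE8_7) 0 (dec8 permE8_7 0) (etaOf etaE8_7 0) = true := by
  decide +kernel

theorem conjE8_7_1 : conjCheck chevE8 (pMonoCol chevE8 7 permE8_7 etaE8_7) 1 (dec8 permE8_7 1) (etaOf etaE8_7 1) = true := by
  decide +kernel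

theorem conjE8_7_2 : conjCheck chevE8 (pMonoCol chevE8 7 permE8_7 etaE8_7) 2 (dec8 permE8_7 2) (etaOf etaE8_7 2) = true := by
  decide +kernel

theorem conjE8_7_3 : conjCheck chevE8 (pMonoCol chevE8 7 permE8_7 etaE8_7) 3 (dec8 permE8_7 3) (etaOf etaE8_7 3) = true := by
  decide +kernel

theorem conjE8_7_4 : conjCheck chevE8 (pMonoCol chevE8 7 permE8_7 etaE8_7) 4 (dec8 permE8_7 4) (etaOf etaE8_7 4) = true := by
  decide +kernel

theorem conjE8_7_5 : conjCheck chevE8 (pMonoCol chevE8 7 permE8_7 etaE8_7) 5 (dec8 permE8_7 5) (etaOf etaE8_7 5) = true := by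
  decide +kernel

theorem conjE8_7_6 : conjCheck chevE8 (pMonoCol chevE8 7 permE8_7 etaE8_7) 6 (dec8 permE8_7 6) (etaOf etaE8_7 6) = true := by
  decide +kernel

theorem conjE8_7_7 : conjCheck chevE8 (pMonoCol chevE8 7 permE8_7 etaE8_7) 7 (dec8 permE8_7 7) (etaOf etaE8_7 7) = true := by
  decide +kernel

theorem conjE8_7_8 : conjCheck chevE8 (pMonoCol chevE8 7 permE8_7 etaE8_7) 8 (dec8 permE8_7 8) (etaOf etaE8_7 8) = true := by
  decide +kernel

theorem conjE8_7_9 : conjCheck chevE8 (pMonoCol chevE8 7 permE8_7 etaE8_7) 9 (dec8 permE8_7 9) (etaOf etaE8_7 9) = true := by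
  decide +kernel

theorem conjE8_7_10 : conjCheck chevE8 (pMonoCol chevE8 7 permE8_7 etaE8_7) 10 (dec8 permE8_7 10) (etaOf etaE8_7 10) = true := by
  decide +kernel

theorem conjE8_7_11 : conjCheck chevE8 (pMonoCol chevE8 7 permE8_7 etaE8_7) 11 (dec8 permE8_7 11) (etaOf etaE8_7 11) = true := by
  decide +kernel

theorem conjE8_7_12 : conjCheck chevE8 (pMonoCol chevE8 7 permE8_7 etaE8_7) 12 (dec8 permE8_7 12) (etaOf etaE8_7 12) = true := by
  decide +kernel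

theorem conjE8_7_13 : conjCheck chevE8 (pMonoCol chevE8 7 permE8_7 etaE8_7) 13 (dec8 permE8_7 13) (etaOf etaE8_7 13) = true := by
  decide +kernel

theorem conjE8_7_14 : conjCheck chevE8 (pMonoCol chevE8 7 permE8_7 etaE8_7) 14 (dec8 permE8_7 14) (etaOf etaE8_7 14) = true := by
  decide +kernel

theorem conjE8_7_15 : conjCheck chevE8 (pMonoCol chevE8 7 permE8_7 etaE8_7) 15 (dec8 permE8_7 15) (etaOf etaE8_7 15) = true := by
  decide +kernel

theorem conjE8_7_16 : conjCheck chevE8 (pMonoCol chevE8 7 permE8_7 etaE8_7) 16 (dec8 permE8_7 16) (etaOf etaE8_7 16) = true := by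
  decide +kernel

theorem conjE8_7_17 : conjCheck chevE8 (pMonoCol chevE8 7 permE8_7 etaE8_7) 17 (dec8 permE8_7 17) (etaOf etaE8_7 17) = true := by
  decide +kernel

theorem conjE8_7_18 : conjCheck chevE8 (pMonoCol chevE8 7 permE8_7 etaE8_7) 18 (dec8 permE8_7 18) (etaOf etaE8_7 18) = true := by
  decide +kernel

theorem conjE8_7_19 : conjCheck chevE8 (pMonoCol chevE8 7 permE8_7 etaE8_7) 19 (dec8 permE8_7 19) (etaOf etaE8_7 19) = true := by
  decide +kernel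

theorem conjE8_7_20 : conjCheck chevE8 (pMonoCol chevE8 7 permE8_7 etaE8_7) 20 (dec8 permE8_7 20) (etaOf etaE8_7 20) = true := by
  decide +kernel

theorem conjE8_7_21 : conjCheck chevE8 (pMonoCol chevE8 7 permE8_7 etaE8_7) 21 (dec8 permE8_7 21) (etaOf etaE8_7 21) = true := by
  decide +kernel

theorem conjE8_7_22 : conjCheck chevE8 (pMonoCol chevE8 7 permE8_7 etaE8_7) 22 (dec8 permE8_7 22) (etaOf etaE8_7 22) = true := by
  decide +kernel

theorem conjE8_7_23 : conjCheck chevE8 (pMonoCol chevE8 7 permE8_7 etaE8_7) 23 (dec8 permE8_7 23) (etaOf etaE8_7 23) = true := by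
  decide +kernel

theorem conjE8_7_24 : conjCheck chevE8 (pMonoCol chevE8 7 permE8_7 etaE8_7) 24 (dec8 permE8_7 24) (etaOf etaE8_7 24) = true := by
  decide +kernel

theorem conjE8_7_25 : conjCheck chevE8 (pMonoCol chevE8 7 permE8_7 etaE8_7) 25 (dec8 permE8_7 25) (etaOf etaE8_7 25) = true := by
  decide +kernel

theorem conjE8_7_26 : conjCheck chevE8 (pMonoCol chevE8 7 permE8_7 etaE8_7) 26 (dec8 permE8_7 26) (etaOf etaE8_7 26) = true := by
  decide +kernel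

theorem conjE8_7_27 : conjCheck chevE8 (pMonoCol chevE8 7 permE8_7 etaE8_7) 27 (dec8 permE8_7 27) (etaOf etaE8_7 27) = true := by
  decide +kernel

theorem conjE8_7_28 : conjCheck chevE8 (pMonoCol chevE8 7 permE8_7 etaE8_7) 28 (dec8 permE8_7 28) (etaOf etaE8_7 28) = true := by
  decide +kernel

theorem conjE8_7_29 : conjCheck chevE8 (pMonoCol chevE8 7 permE8_7 etaE8_7) 29 (dec8 permE8_7 29) (etaOf etaE8_7 29) = true := by
  decide +kernel

theorem conjE8_7_from0 (s : ℕ) (h1 : 0 ≤ s) (h2 : s < 30) : conjCheck chevE8 (pMonoCol chevE8 7 permE8_7 etaE8_7) s (dec8 permE8_7 s) (etaOf etaE8_7 s) = true := by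
  have h : s = 0 ∨ s = 1 ∨ s = 2 ∨ s = 3 ∨ s = 4 ∨ s = 5 ∨ s = 6 ∨ s = 7 ∨ s = 8 ∨ s = 9 ∨ s = 10 ∨ s = 11 ∨ s = 12 ∨ s = 13 ∨ s = 14 ∨ s = 15 ∨ s = 16 ∨ s = 17 ∨ s = 18 ∨ s = 19 ∨ s = 20 ∨ s = 21 ∨ s = 22 ∨ s = 23 ∨ s = 24 ∨ s = 25 ∨ s = 26 ∨ s = 27 ∨ s = 28 ∨ s = 29 := by omega
  rcases h with rfl | rfl | rfl | rfl | rfl | rfl | rfl | rfl | rfl | rfl | rfl | rfl | rfl | rfl | rfl | rfl | rfl | rfl | rfl | rfl | rfl | rfl | rfl | rfl | rfl | rfl | rfl | rfl | rfl | rfl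
  exacts [conjE8_7_0, conjE8_7_1, conjE8_7_2, conjE8_7_3, conjE8_7_4, conjE8_7_5, conjE8_7_6, conjE8_7_7, conjE8_7_8, conjE8_7_9, conjE8_7_10, conjE8_7_11, conjE8_7_12, conjE8_7_13, conjE8_7_14, conjE8_7_15, conjE8_7_16, conjE8_7_17, conjE8_7_18, conjE8_7_19, conjE8_7_20, conjE8_7_21, conjE8_7_22, conjE8_7_23, conjE8_7_24, conjE8_7_25, conjE8_7_26, conjE8_7_27, conjE8_7_28, conjE8_7_29]

theorem conjE8_7_30 : conjCheck chevE8 (pMonoCol chevE8 7 permE8_7 etaE8_7) 30 (dec8 permE8_7 30) (etaOf etaE8_7 30) = true := by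
  decide +kernel

theorem conjE8_7_31 : conjCheck chevE8 (pMonoCol chevE8 7 permE8_7 etaE8_7) 31 (dec8 permE8_7 31) (etaOf etaE8_7 31) = true := by
  decide +kernel

theorem conjE8_7_32 : conjCheck chevE8 (pMonoCol chevE8 7 permE8_7 etaE8_7) 32 (dec8 permE8_7 32) (etaOf etaE8_7 32) = true := by
  decide +kernel

theorem conjE8_7_33 : conjCheck chevE8 (pMonoCol chevE8 7 permE8_7 etaE8_7) 33 (dec8 permE8_7 33) (etaOf etaE8_7 33) = true := by
  decide +kernel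

theorem conjE8_7_34 : conjCheck chevE8 (pMonoCol chevE8 7 permE8_7 etaE8_7) 34 (dec8 permE8_7 34) (etaOf etaE8_7 34) = true := by
  decide +kernel

theorem conjE8_7_35 : conjCheck chevE8 (pMonoCol chevE8 7 permE8_7 etaE8_7) 35 (dec8 permE8_7 35) (etaOf etaE8_7 35) = true := by
  decide +kernel

theorem conjE8_7_36 : conjCheck chevE8 (pMonoCol chevE8 7 permE8_7 etaE8_7) 36 (dec8 permE8_7 36) (etaOf etaE8_7 36) = true := by
  decide +kernel

theorem conjE8_7_37 : conjCheck chevE8 (pMonoCol chevE8 7 permE8_7 etaE8_7) 37 (dec8 permE8_7 37) (etaOf etaE8_7 37) = true := by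
  decide +kernel

theorem conjE8_7_38 : conjCheck chevE8 (pMonoCol chevE8 7 permE8_7 etaE8_7) 38 (dec8 permE8_7 38) (etaOf etaE8_7 38) = true := by
  decide +kernel

theorem conjE8_7_39 : conjCheck chevE8 (pMonoCol chevE8 7 permE8_7 etaE8_7) 39 (dec8 permE8_7 39) (etaOf etaE8_7 39) = true := by
  decide +kernel

theorem conjE8_7_40 : conjCheck chevE8 (pMonoCol chevE8 7 permE8_7 etaE8_7) 40 (dec8 permE8_7 40) (etaOf etaE8_7 40) = true := by
  decide +kernel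

theorem conjE8_7_41 : conjCheck chevE8 (pMonoCol chevE8 7 permE8_7 etaE8_7) 41 (dec8 permE8_7 41) (etaOf etaE8_7 41) = true := by
  decide +kernel

theorem conjE8_7_42 : conjCheck chevE8 (pMonoCol chevE8 7 permE8_7 etaE8_7) 42 (dec8 permE8_7 42) (etaOf etaE8_7 42) = true := by
  decide +kernel

theorem conjE8_7_43 : conjCheck chevE8 (pMonoCol chevE8 7 permE8_7 etaE8_7) 43 (dec8 permE8_7 43) (etaOf etaE8_7 43) = true := by
  decide +kernel

theorem conjE8_7_44 : conjCheck chevE8 (pMonoCol chevE8 7 permE8_7 etaE8_7) 44 (dec8 permE8_7 44) (etaOf etaE8_7 44) = true := by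
  decide +kernel

theorem conjE8_7_45 : conjCheck chevE8 (pMonoCol chevE8 7 permE8_7 etaE8_7) 45 (dec8 permE8_7 45) (etaOf etaE8_7 45) = true := by
  decide +kernel

theorem conjE8_7_46 : conjCheck chevE8 (pMonoCol chevE8 7 permE8_7 etaE8_7) 46 (dec8 permE8_7 46) (etaOf etaE8_7 46) = true := by
  decide +kernel

theorem conjE8_7_47 : conjCheck chevE8 (pMonoCol chevE8 7 permE8_7 etaE8_7) 47 (dec8 permE8_7 47) (etaOf etaE8_7 47) = true := by
  decide +kernel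

theorem conjE8_7_48 : conjCheck chevE8 (pMonoCol chevE8 7 permE8_7 etaE8_7) 48 (dec8 permE8_7 48) (etaOf etaE8_7 48) = true := by
  decide +kernel

theorem conjE8_7_49 : conjCheck chevE8 (pMonoCol chevE8 7 permE8_7 etaE8_7) 49 (dec8 permE8_7 49) (etaOf etaE8_7 49) = true := by
  decide +kernel

theorem conjE8_7_50 : conjCheck chevE8 (pMonoCol chevE8 7 permE8_7 etaE8_7) 50 (dec8 permE8_7 50) (etaOf etaE8_7 50) = true := by
  decide +kernel

theorem conjE8_7_51 : conjCheck chevE8 (pMonoCol chevE8 7 permE8_7 etaE8_7) 51 (dec8 permE8_7 51) (etaOf etaE8_7 51) = true := by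
  decide +kernel

theorem conjE8_7_52 : conjCheck chevE8 (pMonoCol chevE8 7 permE8_7 etaE8_7) 52 (dec8 permE8_7 52) (etaOf etaE8_7 52) = true := by
  decide +kernel

theorem conjE8_7_53 : conjCheck chevE8 (pMonoCol chevE8 7 permE8_7 etaE8_7) 53 (dec8 permE8_7 53) (etaOf etaE8_7 53) = true := by
  decide +kernel

theorem conjE8_7_54 : conjCheck chevE8 (pMonoCol chevE8 7 permE8_7 etaE8_7) 54 (dec8 permE8_7 54) (etaOf etaE8_7 54) = true := by
  decide +kernel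

theorem conjE8_7_55 : conjCheck chevE8 (pMonoCol chevE8 7 permE8_7 etaE8_7) 55 (dec8 permE8_7 55) (etaOf etaE8_7 55) = true := by
  decide +kernel

theorem conjE8_7_56 : conjCheck chevE8 (pMonoCol chevE8 7 permE8_7 etaE8_7) 56 (dec8 permE8_7 56) (etaOf etaE8_7 56) = true := by
  decide +kernel

theorem conjE8_7_57 : conjCheck chevE8 (pMonoCol chevE8 7 permE8_7 etaE8_7) 57 (dec8 permE8_7 57) (etaOf etaE8_7 57) = true := by
  decide +kernel

theorem conjE8_7_58 : conjCheck chevE8 (pMonoCol chevE8 7 permE8_7 etaE8_7) 58 (dec8 permE8_7 58) (etaOf etaE8_7 58) = true := by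
  decide +kernel

theorem conjE8_7_59 : conjCheck chevE8 (pMonoCol chevE8 7 permE8_7 etaE8_7) 59 (dec8 permE8_7 59) (etaOf etaE8_7 59) = true := by
  decide +kernel

theorem conjE8_7_from30 (s : ℕ) (h1 : 30 ≤ s) (h2 : s < 60) : conjCheck chevE8 (pMonoCol chevE8 7 permE8_7 etaE8_7) s (dec8 permE8_7 s) (etaOf etaE8_7 s) = true := by
  have h : s = 30 ∨ s = 31 ∨ s = 32 ∨ s = 33 ∨ s = 34 ∨ s = 35 ∨ s = 36 ∨ s = 37 ∨ s = 38 ∨ s = 39 ∨ s = 40 ∨ s = 41 ∨ s = 42 ∨ s = 43 ∨ s = 44 ∨ s = 45 ∨ s = 46 ∨ s = 47 ∨ s = 48 ∨ s = 49 ∨ s = 50 ∨ s = 51 ∨ s = 52 ∨ s = 53 ∨ s = 54 ∨ s = 55 ∨ s = 56 ∨ s = 57 ∨ s = 58 ∨ s = 59 := by omega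
  rcases h with rfl | rfl | rfl | rfl | rfl | rfl | rfl | rfl | rfl | rfl | rfl | rfl | rfl | rfl | rfl | rfl | rfl | rfl | rfl | rfl | rfl | rfl | rfl | rfl | rfl | rfl | rfl | rfl | rfl | rfl
  exacts [conjE8_7_30, conjE8_7_31, conjE8_7_32, conjE8_7_33, conjE8_7_34, conjE8_7_35, conjE8_7_36, conjE8_7_37, conjE8_7_38, conjE8_7_39, conjE8_7_40, conjE8_7_41, conjE8_7_42, conjE8_7_43, conjE8_7_44, conjE8_7_45, conjE8_7_46, conjE8_7_47, conjE8_7_48, conjE8_7_49, conjE8_7_50, conjE8_7_51, conjE8_7_52, conjE8_7_53, conjE8_7_54, conjE8_7_55, conjE8_7_56, conjE8_7_57, conjE8_7_58, conjE8_7_59]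

end Cfsg.Agent.Helper18
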