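import Cfsg.Agent.Lib.Helper18.ConjData

set_option autoImplicit false
set_option maxRecDepth 100000
set_option Elab.async false

namespace Cfsg.Agent.Helper18

open Cfsg.Lie

theorem conjE8_7_60 : conjCheck chevE8 (pMonoCol chevE8 7 permE8_7 etaE8_7) 60 (dec8 permE8_7 60) (etaOf etaE8_7 60) = true := by
  decide +kernel

theorem conjE8_7_61 : conjCheck chevE8 (pMonoCol chevE8 7 permE8_7 etaE8_7) 61 (dec8 permE8_7 61) (etaOf etaE8_7 61) = true := by
  decide +kernel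

theorem conjE8_7_62 : conjCheck chevE8 (pMonoCol chevE8 7 permE8_7 etaE8_7) 62 (dec8 permE8_7 62) (etaOf etaE8_7 62) = true := by
  decide +kernel

theorem conjE8_7_63 : conjCheck chevE8 (pMonoCol chevE8 7 permE8_7 etaE8_7) 63 (dec8 permE8_7 63) (etaOf etaE8_7 63) = true := by
  decide +kernel

theorem conjE8_7_64 : conjCheck chevE8 (pMonoCol chevE8 7 permE8_7 etaE8_7) 64 (dec8 permE8_7 64) (etaOf etaE8_7 64) = true := by
  decide +kernel

theorem conjE8_7_65 : conjCheck chevE8 (pMonoCol chevE8 7 permE8_7 etaE8_7) 65 (dec8 permE8_7 65) (etaOf etaE8_7 65) = true := by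
  decide +kernel

theorem conjE8_7_66 : conjCheck chevE8 (pMonoCol chevE8 7 permE8_7 etaE8_7) 66 (dec8 permE8_7 66) (etaOf etaE8_7 66) = true := by
  decide +kernel

theorem conjE8_7_67 : conjCheck chevE8 (pMonoCol chevE8 7 permE8_7 etaE8_7) 67 (dec8 permE8_7 67) (etaOf etaE8_7 67) = true := by
  decide +kernel

theorem conjE8_7_68 : conjCheck chevE8 (pMonoCol chevE8 7 permE8_7 etaE8_7) 68 (dec8 permE8_7 68) (etaOf etaE8_7 68) = true := by
  decide +kernel

theorem conjE8_7_69 : conjCheck chevE8 (pMonoCol chevE8 7 permE8_7 etaE8_7) 69 (dec8 permE8_7 69) (etaOf etaE8_7 69) = true := by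
  decide +kernel

theorem conjE8_7_70 : conjCheck chevE8 (pMonoCol chevE8 7 permE8_7 etaE8_7) 70 (dec8 permE8_7 70) (etaOf etaE8_7 70) = true := by
  decide +kernel

theorem conjE8_7_71 : conjCheck chevE8 (pMonoCol chevE8 7 permE8_7 etaE8_7) 71 (dec8 permE8_7 71) (etaOf etaE8_7 71) = true := by
  decide +kernel

theorem conjE8_7_72 : conjCheck chevE8 (pMonoCol chevE8 7 permE8_7 etaE8_7) 72 (dec8 permE8_7 72) (etaOf etaE8_7 72) = true := by
  decide +kernel

theorem conjE8_7_73 : conjCheck chevE8 (pMonoCol chevE8 7 permE8_7 etaE8_7) 73 (dec8 permE8_7 73) (etaOf etaE8_7 73) = true := by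
  decide +kernel

theorem conjE8_7_74 : conjCheck chevE8 (pMonoCol chevE8 7 permE8_7 etaE8_7) 74 (dec8 permE8_7 74) (etaOf etaE8_7 74) = true := by
  decide +kernel

theorem conjE8_7_75 : conjCheck chevE8 (pMonoCol chevE8 7 permE8_7 etaE8_7) 75 (dec8 permE8_7 75) (etaOf etaE8_7 75) = true := by
  decide +kernel

theorem conjE8_7_76 : conjCheck chevE8 (pMonoCol chevE8 7 permE8_7 etaE8_7) 76 (dec8 permE8_7 76) (etaOf etaE8_7 76) = true := by
  decide +kernel

theorem conjE8_7_77 : conjCheck chevE8 (pMonoCol chevE8 7 permE8_7 etaE8_7) 77 (dec8 permE8_7 77) (etaOf etaE8_7 77) = true := by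
  decide +kernel

theorem conjE8_7_78 : conjCheck chevE8 (pMonoCol chevE8 7 permE8_7 etaE8_7) 78 (dec8 permE8_7 78) (etaOf etaE8_7 78) = true := by
  decide +kernel

theorem conjE8_7_79 : conjCheck chevE8 (pMonoCol chevE8 7 permE8_7 etaE8_7) 79 (dec8 permE8_7 79) (etaOf etaE8_7 79) = true := by
  decide +kernel

theorem conjE8_7_80 : conjCheck chevE8 (pMonoCol chevE8 7 permE8_7 etaE8_7) 80 (dec8 permE8_7 80) (etaOf etaE8_7 80) = true := by
  decide +kernel

theorem conjE8_7_81 : conjCheck chevE8 (pMonoCol chevE8 7 permE8_7 etaE8_7) 81 (dec8 permE8_7 81) (etaOf etaE8_7 81) = true := by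
  decide +kernel

theorem conjE8_7_82 : conjCheck chevE8 (pMonoCol chevE8 7 permE8_7 etaE8_7) 82 (dec8 permE8_7 82) (etaOf etaE8_7 82) = true := by
  decide +kernel

theorem conjE8_7_83 : conjCheck chevE8 (pMonoCol chevE8 7 permE8_7 etaE8_7) 83 (dec8 permE8_7 83) (etaOf etaE8_7 83) = true := by
  decide +kernel

theorem conjE8_7_84 : conjCheck chevE8 (pMonoCol chevE8 7 permE8_7 etaE8_7) 84 (dec8 permE8_7 84) (etaOf etaE8_7 84) = true := by
  decide +kernel

theorem conjE8_7_85 : conjCheck chevE8 (pMonoCol chevE8 7 permE8_7 etaE8_7) 85 (dec8 permE8_7 85) (etaOf etaE8_7 85) = true := by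
  decide +kernel

theorem conjE8_7_86 : conjCheck chevE8 (pMonoCol chevE8 7 permE8_7 etaE8_7) 86 (dec8 permE8_7 86) (etaOf etaE8_7 86) = true := by
  decide +kernel

theorem conjE8_7_87 : conjCheck chevE8 (pMonoCol chevE8 7 permE8_7 etaE8_7) 87 (dec8 permE8_7 87) (etaOf etaE8_7 87) = true := by
  decide +kernel

theorem conjE8_7_88 : conjCheck chevE8 (pMonoCol chevE8 7 permE8_7 etaE8_7) 88 (dec8 permE8_7 88) (etaOf etaE8_7 88) = true := by
  decide +kernel

theorem conjE8_7_89 : conjCheck chevE8 (pMonoCol chevE8 7 permE8_7 etaE8_7) 89 (dec8 permE8_7 89) (etaOf etaE8_7 89) = true := by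
  decide +kernel

theorem conjE8_7_from60 (s : ℕ) (h1 : 60 ≤ s) (h2 : s < 90) : conjCheck chevE8 (pMonoCol chevE8 7 permE8_7 etaE8_7) s (dec8 permE8_7 s) (etaOf etaE8_7 s) = true := by
  have h : s = 60 ∨ s = 61 ∨ s = 62 ∨ s = 63 ∨ s = 64 ∨ s = 65 ∨ s = 66 ∨ s = 67 ∨ s = 68 ∨ s = 69 ∨ s = 70 ∨ s = 71 ∨ s = 72 ∨ s = 73 ∨ s = 74 ∨ s = 75 ∨ s = 76 ∨ s = 77 ∨ s = 78 ∨ s = 79 ∨ s = 80 ∨ s = 81 ∨ s = 82 ∨ s = 83 ∨ s = 84 ∨ s = 85 ∨ s = 86 ∨ s = 87 ∨ s = 88 ∨ s = 89 := by omega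
  rcases h with rfl | rfl | rfl | rfl | rfl | rfl | rfl | rfl | rfl | rfl | rfl | rfl | rfl | rfl | rfl | rfl | rfl | rfl | rfl | rfl | rfl | rfl | rfl | rfl | rfl | rfl | rfl | rfl | rfl | rfl
  exacts [conjE8_7_60, conjE8_7_61, conjE8_7_62, conjE8_7_63, conjE8_7_64, conjE8_7_65, conjE8_7_66, conjE8_7_67, conjE8_7_68, conjE8_7_69, conjE8_7_70, conjE8_7_71, conjE8_7_72, conjE8_7_73, conjE8_7_74, conjE8_7_75, conjE8_7_76, conjE8_7_77, conjE8_7_78, conjE8_7_79, conjE8_7_80, conjE8_7_81, conjE8_7_82, conjE8_7_83, conjE8_7_84, conjE8_7_85, conjE8_7_86, conjE8_7_87, conjE8_7_88, conjE8_7_89]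

theorem conjE8_7_90 : conjCheck chevE8 (pMonoCol chevE8 7 permE8_7 etaE8_7) 90 (dec8 permE8_7 90) (etaOf etaE8_7 90) = true := by
  decide +kernel

theorem conjE8_7_91 : conjCheck chevE8 (pMonoCol chevE8 7 permE8_7 etaE8_7) 91 (dec8 permE8_7 91) (etaOf etaE8_7 91) = true := by
  decide +kernel

theorem conjE8_7_92 : conjCheck chevE8 (pMonoCol chevE8 7 permE8_7 etaE8_7) 92 (dec8 permE8_7 92) (etaOf etaE8_7 92) = true := by
  decide +kernel

theorem conjE8_7_93 : conjCheck chevE8 (pMonoCol chevE8 7 permE8_7 etaE8_7) 93 (dec8 permE8_7 93) (etaOf etaE8_7 93) = true := by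
  decide +kernel

theorem conjE8_7_94 : conjCheck chevE8 (pMonoCol chevE8 7 permE8_7 etaE8_7) 94 (dec8 permE8_7 94) (etaOf etaE8_7 94) = true := by
  decide +kernel

theorem conjE8_7_95 : conjCheck chevE8 (pMonoCol chevE8 7 permE8_7 etaE8_7) 95 (dec8 permE8_7 95) (etaOf etaE8_7 95) = true := by
  decide +kernel

theorem conjE8_7_96 : conjCheck chevE8 (pMonoCol chevE8 7 permE8_7 etaE8_7) 96 (dec8 permE8_7 96) (etaOf etaE8_7 96) = true := by
  decide +kernel

theorem conjE8_7_97 : conjCheck chevE8 (pMonoCol chevE8 7 permE8_7 etaE8_7) 97 (dec8 permE8_7 97) (etaOf etaE8_7 97) = true := by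
  decide +kernel

theorem conjE8_7_98 : conjCheck chevE8 (pMonoCol chevE8 7 permE8_7 etaE8_7) 98 (dec8 permE8_7 98) (etaOf etaE8_7 98) = true := by
  decide +kernel

theorem conjE8_7_99 : conjCheck chevE8 (pMonoCol chevE8 7 permE8_7 etaE8_7) 99 (dec8 permE8_7 99) (etaOf etaE8_7 99) = true := by
  decide +kernel

theorem conjE8_7_100 : conjCheck chevE8 (pMonoCol chevE8 7 permE8_7 etaE8_7) 100 (dec8 permE8_7 100) (etaOf etaE8_7 100) = true := by
  decide +kernel

theorem conjE8_7_101 : conjCheck chevE8 (pMonoCol chevE8 7 permE8_7 etaE8_7) 101 (dec8 permE8_7 101) (etaOf etaE8_7 101) = true := by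
  decide +kernel

theorem conjE8_7_102 : conjCheck chevE8 (pMonoCol chevE8 7 permE8_7 etaE8_7) 102 (dec8 permE8_7 102) (etaOf etaE8_7 102) = true := by
  decide +kernel

theorem conjE8_7_103 : conjCheck chevE8 (pMonoCol chevE8 7 permE8_7 etaE8_7) 103 (dec8 permE8_7 103) (etaOf etaE8_7 103) = true := by
  decide +kernel

theorem conjE8_7_104 : conjCheck chevE8 (pMonoCol chevE8 7 permE8_7 etaE8_7) 104 (dec8 permE8_7 104) (etaOf etaE8_7 104) = true := by
  decide +kernel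

theorem conjE8_7_105 : conjCheck chevE8 (pMonoCol chevE8 7 permE8_7 etaE8_7) 105 (dec8 permE8_7 105) (etaOf etaE8_7 105) = true := by
  decide +kernel

theorem conjE8_7_106 : conjCheck chevE8 (pMonoCol chevE8 7 permE8_7 etaE8_7) 106 (dec8 permE8_7 106) (etaOf etaE8_7 106) = true := by
  decide +kernel

theorem conjE8_7_107 : conjCheck chevE8 (pMonoCol chevE8 7 permE8_7 etaE8_7) 107 (dec8 permE8_7 107) (etaOf etaE8_7 107) = true := by
  decide +kernel

theorem conjE8_7_108 : conjCheck chevE8 (pMonoCol chevE8 7 permE8_7 etaE8_7) 108 (dec8 permE8_7 108) (etaOf etaE8_7 108) = true := by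
  decide +kernel

theorem conjE8_7_109 : conjCheck chevE8 (pMonoCol chevE8 7 permE8_7 etaE8_7) 109 (dec8 permE8_7 109) (etaOf etaE8_7 109) = true := by
  decide +kernel

theorem conjE8_7_110 : conjCheck chevE8 (pMonoCol chevE8 7 permE8_7 etaE8_7) 110 (dec8 permE8_7 110) (etaOf etaE8_7 110) = true := by
  decide +kernel

theorem conjE8_7_111 : conjCheck chevE8 (pMonoCol chevE8 7 permE8_7 etaE8_7) 111 (dec8 permE8_7 111) (etaOf etaE8_7 111) = true := by
  decide +kernel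

theorem conjE8_7_112 : conjCheck chevE8 (pMonoCol chevE8 7 permE8_7 etaE8_7) 112 (dec8 permE8_7 112) (etaOf etaE8_7 112) = true := by
  decide +kernel

theorem conjE8_7_113 : conjCheck chevE8 (pMonoCol chevE8 7 permE8_7 etaE8_7) 113 (dec8 permE8_7 113) (etaOf etaE8_7 113) = true := by
  decide +kernel

theorem conjE8_7_114 : conjCheck chevE8 (pMonoCol chevE8 7 permE8_7 etaE8_7) 114 (dec8 permE8_7 114) (etaOf etaE8_7 114) = true := by
  decide +kernel

theorem conjE8_7_115 : conjCheck chevE8 (pMonoCol chevE8 7 permE8_7 etaE8_7) 115 (dec8 permE8_7 115) (etaOf etaE8_7 115) = true := by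
  decide +kernel

theorem conjE8_7_116 : conjCheck chevE8 (pMonoCol chevE8 7 permE8_7 etaE8_7) 116 (dec8 permE8_7 116) (etaOf etaE8_7 116) = true := by
  decide +kernel

theorem conjE8_7_117 : conjCheck chevE8 (pMonoCol chevE8 7 permE8_7 etaE8_7) 117 (dec8 permE8_7 117) (etaOf etaE8_7 117) = true := by
  decide +kernel

theorem conjE8_7_118 : conjCheck chevE8 (pMonoCol chevE8 7 permE8_7 etaE8_7) 118 (dec8 permE8_7 118) (etaOf etaE8_7 118) = true := by
  decide +kernel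

theorem conjE8_7_119 : conjCheck chevE8 (pMonoCol chevE8 7 permE8_7 etaE8_7) 119 (dec8 permE8_7 119) (etaOf etaE8_7 119) = true := by
  decide +kernel

theorem conjE8_7_from90 (s : ℕ) (h1 : 90 ≤ s) (h2 : s < 120) : conjCheck chevE8 (pMonoCol chevE8 7 permE8_7 etaE8_7) s (dec8 permE8_7 s) (etaOf etaE8_7 s) = true := by
  have h : s = 90 ∨ s = 91 ∨ s = 92 ∨ s = 93 ∨ s = 94 ∨ s = 95 ∨ s = 96 ∨ s = 97 ∨ s = 98 ∨ s = 99 ∨ s = 100 ∨ s = 101 ∨ s = 102 ∨ s = 103 ∨ s = 104 ∨ s = 105 ∨ s = 106 ∨ s = 107 ∨ s = 108 ∨ s = 109 ∨ s = 110 ∨ s = 111 ∨ s = 112 ∨ s = 113 ∨ s = 114 ∨ s = 115 ∨ s = 116 ∨ s = 117 ∨ s = 118 ∨ s = 119 := by omega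
  rcases h with rfl | rfl | rfl | rfl | rfl | rfl | rfl | rfl | rfl | rfl | rfl | rfl | rfl | rfl | rfl | rfl | rfl | rfl | rfl | rfl | rfl | rfl | rfl | rfl | rfl | rfl | rfl | rfl | rfl | rfl
  exacts [conjE8_7_90, conjE8_7_91, conjE8_7_92, conjE8_7_93, conjE8_7_94, conjE8_7_95, conjE8_7_96, conjE8_7_97, conjE8_7_98, conjE8_7_99, conjE8_7_100, conjE8_7_101, conjE8_7_102, conjE8_7_103, conjE8_7_104, conjE8_7_105, conjE8_7_106, conjE8_7_107, conjE8_7_108, conjE8_7_109, conjE8_7_110, conjE8_7_111, conjE8_7_112, conjE8_7_113, conjE8_7_114, conjE8_7_115, conjE8_7_116, conjE8_7_117, conjE8_7_118, conjE8_7_119]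

end Cfsg.Agent.Helper18
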