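import Cfsg.Agent.Lib.Helper18.ConjData

set_option autoImplicit false
set_option maxRecDepth 100000

namespace Cfsg.Agent.Helper18

open Cfsg.Lie

theorem conjE8_7_120 : conjCheck chevE8 (pMonoCol chevE8 7 permE8_7 etaE8_7) 120 (dec8 permE8_7 120) (etaOf etaE8_7 120) = true := by
  decide +kernel

theorem conjE8_7_121 : conjCheck chevE8 (pMonoCol chevE8 7 permE8_7 etaE8_7) 121 (dec8 permE8_7 121) (etaOf etaE8_7 121) = true := by
  decide +kernel

theorem conjE8_7_122 : conjCheck chevE8 (pMonoCol chevE8 7 permE8_7 etaE8_7) 122 (dec8 permE8_7 122) (etaOf etaE8_7 122) = true := by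
  decide +kernel

theorem conjE8_7_123 : conjCheck chevE8 (pMonoCol chevE8 7 permE8_7 etaE8_7) 123 (dec8 permE8_7 123) (etaOf etaE8_7 123) = true := by
  decide +kernel

theorem conjE8_7_124 : conjCheck chevE8 (pMonoCol chevE8 7 permE8_7 etaE8_7) 124 (dec8 permE8_7 124) (etaOf etaE8_7 124) = true := by
  decide +kernel

theorem conjE8_7_125 : conjCheck chevE8 (pMonoCol chevE8 7 permE8_7 etaE8_7) 125 (dec8 permE8_7 125) (etaOf etaE8_7 125) = true := by
  decide +kernel

theorem conjE8_7_126 : conjCheck chevE8 (pMonoCol chevE8 7 permE8_7 etaE8_7) 126 (dec8 permE8_7 126) (etaOf etaE8_7 126) = true := by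
  decide +kernel

theorem conjE8_7_127 : conjCheck chevE8 (pMonoCol chevE8 7 permE8_7 etaE8_7) 127 (dec8 permE8_7 127) (etaOf etaE8_7 127) = true := by
  decide +kernel

theorem conjE8_7_128 : conjCheck chevE8 (pMonoCol chevE8 7 permE8_7 etaE8_7) 128 (dec8 permE8_7 128) (etaOf etaE8_7 128) = true := by
  decide +kernel

theorem conjE8_7_129 : conjCheck chevE8 (pMonoCol chevE8 7 permE8_7 etaE8_7) 129 (dec8 permE8_7 129) (etaOf etaE8_7 129) = true := by
  decide +kernel

theorem conjE8_7_130 : conjCheck chevE8 (pMonoCol chevE8 7 permE8_7 etaE8_7) 130 (dec8 permE8_7 130) (etaOf etaE8_7 130) = true := by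
  decide +kernel

theorem conjE8_7_131 : conjCheck chevE8 (pMonoCol chevE8 7 permE8_7 etaE8_7) 131 (dec8 permE8_7 131) (etaOf etaE8_7 131) = true := by
  decide +kernel

theorem conjE8_7_132 : conjCheck chevE8 (pMonoCol chevE8 7 permE8_7 etaE8_7) 132 (dec8 permE8_7 132) (etaOf etaE8_7 132) = true := by
  decide +kernel

theorem conjE8_7_133 : conjCheck chevE8 (pMonoCol chevE8 7 permE8_7 etaE8_7) 133 (dec8 permE8_7 133) (etaOf etaE8_7 133) = true := by
  decide +kernel

theorem conjE8_7_134 : conjCheck chevE8 (pMonoCol chevE8 7 permE8_7 etaE8_7) 134 (dec8 permE8_7 134) (etaOf etaE8_7 134) = true := by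
  decide +kernel

theorem conjE8_7_135 : conjCheck chevE8 (pMonoCol chevE8 7 permE8_7 etaE8_7) 135 (dec8 permE8_7 135) (etaOf etaE8_7 135) = true := by
  decide +kernel

theorem conjE8_7_136 : conjCheck chevE8 (pMonoCol chevE8 7 permE8_7 etaE8_7) 136 (dec8 permE8_7 136) (etaOf etaE8_7 136) = true := by
  decide +kernel

theorem conjE8_7_137 : conjCheck chevE8 (pMonoCol chevE8 7 permE8_7 etaE8_7) 137 (dec8 permE8_7 137) (etaOf etaE8_7 137) = true := by
  decide +kernel

theorem conjE8_7_138 : conjCheck chevE8 (pMonoCol chevE8 7 permE8_7 etaE8_7) 138 (dec8 permE8_7 138) (etaOf etaE8_7 138) = true := by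
  decide +kernel

theorem conjE8_7_139 : conjCheck chevE8 (pMonoCol chevE8 7 permE8_7 etaE8_7) 139 (dec8 permE8_7 139) (etaOf etaE8_7 139) = true := by
  decide +kernel

theorem conjE8_7_140 : conjCheck chevE8 (pMonoCol chevE8 7 permE8_7 etaE8_7) 140 (dec8 permE8_7 140) (etaOf etaE8_7 140) = true := by
  decide +kernel

theorem conjE8_7_141 : conjCheck chevE8 (pMonoCol chevE8 7 permE8_7 etaE8_7) 141 (dec8 permE8_7 141) (etaOf etaE8_7 141) = true := by
  decide +kernel

theorem conjE8_7_142 : conjCheck chevE8 (pMonoCol chevE8 7 permE8_7 etaE8_7) 142 (dec8 permE8_7 142) (etaOf etaE8_7 142) = true := by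
  decide +kernel

theorem conjE8_7_143 : conjCheck chevE8 (pMonoCol chevE8 7 permE8_7 etaE8_7) 143 (dec8 permE8_7 143) (etaOf etaE8_7 143) = true := by
  decide +kernel

theorem conjE8_7_144 : conjCheck chevE8 (pMonoCol chevE8 7 permE8_7 etaE8_7) 144 (dec8 permE8_7 144) (etaOf etaE8_7 144) = true := by
  decide +kernel

theorem conjE8_7_145 : conjCheck chevE8 (pMonoCol chevE8 7 permE8_7 etaE8_7) 145 (dec8 permE8_7 145) (etaOf etaE8_7 145) = true := by
  decide +kernel

theorem conjE8_7_146 : conjCheck chevE8 (pMonoCol chevE8 7 permE8_7 etaE8_7) 146 (dec8 permE8_7 146) (etaOf etaE8_7 146) = true := by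
  decide +kernel

theorem conjE8_7_147 : conjCheck chevE8 (pMonoCol chevE8 7 permE8_7 etaE8_7) 147 (dec8 permE8_7 147) (etaOf etaE8_7 147) = true := by
  decide +kernel

theorem conjE8_7_148 : conjCheck chevE8 (pMonoCol chevE8 7 permE8_7 etaE8_7) 148 (dec8 permE8_7 148) (etaOf etaE8_7 148) = true := by
  decide +kernel

theorem conjE8_7_149 : conjCheck chevE8 (pMonoCol chevE8 7 permE8_7 etaE8_7) 149 (dec8 permE8_7 149) (etaOf etaE8_7 149) = true := by
  decide +kernel

theorem conjE8_7_from120 (s : ℕ) (h1 : 120 ≤ s) (h2 : s < 150) : conjCheck chevE8 (pMonoCol chevE8 7 permE8_7 etaE8_7) s (dec8 permE8_7 s) (etaOf etaE8_7 s) = true := by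
  have h : s = 120 ∨ s = 121 ∨ s = 122 ∨ s = 123 ∨ s = 124 ∨ s = 125 ∨ s = 126 ∨ s = 127 ∨ s = 128 ∨ s = 129 ∨ s = 130 ∨ s = 131 ∨ s = 132 ∨ s = 133 ∨ s = 134 ∨ s = 135 ∨ s = 136 ∨ s = 137 ∨ s = 138 ∨ s = 139 ∨ s = 140 ∨ s = 141 ∨ s = 142 ∨ s = 143 ∨ s = 144 ∨ s = 145 ∨ s = 146 ∨ s = 147 ∨ s = 148 ∨ s = 149 := by omega
  rcases h with rfl | rfl | rfl | rfl | rfl | rfl | rfl | rfl | rfl | rfl | rfl | rfl | rfl | rfl | rfl | rfl | rfl | rfl | rfl | rfl | rfl | rfl | rfl | rfl | rfl | rfl | rfl | rfl | rfl | rfl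
  exacts [conjE8_7_120, conjE8_7_121, conjE8_7_122, conjE8_7_123, conjE8_7_124, conjE8_7_125, conjE8_7_126, conjE8_7_127, conjE8_7_128, conjE8_7_129, conjE8_7_130, conjE8_7_131, conjE8_7_132, conjE8_7_133, conjE8_7_134, conjE8_7_135, conjE8_7_136, conjE8_7_137, conjE8_7_138, conjE8_7_139, conjE8_7_140, conjE8_7_141, conjE8_7_142, conjE8_7_143, conjE8_7_144, conjE8_7_145, conjE8_7_146, conjE8_7_147, conjE8_7_148, conjE8_7_149]

theorem conjE8_7_150 : conjCheck chevE8 (pMonoCol chevE8 7 permE8_7 etaE8_7) 150 (dec8 permE8_7 150) (etaOf etaE8_7 150) = true := by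
  decide +kernel

theorem conjE8_7_151 : conjCheck chevE8 (pMonoCol chevE8 7 permE8_7 etaE8_7) 151 (dec8 permE8_7 151) (etaOf etaE8_7 151) = true := by
  decide +kernel

theorem conjE8_7_152 : conjCheck chevE8 (pMonoCol chevE8 7 permE8_7 etaE8_7) 152 (dec8 permE8_7 152) (etaOf etaE8_7 152) = true := by
  decide +kernel

theorem conjE8_7_153 : conjCheck chevE8 (pMonoCol chevE8 7 permE8_7 etaE8_7) 153 (dec8 permE8_7 153) (etaOf etaE8_7 153) = true := by
  decide +kernel

theorem conjE8_7_154 : conjCheck chevE8 (pMonoCol chevE8 7 permE8_7 etaE8_7) 154 (dec8 permE8_7 154) (etaOf etaE8_7 154) = true := by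
  decide +kernel

theorem conjE8_7_155 : conjCheck chevE8 (pMonoCol chevE8 7 permE8_7 etaE8_7) 155 (dec8 permE8_7 155) (etaOf etaE8_7 155) = true := by
  decide +kernel

theorem conjE8_7_156 : conjCheck chevE8 (pMonoCol chevE8 7 permE8_7 etaE8_7) 156 (dec8 permE8_7 156) (etaOf etaE8_7 156) = true := by
  decide +kernel

theorem conjE8_7_157 : conjCheck chevE8 (pMonoCol chevE8 7 permE8_7 etaE8_7) 157 (dec8 permE8_7 157) (etaOf etaE8_7 157) = true := by
  decide +kernel

theorem conjE8_7_158 : conjCheck chevE8 (pMonoCol chevE8 7 permE8_7 etaE8_7) 158 (dec8 permE8_7 158) (etaOf etaE8_7 158) = true := by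
  decide +kernel

theorem conjE8_7_159 : conjCheck chevE8 (pMonoCol chevE8 7 permE8_7 etaE8_7) 159 (dec8 permE8_7 159) (etaOf etaE8_7 159) = true := by
  decide +kernel

theorem conjE8_7_160 : conjCheck chevE8 (pMonoCol chevE8 7 permE8_7 etaE8_7) 160 (dec8 permE8_7 160) (etaOf etaE8_7 160) = true := by
  decide +kernel

theorem conjE8_7_161 : conjCheck chevE8 (pMonoCol chevE8 7 permE8_7 etaE8_7) 161 (dec8 permE8_7 161) (etaOf etaE8_7 161) = true := by
  decide +kernel

theorem conjE8_7_162 : conjCheck chevE8 (pMonoCol chevE8 7 permE8_7 etaE8_7) 162 (dec8 permE8_7 162) (etaOf etaE8_7 162) = true := by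
  decide +kernel

theorem conjE8_7_163 : conjCheck chevE8 (pMonoCol chevE8 7 permE8_7 etaE8_7) 163 (dec8 permE8_7 163) (etaOf etaE8_7 163) = true := by
  decide +kernel

theorem conjE8_7_164 : conjCheck chevE8 (pMonoCol chevE8 7 permE8_7 etaE8_7) 164 (dec8 permE8_7 164) (etaOf etaE8_7 164) = true := by
  decide +kernel

theorem conjE8_7_165 : conjCheck chevE8 (pMonoCol chevE8 7 permE8_7 etaE8_7) 165 (dec8 permE8_7 165) (etaOf etaE8_7 165) = true := by
  decide +kernel

theorem conjE8_7_166 : conjCheck chevE8 (pMonoCol chevE8 7 permE8_7 etaE8_7) 166 (dec8 permE8_7 166) (etaOf etaE8_7 166) = true := by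
  decide +kernel

theorem conjE8_7_167 : conjCheck chevE8 (pMonoCol chevE8 7 permE8_7 etaE8_7) 167 (dec8 permE8_7 167) (etaOf etaE8_7 167) = true := by
  decide +kernel

theorem conjE8_7_168 : conjCheck chevE8 (pMonoCol chevE8 7 permE8_7 etaE8_7) 168 (dec8 permE8_7 168) (etaOf etaE8_7 168) = true := by
  decide +kernel

theorem conjE8_7_169 : conjCheck chevE8 (pMonoCol chevE8 7 permE8_7 etaE8_7) 169 (dec8 permE8_7 169) (etaOf etaE8_7 169) = true := by
  decide +kernel

theorem conjE8_7_170 : conjCheck chevE8 (pMonoCol chevE8 7 permE8_7 etaE8_7) 170 (dec8 permE8_7 170) (etaOf etaE8_7 170) = true := by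
  decide +kernel

theorem conjE8_7_171 : conjCheck chevE8 (pMonoCol chevE8 7 permE8_7 etaE8_7) 171 (dec8 permE8_7 171) (etaOf etaE8_7 171) = true := by
  decide +kernel

theorem conjE8_7_172 : conjCheck chevE8 (pMonoCol chevE8 7 permE8_7 etaE8_7) 172 (dec8 permE8_7 172) (etaOf etaE8_7 172) = true := by
  decide +kernel

theorem conjE8_7_173 : conjCheck chevE8 (pMonoCol chevE8 7 permE8_7 etaE8_7) 173 (dec8 permE8_7 173) (etaOf etaE8_7 173) = true := by
  decide +kernel

theorem conjE8_7_174 : conjCheck chevE8 (pMonoCol chevE8 7 permE8_7 etaE8_7) 174 (dec8 permE8_7 174) (etaOf etaE8_7 174) = true := by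
  decide +kernel

theorem conjE8_7_175 : conjCheck chevE8 (pMonoCol chevE8 7 permE8_7 etaE8_7) 175 (dec8 permE8_7 175) (etaOf etaE8_7 175) = true := by
  decide +kernel

theorem conjE8_7_176 : conjCheck chevE8 (pMonoCol chevE8 7 permE8_7 etaE8_7) 176 (dec8 permE8_7 176) (etaOf etaE8_7 176) = true := by
  decide +kernel

theorem conjE8_7_177 : conjCheck chevE8 (pMonoCol chevE8 7 permE8_7 etaE8_7) 177 (dec8 permE8_7 177) (etaOf etaE8_7 177) = true := by
  decide +kernel

theorem conjE8_7_178 : conjCheck chevE8 (pMonoCol chevE8 7 permE8_7 etaE8_7) 178 (dec8 permE8_7 178) (etaOf etaE8_7 178) = true := by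
  decide +kernel

theorem conjE8_7_179 : conjCheck chevE8 (pMonoCol chevE8 7 permE8_7 etaE8_7) 179 (dec8 permE8_7 179) (etaOf etaE8_7 179) = true := by
  decide +kernel

theorem conjE8_7_from150 (s : ℕ) (h1 : 150 ≤ s) (h2 : s < 180) : conjCheck chevE8 (pMonoCol chevE8 7 permE8_7 etaE8_7) s (dec8 permE8_7 s) (etaOf etaE8_7 s) = true := by
  have h : s = 150 ∨ s = 151 ∨ s = 152 ∨ s = 153 ∨ s = 154 ∨ s = 155 ∨ s = 156 ∨ s = 157 ∨ s = 158 ∨ s = 159 ∨ s = 160 ∨ s = 161 ∨ s = 162 ∨ s = 163 ∨ s = 164 ∨ s = 165 ∨ s = 166 ∨ s = 167 ∨ s = 168 ∨ s = 169 ∨ s = 170 ∨ s = 171 ∨ s = 172 ∨ s = 173 ∨ s = 174 ∨ s = 175 ∨ s = 176 ∨ s = 177 ∨ s = 178 ∨ s = 179 := by omega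
  rcases h with rfl | rfl | rfl | rfl | rfl | rfl | rfl | rfl | rfl | rfl | rfl | rfl | rfl | rfl | rfl | rfl | rfl | rfl | rfl | rfl | rfl | rfl | rfl | rfl | rfl | rfl | rfl | rfl | rfl | rfl
  exacts [conjE8_7_150, conjE8_7_151, conjE8_7_152, conjE8_7_153, conjE8_7_154, conjE8_7_155, conjE8_7_156, conjE8_7_157, conjE8_7_158, conjE8_7_159, conjE8_7_160, conjE8_7_161, conjE8_7_162, conjE8_7_163, conjE8_7_164, conjE8_7_165, conjE8_7_166, conjE8_7_167, conjE8_7_168, conjE8_7_169, conjE8_7_170, conjE8_7_171, conjE8_7_172, conjE8_7_173, conjE8_7_174, conjE8_7_175, conjE8_7_176, conjE8_7_177, conjE8_7_178, conjE8_7_179]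

end Cfsg.Agent.Helper18
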