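import Cfsg.Agent.Lib.Helper18.ConjData

set_option autoImplicit false
set_option maxRecDepth 100000

namespace Cfsg.Agent.Helper18

open Cfsg.Lie

theorem conjE8_7_180 : conjCheck chevE8 (pMonoCol chevE8 7 permE8_7 etaE8_7) 180 (dec8 permE8_7 180) (etaOf etaE8_7 180) = true := by
  decide +kernel

theorem conjE8_7_181 : conjCheck chevE8 (pMonoCol chevE8 7 permE8_7 etaE8_7) 181 (dec8 permE8_7 181) (etaOf etaE8_7 181) = true := by
  decide +kernel

theorem conjE8_7_182 : conjCheck chevE8 (pMonoCol chevE8 7 permE8_7 etaE8_7) 182 (dec8 permE8_7 182) (etaOf etaE8_7 182) = true := by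
  decide +kernel

theorem conjE8_7_183 : conjCheck chevE8 (pMonoCol chevE8 7 permE8_7 etaE8_7) 183 (dec8 permE8_7 183) (etaOf etaE8_7 183) = true := by
  decide +kernel

theorem conjE8_7_184 : conjCheck chevE8 (pMonoCol chevE8 7 permE8_7 etaE8_7) 184 (dec8 permE8_7 184) (etaOf etaE8_7 184) = true := by
  decide +kernel

theorem conjE8_7_185 : conjCheck chevE8 (pMonoCol chevE8 7 permE8_7 etaE8_7) 185 (dec8 permE8_7 185) (etaOf etaE8_7 185) = true := by
  decide +kernel

theorem conjE8_7_186 : conjCheck chevE8 (pMonoCol chevE8 7 permE8_7 etaE8_7) 186 (dec8 permE8_7 186) (etaOf etaE8_7 186) = true := by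
  decide +kernel

theorem conjE8_7_187 : conjCheck chevE8 (pMonoCol chevE8 7 permE8_7 etaE8_7) 187 (dec8 permE8_7 187) (etaOf etaE8_7 187) = true := by
  decide +kernel

theorem conjE8_7_188 : conjCheck chevE8 (pMonoCol chevE8 7 permE8_7 etaE8_7) 188 (dec8 permE8_7 188) (etaOf etaE8_7 188) = true := by
  decide +kernel

theorem conjE8_7_189 : conjCheck chevE8 (pMonoCol chevE8 7 permE8_7 etaE8_7) 189 (dec8 permE8_7 189) (etaOf etaE8_7 189) = true := by
  decide +kernel

theorem conjE8_7_190 : conjCheck chevE8 (pMonoCol chevE8 7 permE8_7 etaE8_7) 190 (dec8 permE8_7 190) (etaOf etaE8_7 190) = true := by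
  decide +kernel

theorem conjE8_7_191 : conjCheck chevE8 (pMonoCol chevE8 7 permE8_7 etaE8_7) 191 (dec8 permE8_7 191) (etaOf etaE8_7 191) = true := by
  decide +kernel

theorem conjE8_7_192 : conjCheck chevE8 (pMonoCol chevE8 7 permE8_7 etaE8_7) 192 (dec8 permE8_7 192) (etaOf etaE8_7 192) = true := by
  decide +kernel

theorem conjE8_7_193 : conjCheck chevE8 (pMonoCol chevE8 7 permE8_7 etaE8_7) 193 (dec8 permE8_7 193) (etaOf etaE8_7 193) = true := by
  decide +kernel

theorem conjE8_7_194 : conjCheck chevE8 (pMonoCol chevE8 7 permE8_7 etaE8_7) 194 (dec8 permE8_7 194) (etaOf etaE8_7 194) = true := by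
  decide +kernel

theorem conjE8_7_195 : conjCheck chevE8 (pMonoCol chevE8 7 permE8_7 etaE8_7) 195 (dec8 permE8_7 195) (etaOf etaE8_7 195) = true := by
  decide +kernel

theorem conjE8_7_196 : conjCheck chevE8 (pMonoCol chevE8 7 permE8_7 etaE8_7) 196 (dec8 permE8_7 196) (etaOf etaE8_7 196) = true := by
  decide +kernel

theorem conjE8_7_197 : conjCheck chevE8 (pMonoCol chevE8 7 permE8_7 etaE8_7) 197 (dec8 permE8_7 197) (etaOf etaE8_7 197) = true := by
  decide +kernel

theorem conjE8_7_198 : conjCheck chevE8 (pMonoCol chevE8 7 permE8_7 etaE8_7) 198 (dec8 permE8_7 198) (etaOf etaE8_7 198) = true := by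
  decide +kernel

theorem conjE8_7_199 : conjCheck chevE8 (pMonoCol chevE8 7 permE8_7 etaE8_7) 199 (dec8 permE8_7 199) (etaOf etaE8_7 199) = true := by
  decide +kernel

theorem conjE8_7_200 : conjCheck chevE8 (pMonoCol chevE8 7 permE8_7 etaE8_7) 200 (dec8 permE8_7 200) (etaOf etaE8_7 200) = true := by
  decide +kernel

theorem conjE8_7_201 : conjCheck chevE8 (pMonoCol chevE8 7 permE8_7 etaE8_7) 201 (dec8 permE8_7 201) (etaOf etaE8_7 201) = true := by
  decide +kernel

theorem conjE8_7_202 : conjCheck chevE8 (pMonoCol chevE8 7 permE8_7 etaE8_7) 202 (dec8 permE8_7 202) (etaOf etaE8_7 202) = true := by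
  decide +kernel

theorem conjE8_7_203 : conjCheck chevE8 (pMonoCol chevE8 7 permE8_7 etaE8_7) 203 (dec8 permE8_7 203) (etaOf etaE8_7 203) = true := by
  decide +kernel

theorem conjE8_7_204 : conjCheck chevE8 (pMonoCol chevE8 7 permE8_7 etaE8_7) 204 (dec8 permE8_7 204) (etaOf etaE8_7 204) = true := by
  decide +kernel

theorem conjE8_7_205 : conjCheck chevE8 (pMonoCol chevE8 7 permE8_7 etaE8_7) 205 (dec8 permE8_7 205) (etaOf etaE8_7 205) = true := by
  decide +kernel

theorem conjE8_7_206 : conjCheck chevE8 (pMonoCol chevE8 7 permE8_7 etaE8_7) 206 (dec8 permE8_7 206) (etaOf etaE8_7 206) = true := by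
  decide +kernel

theorem conjE8_7_207 : conjCheck chevE8 (pMonoCol chevE8 7 permE8_7 etaE8_7) 207 (dec8 permE8_7 207) (etaOf etaE8_7 207) = true := by
  decide +kernel

theorem conjE8_7_208 : conjCheck chevE8 (pMonoCol chevE8 7 permE8_7 etaE8_7) 208 (dec8 permE8_7 208) (etaOf etaE8_7 208) = true := by
  decide +kernel

theorem conjE8_7_209 : conjCheck chevE8 (pMonoCol chevE8 7 permE8_7 etaE8_7) 209 (dec8 permE8_7 209) (etaOf etaE8_7 209) = true := by
  decide +kernel

theorem conjE8_7_from180 (s : ℕ) (h1 : 180 ≤ s) (h2 : s < 210) : conjCheck chevE8 (pMonoCol chevE8 7 permE8_7 etaE8_7) s (dec8 permE8_7 s) (etaOf etaE8_7 s) = true := by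
  have h : s = 180 ∨ s = 181 ∨ s = 182 ∨ s = 183 ∨ s = 184 ∨ s = 185 ∨ s = 186 ∨ s = 187 ∨ s = 188 ∨ s = 189 ∨ s = 190 ∨ s = 191 ∨ s = 192 ∨ s = 193 ∨ s = 194 ∨ s = 195 ∨ s = 196 ∨ s = 197 ∨ s = 198 ∨ s = 199 ∨ s = 200 ∨ s = 201 ∨ s = 202 ∨ s = 203 ∨ s = 204 ∨ s = 205 ∨ s = 206 ∨ s = 207 ∨ s = 208 ∨ s = 209 := by omega
  rcases h with rfl | rfl | rfl | rfl | rfl | rfl | rfl | rfl | rfl | rfl | rfl | rfl | rfl | rfl | rfl | rfl | rfl | rfl | rfl | rfl | rfl | rfl | rfl | rfl | rfl | rfl | rfl | rfl | rfl | rfl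
  exacts [conjE8_7_180, conjE8_7_181, conjE8_7_182, conjE8_7_183, conjE8_7_184, conjE8_7_185, conjE8_7_186, conjE8_7_187, conjE8_7_188, conjE8_7_189, conjE8_7_190, conjE8_7_191, conjE8_7_192, conjE8_7_193, conjE8_7_194, conjE8_7_195, conjE8_7_196, conjE8_7_197, conjE8_7_198, conjE8_7_199, conjE8_7_200, conjE8_7_201, conjE8_7_202, conjE8_7_203, conjE8_7_204, conjE8_7_205, conjE8_7_206, conjE8_7_207, conjE8_7_208, conjE8_7_209]

theorem conjE8_7_210 : conjCheck chevE8 (pMonoCol chevE8 7 permE8_7 etaE8_7) 210 (dec8 permE8_7 210) (etaOf etaE8_7 210) = true := by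
  decide +kernel

theorem conjE8_7_211 : conjCheck chevE8 (pMonoCol chevE8 7 permE8_7 etaE8_7) 211 (dec8 permE8_7 211) (etaOf etaE8_7 211) = true := by
  decide +kernel

theorem conjE8_7_212 : conjCheck chevE8 (pMonoCol chevE8 7 permE8_7 etaE8_7) 212 (dec8 permE8_7 212) (etaOf etaE8_7 212) = true := by
  decide +kernel

theorem conjE8_7_213 : conjCheck chevE8 (pMonoCol chevE8 7 permE8_7 etaE8_7) 213 (dec8 permE8_7 213) (etaOf etaE8_7 213) = true := by
  decide +kernel

theorem conjE8_7_214 : conjCheck chevE8 (pMonoCol chevE8 7 permE8_7 etaE8_7) 214 (dec8 permE8_7 214) (etaOf etaE8_7 214) = true := by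
  decide +kernel

theorem conjE8_7_215 : conjCheck chevE8 (pMonoCol chevE8 7 permE8_7 etaE8_7) 215 (dec8 permE8_7 215) (etaOf etaE8_7 215) = true := by
  decide +kernel

theorem conjE8_7_216 : conjCheck chevE8 (pMonoCol chevE8 7 permE8_7 etaE8_7) 216 (dec8 permE8_7 216) (etaOf etaE8_7 216) = true := by
  decide +kernel

theorem conjE8_7_217 : conjCheck chevE8 (pMonoCol chevE8 7 permE8_7 etaE8_7) 217 (dec8 permE8_7 217) (etaOf etaE8_7 217) = true := by
  decide +kernel

theorem conjE8_7_218 : conjCheck chevE8 (pMonoCol chevE8 7 permE8_7 etaE8_7) 218 (dec8 permE8_7 218) (etaOf etaE8_7 218) = true := by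
  decide +kernel

theorem conjE8_7_219 : conjCheck chevE8 (pMonoCol chevE8 7 permE8_7 etaE8_7) 219 (dec8 permE8_7 219) (etaOf etaE8_7 219) = true := by
  decide +kernel

theorem conjE8_7_220 : conjCheck chevE8 (pMonoCol chevE8 7 permE8_7 etaE8_7) 220 (dec8 permE8_7 220) (etaOf etaE8_7 220) = true := by
  decide +kernel

theorem conjE8_7_221 : conjCheck chevE8 (pMonoCol chevE8 7 permE8_7 etaE8_7) 221 (dec8 permE8_7 221) (etaOf etaE8_7 221) = true := by
  decide +kernel

theorem conjE8_7_222 : conjCheck chevE8 (pMonoCol chevE8 7 permE8_7 etaE8_7) 222 (dec8 permE8_7 222) (etaOf etaE8_7 222) = true := by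
  decide +kernel

theorem conjE8_7_223 : conjCheck chevE8 (pMonoCol chevE8 7 permE8_7 etaE8_7) 223 (dec8 permE8_7 223) (etaOf etaE8_7 223) = true := by
  decide +kernel

theorem conjE8_7_224 : conjCheck chevE8 (pMonoCol chevE8 7 permE8_7 etaE8_7) 224 (dec8 permE8_7 224) (etaOf etaE8_7 224) = true := by
  decide +kernel

theorem conjE8_7_225 : conjCheck chevE8 (pMonoCol chevE8 7 permE8_7 etaE8_7) 225 (dec8 permE8_7 225) (etaOf etaE8_7 225) = true := by
  decide +kernel

theorem conjE8_7_226 : conjCheck chevE8 (pMonoCol chevE8 7 permE8_7 etaE8_7) 226 (dec8 permE8_7 226) (etaOf etaE8_7 226) = true := by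
  decide +kernel

theorem conjE8_7_227 : conjCheck chevE8 (pMonoCol chevE8 7 permE8_7 etaE8_7) 227 (dec8 permE8_7 227) (etaOf etaE8_7 227) = true := by
  decide +kernel

theorem conjE8_7_228 : conjCheck chevE8 (pMonoCol chevE8 7 permE8_7 etaE8_7) 228 (dec8 permE8_7 228) (etaOf etaE8_7 228) = true := by
  decide +kernel

theorem conjE8_7_229 : conjCheck chevE8 (pMonoCol chevE8 7 permE8_7 etaE8_7) 229 (dec8 permE8_7 229) (etaOf etaE8_7 229) = true := by
  decide +kernel

theorem conjE8_7_230 : conjCheck chevE8 (pMonoCol chevE8 7 permE8_7 etaE8_7) 230 (dec8 permE8_7 230) (etaOf etaE8_7 230) = true := by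
  decide +kernel

theorem conjE8_7_231 : conjCheck chevE8 (pMonoCol chevE8 7 permE8_7 etaE8_7) 231 (dec8 permE8_7 231) (etaOf etaE8_7 231) = true := by
  decide +kernel

theorem conjE8_7_232 : conjCheck chevE8 (pMonoCol chevE8 7 permE8_7 etaE8_7) 232 (dec8 permE8_7 232) (etaOf etaE8_7 232) = true := by
  decide +kernel

theorem conjE8_7_233 : conjCheck chevE8 (pMonoCol chevE8 7 permE8_7 etaE8_7) 233 (dec8 permE8_7 233) (etaOf etaE8_7 233) = true := by
  decide +kernel

theorem conjE8_7_234 : conjCheck chevE8 (pMonoCol chevE8 7 permE8_7 etaE8_7) 234 (dec8 permE8_7 234) (etaOf etaE8_7 234) = true := by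
  decide +kernel

theorem conjE8_7_235 : conjCheck chevE8 (pMonoCol chevE8 7 permE8_7 etaE8_7) 235 (dec8 permE8_7 235) (etaOf etaE8_7 235) = true := by
  decide +kernel

theorem conjE8_7_236 : conjCheck chevE8 (pMonoCol chevE8 7 permE8_7 etaE8_7) 236 (dec8 permE8_7 236) (etaOf etaE8_7 236) = true := by
  decide +kernel

theorem conjE8_7_237 : conjCheck chevE8 (pMonoCol chevE8 7 permE8_7 etaE8_7) 237 (dec8 permE8_7 237) (etaOf etaE8_7 237) = true := by
  decide +kernel

theorem conjE8_7_238 : conjCheck chevE8 (pMonoCol chevE8 7 permE8_7 etaE8_7) 238 (dec8 permE8_7 238) (etaOf etaE8_7 238) = true := by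
  decide +kernel

theorem conjE8_7_239 : conjCheck chevE8 (pMonoCol chevE8 7 permE8_7 etaE8_7) 239 (dec8 permE8_7 239) (etaOf etaE8_7 239) = true := by
  decide +kernel

theorem conjE8_7_from210 (s : ℕ) (h1 : 210 ≤ s) (h2 : s < 240) : conjCheck chevE8 (pMonoCol chevE8 7 permE8_7 etaE8_7) s (dec8 permE8_7 s) (etaOf etaE8_7 s) = true := by
  have h : s = 210 ∨ s = 211 ∨ s = 212 ∨ s = 213 ∨ s = 214 ∨ s = 215 ∨ s = 216 ∨ s = 217 ∨ s = 218 ∨ s = 219 ∨ s = 220 ∨ s = 221 ∨ s = 222 ∨ s = 223 ∨ s = 224 ∨ s = 225 ∨ s = 226 ∨ s = 227 ∨ s = 228 ∨ s = 229 ∨ s = 230 ∨ s = 231 ∨ s = 232 ∨ s = 233 ∨ s = 234 ∨ s = 235 ∨ s = 236 ∨ s = 237 ∨ s = 238 ∨ s = 239 := by omega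
  rcases h with rfl | rfl | rfl | rfl | rfl | rfl | rfl | rfl | rfl | rfl | rfl | rfl | rfl | rfl | rfl | rfl | rfl | rfl | rfl | rfl | rfl | rfl | rfl | rfl | rfl | rfl | rfl | rfl | rfl | rfl
  exacts [conjE8_7_210, conjE8_7_211, conjE8_7_212, conjE8_7_213, conjE8_7_214, conjE8_7_215, conjE8_7_216, conjE8_7_217, conjE8_7_218, conjE8_7_219, conjE8_7_220, conjE8_7_221, conjE8_7_222, conjE8_7_223, conjE8_7_224, conjE8_7_225, conjE8_7_226, conjE8_7_227, conjE8_7_228, conjE8_7_229, conjE8_7_230, conjE8_7_231, conjE8_7_232, conjE8_7_233, conjE8_7_234, conjE8_7_235, conjE8_7_236, conjE8_7_237, conjE8_7_238, conjE8_7_239]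

end Cfsg.Agent.Helper18
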