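import Cfsg.Agent.Lib.Helper18.ConjSmall
import Cfsg.Agent.Lib.Helper18.ConjE6_0
import Cfsg.Agent.Lib.Helper18.ConjE6_1
import Cfsg.Agent.Lib.Helper18.ConjE7_0
import Cfsg.Agent.Lib.Helper18.ConjE7_1
import Cfsg.Agent.Lib.Helper18.ConjE7_2
import Cfsg.Agent.Lib.Helper18.ConjE7_3
import Cfsg.Agent.Lib.Helper18.ConjE7_4
import Cfsg.Agent.Lib.Helper18.ConjE7_5
import Cfsg.Agent.Lib.Helper18.ConjE7_6
import Cfsg.Agent.Lib.Helper18.ConjE8_0_0
import Cfsg.Agent.Lib.Helper18.ConjE8_0_1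
import Cfsg.Agent.Lib.Helper18.ConjE8_0_2
import Cfsg.Agent.Lib.Helper18.ConjE8_0_3
import Cfsg.Agent.Lib.Helper18.ConjE8_1_0
import Cfsg.Agent.Lib.Helper18.ConjE8_1_1
import Cfsg.Agent.Lib.Helper18.ConjE8_1_2
import Cfsg.Agent.Lib.Helper18.ConjE8_1_3
import Cfsg.Agent.Lib.Helper18.ConjE8_2_0
import Cfsg.Agent.Lib.Helper18.ConjE8_2_1
import Cfsg.Agent.Lib.Helper18.ConjE8_2_2
import Cfsg.Agent.Lib.Helper18.ConjE8_2_3
import Cfsg.Agent.Lib.Helper18.ConjE8_3_0
import Cfsg.Agent.Lib.Helper18.ConjE8_3_1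
import Cfsg.Agent.Lib.Helper18.ConjE8_3_2
import Cfsg.Agent.Lib.Helper18.ConjE8_3_3
import Cfsg.Agent.Lib.Helper18.ConjE8_4_0
import Cfsg.Agent.Lib.Helper18.ConjE8_4_1
import Cfsg.Agent.Lib.Helper18.ConjE8_4_2
import Cfsg.Agent.Lib.Helper18.ConjE8_4_3
import Cfsg.Agent.Lib.Helper18.ConjE8_5_0
import Cfsg.Agent.Lib.Helper18.ConjE8_5_1
import Cfsg.Agent.Lib.Helper18.ConjE8_5_2
import Cfsg.Agent.Lib.Helper18.ConjE8_5_3
import Cfsg.Agent.Lib.Helper18.ConjE8_6_0
import Cfsg.Agent.Lib.Helper18.ConjE8_6_1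
import Cfsg.Agent.Lib.Helper18.ConjE8_6_2
import Cfsg.Agent.Lib.Helper18.ConjE8_6_3
import Cfsg.Agent.Lib.Helper18.ConjE8_7_0
import Cfsg.Agent.Lib.Helper18.ConjE8_7_1
import Cfsg.Agent.Lib.Helper18.ConjE8_7_2
import Cfsg.Agent.Lib.Helper18.ConjE8_7_3

set_option autoImplicit false

namespace Cfsg.Agent.Helper18

open Cfsg.Lie

/-- The conclusion of statement S1031 for one datum, fundamental root and root. -/
def ConjGoal (F : Type*) [Field F] (D : ChevalleyDatum) (i s : ℕ) : Prop :=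
  ∃ η : ℤ, (η = 1 ∨ η = -1) ∧
    ∀ t : F, D.nMat F (D.simple i) 1 * D.x F s t =
      D.x F (D.reflectRoot i s) ((η : F) * t) * D.nMat F (D.simple i) 1

/-- Statement S1031 for one datum and fundamental root, with the sign function exposed. -/
def ConjGoalS (F : Type*) [Field F] (D : ChevalleyDatum) (i : ℕ) : Prop :=
  ∃ η : ℕ → ℤ, (∀ s, η s = 1 ∨ η s = -1) ∧ (∀ s < D.nroots, η s * η (D.neg s) = 1) ∧
    ∀ s < D.nroots, ∀ t : F, D.nMat F (D.simple i) 1 * D.x F s t =
      D.x F (D.reflectRoot i s) ((η s : F) * t) * D.nMat F (D.simple i) 1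

theorem ConjGoalS.goal {F : Type*} [Field F] {D : ChevalleyDatum} {i : ℕ} (h : ConjGoalS F D i)
    (s : ℕ) (hs : s < D.nroots) : ConjGoal F D i s := by
  obtain ⟨η, h1, _, h3⟩ := h
  exact ⟨η s, h1 s, h3 s hs⟩

theorem conjGoalSG2_0 {F : Type*} [Field F] : ConjGoalS F chevG2 0 := by
  refine ⟨etaOf etaG2_0, etaOf_cases _, fun s hs => ((signProp_of_check chevG2 0 _ nSignG2_0).2.2 s hs).2, fun s hs t => ?_⟩
  have hs' : s < 12 := hs
  have hc : conjCheck chevG2 (pMonoCol chevG2 0 permG2_0 etaG2_0) s (dec8 permG2_0 s) (etaOf etaG2_0 s) = true := by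
    exact conjG2_0_from0 s (by omega) hs'
  exact n_conj_of_checks chevG2 0 (by decide) permG2_0 etaG2_0 permChkG2_0 nChkG2_0' s hs hc t

theorem conjGoalSG2_1 {F : Type*} [Field F] : ConjGoalS F chevG2 1 := by
  refine ⟨etaOf etaG2_1, etaOf_cases _, fun s hs => ((signProp_of_check chevG2 1 _ nSignG2_1).2.2 s hs).2, fun s hs t => ?_⟩
  have hs' : s < 12 := hs
  have hc : conjCheck chevG2 (pMonoCol chevG2 1 permG2_1 etaG2_1) s (dec8 permG2_1 s) (etaOf etaG2_1 s) = true := by
    exact conjG2_1_from0 s (by omega) hs'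
  exact n_conj_of_checks chevG2 1 (by decide) permG2_1 etaG2_1 permChkG2_1 nChkG2_1' s hs hc t

theorem conjGoalSG2 {F : Type*} [Field F] (i : ℕ) (hi : i < 2) : ConjGoalS F chevG2 i := by
  have h : i = 0 ∨ i = 1 := by omega
  rcases h with rfl | rfl
  exacts [conjGoalSG2_0, conjGoalSG2_1]

theorem conjGoalSB2_0 {F : Type*} [Field F] : ConjGoalS F chevB2 0 := by
  refine ⟨etaOf etaB2_0, etaOf_cases _, fun s hs => ((signProp_of_check chevB2 0 _ nSignB2_0).2.2 s hs).2, fun s hs t => ?_⟩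
  have hs' : s < 8 := hs
  have hc : conjCheck chevB2 (pMonoCol chevB2 0 permB2_0 etaB2_0) s (dec8 permB2_0 s) (etaOf etaB2_0 s) = true := by
    exact conjB2_0_from0 s (by omega) hs'
  exact n_conj_of_checks chevB2 0 (by decide) permB2_0 etaB2_0 permChkB2_0 nChkB2_0' s hs hc t

theorem conjGoalSB2_1 {F : Type*} [Field F] : ConjGoalS F chevB2 1 := by
  refine ⟨etaOf etaB2_1, etaOf_cases _, fun s hs => ((signProp_of_check chevB2 1 _ nSignB2_1).2.2 s hs).2, fun s hs t => ?_⟩
  have hs' : s < 8 := hs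
  have hc : conjCheck chevB2 (pMonoCol chevB2 1 permB2_1 etaB2_1) s (dec8 permB2_1 s) (etaOf etaB2_1 s) = true := by
    exact conjB2_1_from0 s (by omega) hs'
  exact n_conj_of_checks chevB2 1 (by decide) permB2_1 etaB2_1 permChkB2_1 nChkB2_1' s hs hc t

theorem conjGoalSB2 {F : Type*} [Field F] (i : ℕ) (hi : i < 2) : ConjGoalS F chevB2 i := by
  have h : i = 0 ∨ i = 1 := by omega
  rcases h with rfl | rfl
  exacts [conjGoalSB2_0, conjGoalSB2_1]

theorem conjGoalSD4_0 {F : Type*} [Field F] : ConjGoalS F chevD4 0 := by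
  refine ⟨etaOf etaD4_0, etaOf_cases _, fun s hs => ((signProp_of_check chevD4 0 _ nSignD4_0).2.2 s hs).2, fun s hs t => ?_⟩
  have hs' : s < 24 := hs
  have hc : conjCheck chevD4 (pMonoCol chevD4 0 permD4_0 etaD4_0) s (dec8 permD4_0 s) (etaOf etaD4_0 s) = true := by
    exact conjD4_0_from0 s (by omega) hs'
  exact n_conj_of_checks chevD4 0 (by decide) permD4_0 etaD4_0 permChkD4_0 nChkD4_0' s hs hc t

theorem conjGoalSD4_1 {F : Type*} [Field F] : ConjGoalS F chevD4 1 := by
  refine ⟨etaOf etaD4_1, etaOf_cases _, fun s hs => ((signProp_of_check chevD4 1 _ nSignD4_1).2.2 s hs).2, fun s hs t => ?_⟩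
  have hs' : s < 24 := hs
  have hc : conjCheck chevD4 (pMonoCol chevD4 1 permD4_1 etaD4_1) s (dec8 permD4_1 s) (etaOf etaD4_1 s) = true := by
    exact conjD4_1_from0 s (by omega) hs'
  exact n_conj_of_checks chevD4 1 (by decide) permD4_1 etaD4_1 permChkD4_1 nChkD4_1' s hs hc t

theorem conjGoalSD4_2 {F : Type*} [Field F] : ConjGoalS F chevD4 2 := by
  refine ⟨etaOf etaD4_2, etaOf_cases _, fun s hs => ((signProp_of_check chevD4 2 _ nSignD4_2).2.2 s hs).2, fun s hs t => ?_⟩
  have hs' : s < 24 := hs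
  have hc : conjCheck chevD4 (pMonoCol chevD4 2 permD4_2 etaD4_2) s (dec8 permD4_2 s) (etaOf etaD4_2 s) = true := by
    exact conjD4_2_from0 s (by omega) hs'
  exact n_conj_of_checks chevD4 2 (by decide) permD4_2 etaD4_2 permChkD4_2 nChkD4_2' s hs hc t

theorem conjGoalSD4_3 {F : Type*} [Field F] : ConjGoalS F chevD4 3 := by
  refine ⟨etaOf etaD4_3, etaOf_cases _, fun s hs => ((signProp_of_check chevD4 3 _ nSignD4_3).2.2 s hs).2, fun s hs t => ?_⟩
  have hs' : s < 24 := hs
  have hc : conjCheck chevD4 (pMonoCol chevD4 3 permD4_3 etaD4_3) s (dec8 permD4_3 s) (etaOf etaD4_3 s) = true := by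
    exact conjD4_3_from0 s (by omega) hs'
  exact n_conj_of_checks chevD4 3 (by decide) permD4_3 etaD4_3 permChkD4_3 nChkD4_3' s hs hc t

theorem conjGoalSD4 {F : Type*} [Field F] (i : ℕ) (hi : i < 4) : ConjGoalS F chevD4 i := by
  have h : i = 0 ∨ i = 1 ∨ i = 2 ∨ i = 3 := by omega
  rcases h with rfl | rfl | rfl | rfl
  exacts [conjGoalSD4_0, conjGoalSD4_1, conjGoalSD4_2, conjGoalSD4_3]

theorem conjGoalSF4_0 {F : Type*} [Field F] : ConjGoalS F chevF4 0 := by
  refine ⟨etaOf etaF4_0, etaOf_cases _, fun s hs => ((signProp_of_check chevF4 0 _ nSignF4_0).2.2 s hs).2, fun s hs t => ?_⟩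
  have hs' : s < 48 := hs
  have hc : conjCheck chevF4 (pMonoCol chevF4 0 permF4_0 etaF4_0) s (dec8 permF4_0 s) (etaOf etaF4_0 s) = true := by
    exact conjF4_0_from0 s (by omega) hs'
  exact n_conj_of_checks chevF4 0 (by decide) permF4_0 etaF4_0 permChkF4_0 nChkF4_0' s hs hc t

theorem conjGoalSF4_1 {F : Type*} [Field F] : ConjGoalS F chevF4 1 := by
  refine ⟨etaOf etaF4_1, etaOf_cases _, fun s hs => ((signProp_of_check chevF4 1 _ nSignF4_1).2.2 s hs).2, fun s hs t => ?_⟩
  have hs' : s < 48 := hs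
  have hc : conjCheck chevF4 (pMonoCol chevF4 1 permF4_1 etaF4_1) s (dec8 permF4_1 s) (etaOf etaF4_1 s) = true := by
    exact conjF4_1_from0 s (by omega) hs'
  exact n_conj_of_checks chevF4 1 (by decide) permF4_1 etaF4_1 permChkF4_1 nChkF4_1' s hs hc t

theorem conjGoalSF4_2 {F : Type*} [Field F] : ConjGoalS F chevF4 2 := by
  refine ⟨etaOf etaF4_2, etaOf_cases _, fun s hs => ((signProp_of_check chevF4 2 _ nSignF4_2).2.2 s hs).2, fun s hs t => ?_⟩
  have hs' : s < 48 := hs
  have hc : conjCheck chevF4 (pMonoCol chevF4 2 permF4_2 etaF4_2) s (dec8 permF4_2 s) (etaOf etaF4_2 s) = true := by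
    exact conjF4_2_from0 s (by omega) hs'
  exact n_conj_of_checks chevF4 2 (by decide) permF4_2 etaF4_2 permChkF4_2 nChkF4_2' s hs hc t

theorem conjGoalSF4_3 {F : Type*} [Field F] : ConjGoalS F chevF4 3 := by
  refine ⟨etaOf etaF4_3, etaOf_cases _, fun s hs => ((signProp_of_check chevF4 3 _ nSignF4_3).2.2 s hs).2, fun s hs t => ?_⟩
  have hs' : s < 48 := hs
  have hc : conjCheck chevF4 (pMonoCol chevF4 3 permF4_3 etaF4_3) s (dec8 permF4_3 s) (etaOf etaF4_3 s) = true := by
    exact conjF4_3_from0 s (by omega) hs'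
  exact n_conj_of_checks chevF4 3 (by decide) permF4_3 etaF4_3 permChkF4_3 nChkF4_3' s hs hc t

theorem conjGoalSF4 {F : Type*} [Field F] (i : ℕ) (hi : i < 4) : ConjGoalS F chevF4 i := by
  have h : i = 0 ∨ i = 1 ∨ i = 2 ∨ i = 3 := by omega
  rcases h with rfl | rfl | rfl | rfl
  exacts [conjGoalSF4_0, conjGoalSF4_1, conjGoalSF4_2, conjGoalSF4_3]

theorem conjGoalSE6_0 {F : Type*} [Field F] : ConjGoalS F chevE6 0 := by
  refine ⟨etaOf etaE6_0, etaOf_cases _, fun s hs => ((signProp_of_check chevE6 0 _ nSignE6_0).2.2 s hs).2, fun s hs t => ?_⟩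
  have hs' : s < 72 := hs
  have hc : conjCheck chevE6 (pMonoCol chevE6 0 permE6_0 etaE6_0) s (dec8 permE6_0 s) (etaOf etaE6_0 s) = true := by
    exact conjE6_0_from0 s (by omega) hs'
  exact n_conj_of_checks chevE6 0 (by decide) permE6_0 etaE6_0 permChkE6_0 nChkE6_0' s hs hc t

theorem conjGoalSE6_1 {F : Type*} [Field F] : ConjGoalS F chevE6 1 := by
  refine ⟨etaOf etaE6_1, etaOf_cases _, fun s hs => ((signProp_of_check chevE6 1 _ nSignE6_1).2.2 s hs).2, fun s hs t => ?_⟩
  have hs' : s < 72 := hs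
  have hc : conjCheck chevE6 (pMonoCol chevE6 1 permE6_1 etaE6_1) s (dec8 permE6_1 s) (etaOf etaE6_1 s) = true := by
    exact conjE6_1_from0 s (by omega) hs'
  exact n_conj_of_checks chevE6 1 (by decide) permE6_1 etaE6_1 permChkE6_1 nChkE6_1' s hs hc t

theorem conjGoalSE6_2 {F : Type*} [Field F] : ConjGoalS F chevE6 2 := by
  refine ⟨etaOf etaE6_2, etaOf_cases _, fun s hs => ((signProp_of_check chevE6 2 _ nSignE6_2).2.2 s hs).2, fun s hs t => ?_⟩
  have hs' : s < 72 := hs
  have hc : conjCheck chevE6 (pMonoCol chevE6 2 permE6_2 etaE6_2) s (dec8 permE6_2 s) (etaOf etaE6_2 s) = true := by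
    exact conjE6_2_from0 s (by omega) hs'
  exact n_conj_of_checks chevE6 2 (by decide) permE6_2 etaE6_2 permChkE6_2 nChkE6_2' s hs hc t

theorem conjGoalSE6_3 {F : Type*} [Field F] : ConjGoalS F chevE6 3 := by
  refine ⟨etaOf etaE6_3, etaOf_cases _, fun s hs => ((signProp_of_check chevE6 3 _ nSignE6_3).2.2 s hs).2, fun s hs t => ?_⟩
  have hs' : s < 72 := hs
  have hc : conjCheck chevE6 (pMonoCol chevE6 3 permE6_3 etaE6_3) s (dec8 permE6_3 s) (etaOf etaE6_3 s) = true := by
    exact conjE6_3_from0 s (by omega) hs'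
  exact n_conj_of_checks chevE6 3 (by decide) permE6_3 etaE6_3 permChkE6_3 nChkE6_3' s hs hc t

theorem conjGoalSE6_4 {F : Type*} [Field F] : ConjGoalS F chevE6 4 := by
  refine ⟨etaOf etaE6_4, etaOf_cases _, fun s hs => ((signProp_of_check chevE6 4 _ nSignE6_4).2.2 s hs).2, fun s hs t => ?_⟩
  have hs' : s < 72 := hs
  have hc : conjCheck chevE6 (pMonoCol chevE6 4 permE6_4 etaE6_4) s (dec8 permE6_4 s) (etaOf etaE6_4 s) = true := by
    exact conjE6_4_from0 s (by omega) hs'
  exact n_conj_of_checks chevE6 4 (by decide) permE6_4 etaE6_4 permChkE6_4 nChkE6_4' s hs hc t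

theorem conjGoalSE6_5 {F : Type*} [Field F] : ConjGoalS F chevE6 5 := by
  refine ⟨etaOf etaE6_5, etaOf_cases _, fun s hs => ((signProp_of_check chevE6 5 _ nSignE6_5).2.2 s hs).2, fun s hs t => ?_⟩
  have hs' : s < 72 := hs
  have hc : conjCheck chevE6 (pMonoCol chevE6 5 permE6_5 etaE6_5) s (dec8 permE6_5 s) (etaOf etaE6_5 s) = true := by
    exact conjE6_5_from0 s (by omega) hs'
  exact n_conj_of_checks chevE6 5 (by decide) permE6_5 etaE6_5 permChkE6_5 nChkE6_5' s hs hc t

theorem conjGoalSE6 {F : Type*} [Field F] (i : ℕ) (hi : i < 6) : ConjGoalS F chevE6 i := by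
  have h : i = 0 ∨ i = 1 ∨ i = 2 ∨ i = 3 ∨ i = 4 ∨ i = 5 := by omega
  rcases h with rfl | rfl | rfl | rfl | rfl | rfl
  exacts [conjGoalSE6_0, conjGoalSE6_1, conjGoalSE6_2, conjGoalSE6_3, conjGoalSE6_4, conjGoalSE6_5]

theorem conjGoalSE7_0 {F : Type*} [Field F] : ConjGoalS F chevE7 0 := by
  refine ⟨etaOf etaE7_0, etaOf_cases _, fun s hs => ((signProp_of_check chevE7 0 _ nSignE7_0).2.2 s hs).2, fun s hs t => ?_⟩
  have hs' : s < 126 := hs
  have hc : conjCheck chevE7 (pMonoCol chevE7 0 permE7_0 etaE7_0) s (dec8 permE7_0 s) (etaOf etaE7_0 s) = true := by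
    by_cases h0 : s < 63
    · exact conjE7_0_from0 s (by omega) h0
    exact conjE7_0_from63 s (by omega) hs'
  exact n_conj_of_checks chevE7 0 (by decide) permE7_0 etaE7_0 permChkE7_0 nChkE7_0' s hs hc t

theorem conjGoalSE7_1 {F : Type*} [Field F] : ConjGoalS F chevE7 1 := by
  refine ⟨etaOf etaE7_1, etaOf_cases _, fun s hs => ((signProp_of_check chevE7 1 _ nSignE7_1).2.2 s hs).2, fun s hs t => ?_⟩
  have hs' : s < 126 := hs
  have hc : conjCheck chevE7 (pMonoCol chevE7 1 permE7_1 etaE7_1) s (dec8 permE7_1 s) (etaOf etaE7_1 s) = true := by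
    by_cases h0 : s < 63
    · exact conjE7_1_from0 s (by omega) h0
    exact conjE7_1_from63 s (by omega) hs'
  exact n_conj_of_checks chevE7 1 (by decide) permE7_1 etaE7_1 permChkE7_1 nChkE7_1' s hs hc t

theorem conjGoalSE7_2 {F : Type*} [Field F] : ConjGoalS F chevE7 2 := by
  refine ⟨etaOf etaE7_2, etaOf_cases _, fun s hs => ((signProp_of_check chevE7 2 _ nSignE7_2).2.2 s hs).2, fun s hs t => ?_⟩
  have hs' : s < 126 := hs
  have hc : conjCheck chevE7 (pMonoCol chevE7 2 permE7_2 etaE7_2) s (dec8 permE7_2 s) (etaOf etaE7_2 s) = true := by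
    by_cases h0 : s < 63
    · exact conjE7_2_from0 s (by omega) h0
    exact conjE7_2_from63 s (by omega) hs'
  exact n_conj_of_checks chevE7 2 (by decide) permE7_2 etaE7_2 permChkE7_2 nChkE7_2' s hs hc t

theorem conjGoalSE7_3 {F : Type*} [Field F] : ConjGoalS F chevE7 3 := by
  refine ⟨etaOf etaE7_3, etaOf_cases _, fun s hs => ((signProp_of_check chevE7 3 _ nSignE7_3).2.2 s hs).2, fun s hs t => ?_⟩
  have hs' : s < 126 := hs
  have hc : conjCheck chevE7 (pMonoCol chevE7 3 permE7_3 etaE7_3) s (dec8 permE7_3 s) (etaOf etaE7_3 s) = true := by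
    by_cases h0 : s < 63
    · exact conjE7_3_from0 s (by omega) h0
    exact conjE7_3_from63 s (by omega) hs'
  exact n_conj_of_checks chevE7 3 (by decide) permE7_3 etaE7_3 permChkE7_3 nChkE7_3' s hs hc t

theorem conjGoalSE7_4 {F : Type*} [Field F] : ConjGoalS F chevE7 4 := by
  refine ⟨etaOf etaE7_4, etaOf_cases _, fun s hs => ((signProp_of_check chevE7 4 _ nSignE7_4).2.2 s hs).2, fun s hs t => ?_⟩
  have hs' : s < 126 := hs
  have hc : conjCheck chevE7 (pMonoCol chevE7 4 permE7_4 etaE7_4) s (dec8 permE7_4 s) (etaOf etaE7_4 s) = true := by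
    by_cases h0 : s < 63
    · exact conjE7_4_from0 s (by omega) h0
    exact conjE7_4_from63 s (by omega) hs'
  exact n_conj_of_checks chevE7 4 (by decide) permE7_4 etaE7_4 permChkE7_4 nChkE7_4' s hs hc t

theorem conjGoalSE7_5 {F : Type*} [Field F] : ConjGoalS F chevE7 5 := by
  refine ⟨etaOf etaE7_5, etaOf_cases _, fun s hs => ((signProp_of_check chevE7 5 _ nSignE7_5).2.2 s hs).2, fun s hs t => ?_⟩
  have hs' : s < 126 := hs
  have hc : conjCheck chevE7 (pMonoCol chevE7 5 permE7_5 etaE7_5) s (dec8 permE7_5 s) (etaOf etaE7_5 s) = true := by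
    by_cases h0 : s < 63
    · exact conjE7_5_from0 s (by omega) h0
    exact conjE7_5_from63 s (by omega) hs'
  exact n_conj_of_checks chevE7 5 (by decide) permE7_5 etaE7_5 permChkE7_5 nChkE7_5' s hs hc t

theorem conjGoalSE7_6 {F : Type*} [Field F] : ConjGoalS F chevE7 6 := by
  refine ⟨etaOf etaE7_6, etaOf_cases _, fun s hs => ((signProp_of_check chevE7 6 _ nSignE7_6).2.2 s hs).2, fun s hs t => ?_⟩
  have hs' : s < 126 := hs
  have hc : conjCheck chevE7 (pMonoCol chevE7 6 permE7_6 etaE7_6) s (dec8 permE7_6 s) (etaOf etaE7_6 s) = true := by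
    by_cases h0 : s < 63
    · exact conjE7_6_from0 s (by omega) h0
    exact conjE7_6_from63 s (by omega) hs'
  exact n_conj_of_checks chevE7 6 (by decide) permE7_6 etaE7_6 permChkE7_6 nChkE7_6' s hs hc t

theorem conjGoalSE7 {F : Type*} [Field F] (i : ℕ) (hi : i < 7) : ConjGoalS F chevE7 i := by
  have h : i = 0 ∨ i = 1 ∨ i = 2 ∨ i = 3 ∨ i = 4 ∨ i = 5 ∨ i = 6 := by omega
  rcases h with rfl | rfl | rfl | rfl | rfl | rfl | rfl
  exacts [conjGoalSE7_0, conjGoalSE7_1, conjGoalSE7_2, conjGoalSE7_3, conjGoalSE7_4, conjGoalSE7_5, conjGoalSE7_6]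

theorem conjGoalSE8_0 {F : Type*} [Field F] : ConjGoalS F chevE8 0 := by
  refine ⟨etaOf etaE8_0, etaOf_cases _, fun s hs => ((signProp_of_check chevE8 0 _ nSignE8_0).2.2 s hs).2, fun s hs t => ?_⟩
  have hs' : s < 240 := hs
  have hc : conjCheck chevE8 (pMonoCol chevE8 0 permE8_0 etaE8_0) s (dec8 permE8_0 s) (etaOf etaE8_0 s) = true := by
    by_cases h0 : s < 30
    · exact conjE8_0_from0 s (by omega) h0
    by_cases h1 : s < 60
    · exact conjE8_0_from30 s (by omega) h1
    by_cases h2 : s < 90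
    · exact conjE8_0_from60 s (by omega) h2
    by_cases h3 : s < 120
    · exact conjE8_0_from90 s (by omega) h3
    by_cases h4 : s < 150
    · exact conjE8_0_from120 s (by omega) h4
    by_cases h5 : s < 180
    · exact conjE8_0_from150 s (by omega) h5
    by_cases h6 : s < 210
    · exact conjE8_0_from180 s (by omega) h6
    exact conjE8_0_from210 s (by omega) hs'
  exact n_conj_of_checks chevE8 0 (by decide) permE8_0 etaE8_0 permChkE8_0 nChkE8_0' s hs hc t

theorem conjGoalSE8_1 {F : Type*} [Field F] : ConjGoalS F chevE8 1 := by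
  refine ⟨etaOf etaE8_1, etaOf_cases _, fun s hs => ((signProp_of_check chevE8 1 _ nSignE8_1).2.2 s hs).2, fun s hs t => ?_⟩
  have hs' : s < 240 := hs
  have hc : conjCheck chevE8 (pMonoCol chevE8 1 permE8_1 etaE8_1) s (dec8 permE8_1 s) (etaOf etaE8_1 s) = true := by
    by_cases h0 : s < 30
    · exact conjE8_1_from0 s (by omega) h0
    by_cases h1 : s < 60
    · exact conjE8_1_from30 s (by omega) h1
    by_cases h2 : s < 90
    · exact conjE8_1_from60 s (by omega) h2
    by_cases h3 : s < 120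
    · exact conjE8_1_from90 s (by omega) h3
    by_cases h4 : s < 150
    · exact conjE8_1_from120 s (by omega) h4
    by_cases h5 : s < 180
    · exact conjE8_1_from150 s (by omega) h5
    by_cases h6 : s < 210
    · exact conjE8_1_from180 s (by omega) h6
    exact conjE8_1_from210 s (by omega) hs'
  exact n_conj_of_checks chevE8 1 (by decide) permE8_1 etaE8_1 permChkE8_1 nChkE8_1' s hs hc t

theorem conjGoalSE8_2 {F : Type*} [Field F] : ConjGoalS F chevE8 2 := by
  refine ⟨etaOf etaE8_2, etaOf_cases _, fun s hs => ((signProp_of_check chevE8 2 _ nSignE8_2).2.2 s hs).2, fun s hs t => ?_⟩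
  have hs' : s < 240 := hs
  have hc : conjCheck chevE8 (pMonoCol chevE8 2 permE8_2 etaE8_2) s (dec8 permE8_2 s) (etaOf etaE8_2 s) = true := by
    by_cases h0 : s < 30
    · exact conjE8_2_from0 s (by omega) h0
    by_cases h1 : s < 60
    · exact conjE8_2_from30 s (by omega) h1
    by_cases h2 : s < 90
    · exact conjE8_2_from60 s (by omega) h2
    by_cases h3 : s < 120
    · exact conjE8_2_from90 s (by omega) h3
    by_cases h4 : s < 150
    · exact conjE8_2_from120 s (by omega) h4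
    by_cases h5 : s < 180
    · exact conjE8_2_from150 s (by omega) h5
    by_cases h6 : s < 210
    · exact conjE8_2_from180 s (by omega) h6
    exact conjE8_2_from210 s (by omega) hs'
  exact n_conj_of_checks chevE8 2 (by decide) permE8_2 etaE8_2 permChkE8_2 nChkE8_2' s hs hc t

theorem conjGoalSE8_3 {F : Type*} [Field F] : ConjGoalS F chevE8 3 := by
  refine ⟨etaOf etaE8_3, etaOf_cases _, fun s hs => ((signProp_of_check chevE8 3 _ nSignE8_3).2.2 s hs).2, fun s hs t => ?_⟩
  have hs' : s < 240 := hs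
  have hc : conjCheck chevE8 (pMonoCol chevE8 3 permE8_3 etaE8_3) s (dec8 permE8_3 s) (etaOf etaE8_3 s) = true := by
    by_cases h0 : s < 30
    · exact conjE8_3_from0 s (by omega) h0
    by_cases h1 : s < 60
    · exact conjE8_3_from30 s (by omega) h1
    by_cases h2 : s < 90
    · exact conjE8_3_from60 s (by omega) h2
    by_cases h3 : s < 120
    · exact conjE8_3_from90 s (by omega) h3
    by_cases h4 : s < 150
    · exact conjE8_3_from120 s (by omega) h4
    by_cases h5 : s < 180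
    · exact conjE8_3_from150 s (by omega) h5
    by_cases h6 : s < 210
    · exact conjE8_3_from180 s (by omega) h6
    exact conjE8_3_from210 s (by omega) hs'
  exact n_conj_of_checks chevE8 3 (by decide) permE8_3 etaE8_3 permChkE8_3 nChkE8_3' s hs hc t

theorem conjGoalSE8_4 {F : Type*} [Field F] : ConjGoalS F chevE8 4 := by
  refine ⟨etaOf etaE8_4, etaOf_cases _, fun s hs => ((signProp_of_check chevE8 4 _ nSignE8_4).2.2 s hs).2, fun s hs t => ?_⟩
  have hs' : s < 240 := hs
  have hc : conjCheck chevE8 (pMonoCol chevE8 4 permE8_4 etaE8_4) s (dec8 permE8_4 s) (etaOf etaE8_4 s) = true := by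
    by_cases h0 : s < 30
    · exact conjE8_4_from0 s (by omega) h0
    by_cases h1 : s < 60
    · exact conjE8_4_from30 s (by omega) h1
    by_cases h2 : s < 90
    · exact conjE8_4_from60 s (by omega) h2
    by_cases h3 : s < 120
    · exact conjE8_4_from90 s (by omega) h3
    by_cases h4 : s < 150
    · exact conjE8_4_from120 s (by omega) h4
    by_cases h5 : s < 180
    · exact conjE8_4_from150 s (by omega) h5
    by_cases h6 : s < 210
    · exact conjE8_4_from180 s (by omega) h6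
    exact conjE8_4_from210 s (by omega) hs'
  exact n_conj_of_checks chevE8 4 (by decide) permE8_4 etaE8_4 permChkE8_4 nChkE8_4' s hs hc t

theorem conjGoalSE8_5 {F : Type*} [Field F] : ConjGoalS F chevE8 5 := by
  refine ⟨etaOf etaE8_5, etaOf_cases _, fun s hs => ((signProp_of_check chevE8 5 _ nSignE8_5).2.2 s hs).2, fun s hs t => ?_⟩
  have hs' : s < 240 := hs
  have hc : conjCheck chevE8 (pMonoCol chevE8 5 permE8_5 etaE8_5) s (dec8 permE8_5 s) (etaOf etaE8_5 s) = true := by
    by_cases h0 : s < 30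
    · exact conjE8_5_from0 s (by omega) h0
    by_cases h1 : s < 60
    · exact conjE8_5_from30 s (by omega) h1
    by_cases h2 : s < 90
    · exact conjE8_5_from60 s (by omega) h2
    by_cases h3 : s < 120
    · exact conjE8_5_from90 s (by omega) h3
    by_cases h4 : s < 150
    · exact conjE8_5_from120 s (by omega) h4
    by_cases h5 : s < 180
    · exact conjE8_5_from150 s (by omega) h5
    by_cases h6 : s < 210
    · exact conjE8_5_from180 s (by omega) h6
    exact conjE8_5_from210 s (by omega) hs'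
  exact n_conj_of_checks chevE8 5 (by decide) permE8_5 etaE8_5 permChkE8_5 nChkE8_5' s hs hc t

theorem conjGoalSE8_6 {F : Type*} [Field F] : ConjGoalS F chevE8 6 := by
  refine ⟨etaOf etaE8_6, etaOf_cases _, fun s hs => ((signProp_of_check chevE8 6 _ nSignE8_6).2.2 s hs).2, fun s hs t => ?_⟩
  have hs' : s < 240 := hs
  have hc : conjCheck chevE8 (pMonoCol chevE8 6 permE8_6 etaE8_6) s (dec8 permE8_6 s) (etaOf etaE8_6 s) = true := by
    by_cases h0 : s < 30
    · exact conjE8_6_from0 s (by omega) h0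
    by_cases h1 : s < 60
    · exact conjE8_6_from30 s (by omega) h1
    by_cases h2 : s < 90
    · exact conjE8_6_from60 s (by omega) h2
    by_cases h3 : s < 120
    · exact conjE8_6_from90 s (by omega) h3
    by_cases h4 : s < 150
    · exact conjE8_6_from120 s (by omega) h4
    by_cases h5 : s < 180
    · exact conjE8_6_from150 s (by omega) h5
    by_cases h6 : s < 210
    · exact conjE8_6_from180 s (by omega) h6
    exact conjE8_6_from210 s (by omega) hs'
  exact n_conj_of_checks chevE8 6 (by decide) permE8_6 etaE8_6 permChkE8_6 nChkE8_6' s hs hc t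

theorem conjGoalSE8_7 {F : Type*} [Field F] : ConjGoalS F chevE8 7 := by
  refine ⟨etaOf etaE8_7, etaOf_cases _, fun s hs => ((signProp_of_check chevE8 7 _ nSignE8_7).2.2 s hs).2, fun s hs t => ?_⟩
  have hs' : s < 240 := hs
  have hc : conjCheck chevE8 (pMonoCol chevE8 7 permE8_7 etaE8_7) s (dec8 permE8_7 s) (etaOf etaE8_7 s) = true := by
    by_cases h0 : s < 30
    · exact conjE8_7_from0 s (by omega) h0
    by_cases h1 : s < 60
    · exact conjE8_7_from30 s (by omega) h1
    by_cases h2 : s < 90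
    · exact conjE8_7_from60 s (by omega) h2
    by_cases h3 : s < 120
    · exact conjE8_7_from90 s (by omega) h3
    by_cases h4 : s < 150
    · exact conjE8_7_from120 s (by omega) h4
    by_cases h5 : s < 180
    · exact conjE8_7_from150 s (by omega) h5
    by_cases h6 : s < 210
    · exact conjE8_7_from180 s (by omega) h6
    exact conjE8_7_from210 s (by omega) hs'
  exact n_conj_of_checks chevE8 7 (by decide) permE8_7 etaE8_7 permChkE8_7 nChkE8_7' s hs hc t

theorem conjGoalSE8 {F : Type*} [Field F] (i : ℕ) (hi : i < 8) : ConjGoalS F chevE8 i := by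
  have h : i = 0 ∨ i = 1 ∨ i = 2 ∨ i = 3 ∨ i = 4 ∨ i = 5 ∨ i = 6 ∨ i = 7 := by omega
  rcases h with rfl | rfl | rfl | rfl | rfl | rfl | rfl | rfl
  exacts [conjGoalSE8_0, conjGoalSE8_1, conjGoalSE8_2, conjGoalSE8_3, conjGoalSE8_4, conjGoalSE8_5, conjGoalSE8_6, conjGoalSE8_7]

theorem conjGoalS_all {F : Type*} [Field F] (D : ChevalleyDatum)
    (hD : D ∈ [chevG2, chevB2, chevD4, chevF4, chevE6, chevE7, chevE8]) (i : ℕ) (hi : i < D.rank) :
    ConjGoalS F D i := by
  simp only [List.mem_cons, List.not_mem_nil, or_false] at hD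
  rcases hD with rfl | rfl | rfl | rfl | rfl | rfl | rfl
  · exact conjGoalSG2 i hi
  · exact conjGoalSB2 i hi
  · exact conjGoalSD4 i hi
  · exact conjGoalSF4 i hi
  · exact conjGoalSE6 i hi
  · exact conjGoalSE7 i hi
  · exact conjGoalSE8 i hi

theorem conjGoal_all {F : Type*} [Field F] (D : ChevalleyDatum)
    (hD : D ∈ [chevG2, chevB2, chevD4, chevF4, chevE6, chevE7, chevE8]) (i s : ℕ) (hi : i < D.rank)
    (hs : s < D.nroots) : ConjGoal F D i s :=
  (conjGoalS_all D hD i hi).goal s hs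

end Cfsg.Agent.Helper18
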