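import Cfsg.Agent.Lib.Helper18.HExp
import Cfsg.Prelude.Def_LieTypes
import Cfsg.Prelude.Def_ChevB2

set_option autoImplicit false
set_option maxRecDepth 100000

namespace Cfsg.Agent.Helper18

open Cfsg.Lie

theorem hAllE6_r0 : hCheck chevE6 0 (decExp (lget expE6 0 0)) = true := by
  decide +kernel

theorem hAllE6_r1 : hCheck chevE6 1 (decExp (lget expE6 1 0)) = true := by
  decide +kernel

theorem hAllE6_r2 : hCheck chevE6 2 (decExp (lget expE6 2 0)) = true := by
  decide +kernel

theorem hAllE6_r3 : hCheck chevE6 3 (decExp (lget expE6 3 0)) = true := by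
  decide +kernel

theorem hAllE6_r4 : hCheck chevE6 4 (decExp (lget expE6 4 0)) = true := by
  decide +kernel

theorem hAllE6_r5 : hCheck chevE6 5 (decExp (lget expE6 5 0)) = true := by
  decide +kernel

theorem hAllE6_r6 : hCheck chevE6 6 (decExp (lget expE6 6 0)) = true := by
  decide +kernel

theorem hAllE6_r7 : hCheck chevE6 7 (decExp (lget expE6 7 0)) = true := by
  decide +kernel

theorem hAllE6_r8 : hCheck chevE6 8 (decExp (lget expE6 8 0)) = true := by
  decide +kernel

theorem hAllE6_r9 : hCheck chevE6 9 (decExp (lget expE6 9 0)) = true := by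
  decide +kernel

theorem hAllE6_r10 : hCheck chevE6 10 (decExp (lget expE6 10 0)) = true := by
  decide +kernel

theorem hAllE6_r11 : hCheck chevE6 11 (decExp (lget expE6 11 0)) = true := by
  decide +kernel

theorem hAllE6_r12 : hCheck chevE6 12 (decExp (lget expE6 12 0)) = true := by
  decide +kernel

theorem hAllE6_r13 : hCheck chevE6 13 (decExp (lget expE6 13 0)) = true := by
  decide +kernel

theorem hAllE6_r14 : hCheck chevE6 14 (decExp (lget expE6 14 0)) = true := by
  decide +kernel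

theorem hAllE6_r15 : hCheck chevE6 15 (decExp (lget expE6 15 0)) = true := by
  decide +kernel

theorem hAllE6_r16 : hCheck chevE6 16 (decExp (lget expE6 16 0)) = true := by
  decide +kernel

theorem hAllE6_r17 : hCheck chevE6 17 (decExp (lget expE6 17 0)) = true := by
  decide +kernel

theorem hAllE6_r18 : hCheck chevE6 18 (decExp (lget expE6 18 0)) = true := by
  decide +kernel

theorem hAllE6_r19 : hCheck chevE6 19 (decExp (lget expE6 19 0)) = true := by
  decide +kernel

theorem hAllE6_r20 : hCheck chevE6 20 (decExp (lget expE6 20 0)) = true := by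
  decide +kernel

theorem hAllE6_r21 : hCheck chevE6 21 (decExp (lget expE6 21 0)) = true := by
  decide +kernel

theorem hAllE6_r22 : hCheck chevE6 22 (decExp (lget expE6 22 0)) = true := by
  decide +kernel

theorem hAllE6_r23 : hCheck chevE6 23 (decExp (lget expE6 23 0)) = true := by
  decide +kernel

theorem hAllE6_r24 : hCheck chevE6 24 (decExp (lget expE6 24 0)) = true := by
  decide +kernel

theorem hAllE6_r25 : hCheck chevE6 25 (decExp (lget expE6 25 0)) = true := by
  decide +kernel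

theorem hAllE6_r26 : hCheck chevE6 26 (decExp (lget expE6 26 0)) = true := by
  decide +kernel

theorem hAllE6_r27 : hCheck chevE6 27 (decExp (lget expE6 27 0)) = true := by
  decide +kernel

theorem hAllE6_r28 : hCheck chevE6 28 (decExp (lget expE6 28 0)) = true := by
  decide +kernel

theorem hAllE6_r29 : hCheck chevE6 29 (decExp (lget expE6 29 0)) = true := by
  decide +kernel

theorem hAllE6_r30 : hCheck chevE6 30 (decExp (lget expE6 30 0)) = true := by
  decide +kernel

theorem hAllE6_r31 : hCheck chevE6 31 (decExp (lget expE6 31 0)) = true := by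
  decide +kernel

theorem hAllE6_r32 : hCheck chevE6 32 (decExp (lget expE6 32 0)) = true := by
  decide +kernel

theorem hAllE6_r33 : hCheck chevE6 33 (decExp (lget expE6 33 0)) = true := by
  decide +kernel

theorem hAllE6_r34 : hCheck chevE6 34 (decExp (lget expE6 34 0)) = true := by
  decide +kernel

theorem hAllE6_r35 : hCheck chevE6 35 (decExp (lget expE6 35 0)) = true := by
  decide +kernel

theorem hAllE6_0' (r : ℕ) (h1 : 0 ≤ r) (h2 : r < 36) : hCheck chevE6 r (decExp (lget expE6 r 0)) = true := by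
  have h : r = 0 ∨ r = 1 ∨ r = 2 ∨ r = 3 ∨ r = 4 ∨ r = 5 ∨ r = 6 ∨ r = 7 ∨ r = 8 ∨ r = 9 ∨ r = 10 ∨ r = 11 ∨ r = 12 ∨ r = 13 ∨ r = 14 ∨ r = 15 ∨ r = 16 ∨ r = 17 ∨ r = 18 ∨ r = 19 ∨ r = 20 ∨ r = 21 ∨ r = 22 ∨ r = 23 ∨ r = 24 ∨ r = 25 ∨ r = 26 ∨ r = 27 ∨ r = 28 ∨ r = 29 ∨ r = 30 ∨ r = 31 ∨ r = 32 ∨ r = 33 ∨ r = 34 ∨ r = 35 := by omega
  rcases h with rfl | rfl | rfl | rfl | rfl | rfl | rfl | rfl | rfl | rfl | rfl | rfl | rfl | rfl | rfl | rfl | rfl | rfl | rfl | rfl | rfl | rfl | rfl | rfl | rfl | rfl | rfl | rfl | rfl | rfl | rfl | rfl | rfl | rfl | rfl | rfl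
  exacts [hAllE6_r0, hAllE6_r1, hAllE6_r2, hAllE6_r3, hAllE6_r4, hAllE6_r5, hAllE6_r6, hAllE6_r7, hAllE6_r8, hAllE6_r9, hAllE6_r10, hAllE6_r11, hAllE6_r12, hAllE6_r13, hAllE6_r14, hAllE6_r15, hAllE6_r16, hAllE6_r17, hAllE6_r18, hAllE6_r19, hAllE6_r20, hAllE6_r21, hAllE6_r22, hAllE6_r23, hAllE6_r24, hAllE6_r25, hAllE6_r26, hAllE6_r27, hAllE6_r28, hAllE6_r29, hAllE6_r30, hAllE6_r31, hAllE6_r32, hAllE6_r33, hAllE6_r34, hAllE6_r35]

theorem hAllE6_r36 : hCheck chevE6 36 (decExp (lget expE6 36 0)) = true := by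
  decide +kernel

theorem hAllE6_r37 : hCheck chevE6 37 (decExp (lget expE6 37 0)) = true := by
  decide +kernel

theorem hAllE6_r38 : hCheck chevE6 38 (decExp (lget expE6 38 0)) = true := by
  decide +kernel

theorem hAllE6_r39 : hCheck chevE6 39 (decExp (lget expE6 39 0)) = true := by
  decide +kernel

theorem hAllE6_r40 : hCheck chevE6 40 (decExp (lget expE6 40 0)) = true := by
  decide +kernel

theorem hAllE6_r41 : hCheck chevE6 41 (decExp (lget expE6 41 0)) = true := by
  decide +kernel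

theorem hAllE6_r42 : hCheck chevE6 42 (decExp (lget expE6 42 0)) = true := by
  decide +kernel

theorem hAllE6_r43 : hCheck chevE6 43 (decExp (lget expE6 43 0)) = true := by
  decide +kernel

theorem hAllE6_r44 : hCheck chevE6 44 (decExp (lget expE6 44 0)) = true := by
  decide +kernel

theorem hAllE6_r45 : hCheck chevE6 45 (decExp (lget expE6 45 0)) = true := by
  decide +kernel

theorem hAllE6_r46 : hCheck chevE6 46 (decExp (lget expE6 46 0)) = true := by
  decide +kernel

theorem hAllE6_r47 : hCheck chevE6 47 (decExp (lget expE6 47 0)) = true := by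
  decide +kernel

theorem hAllE6_r48 : hCheck chevE6 48 (decExp (lget expE6 48 0)) = true := by
  decide +kernel

theorem hAllE6_r49 : hCheck chevE6 49 (decExp (lget expE6 49 0)) = true := by
  decide +kernel

theorem hAllE6_r50 : hCheck chevE6 50 (decExp (lget expE6 50 0)) = true := by
  decide +kernel

theorem hAllE6_r51 : hCheck chevE6 51 (decExp (lget expE6 51 0)) = true := by
  decide +kernel

theorem hAllE6_r52 : hCheck chevE6 52 (decExp (lget expE6 52 0)) = true := by
  decide +kernel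

theorem hAllE6_r53 : hCheck chevE6 53 (decExp (lget expE6 53 0)) = true := by
  decide +kernel

theorem hAllE6_r54 : hCheck chevE6 54 (decExp (lget expE6 54 0)) = true := by
  decide +kernel

theorem hAllE6_r55 : hCheck chevE6 55 (decExp (lget expE6 55 0)) = true := by
  decide +kernel

theorem hAllE6_r56 : hCheck chevE6 56 (decExp (lget expE6 56 0)) = true := by
  decide +kernel

theorem hAllE6_r57 : hCheck chevE6 57 (decExp (lget expE6 57 0)) = true := by
  decide +kernel

theorem hAllE6_r58 : hCheck chevE6 58 (decExp (lget expE6 58 0)) = true := by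
  decide +kernel

theorem hAllE6_r59 : hCheck chevE6 59 (decExp (lget expE6 59 0)) = true := by
  decide +kernel

theorem hAllE6_r60 : hCheck chevE6 60 (decExp (lget expE6 60 0)) = true := by
  decide +kernel

theorem hAllE6_r61 : hCheck chevE6 61 (decExp (lget expE6 61 0)) = true := by
  decide +kernel

theorem hAllE6_r62 : hCheck chevE6 62 (decExp (lget expE6 62 0)) = true := by
  decide +kernel

theorem hAllE6_r63 : hCheck chevE6 63 (decExp (lget expE6 63 0)) = true := by
  decide +kernel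

theorem hAllE6_r64 : hCheck chevE6 64 (decExp (lget expE6 64 0)) = true := by
  decide +kernel

theorem hAllE6_r65 : hCheck chevE6 65 (decExp (lget expE6 65 0)) = true := by
  decide +kernel

theorem hAllE6_r66 : hCheck chevE6 66 (decExp (lget expE6 66 0)) = true := by
  decide +kernel

theorem hAllE6_r67 : hCheck chevE6 67 (decExp (lget expE6 67 0)) = true := by
  decide +kernel

theorem hAllE6_r68 : hCheck chevE6 68 (decExp (lget expE6 68 0)) = true := by
  decide +kernel

theorem hAllE6_r69 : hCheck chevE6 69 (decExp (lget expE6 69 0)) = true := by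
  decide +kernel

theorem hAllE6_r70 : hCheck chevE6 70 (decExp (lget expE6 70 0)) = true := by
  decide +kernel

theorem hAllE6_r71 : hCheck chevE6 71 (decExp (lget expE6 71 0)) = true := by
  decide +kernel

theorem hAllE6_36' (r : ℕ) (h1 : 36 ≤ r) (h2 : r < 72) : hCheck chevE6 r (decExp (lget expE6 r 0)) = true := by
  have h : r = 36 ∨ r = 37 ∨ r = 38 ∨ r = 39 ∨ r = 40 ∨ r = 41 ∨ r = 42 ∨ r = 43 ∨ r = 44 ∨ r = 45 ∨ r = 46 ∨ r = 47 ∨ r = 48 ∨ r = 49 ∨ r = 50 ∨ r = 51 ∨ r = 52 ∨ r = 53 ∨ r = 54 ∨ r = 55 ∨ r = 56 ∨ r = 57 ∨ r = 58 ∨ r = 59 ∨ r = 60 ∨ r = 61 ∨ r = 62 ∨ r = 63 ∨ r = 64 ∨ r = 65 ∨ r = 66 ∨ r = 67 ∨ r = 68 ∨ r = 69 ∨ r = 70 ∨ r = 71 := by omega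
  rcases h with rfl | rfl | rfl | rfl | rfl | rfl | rfl | rfl | rfl | rfl | rfl | rfl | rfl | rfl | rfl | rfl | rfl | rfl | rfl | rfl | rfl | rfl | rfl | rfl | rfl | rfl | rfl | rfl | rfl | rfl | rfl | rfl | rfl | rfl | rfl | rfl
  exacts [hAllE6_r36, hAllE6_r37, hAllE6_r38, hAllE6_r39, hAllE6_r40, hAllE6_r41, hAllE6_r42, hAllE6_r43, hAllE6_r44, hAllE6_r45, hAllE6_r46, hAllE6_r47, hAllE6_r48, hAllE6_r49, hAllE6_r50, hAllE6_r51, hAllE6_r52, hAllE6_r53, hAllE6_r54, hAllE6_r55, hAllE6_r56, hAllE6_r57, hAllE6_r58, hAllE6_r59, hAllE6_r60, hAllE6_r61, hAllE6_r62, hAllE6_r63, hAllE6_r64, hAllE6_r65, hAllE6_r66, hAllE6_r67, hAllE6_r68, hAllE6_r69, hAllE6_r70, hAllE6_r71]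

end Cfsg.Agent.Helper18
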