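import Cfsg.Agent.Lib.Helper18.HExp
import Cfsg.Prelude.Def_LieTypes
import Cfsg.Prelude.Def_ChevB2

set_option autoImplicit false
set_option maxRecDepth 100000

namespace Cfsg.Agent.Helper18

open Cfsg.Lie

theorem hAllE7_r0 : hCheck chevE7 0 (decExp (lget expE7 0 0)) = true := by
  decide +kernel

theorem hAllE7_r1 : hCheck chevE7 1 (decExp (lget expE7 1 0)) = true := by
  decide +kernel

theorem hAllE7_r2 : hCheck chevE7 2 (decExp (lget expE7 2 0)) = true := by
  decide +kernel

theorem hAllE7_r3 : hCheck chevE7 3 (decExp (lget expE7 3 0)) = true := by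
  decide +kernel

theorem hAllE7_r4 : hCheck chevE7 4 (decExp (lget expE7 4 0)) = true := by
  decide +kernel

theorem hAllE7_r5 : hCheck chevE7 5 (decExp (lget expE7 5 0)) = true := by
  decide +kernel

theorem hAllE7_r6 : hCheck chevE7 6 (decExp (lget expE7 6 0)) = true := by
  decide +kernel

theorem hAllE7_r7 : hCheck chevE7 7 (decExp (lget expE7 7 0)) = true := by
  decide +kernel

theorem hAllE7_r8 : hCheck chevE7 8 (decExp (lget expE7 8 0)) = true := by
  decide +kernel

theorem hAllE7_r9 : hCheck chevE7 9 (decExp (lget expE7 9 0)) = true := by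
  decide +kernel

theorem hAllE7_r10 : hCheck chevE7 10 (decExp (lget expE7 10 0)) = true := by
  decide +kernel

theorem hAllE7_r11 : hCheck chevE7 11 (decExp (lget expE7 11 0)) = true := by
  decide +kernel

theorem hAllE7_r12 : hCheck chevE7 12 (decExp (lget expE7 12 0)) = true := by
  decide +kernel

theorem hAllE7_r13 : hCheck chevE7 13 (decExp (lget expE7 13 0)) = true := by
  decide +kernel

theorem hAllE7_r14 : hCheck chevE7 14 (decExp (lget expE7 14 0)) = true := by
  decide +kernel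

theorem hAllE7_r15 : hCheck chevE7 15 (decExp (lget expE7 15 0)) = true := by
  decide +kernel

theorem hAllE7_0' (r : ℕ) (h1 : 0 ≤ r) (h2 : r < 16) : hCheck chevE7 r (decExp (lget expE7 r 0)) = true := by
  have h : r = 0 ∨ r = 1 ∨ r = 2 ∨ r = 3 ∨ r = 4 ∨ r = 5 ∨ r = 6 ∨ r = 7 ∨ r = 8 ∨ r = 9 ∨ r = 10 ∨ r = 11 ∨ r = 12 ∨ r = 13 ∨ r = 14 ∨ r = 15 := by omega
  rcases h with rfl | rfl | rfl | rfl | rfl | rfl | rfl | rfl | rfl | rfl | rfl | rfl | rfl | rfl | rfl | rfl
  exacts [hAllE7_r0, hAllE7_r1, hAllE7_r2, hAllE7_r3, hAllE7_r4, hAllE7_r5, hAllE7_r6, hAllE7_r7, hAllE7_r8, hAllE7_r9, hAllE7_r10, hAllE7_r11, hAllE7_r12, hAllE7_r13, hAllE7_r14, hAllE7_r15]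

theorem hAllE7_r16 : hCheck chevE7 16 (decExp (lget expE7 16 0)) = true := by
  decide +kernel

theorem hAllE7_r17 : hCheck chevE7 17 (decExp (lget expE7 17 0)) = true := by
  decide +kernel

theorem hAllE7_r18 : hCheck chevE7 18 (decExp (lget expE7 18 0)) = true := by
  decide +kernel

theorem hAllE7_r19 : hCheck chevE7 19 (decExp (lget expE7 19 0)) = true := by
  decide +kernel

theorem hAllE7_r20 : hCheck chevE7 20 (decExp (lget expE7 20 0)) = true := by
  decide +kernel

theorem hAllE7_r21 : hCheck chevE7 21 (decExp (lget expE7 21 0)) = true := by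
  decide +kernel

theorem hAllE7_r22 : hCheck chevE7 22 (decExp (lget expE7 22 0)) = true := by
  decide +kernel

theorem hAllE7_r23 : hCheck chevE7 23 (decExp (lget expE7 23 0)) = true := by
  decide +kernel

theorem hAllE7_r24 : hCheck chevE7 24 (decExp (lget expE7 24 0)) = true := by
  decide +kernel

theorem hAllE7_r25 : hCheck chevE7 25 (decExp (lget expE7 25 0)) = true := by
  decide +kernel

theorem hAllE7_r26 : hCheck chevE7 26 (decExp (lget expE7 26 0)) = true := by
  decide +kernel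

theorem hAllE7_r27 : hCheck chevE7 27 (decExp (lget expE7 27 0)) = true := by
  decide +kernel

theorem hAllE7_r28 : hCheck chevE7 28 (decExp (lget expE7 28 0)) = true := by
  decide +kernel

theorem hAllE7_r29 : hCheck chevE7 29 (decExp (lget expE7 29 0)) = true := by
  decide +kernel

theorem hAllE7_r30 : hCheck chevE7 30 (decExp (lget expE7 30 0)) = true := by
  decide +kernel

theorem hAllE7_r31 : hCheck chevE7 31 (decExp (lget expE7 31 0)) = true := by
  decide +kernel

theorem hAllE7_16' (r : ℕ) (h1 : 16 ≤ r) (h2 : r < 32) : hCheck chevE7 r (decExp (lget expE7 r 0)) = true := by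
  have h : r = 16 ∨ r = 17 ∨ r = 18 ∨ r = 19 ∨ r = 20 ∨ r = 21 ∨ r = 22 ∨ r = 23 ∨ r = 24 ∨ r = 25 ∨ r = 26 ∨ r = 27 ∨ r = 28 ∨ r = 29 ∨ r = 30 ∨ r = 31 := by omega
  rcases h with rfl | rfl | rfl | rfl | rfl | rfl | rfl | rfl | rfl | rfl | rfl | rfl | rfl | rfl | rfl | rfl
  exacts [hAllE7_r16, hAllE7_r17, hAllE7_r18, hAllE7_r19, hAllE7_r20, hAllE7_r21, hAllE7_r22, hAllE7_r23, hAllE7_r24, hAllE7_r25, hAllE7_r26, hAllE7_r27, hAllE7_r28, hAllE7_r29, hAllE7_r30, hAllE7_r31]

end Cfsg.Agent.Helper18
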