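import Cfsg.Agent.Lib.Helper18.HExp
import Cfsg.Prelude.Def_LieTypes
import Cfsg.Prelude.Def_ChevB2

set_option autoImplicit false
set_option maxRecDepth 100000

namespace Cfsg.Agent.Helper18

open Cfsg.Lie

theorem hAllE7_r32 : hCheck chevE7 32 (decExp (lget expE7 32 0)) = true := by
  decide +kernel

theorem hAllE7_r33 : hCheck chevE7 33 (decExp (lget expE7 33 0)) = true := by
  decide +kernel

theorem hAllE7_r34 : hCheck chevE7 34 (decExp (lget expE7 34 0)) = true := by
  decide +kernel

theorem hAllE7_r35 : hCheck chevE7 35 (decExp (lget expE7 35 0)) = true := by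
  decide +kernel

theorem hAllE7_r36 : hCheck chevE7 36 (decExp (lget expE7 36 0)) = true := by
  decide +kernel

theorem hAllE7_r37 : hCheck chevE7 37 (decExp (lget expE7 37 0)) = true := by
  decide +kernel

theorem hAllE7_r38 : hCheck chevE7 38 (decExp (lget expE7 38 0)) = true := by
  decide +kernel

theorem hAllE7_r39 : hCheck chevE7 39 (decExp (lget expE7 39 0)) = true := by
  decide +kernel

theorem hAllE7_r40 : hCheck chevE7 40 (decExp (lget expE7 40 0)) = true := by
  decide +kernel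

theorem hAllE7_r41 : hCheck chevE7 41 (decExp (lget expE7 41 0)) = true := by
  decide +kernel

theorem hAllE7_r42 : hCheck chevE7 42 (decExp (lget expE7 42 0)) = true := by
  decide +kernel

theorem hAllE7_r43 : hCheck chevE7 43 (decExp (lget expE7 43 0)) = true := by
  decide +kernel

theorem hAllE7_r44 : hCheck chevE7 44 (decExp (lget expE7 44 0)) = true := by
  decide +kernel

theorem hAllE7_r45 : hCheck chevE7 45 (decExp (lget expE7 45 0)) = true := by
  decide +kernel

theorem hAllE7_r46 : hCheck chevE7 46 (decExp (lget expE7 46 0)) = true := by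
  decide +kernel

theorem hAllE7_r47 : hCheck chevE7 47 (decExp (lget expE7 47 0)) = true := by
  decide +kernel

theorem hAllE7_32' (r : ℕ) (h1 : 32 ≤ r) (h2 : r < 48) : hCheck chevE7 r (decExp (lget expE7 r 0)) = true := by
  have h : r = 32 ∨ r = 33 ∨ r = 34 ∨ r = 35 ∨ r = 36 ∨ r = 37 ∨ r = 38 ∨ r = 39 ∨ r = 40 ∨ r = 41 ∨ r = 42 ∨ r = 43 ∨ r = 44 ∨ r = 45 ∨ r = 46 ∨ r = 47 := by omega
  rcases h with rfl | rfl | rfl | rfl | rfl | rfl | rfl | rfl | rfl | rfl | rfl | rfl | rfl | rfl | rfl | rfl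
  exacts [hAllE7_r32, hAllE7_r33, hAllE7_r34, hAllE7_r35, hAllE7_r36, hAllE7_r37, hAllE7_r38, hAllE7_r39, hAllE7_r40, hAllE7_r41, hAllE7_r42, hAllE7_r43, hAllE7_r44, hAllE7_r45, hAllE7_r46, hAllE7_r47]

theorem hAllE7_r48 : hCheck chevE7 48 (decExp (lget expE7 48 0)) = true := by
  decide +kernel

theorem hAllE7_r49 : hCheck chevE7 49 (decExp (lget expE7 49 0)) = true := by
  decide +kernel

theorem hAllE7_r50 : hCheck chevE7 50 (decExp (lget expE7 50 0)) = true := by
  decide +kernel

theorem hAllE7_r51 : hCheck chevE7 51 (decExp (lget expE7 51 0)) = true := by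
  decide +kernel

theorem hAllE7_r52 : hCheck chevE7 52 (decExp (lget expE7 52 0)) = true := by
  decide +kernel

theorem hAllE7_r53 : hCheck chevE7 53 (decExp (lget expE7 53 0)) = true := by
  decide +kernel

theorem hAllE7_r54 : hCheck chevE7 54 (decExp (lget expE7 54 0)) = true := by
  decide +kernel

theorem hAllE7_r55 : hCheck chevE7 55 (decExp (lget expE7 55 0)) = true := by
  decide +kernel

theorem hAllE7_r56 : hCheck chevE7 56 (decExp (lget expE7 56 0)) = true := by
  decide +kernel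

theorem hAllE7_r57 : hCheck chevE7 57 (decExp (lget expE7 57 0)) = true := by
  decide +kernel

theorem hAllE7_r58 : hCheck chevE7 58 (decExp (lget expE7 58 0)) = true := by
  decide +kernel

theorem hAllE7_r59 : hCheck chevE7 59 (decExp (lget expE7 59 0)) = true := by
  decide +kernel

theorem hAllE7_r60 : hCheck chevE7 60 (decExp (lget expE7 60 0)) = true := by
  decide +kernel

theorem hAllE7_r61 : hCheck chevE7 61 (decExp (lget expE7 61 0)) = true := by
  decide +kernel

theorem hAllE7_r62 : hCheck chevE7 62 (decExp (lget expE7 62 0)) = true := by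
  decide +kernel

theorem hAllE7_r63 : hCheck chevE7 63 (decExp (lget expE7 63 0)) = true := by
  decide +kernel

theorem hAllE7_48' (r : ℕ) (h1 : 48 ≤ r) (h2 : r < 64) : hCheck chevE7 r (decExp (lget expE7 r 0)) = true := by
  have h : r = 48 ∨ r = 49 ∨ r = 50 ∨ r = 51 ∨ r = 52 ∨ r = 53 ∨ r = 54 ∨ r = 55 ∨ r = 56 ∨ r = 57 ∨ r = 58 ∨ r = 59 ∨ r = 60 ∨ r = 61 ∨ r = 62 ∨ r = 63 := by omega
  rcases h with rfl | rfl | rfl | rfl | rfl | rfl | rfl | rfl | rfl | rfl | rfl | rfl | rfl | rfl | rfl | rfl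
  exacts [hAllE7_r48, hAllE7_r49, hAllE7_r50, hAllE7_r51, hAllE7_r52, hAllE7_r53, hAllE7_r54, hAllE7_r55, hAllE7_r56, hAllE7_r57, hAllE7_r58, hAllE7_r59, hAllE7_r60, hAllE7_r61, hAllE7_r62, hAllE7_r63]

end Cfsg.Agent.Helper18
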