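import Cfsg.Agent.Lib.Helper18.HExp
import Cfsg.Prelude.Def_LieTypes
import Cfsg.Prelude.Def_ChevB2

set_option autoImplicit false
set_option maxRecDepth 100000

namespace Cfsg.Agent.Helper18

open Cfsg.Lie

theorem hAllE7_r64 : hCheck chevE7 64 (decExp (lget expE7 64 0)) = true := by
  decide +kernel

theorem hAllE7_r65 : hCheck chevE7 65 (decExp (lget expE7 65 0)) = true := by
  decide +kernel

theorem hAllE7_r66 : hCheck chevE7 66 (decExp (lget expE7 66 0)) = true := by
  decide +kernel

theorem hAllE7_r67 : hCheck chevE7 67 (decExp (lget expE7 67 0)) = true := by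
  decide +kernel

theorem hAllE7_r68 : hCheck chevE7 68 (decExp (lget expE7 68 0)) = true := by
  decide +kernel

theorem hAllE7_r69 : hCheck chevE7 69 (decExp (lget expE7 69 0)) = true := by
  decide +kernel

theorem hAllE7_r70 : hCheck chevE7 70 (decExp (lget expE7 70 0)) = true := by
  decide +kernel

theorem hAllE7_r71 : hCheck chevE7 71 (decExp (lget expE7 71 0)) = true := by
  decide +kernel

theorem hAllE7_r72 : hCheck chevE7 72 (decExp (lget expE7 72 0)) = true := by
  decide +kernel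

theorem hAllE7_r73 : hCheck chevE7 73 (decExp (lget expE7 73 0)) = true := by
  decide +kernel

theorem hAllE7_r74 : hCheck chevE7 74 (decExp (lget expE7 74 0)) = true := by
  decide +kernel

theorem hAllE7_r75 : hCheck chevE7 75 (decExp (lget expE7 75 0)) = true := by
  decide +kernel

theorem hAllE7_r76 : hCheck chevE7 76 (decExp (lget expE7 76 0)) = true := by
  decide +kernel

theorem hAllE7_r77 : hCheck chevE7 77 (decExp (lget expE7 77 0)) = true := by
  decide +kernel

theorem hAllE7_r78 : hCheck chevE7 78 (decExp (lget expE7 78 0)) = true := by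
  decide +kernel

theorem hAllE7_r79 : hCheck chevE7 79 (decExp (lget expE7 79 0)) = true := by
  decide +kernel

theorem hAllE7_64' (r : ℕ) (h1 : 64 ≤ r) (h2 : r < 80) : hCheck chevE7 r (decExp (lget expE7 r 0)) = true := by
  have h : r = 64 ∨ r = 65 ∨ r = 66 ∨ r = 67 ∨ r = 68 ∨ r = 69 ∨ r = 70 ∨ r = 71 ∨ r = 72 ∨ r = 73 ∨ r = 74 ∨ r = 75 ∨ r = 76 ∨ r = 77 ∨ r = 78 ∨ r = 79 := by omega
  rcases h with rfl | rfl | rfl | rfl | rfl | rfl | rfl | rfl | rfl | rfl | rfl | rfl | rfl | rfl | rfl | rfl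
  exacts [hAllE7_r64, hAllE7_r65, hAllE7_r66, hAllE7_r67, hAllE7_r68, hAllE7_r69, hAllE7_r70, hAllE7_r71, hAllE7_r72, hAllE7_r73, hAllE7_r74, hAllE7_r75, hAllE7_r76, hAllE7_r77, hAllE7_r78, hAllE7_r79]

theorem hAllE7_r80 : hCheck chevE7 80 (decExp (lget expE7 80 0)) = true := by
  decide +kernel

theorem hAllE7_r81 : hCheck chevE7 81 (decExp (lget expE7 81 0)) = true := by
  decide +kernel

theorem hAllE7_r82 : hCheck chevE7 82 (decExp (lget expE7 82 0)) = true := by
  decide +kernel

theorem hAllE7_r83 : hCheck chevE7 83 (decExp (lget expE7 83 0)) = true := by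
  decide +kernel

theorem hAllE7_r84 : hCheck chevE7 84 (decExp (lget expE7 84 0)) = true := by
  decide +kernel

theorem hAllE7_r85 : hCheck chevE7 85 (decExp (lget expE7 85 0)) = true := by
  decide +kernel

theorem hAllE7_r86 : hCheck chevE7 86 (decExp (lget expE7 86 0)) = true := by
  decide +kernel

theorem hAllE7_r87 : hCheck chevE7 87 (decExp (lget expE7 87 0)) = true := by
  decide +kernel

theorem hAllE7_r88 : hCheck chevE7 88 (decExp (lget expE7 88 0)) = true := by
  decide +kernel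

theorem hAllE7_r89 : hCheck chevE7 89 (decExp (lget expE7 89 0)) = true := by
  decide +kernel

theorem hAllE7_r90 : hCheck chevE7 90 (decExp (lget expE7 90 0)) = true := by
  decide +kernel

theorem hAllE7_r91 : hCheck chevE7 91 (decExp (lget expE7 91 0)) = true := by
  decide +kernel

theorem hAllE7_r92 : hCheck chevE7 92 (decExp (lget expE7 92 0)) = true := by
  decide +kernel

theorem hAllE7_r93 : hCheck chevE7 93 (decExp (lget expE7 93 0)) = true := by
  decide +kernel

theorem hAllE7_r94 : hCheck chevE7 94 (decExp (lget expE7 94 0)) = true := by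
  decide +kernel

theorem hAllE7_r95 : hCheck chevE7 95 (decExp (lget expE7 95 0)) = true := by
  decide +kernel

theorem hAllE7_80' (r : ℕ) (h1 : 80 ≤ r) (h2 : r < 96) : hCheck chevE7 r (decExp (lget expE7 r 0)) = true := by
  have h : r = 80 ∨ r = 81 ∨ r = 82 ∨ r = 83 ∨ r = 84 ∨ r = 85 ∨ r = 86 ∨ r = 87 ∨ r = 88 ∨ r = 89 ∨ r = 90 ∨ r = 91 ∨ r = 92 ∨ r = 93 ∨ r = 94 ∨ r = 95 := by omega
  rcases h with rfl | rfl | rfl | rfl | rfl | rfl | rfl | rfl | rfl | rfl | rfl | rfl | rfl | rfl | rfl | rfl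
  exacts [hAllE7_r80, hAllE7_r81, hAllE7_r82, hAllE7_r83, hAllE7_r84, hAllE7_r85, hAllE7_r86, hAllE7_r87, hAllE7_r88, hAllE7_r89, hAllE7_r90, hAllE7_r91, hAllE7_r92, hAllE7_r93, hAllE7_r94, hAllE7_r95]

end Cfsg.Agent.Helper18
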