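import Cfsg.Agent.Lib.Helper18.HExp
import Cfsg.Prelude.Def_LieTypes
import Cfsg.Prelude.Def_ChevB2

set_option autoImplicit false
set_option maxRecDepth 100000

namespace Cfsg.Agent.Helper18

open Cfsg.Lie

theorem hAllE7_r96 : hCheck chevE7 96 (decExp (lget expE7 96 0)) = true := by
  decide +kernel

theorem hAllE7_r97 : hCheck chevE7 97 (decExp (lget expE7 97 0)) = true := by
  decide +kernel

theorem hAllE7_r98 : hCheck chevE7 98 (decExp (lget expE7 98 0)) = true := by
  decide +kernel

theorem hAllE7_r99 : hCheck chevE7 99 (decExp (lget expE7 99 0)) = true := by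
  decide +kernel

theorem hAllE7_r100 : hCheck chevE7 100 (decExp (lget expE7 100 0)) = true := by
  decide +kernel

theorem hAllE7_r101 : hCheck chevE7 101 (decExp (lget expE7 101 0)) = true := by
  decide +kernel

theorem hAllE7_r102 : hCheck chevE7 102 (decExp (lget expE7 102 0)) = true := by
  decide +kernel

theorem hAllE7_r103 : hCheck chevE7 103 (decExp (lget expE7 103 0)) = true := by
  decide +kernel

theorem hAllE7_r104 : hCheck chevE7 104 (decExp (lget expE7 104 0)) = true := by
  decide +kernel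

theorem hAllE7_r105 : hCheck chevE7 105 (decExp (lget expE7 105 0)) = true := by
  decide +kernel

theorem hAllE7_r106 : hCheck chevE7 106 (decExp (lget expE7 106 0)) = true := by
  decide +kernel

theorem hAllE7_r107 : hCheck chevE7 107 (decExp (lget expE7 107 0)) = true := by
  decide +kernel

theorem hAllE7_r108 : hCheck chevE7 108 (decExp (lget expE7 108 0)) = true := by
  decide +kernel

theorem hAllE7_r109 : hCheck chevE7 109 (decExp (lget expE7 109 0)) = true := by
  decide +kernel

theorem hAllE7_r110 : hCheck chevE7 110 (decExp (lget expE7 110 0)) = true := by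
  decide +kernel

theorem hAllE7_96' (r : ℕ) (h1 : 96 ≤ r) (h2 : r < 111) : hCheck chevE7 r (decExp (lget expE7 r 0)) = true := by
  have h : r = 96 ∨ r = 97 ∨ r = 98 ∨ r = 99 ∨ r = 100 ∨ r = 101 ∨ r = 102 ∨ r = 103 ∨ r = 104 ∨ r = 105 ∨ r = 106 ∨ r = 107 ∨ r = 108 ∨ r = 109 ∨ r = 110 := by omega
  rcases h with rfl | rfl | rfl | rfl | rfl | rfl | rfl | rfl | rfl | rfl | rfl | rfl | rfl | rfl | rfl
  exacts [hAllE7_r96, hAllE7_r97, hAllE7_r98, hAllE7_r99, hAllE7_r100, hAllE7_r101, hAllE7_r102, hAllE7_r103, hAllE7_r104, hAllE7_r105, hAllE7_r106, hAllE7_r107, hAllE7_r108, hAllE7_r109, hAllE7_r110]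

theorem hAllE7_r111 : hCheck chevE7 111 (decExp (lget expE7 111 0)) = true := by
  decide +kernel

theorem hAllE7_r112 : hCheck chevE7 112 (decExp (lget expE7 112 0)) = true := by
  decide +kernel

theorem hAllE7_r113 : hCheck chevE7 113 (decExp (lget expE7 113 0)) = true := by
  decide +kernel

theorem hAllE7_r114 : hCheck chevE7 114 (decExp (lget expE7 114 0)) = true := by
  decide +kernel

theorem hAllE7_r115 : hCheck chevE7 115 (decExp (lget expE7 115 0)) = true := by
  decide +kernel

theorem hAllE7_r116 : hCheck chevE7 116 (decExp (lget expE7 116 0)) = true := by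
  decide +kernel

theorem hAllE7_r117 : hCheck chevE7 117 (decExp (lget expE7 117 0)) = true := by
  decide +kernel

theorem hAllE7_r118 : hCheck chevE7 118 (decExp (lget expE7 118 0)) = true := by
  decide +kernel

theorem hAllE7_r119 : hCheck chevE7 119 (decExp (lget expE7 119 0)) = true := by
  decide +kernel

theorem hAllE7_r120 : hCheck chevE7 120 (decExp (lget expE7 120 0)) = true := by
  decide +kernel

theorem hAllE7_r121 : hCheck chevE7 121 (decExp (lget expE7 121 0)) = true := by
  decide +kernel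

theorem hAllE7_r122 : hCheck chevE7 122 (decExp (lget expE7 122 0)) = true := by
  decide +kernel

theorem hAllE7_r123 : hCheck chevE7 123 (decExp (lget expE7 123 0)) = true := by
  decide +kernel

theorem hAllE7_r124 : hCheck chevE7 124 (decExp (lget expE7 124 0)) = true := by
  decide +kernel

theorem hAllE7_r125 : hCheck chevE7 125 (decExp (lget expE7 125 0)) = true := by
  decide +kernel

theorem hAllE7_111' (r : ℕ) (h1 : 111 ≤ r) (h2 : r < 126) : hCheck chevE7 r (decExp (lget expE7 r 0)) = true := by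
  have h : r = 111 ∨ r = 112 ∨ r = 113 ∨ r = 114 ∨ r = 115 ∨ r = 116 ∨ r = 117 ∨ r = 118 ∨ r = 119 ∨ r = 120 ∨ r = 121 ∨ r = 122 ∨ r = 123 ∨ r = 124 ∨ r = 125 := by omega
  rcases h with rfl | rfl | rfl | rfl | rfl | rfl | rfl | rfl | rfl | rfl | rfl | rfl | rfl | rfl | rfl
  exacts [hAllE7_r111, hAllE7_r112, hAllE7_r113, hAllE7_r114, hAllE7_r115, hAllE7_r116, hAllE7_r117, hAllE7_r118, hAllE7_r119, hAllE7_r120, hAllE7_r121, hAllE7_r122, hAllE7_r123, hAllE7_r124, hAllE7_r125]

end Cfsg.Agent.Helper18
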