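import Cfsg.Agent.Lib.Helper18.HExp
import Cfsg.Prelude.Def_LieTypes
import Cfsg.Prelude.Def_ChevB2

set_option autoImplicit false
set_option maxRecDepth 100000

namespace Cfsg.Agent.Helper18

open Cfsg.Lie

theorem hAllE8_r0 : hCheck chevE8 0 (decExp (lget expE8 0 0)) = true := by
  decide +kernel

theorem hAllE8_r1 : hCheck chevE8 1 (decExp (lget expE8 1 0)) = true := by
  decide +kernel

theorem hAllE8_r2 : hCheck chevE8 2 (decExp (lget expE8 2 0)) = true := by
  decide +kernel

theorem hAllE8_r3 : hCheck chevE8 3 (decExp (lget expE8 3 0)) = true := by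
  decide +kernel

theorem hAllE8_r4 : hCheck chevE8 4 (decExp (lget expE8 4 0)) = true := by
  decide +kernel

theorem hAllE8_r5 : hCheck chevE8 5 (decExp (lget expE8 5 0)) = true := by
  decide +kernel

theorem hAllE8_r6 : hCheck chevE8 6 (decExp (lget expE8 6 0)) = true := by
  decide +kernel

theorem hAllE8_r7 : hCheck chevE8 7 (decExp (lget expE8 7 0)) = true := by
  decide +kernel

theorem hAllE8_0' (r : ℕ) (h1 : 0 ≤ r) (h2 : r < 8) : hCheck chevE8 r (decExp (lget expE8 r 0)) = true := by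
  have h : r = 0 ∨ r = 1 ∨ r = 2 ∨ r = 3 ∨ r = 4 ∨ r = 5 ∨ r = 6 ∨ r = 7 := by omega
  rcases h with rfl | rfl | rfl | rfl | rfl | rfl | rfl | rfl
  exacts [hAllE8_r0, hAllE8_r1, hAllE8_r2, hAllE8_r3, hAllE8_r4, hAllE8_r5, hAllE8_r6, hAllE8_r7]

theorem hAllE8_r8 : hCheck chevE8 8 (decExp (lget expE8 8 0)) = true := by
  decide +kernel

theorem hAllE8_r9 : hCheck chevE8 9 (decExp (lget expE8 9 0)) = true := by
  decide +kernel

theorem hAllE8_r10 : hCheck chevE8 10 (decExp (lget expE8 10 0)) = true := by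
  decide +kernel

theorem hAllE8_r11 : hCheck chevE8 11 (decExp (lget expE8 11 0)) = true := by
  decide +kernel

theorem hAllE8_r12 : hCheck chevE8 12 (decExp (lget expE8 12 0)) = true := by
  decide +kernel

theorem hAllE8_r13 : hCheck chevE8 13 (decExp (lget expE8 13 0)) = true := by
  decide +kernel

theorem hAllE8_r14 : hCheck chevE8 14 (decExp (lget expE8 14 0)) = true := by
  decide +kernel

theorem hAllE8_8' (r : ℕ) (h1 : 8 ≤ r) (h2 : r < 15) : hCheck chevE8 r (decExp (lget expE8 r 0)) = true := by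
  have h : r = 8 ∨ r = 9 ∨ r = 10 ∨ r = 11 ∨ r = 12 ∨ r = 13 ∨ r = 14 := by omega
  rcases h with rfl | rfl | rfl | rfl | rfl | rfl | rfl
  exacts [hAllE8_r8, hAllE8_r9, hAllE8_r10, hAllE8_r11, hAllE8_r12, hAllE8_r13, hAllE8_r14]

end Cfsg.Agent.Helper18
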