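import Cfsg.Agent.Lib.Helper18.HExp
import Cfsg.Prelude.Def_LieTypes
import Cfsg.Prelude.Def_ChevB2

set_option autoImplicit false
set_option maxRecDepth 100000

namespace Cfsg.Agent.Helper18

open Cfsg.Lie

theorem hAllE8_r15 : hCheck chevE8 15 (decExp (lget expE8 15 0)) = true := by
  decide +kernel

theorem hAllE8_r16 : hCheck chevE8 16 (decExp (lget expE8 16 0)) = true := by
  decide +kernel

theorem hAllE8_r17 : hCheck chevE8 17 (decExp (lget expE8 17 0)) = true := by
  decide +kernel

theorem hAllE8_r18 : hCheck chevE8 18 (decExp (lget expE8 18 0)) = true := by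
  decide +kernel

theorem hAllE8_r19 : hCheck chevE8 19 (decExp (lget expE8 19 0)) = true := by
  decide +kernel

theorem hAllE8_r20 : hCheck chevE8 20 (decExp (lget expE8 20 0)) = true := by
  decide +kernel

theorem hAllE8_r21 : hCheck chevE8 21 (decExp (lget expE8 21 0)) = true := by
  decide +kernel

theorem hAllE8_r22 : hCheck chevE8 22 (decExp (lget expE8 22 0)) = true := by
  decide +kernel

theorem hAllE8_15' (r : ℕ) (h1 : 15 ≤ r) (h2 : r < 23) : hCheck chevE8 r (decExp (lget expE8 r 0)) = true := by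
  have h : r = 15 ∨ r = 16 ∨ r = 17 ∨ r = 18 ∨ r = 19 ∨ r = 20 ∨ r = 21 ∨ r = 22 := by omega
  rcases h with rfl | rfl | rfl | rfl | rfl | rfl | rfl | rfl
  exacts [hAllE8_r15, hAllE8_r16, hAllE8_r17, hAllE8_r18, hAllE8_r19, hAllE8_r20, hAllE8_r21, hAllE8_r22]

theorem hAllE8_r23 : hCheck chevE8 23 (decExp (lget expE8 23 0)) = true := by
  decide +kernel

theorem hAllE8_r24 : hCheck chevE8 24 (decExp (lget expE8 24 0)) = true := by
  decide +kernel

theorem hAllE8_r25 : hCheck chevE8 25 (decExp (lget expE8 25 0)) = true := by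
  decide +kernel

theorem hAllE8_r26 : hCheck chevE8 26 (decExp (lget expE8 26 0)) = true := by
  decide +kernel

theorem hAllE8_r27 : hCheck chevE8 27 (decExp (lget expE8 27 0)) = true := by
  decide +kernel

theorem hAllE8_r28 : hCheck chevE8 28 (decExp (lget expE8 28 0)) = true := by
  decide +kernel

theorem hAllE8_r29 : hCheck chevE8 29 (decExp (lget expE8 29 0)) = true := by
  decide +kernel

theorem hAllE8_23' (r : ℕ) (h1 : 23 ≤ r) (h2 : r < 30) : hCheck chevE8 r (decExp (lget expE8 r 0)) = true := by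
  have h : r = 23 ∨ r = 24 ∨ r = 25 ∨ r = 26 ∨ r = 27 ∨ r = 28 ∨ r = 29 := by omega
  rcases h with rfl | rfl | rfl | rfl | rfl | rfl | rfl
  exacts [hAllE8_r23, hAllE8_r24, hAllE8_r25, hAllE8_r26, hAllE8_r27, hAllE8_r28, hAllE8_r29]

end Cfsg.Agent.Helper18
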