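import Cfsg.Agent.Lib.Helper18.HExp
import Cfsg.Prelude.Def_LieTypes
import Cfsg.Prelude.Def_ChevB2

set_option autoImplicit false
set_option maxRecDepth 100000

namespace Cfsg.Agent.Helper18

open Cfsg.Lie

theorem hAllE8_r150 : hCheck chevE8 150 (decExp (lget expE8 150 0)) = true := by
  decide +kernel

theorem hAllE8_r151 : hCheck chevE8 151 (decExp (lget expE8 151 0)) = true := by
  decide +kernel

theorem hAllE8_r152 : hCheck chevE8 152 (decExp (lget expE8 152 0)) = true := by
  decide +kernel

theorem hAllE8_r153 : hCheck chevE8 153 (decExp (lget expE8 153 0)) = true := by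
  decide +kernel

theorem hAllE8_r154 : hCheck chevE8 154 (decExp (lget expE8 154 0)) = true := by
  decide +kernel

theorem hAllE8_r155 : hCheck chevE8 155 (decExp (lget expE8 155 0)) = true := by
  decide +kernel

theorem hAllE8_r156 : hCheck chevE8 156 (decExp (lget expE8 156 0)) = true := by
  decide +kernel

theorem hAllE8_r157 : hCheck chevE8 157 (decExp (lget expE8 157 0)) = true := by
  decide +kernel

theorem hAllE8_150' (r : ℕ) (h1 : 150 ≤ r) (h2 : r < 158) : hCheck chevE8 r (decExp (lget expE8 r 0)) = true := by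
  have h : r = 150 ∨ r = 151 ∨ r = 152 ∨ r = 153 ∨ r = 154 ∨ r = 155 ∨ r = 156 ∨ r = 157 := by omega
  rcases h with rfl | rfl | rfl | rfl | rfl | rfl | rfl | rfl
  exacts [hAllE8_r150, hAllE8_r151, hAllE8_r152, hAllE8_r153, hAllE8_r154, hAllE8_r155, hAllE8_r156, hAllE8_r157]

theorem hAllE8_r158 : hCheck chevE8 158 (decExp (lget expE8 158 0)) = true := by
  decide +kernel

theorem hAllE8_r159 : hCheck chevE8 159 (decExp (lget expE8 159 0)) = true := by
  decide +kernel

theorem hAllE8_r160 : hCheck chevE8 160 (decExp (lget expE8 160 0)) = true := by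
  decide +kernel

theorem hAllE8_r161 : hCheck chevE8 161 (decExp (lget expE8 161 0)) = true := by
  decide +kernel

theorem hAllE8_r162 : hCheck chevE8 162 (decExp (lget expE8 162 0)) = true := by
  decide +kernel

theorem hAllE8_r163 : hCheck chevE8 163 (decExp (lget expE8 163 0)) = true := by
  decide +kernel

theorem hAllE8_r164 : hCheck chevE8 164 (decExp (lget expE8 164 0)) = true := by
  decide +kernel

theorem hAllE8_158' (r : ℕ) (h1 : 158 ≤ r) (h2 : r < 165) : hCheck chevE8 r (decExp (lget expE8 r 0)) = true := by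
  have h : r = 158 ∨ r = 159 ∨ r = 160 ∨ r = 161 ∨ r = 162 ∨ r = 163 ∨ r = 164 := by omega
  rcases h with rfl | rfl | rfl | rfl | rfl | rfl | rfl
  exacts [hAllE8_r158, hAllE8_r159, hAllE8_r160, hAllE8_r161, hAllE8_r162, hAllE8_r163, hAllE8_r164]

end Cfsg.Agent.Helper18
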