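import Cfsg.Agent.Lib.Helper18.HExp
import Cfsg.Prelude.Def_LieTypes
import Cfsg.Prelude.Def_ChevB2

set_option autoImplicit false
set_option maxRecDepth 100000

namespace Cfsg.Agent.Helper18

open Cfsg.Lie

theorem hAllE8_r165 : hCheck chevE8 165 (decExp (lget expE8 165 0)) = true := by
  decide +kernel

theorem hAllE8_r166 : hCheck chevE8 166 (decExp (lget expE8 166 0)) = true := by
  decide +kernel

theorem hAllE8_r167 : hCheck chevE8 167 (decExp (lget expE8 167 0)) = true := by
  decide +kernel

theorem hAllE8_r168 : hCheck chevE8 168 (decExp (lget expE8 168 0)) = true := by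
  decide +kernel

theorem hAllE8_r169 : hCheck chevE8 169 (decExp (lget expE8 169 0)) = true := by
  decide +kernel

theorem hAllE8_r170 : hCheck chevE8 170 (decExp (lget expE8 170 0)) = true := by
  decide +kernel

theorem hAllE8_r171 : hCheck chevE8 171 (decExp (lget expE8 171 0)) = true := by
  decide +kernel

theorem hAllE8_r172 : hCheck chevE8 172 (decExp (lget expE8 172 0)) = true := by
  decide +kernel

theorem hAllE8_165' (r : ℕ) (h1 : 165 ≤ r) (h2 : r < 173) : hCheck chevE8 r (decExp (lget expE8 r 0)) = true := by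
  have h : r = 165 ∨ r = 166 ∨ r = 167 ∨ r = 168 ∨ r = 169 ∨ r = 170 ∨ r = 171 ∨ r = 172 := by omega
  rcases h with rfl | rfl | rfl | rfl | rfl | rfl | rfl | rfl
  exacts [hAllE8_r165, hAllE8_r166, hAllE8_r167, hAllE8_r168, hAllE8_r169, hAllE8_r170, hAllE8_r171, hAllE8_r172]

theorem hAllE8_r173 : hCheck chevE8 173 (decExp (lget expE8 173 0)) = true := by
  decide +kernel

theorem hAllE8_r174 : hCheck chevE8 174 (decExp (lget expE8 174 0)) = true := by
  decide +kernel

theorem hAllE8_r175 : hCheck chevE8 175 (decExp (lget expE8 175 0)) = true := by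
  decide +kernel

theorem hAllE8_r176 : hCheck chevE8 176 (decExp (lget expE8 176 0)) = true := by
  decide +kernel

theorem hAllE8_r177 : hCheck chevE8 177 (decExp (lget expE8 177 0)) = true := by
  decide +kernel

theorem hAllE8_r178 : hCheck chevE8 178 (decExp (lget expE8 178 0)) = true := by
  decide +kernel

theorem hAllE8_r179 : hCheck chevE8 179 (decExp (lget expE8 179 0)) = true := by
  decide +kernel

theorem hAllE8_173' (r : ℕ) (h1 : 173 ≤ r) (h2 : r < 180) : hCheck chevE8 r (decExp (lget expE8 r 0)) = true := by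
  have h : r = 173 ∨ r = 174 ∨ r = 175 ∨ r = 176 ∨ r = 177 ∨ r = 178 ∨ r = 179 := by omega
  rcases h with rfl | rfl | rfl | rfl | rfl | rfl | rfl
  exacts [hAllE8_r173, hAllE8_r174, hAllE8_r175, hAllE8_r176, hAllE8_r177, hAllE8_r178, hAllE8_r179]

end Cfsg.Agent.Helper18
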