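import Cfsg.Agent.Lib.Helper18.HExp
import Cfsg.Prelude.Def_LieTypes
import Cfsg.Prelude.Def_ChevB2

set_option autoImplicit false
set_option maxRecDepth 100000

namespace Cfsg.Agent.Helper18

open Cfsg.Lie

theorem hAllE8_r180 : hCheck chevE8 180 (decExp (lget expE8 180 0)) = true := by
  decide +kernel

theorem hAllE8_r181 : hCheck chevE8 181 (decExp (lget expE8 181 0)) = true := by
  decide +kernel

theorem hAllE8_r182 : hCheck chevE8 182 (decExp (lget expE8 182 0)) = true := by
  decide +kernel

theorem hAllE8_r183 : hCheck chevE8 183 (decExp (lget expE8 183 0)) = true := by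
  decide +kernel

theorem hAllE8_r184 : hCheck chevE8 184 (decExp (lget expE8 184 0)) = true := by
  decide +kernel

theorem hAllE8_r185 : hCheck chevE8 185 (decExp (lget expE8 185 0)) = true := by
  decide +kernel

theorem hAllE8_r186 : hCheck chevE8 186 (decExp (lget expE8 186 0)) = true := by
  decide +kernel

theorem hAllE8_r187 : hCheck chevE8 187 (decExp (lget expE8 187 0)) = true := by
  decide +kernel

theorem hAllE8_180' (r : ℕ) (h1 : 180 ≤ r) (h2 : r < 188) : hCheck chevE8 r (decExp (lget expE8 r 0)) = true := by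
  have h : r = 180 ∨ r = 181 ∨ r = 182 ∨ r = 183 ∨ r = 184 ∨ r = 185 ∨ r = 186 ∨ r = 187 := by omega
  rcases h with rfl | rfl | rfl | rfl | rfl | rfl | rfl | rfl
  exacts [hAllE8_r180, hAllE8_r181, hAllE8_r182, hAllE8_r183, hAllE8_r184, hAllE8_r185, hAllE8_r186, hAllE8_r187]

theorem hAllE8_r188 : hCheck chevE8 188 (decExp (lget expE8 188 0)) = true := by
  decide +kernel

theorem hAllE8_r189 : hCheck chevE8 189 (decExp (lget expE8 189 0)) = true := by
  decide +kernel

theorem hAllE8_r190 : hCheck chevE8 190 (decExp (lget expE8 190 0)) = true := by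
  decide +kernel

theorem hAllE8_r191 : hCheck chevE8 191 (decExp (lget expE8 191 0)) = true := by
  decide +kernel

theorem hAllE8_r192 : hCheck chevE8 192 (decExp (lget expE8 192 0)) = true := by
  decide +kernel

theorem hAllE8_r193 : hCheck chevE8 193 (decExp (lget expE8 193 0)) = true := by
  decide +kernel

theorem hAllE8_r194 : hCheck chevE8 194 (decExp (lget expE8 194 0)) = true := by
  decide +kernel

theorem hAllE8_188' (r : ℕ) (h1 : 188 ≤ r) (h2 : r < 195) : hCheck chevE8 r (decExp (lget expE8 r 0)) = true := by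
  have h : r = 188 ∨ r = 189 ∨ r = 190 ∨ r = 191 ∨ r = 192 ∨ r = 193 ∨ r = 194 := by omega
  rcases h with rfl | rfl | rfl | rfl | rfl | rfl | rfl
  exacts [hAllE8_r188, hAllE8_r189, hAllE8_r190, hAllE8_r191, hAllE8_r192, hAllE8_r193, hAllE8_r194]

end Cfsg.Agent.Helper18
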