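import Cfsg.Agent.Lib.Helper18.HExp
import Cfsg.Prelude.Def_LieTypes
import Cfsg.Prelude.Def_ChevB2

set_option autoImplicit false
set_option maxRecDepth 100000

namespace Cfsg.Agent.Helper18

open Cfsg.Lie

theorem hAllE8_r195 : hCheck chevE8 195 (decExp (lget expE8 195 0)) = true := by
  decide +kernel

theorem hAllE8_r196 : hCheck chevE8 196 (decExp (lget expE8 196 0)) = true := by
  decide +kernel

theorem hAllE8_r197 : hCheck chevE8 197 (decExp (lget expE8 197 0)) = true := by
  decide +kernel

theorem hAllE8_r198 : hCheck chevE8 198 (decExp (lget expE8 198 0)) = true := by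
  decide +kernel

theorem hAllE8_r199 : hCheck chevE8 199 (decExp (lget expE8 199 0)) = true := by
  decide +kernel

theorem hAllE8_r200 : hCheck chevE8 200 (decExp (lget expE8 200 0)) = true := by
  decide +kernel

theorem hAllE8_r201 : hCheck chevE8 201 (decExp (lget expE8 201 0)) = true := by
  decide +kernel

theorem hAllE8_r202 : hCheck chevE8 202 (decExp (lget expE8 202 0)) = true := by
  decide +kernel

theorem hAllE8_195' (r : ℕ) (h1 : 195 ≤ r) (h2 : r < 203) : hCheck chevE8 r (decExp (lget expE8 r 0)) = true := by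
  have h : r = 195 ∨ r = 196 ∨ r = 197 ∨ r = 198 ∨ r = 199 ∨ r = 200 ∨ r = 201 ∨ r = 202 := by omega
  rcases h with rfl | rfl | rfl | rfl | rfl | rfl | rfl | rfl
  exacts [hAllE8_r195, hAllE8_r196, hAllE8_r197, hAllE8_r198, hAllE8_r199, hAllE8_r200, hAllE8_r201, hAllE8_r202]

theorem hAllE8_r203 : hCheck chevE8 203 (decExp (lget expE8 203 0)) = true := by
  decide +kernel

theorem hAllE8_r204 : hCheck chevE8 204 (decExp (lget expE8 204 0)) = true := by
  decide +kernel

theorem hAllE8_r205 : hCheck chevE8 205 (decExp (lget expE8 205 0)) = true := by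
  decide +kernel

theorem hAllE8_r206 : hCheck chevE8 206 (decExp (lget expE8 206 0)) = true := by
  decide +kernel

theorem hAllE8_r207 : hCheck chevE8 207 (decExp (lget expE8 207 0)) = true := by
  decide +kernel

theorem hAllE8_r208 : hCheck chevE8 208 (decExp (lget expE8 208 0)) = true := by
  decide +kernel

theorem hAllE8_r209 : hCheck chevE8 209 (decExp (lget expE8 209 0)) = true := by
  decide +kernel

theorem hAllE8_203' (r : ℕ) (h1 : 203 ≤ r) (h2 : r < 210) : hCheck chevE8 r (decExp (lget expE8 r 0)) = true := by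
  have h : r = 203 ∨ r = 204 ∨ r = 205 ∨ r = 206 ∨ r = 207 ∨ r = 208 ∨ r = 209 := by omega
  rcases h with rfl | rfl | rfl | rfl | rfl | rfl | rfl
  exacts [hAllE8_r203, hAllE8_r204, hAllE8_r205, hAllE8_r206, hAllE8_r207, hAllE8_r208, hAllE8_r209]

end Cfsg.Agent.Helper18
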