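import Cfsg.Agent.Lib.Helper18.HExp
import Cfsg.Prelude.Def_LieTypes
import Cfsg.Prelude.Def_ChevB2

set_option autoImplicit false
set_option maxRecDepth 100000

namespace Cfsg.Agent.Helper18

open Cfsg.Lie

theorem hAllE8_r210 : hCheck chevE8 210 (decExp (lget expE8 210 0)) = true := by
  decide +kernel

theorem hAllE8_r211 : hCheck chevE8 211 (decExp (lget expE8 211 0)) = true := by
  decide +kernel

theorem hAllE8_r212 : hCheck chevE8 212 (decExp (lget expE8 212 0)) = true := by
  decide +kernel

theorem hAllE8_r213 : hCheck chevE8 213 (decExp (lget expE8 213 0)) = true := by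
  decide +kernel

theorem hAllE8_r214 : hCheck chevE8 214 (decExp (lget expE8 214 0)) = true := by
  decide +kernel

theorem hAllE8_r215 : hCheck chevE8 215 (decExp (lget expE8 215 0)) = true := by
  decide +kernel

theorem hAllE8_r216 : hCheck chevE8 216 (decExp (lget expE8 216 0)) = true := by
  decide +kernel

theorem hAllE8_r217 : hCheck chevE8 217 (decExp (lget expE8 217 0)) = true := by
  decide +kernel

theorem hAllE8_210' (r : ℕ) (h1 : 210 ≤ r) (h2 : r < 218) : hCheck chevE8 r (decExp (lget expE8 r 0)) = true := by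
  have h : r = 210 ∨ r = 211 ∨ r = 212 ∨ r = 213 ∨ r = 214 ∨ r = 215 ∨ r = 216 ∨ r = 217 := by omega
  rcases h with rfl | rfl | rfl | rfl | rfl | rfl | rfl | rfl
  exacts [hAllE8_r210, hAllE8_r211, hAllE8_r212, hAllE8_r213, hAllE8_r214, hAllE8_r215, hAllE8_r216, hAllE8_r217]

theorem hAllE8_r218 : hCheck chevE8 218 (decExp (lget expE8 218 0)) = true := by
  decide +kernel

theorem hAllE8_r219 : hCheck chevE8 219 (decExp (lget expE8 219 0)) = true := by
  decide +kernel

theorem hAllE8_r220 : hCheck chevE8 220 (decExp (lget expE8 220 0)) = true := by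
  decide +kernel

theorem hAllE8_r221 : hCheck chevE8 221 (decExp (lget expE8 221 0)) = true := by
  decide +kernel

theorem hAllE8_r222 : hCheck chevE8 222 (decExp (lget expE8 222 0)) = true := by
  decide +kernel

theorem hAllE8_r223 : hCheck chevE8 223 (decExp (lget expE8 223 0)) = true := by
  decide +kernel

theorem hAllE8_r224 : hCheck chevE8 224 (decExp (lget expE8 224 0)) = true := by
  decide +kernel

theorem hAllE8_218' (r : ℕ) (h1 : 218 ≤ r) (h2 : r < 225) : hCheck chevE8 r (decExp (lget expE8 r 0)) = true := by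
  have h : r = 218 ∨ r = 219 ∨ r = 220 ∨ r = 221 ∨ r = 222 ∨ r = 223 ∨ r = 224 := by omega
  rcases h with rfl | rfl | rfl | rfl | rfl | rfl | rfl
  exacts [hAllE8_r218, hAllE8_r219, hAllE8_r220, hAllE8_r221, hAllE8_r222, hAllE8_r223, hAllE8_r224]

end Cfsg.Agent.Helper18
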