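import Cfsg.Agent.Lib.Helper18.HExp
import Cfsg.Prelude.Def_LieTypes
import Cfsg.Prelude.Def_ChevB2

set_option autoImplicit false
set_option maxRecDepth 100000

namespace Cfsg.Agent.Helper18

open Cfsg.Lie

theorem hAllE8_r225 : hCheck chevE8 225 (decExp (lget expE8 225 0)) = true := by
  decide +kernel

theorem hAllE8_r226 : hCheck chevE8 226 (decExp (lget expE8 226 0)) = true := by
  decide +kernel

theorem hAllE8_r227 : hCheck chevE8 227 (decExp (lget expE8 227 0)) = true := by
  decide +kernel

theorem hAllE8_r228 : hCheck chevE8 228 (decExp (lget expE8 228 0)) = true := by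
  decide +kernel

theorem hAllE8_r229 : hCheck chevE8 229 (decExp (lget expE8 229 0)) = true := by
  decide +kernel

theorem hAllE8_r230 : hCheck chevE8 230 (decExp (lget expE8 230 0)) = true := by
  decide +kernel

theorem hAllE8_r231 : hCheck chevE8 231 (decExp (lget expE8 231 0)) = true := by
  decide +kernel

theorem hAllE8_r232 : hCheck chevE8 232 (decExp (lget expE8 232 0)) = true := by
  decide +kernel

theorem hAllE8_225' (r : ℕ) (h1 : 225 ≤ r) (h2 : r < 233) : hCheck chevE8 r (decExp (lget expE8 r 0)) = true := by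
  have h : r = 225 ∨ r = 226 ∨ r = 227 ∨ r = 228 ∨ r = 229 ∨ r = 230 ∨ r = 231 ∨ r = 232 := by omega
  rcases h with rfl | rfl | rfl | rfl | rfl | rfl | rfl | rfl
  exacts [hAllE8_r225, hAllE8_r226, hAllE8_r227, hAllE8_r228, hAllE8_r229, hAllE8_r230, hAllE8_r231, hAllE8_r232]

theorem hAllE8_r233 : hCheck chevE8 233 (decExp (lget expE8 233 0)) = true := by
  decide +kernel

theorem hAllE8_r234 : hCheck chevE8 234 (decExp (lget expE8 234 0)) = true := by
  decide +kernel

theorem hAllE8_r235 : hCheck chevE8 235 (decExp (lget expE8 235 0)) = true := by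
  decide +kernel

theorem hAllE8_r236 : hCheck chevE8 236 (decExp (lget expE8 236 0)) = true := by
  decide +kernel

theorem hAllE8_r237 : hCheck chevE8 237 (decExp (lget expE8 237 0)) = true := by
  decide +kernel

theorem hAllE8_r238 : hCheck chevE8 238 (decExp (lget expE8 238 0)) = true := by
  decide +kernel

theorem hAllE8_r239 : hCheck chevE8 239 (decExp (lget expE8 239 0)) = true := by
  decide +kernel

theorem hAllE8_233' (r : ℕ) (h1 : 233 ≤ r) (h2 : r < 240) : hCheck chevE8 r (decExp (lget expE8 r 0)) = true := by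
  have h : r = 233 ∨ r = 234 ∨ r = 235 ∨ r = 236 ∨ r = 237 ∨ r = 238 ∨ r = 239 := by omega
  rcases h with rfl | rfl | rfl | rfl | rfl | rfl | rfl
  exacts [hAllE8_r233, hAllE8_r234, hAllE8_r235, hAllE8_r236, hAllE8_r237, hAllE8_r238, hAllE8_r239]

end Cfsg.Agent.Helper18
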