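import Cfsg.Agent.Lib.Helper18.HExp
import Cfsg.Prelude.Def_LieTypes
import Cfsg.Prelude.Def_ChevB2

set_option autoImplicit false
set_option maxRecDepth 100000

namespace Cfsg.Agent.Helper18

open Cfsg.Lie

theorem hAllE8_r30 : hCheck chevE8 30 (decExp (lget expE8 30 0)) = true := by
  decide +kernel

theorem hAllE8_r31 : hCheck chevE8 31 (decExp (lget expE8 31 0)) = true := by
  decide +kernel

theorem hAllE8_r32 : hCheck chevE8 32 (decExp (lget expE8 32 0)) = true := by
  decide +kernel

theorem hAllE8_r33 : hCheck chevE8 33 (decExp (lget expE8 33 0)) = true := by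
  decide +kernel

theorem hAllE8_r34 : hCheck chevE8 34 (decExp (lget expE8 34 0)) = true := by
  decide +kernel

theorem hAllE8_r35 : hCheck chevE8 35 (decExp (lget expE8 35 0)) = true := by
  decide +kernel

theorem hAllE8_r36 : hCheck chevE8 36 (decExp (lget expE8 36 0)) = true := by
  decide +kernel

theorem hAllE8_r37 : hCheck chevE8 37 (decExp (lget expE8 37 0)) = true := by
  decide +kernel

theorem hAllE8_30' (r : ℕ) (h1 : 30 ≤ r) (h2 : r < 38) : hCheck chevE8 r (decExp (lget expE8 r 0)) = true := by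
  have h : r = 30 ∨ r = 31 ∨ r = 32 ∨ r = 33 ∨ r = 34 ∨ r = 35 ∨ r = 36 ∨ r = 37 := by omega
  rcases h with rfl | rfl | rfl | rfl | rfl | rfl | rfl | rfl
  exacts [hAllE8_r30, hAllE8_r31, hAllE8_r32, hAllE8_r33, hAllE8_r34, hAllE8_r35, hAllE8_r36, hAllE8_r37]

theorem hAllE8_r38 : hCheck chevE8 38 (decExp (lget expE8 38 0)) = true := by
  decide +kernel

theorem hAllE8_r39 : hCheck chevE8 39 (decExp (lget expE8 39 0)) = true := by
  decide +kernel

theorem hAllE8_r40 : hCheck chevE8 40 (decExp (lget expE8 40 0)) = true := by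
  decide +kernel

theorem hAllE8_r41 : hCheck chevE8 41 (decExp (lget expE8 41 0)) = true := by
  decide +kernel

theorem hAllE8_r42 : hCheck chevE8 42 (decExp (lget expE8 42 0)) = true := by
  decide +kernel

theorem hAllE8_r43 : hCheck chevE8 43 (decExp (lget expE8 43 0)) = true := by
  decide +kernel

theorem hAllE8_r44 : hCheck chevE8 44 (decExp (lget expE8 44 0)) = true := by
  decide +kernel

theorem hAllE8_38' (r : ℕ) (h1 : 38 ≤ r) (h2 : r < 45) : hCheck chevE8 r (decExp (lget expE8 r 0)) = true := by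
  have h : r = 38 ∨ r = 39 ∨ r = 40 ∨ r = 41 ∨ r = 42 ∨ r = 43 ∨ r = 44 := by omega
  rcases h with rfl | rfl | rfl | rfl | rfl | rfl | rfl
  exacts [hAllE8_r38, hAllE8_r39, hAllE8_r40, hAllE8_r41, hAllE8_r42, hAllE8_r43, hAllE8_r44]

end Cfsg.Agent.Helper18
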