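import Cfsg.Agent.Lib.Helper18.HExp
import Cfsg.Prelude.Def_LieTypes
import Cfsg.Prelude.Def_ChevB2

set_option autoImplicit false
set_option maxRecDepth 100000

namespace Cfsg.Agent.Helper18

open Cfsg.Lie

theorem hAllE8_r45 : hCheck chevE8 45 (decExp (lget expE8 45 0)) = true := by
  decide +kernel

theorem hAllE8_r46 : hCheck chevE8 46 (decExp (lget expE8 46 0)) = true := by
  decide +kernel

theorem hAllE8_r47 : hCheck chevE8 47 (decExp (lget expE8 47 0)) = true := by
  decide +kernel

theorem hAllE8_r48 : hCheck chevE8 48 (decExp (lget expE8 48 0)) = true := by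
  decide +kernel

theorem hAllE8_r49 : hCheck chevE8 49 (decExp (lget expE8 49 0)) = true := by
  decide +kernel

theorem hAllE8_r50 : hCheck chevE8 50 (decExp (lget expE8 50 0)) = true := by
  decide +kernel

theorem hAllE8_r51 : hCheck chevE8 51 (decExp (lget expE8 51 0)) = true := by
  decide +kernel

theorem hAllE8_r52 : hCheck chevE8 52 (decExp (lget expE8 52 0)) = true := by
  decide +kernel

theorem hAllE8_45' (r : ℕ) (h1 : 45 ≤ r) (h2 : r < 53) : hCheck chevE8 r (decExp (lget expE8 r 0)) = true := by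
  have h : r = 45 ∨ r = 46 ∨ r = 47 ∨ r = 48 ∨ r = 49 ∨ r = 50 ∨ r = 51 ∨ r = 52 := by omega
  rcases h with rfl | rfl | rfl | rfl | rfl | rfl | rfl | rfl
  exacts [hAllE8_r45, hAllE8_r46, hAllE8_r47, hAllE8_r48, hAllE8_r49, hAllE8_r50, hAllE8_r51, hAllE8_r52]

theorem hAllE8_r53 : hCheck chevE8 53 (decExp (lget expE8 53 0)) = true := by
  decide +kernel

theorem hAllE8_r54 : hCheck chevE8 54 (decExp (lget expE8 54 0)) = true := by
  decide +kernel

theorem hAllE8_r55 : hCheck chevE8 55 (decExp (lget expE8 55 0)) = true := by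
  decide +kernel

theorem hAllE8_r56 : hCheck chevE8 56 (decExp (lget expE8 56 0)) = true := by
  decide +kernel

theorem hAllE8_r57 : hCheck chevE8 57 (decExp (lget expE8 57 0)) = true := by
  decide +kernel

theorem hAllE8_r58 : hCheck chevE8 58 (decExp (lget expE8 58 0)) = true := by
  decide +kernel

theorem hAllE8_r59 : hCheck chevE8 59 (decExp (lget expE8 59 0)) = true := by
  decide +kernel

theorem hAllE8_53' (r : ℕ) (h1 : 53 ≤ r) (h2 : r < 60) : hCheck chevE8 r (decExp (lget expE8 r 0)) = true := by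
  have h : r = 53 ∨ r = 54 ∨ r = 55 ∨ r = 56 ∨ r = 57 ∨ r = 58 ∨ r = 59 := by omega
  rcases h with rfl | rfl | rfl | rfl | rfl | rfl | rfl
  exacts [hAllE8_r53, hAllE8_r54, hAllE8_r55, hAllE8_r56, hAllE8_r57, hAllE8_r58, hAllE8_r59]

end Cfsg.Agent.Helper18
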