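import Cfsg.Agent.Lib.Helper18.HExp
import Cfsg.Prelude.Def_LieTypes
import Cfsg.Prelude.Def_ChevB2

set_option autoImplicit false
set_option maxRecDepth 100000

namespace Cfsg.Agent.Helper18

open Cfsg.Lie

theorem hAllE8_r60 : hCheck chevE8 60 (decExp (lget expE8 60 0)) = true := by
  decide +kernel

theorem hAllE8_r61 : hCheck chevE8 61 (decExp (lget expE8 61 0)) = true := by
  decide +kernel

theorem hAllE8_r62 : hCheck chevE8 62 (decExp (lget expE8 62 0)) = true := by
  decide +kernel

theorem hAllE8_r63 : hCheck chevE8 63 (decExp (lget expE8 63 0)) = true := by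
  decide +kernel

theorem hAllE8_r64 : hCheck chevE8 64 (decExp (lget expE8 64 0)) = true := by
  decide +kernel

theorem hAllE8_r65 : hCheck chevE8 65 (decExp (lget expE8 65 0)) = true := by
  decide +kernel

theorem hAllE8_r66 : hCheck chevE8 66 (decExp (lget expE8 66 0)) = true := by
  decide +kernel

theorem hAllE8_r67 : hCheck chevE8 67 (decExp (lget expE8 67 0)) = true := by
  decide +kernel

theorem hAllE8_60' (r : ℕ) (h1 : 60 ≤ r) (h2 : r < 68) : hCheck chevE8 r (decExp (lget expE8 r 0)) = true := by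
  have h : r = 60 ∨ r = 61 ∨ r = 62 ∨ r = 63 ∨ r = 64 ∨ r = 65 ∨ r = 66 ∨ r = 67 := by omega
  rcases h with rfl | rfl | rfl | rfl | rfl | rfl | rfl | rfl
  exacts [hAllE8_r60, hAllE8_r61, hAllE8_r62, hAllE8_r63, hAllE8_r64, hAllE8_r65, hAllE8_r66, hAllE8_r67]

theorem hAllE8_r68 : hCheck chevE8 68 (decExp (lget expE8 68 0)) = true := by
  decide +kernel

theorem hAllE8_r69 : hCheck chevE8 69 (decExp (lget expE8 69 0)) = true := by
  decide +kernel

theorem hAllE8_r70 : hCheck chevE8 70 (decExp (lget expE8 70 0)) = true := by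
  decide +kernel

theorem hAllE8_r71 : hCheck chevE8 71 (decExp (lget expE8 71 0)) = true := by
  decide +kernel

theorem hAllE8_r72 : hCheck chevE8 72 (decExp (lget expE8 72 0)) = true := by
  decide +kernel

theorem hAllE8_r73 : hCheck chevE8 73 (decExp (lget expE8 73 0)) = true := by
  decide +kernel

theorem hAllE8_r74 : hCheck chevE8 74 (decExp (lget expE8 74 0)) = true := by
  decide +kernel

theorem hAllE8_68' (r : ℕ) (h1 : 68 ≤ r) (h2 : r < 75) : hCheck chevE8 r (decExp (lget expE8 r 0)) = true := by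
  have h : r = 68 ∨ r = 69 ∨ r = 70 ∨ r = 71 ∨ r = 72 ∨ r = 73 ∨ r = 74 := by omega
  rcases h with rfl | rfl | rfl | rfl | rfl | rfl | rfl
  exacts [hAllE8_r68, hAllE8_r69, hAllE8_r70, hAllE8_r71, hAllE8_r72, hAllE8_r73, hAllE8_r74]

end Cfsg.Agent.Helper18
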