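import Cfsg.Agent.Lib.Helper18.HExp
import Cfsg.Prelude.Def_LieTypes
import Cfsg.Prelude.Def_ChevB2

set_option autoImplicit false
set_option maxRecDepth 100000

namespace Cfsg.Agent.Helper18

open Cfsg.Lie

theorem hAllE8_r75 : hCheck chevE8 75 (decExp (lget expE8 75 0)) = true := by
  decide +kernel

theorem hAllE8_r76 : hCheck chevE8 76 (decExp (lget expE8 76 0)) = true := by
  decide +kernel

theorem hAllE8_r77 : hCheck chevE8 77 (decExp (lget expE8 77 0)) = true := by
  decide +kernel

theorem hAllE8_r78 : hCheck chevE8 78 (decExp (lget expE8 78 0)) = true := by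
  decide +kernel

theorem hAllE8_r79 : hCheck chevE8 79 (decExp (lget expE8 79 0)) = true := by
  decide +kernel

theorem hAllE8_r80 : hCheck chevE8 80 (decExp (lget expE8 80 0)) = true := by
  decide +kernel

theorem hAllE8_r81 : hCheck chevE8 81 (decExp (lget expE8 81 0)) = true := by
  decide +kernel

theorem hAllE8_r82 : hCheck chevE8 82 (decExp (lget expE8 82 0)) = true := by
  decide +kernel

theorem hAllE8_75' (r : ℕ) (h1 : 75 ≤ r) (h2 : r < 83) : hCheck chevE8 r (decExp (lget expE8 r 0)) = true := by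
  have h : r = 75 ∨ r = 76 ∨ r = 77 ∨ r = 78 ∨ r = 79 ∨ r = 80 ∨ r = 81 ∨ r = 82 := by omega
  rcases h with rfl | rfl | rfl | rfl | rfl | rfl | rfl | rfl
  exacts [hAllE8_r75, hAllE8_r76, hAllE8_r77, hAllE8_r78, hAllE8_r79, hAllE8_r80, hAllE8_r81, hAllE8_r82]

theorem hAllE8_r83 : hCheck chevE8 83 (decExp (lget expE8 83 0)) = true := by
  decide +kernel

theorem hAllE8_r84 : hCheck chevE8 84 (decExp (lget expE8 84 0)) = true := by
  decide +kernel

theorem hAllE8_r85 : hCheck chevE8 85 (decExp (lget expE8 85 0)) = true := by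
  decide +kernel

theorem hAllE8_r86 : hCheck chevE8 86 (decExp (lget expE8 86 0)) = true := by
  decide +kernel

theorem hAllE8_r87 : hCheck chevE8 87 (decExp (lget expE8 87 0)) = true := by
  decide +kernel

theorem hAllE8_r88 : hCheck chevE8 88 (decExp (lget expE8 88 0)) = true := by
  decide +kernel

theorem hAllE8_r89 : hCheck chevE8 89 (decExp (lget expE8 89 0)) = true := by
  decide +kernel

theorem hAllE8_83' (r : ℕ) (h1 : 83 ≤ r) (h2 : r < 90) : hCheck chevE8 r (decExp (lget expE8 r 0)) = true := by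
  have h : r = 83 ∨ r = 84 ∨ r = 85 ∨ r = 86 ∨ r = 87 ∨ r = 88 ∨ r = 89 := by omega
  rcases h with rfl | rfl | rfl | rfl | rfl | rfl | rfl
  exacts [hAllE8_r83, hAllE8_r84, hAllE8_r85, hAllE8_r86, hAllE8_r87, hAllE8_r88, hAllE8_r89]

end Cfsg.Agent.Helper18
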