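import Cfsg.Agent.Lib.Helper18.HExp
import Cfsg.Prelude.Def_LieTypes
import Cfsg.Prelude.Def_ChevB2

set_option autoImplicit false
set_option maxRecDepth 100000

namespace Cfsg.Agent.Helper18

open Cfsg.Lie

theorem hAllE8_r105 : hCheck chevE8 105 (decExp (lget expE8 105 0)) = true := by
  decide +kernel

theorem hAllE8_r106 : hCheck chevE8 106 (decExp (lget expE8 106 0)) = true := by
  decide +kernel

theorem hAllE8_r107 : hCheck chevE8 107 (decExp (lget expE8 107 0)) = true := by
  decide +kernel

theorem hAllE8_r108 : hCheck chevE8 108 (decExp (lget expE8 108 0)) = true := by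
  decide +kernel

theorem hAllE8_r109 : hCheck chevE8 109 (decExp (lget expE8 109 0)) = true := by
  decide +kernel

theorem hAllE8_r110 : hCheck chevE8 110 (decExp (lget expE8 110 0)) = true := by
  decide +kernel

theorem hAllE8_r111 : hCheck chevE8 111 (decExp (lget expE8 111 0)) = true := by
  decide +kernel

theorem hAllE8_r112 : hCheck chevE8 112 (decExp (lget expE8 112 0)) = true := by
  decide +kernel

theorem hAllE8_105' (r : ℕ) (h1 : 105 ≤ r) (h2 : r < 113) : hCheck chevE8 r (decExp (lget expE8 r 0)) = true := by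
  have h : r = 105 ∨ r = 106 ∨ r = 107 ∨ r = 108 ∨ r = 109 ∨ r = 110 ∨ r = 111 ∨ r = 112 := by omega
  rcases h with rfl | rfl | rfl | rfl | rfl | rfl | rfl | rfl
  exacts [hAllE8_r105, hAllE8_r106, hAllE8_r107, hAllE8_r108, hAllE8_r109, hAllE8_r110, hAllE8_r111, hAllE8_r112]

theorem hAllE8_r113 : hCheck chevE8 113 (decExp (lget expE8 113 0)) = true := by
  decide +kernel

theorem hAllE8_r114 : hCheck chevE8 114 (decExp (lget expE8 114 0)) = true := by
  decide +kernel

theorem hAllE8_r115 : hCheck chevE8 115 (decExp (lget expE8 115 0)) = true := by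
  decide +kernel

theorem hAllE8_r116 : hCheck chevE8 116 (decExp (lget expE8 116 0)) = true := by
  decide +kernel

theorem hAllE8_r117 : hCheck chevE8 117 (decExp (lget expE8 117 0)) = true := by
  decide +kernel

theorem hAllE8_r118 : hCheck chevE8 118 (decExp (lget expE8 118 0)) = true := by
  decide +kernel

theorem hAllE8_r119 : hCheck chevE8 119 (decExp (lget expE8 119 0)) = true := by
  decide +kernel

theorem hAllE8_113' (r : ℕ) (h1 : 113 ≤ r) (h2 : r < 120) : hCheck chevE8 r (decExp (lget expE8 r 0)) = true := by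
  have h : r = 113 ∨ r = 114 ∨ r = 115 ∨ r = 116 ∨ r = 117 ∨ r = 118 ∨ r = 119 := by omega
  rcases h with rfl | rfl | rfl | rfl | rfl | rfl | rfl
  exacts [hAllE8_r113, hAllE8_r114, hAllE8_r115, hAllE8_r116, hAllE8_r117, hAllE8_r118, hAllE8_r119]

end Cfsg.Agent.Helper18
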