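import Cfsg.Agent.Lib.Helper18.HExp
import Cfsg.Prelude.Def_LieTypes
import Cfsg.Prelude.Def_ChevB2

set_option autoImplicit false
set_option maxRecDepth 100000

namespace Cfsg.Agent.Helper18

open Cfsg.Lie

theorem hAllE8_r120 : hCheck chevE8 120 (decExp (lget expE8 120 0)) = true := by
  decide +kernel

theorem hAllE8_r121 : hCheck chevE8 121 (decExp (lget expE8 121 0)) = true := by
  decide +kernel

theorem hAllE8_r122 : hCheck chevE8 122 (decExp (lget expE8 122 0)) = true := by
  decide +kernel

theorem hAllE8_r123 : hCheck chevE8 123 (decExp (lget expE8 123 0)) = true := by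
  decide +kernel

theorem hAllE8_r124 : hCheck chevE8 124 (decExp (lget expE8 124 0)) = true := by
  decide +kernel

theorem hAllE8_r125 : hCheck chevE8 125 (decExp (lget expE8 125 0)) = true := by
  decide +kernel

theorem hAllE8_r126 : hCheck chevE8 126 (decExp (lget expE8 126 0)) = true := by
  decide +kernel

theorem hAllE8_r127 : hCheck chevE8 127 (decExp (lget expE8 127 0)) = true := by
  decide +kernel

theorem hAllE8_120' (r : ℕ) (h1 : 120 ≤ r) (h2 : r < 128) : hCheck chevE8 r (decExp (lget expE8 r 0)) = true := by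
  have h : r = 120 ∨ r = 121 ∨ r = 122 ∨ r = 123 ∨ r = 124 ∨ r = 125 ∨ r = 126 ∨ r = 127 := by omega
  rcases h with rfl | rfl | rfl | rfl | rfl | rfl | rfl | rfl
  exacts [hAllE8_r120, hAllE8_r121, hAllE8_r122, hAllE8_r123, hAllE8_r124, hAllE8_r125, hAllE8_r126, hAllE8_r127]

theorem hAllE8_r128 : hCheck chevE8 128 (decExp (lget expE8 128 0)) = true := by
  decide +kernel

theorem hAllE8_r129 : hCheck chevE8 129 (decExp (lget expE8 129 0)) = true := by
  decide +kernel

theorem hAllE8_r130 : hCheck chevE8 130 (decExp (lget expE8 130 0)) = true := by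
  decide +kernel

theorem hAllE8_r131 : hCheck chevE8 131 (decExp (lget expE8 131 0)) = true := by
  decide +kernel

theorem hAllE8_r132 : hCheck chevE8 132 (decExp (lget expE8 132 0)) = true := by
  decide +kernel

theorem hAllE8_r133 : hCheck chevE8 133 (decExp (lget expE8 133 0)) = true := by
  decide +kernel

theorem hAllE8_r134 : hCheck chevE8 134 (decExp (lget expE8 134 0)) = true := by
  decide +kernel

theorem hAllE8_128' (r : ℕ) (h1 : 128 ≤ r) (h2 : r < 135) : hCheck chevE8 r (decExp (lget expE8 r 0)) = true := by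
  have h : r = 128 ∨ r = 129 ∨ r = 130 ∨ r = 131 ∨ r = 132 ∨ r = 133 ∨ r = 134 := by omega
  rcases h with rfl | rfl | rfl | rfl | rfl | rfl | rfl
  exacts [hAllE8_r128, hAllE8_r129, hAllE8_r130, hAllE8_r131, hAllE8_r132, hAllE8_r133, hAllE8_r134]

end Cfsg.Agent.Helper18
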