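import Cfsg.Agent.Lib.Helper18.HExp
import Cfsg.Prelude.Def_LieTypes
import Cfsg.Prelude.Def_ChevB2

set_option autoImplicit false
set_option maxRecDepth 100000

namespace Cfsg.Agent.Helper18

open Cfsg.Lie

theorem hAllE8_r135 : hCheck chevE8 135 (decExp (lget expE8 135 0)) = true := by
  decide +kernel

theorem hAllE8_r136 : hCheck chevE8 136 (decExp (lget expE8 136 0)) = true := by
  decide +kernel

theorem hAllE8_r137 : hCheck chevE8 137 (decExp (lget expE8 137 0)) = true := by
  decide +kernel

theorem hAllE8_r138 : hCheck chevE8 138 (decExp (lget expE8 138 0)) = true := by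
  decide +kernel

theorem hAllE8_r139 : hCheck chevE8 139 (decExp (lget expE8 139 0)) = true := by
  decide +kernel

theorem hAllE8_r140 : hCheck chevE8 140 (decExp (lget expE8 140 0)) = true := by
  decide +kernel

theorem hAllE8_r141 : hCheck chevE8 141 (decExp (lget expE8 141 0)) = true := by
  decide +kernel

theorem hAllE8_r142 : hCheck chevE8 142 (decExp (lget expE8 142 0)) = true := by
  decide +kernel

theorem hAllE8_135' (r : ℕ) (h1 : 135 ≤ r) (h2 : r < 143) : hCheck chevE8 r (decExp (lget expE8 r 0)) = true := by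
  have h : r = 135 ∨ r = 136 ∨ r = 137 ∨ r = 138 ∨ r = 139 ∨ r = 140 ∨ r = 141 ∨ r = 142 := by omega
  rcases h with rfl | rfl | rfl | rfl | rfl | rfl | rfl | rfl
  exacts [hAllE8_r135, hAllE8_r136, hAllE8_r137, hAllE8_r138, hAllE8_r139, hAllE8_r140, hAllE8_r141, hAllE8_r142]

theorem hAllE8_r143 : hCheck chevE8 143 (decExp (lget expE8 143 0)) = true := by
  decide +kernel

theorem hAllE8_r144 : hCheck chevE8 144 (decExp (lget expE8 144 0)) = true := by
  decide +kernel

theorem hAllE8_r145 : hCheck chevE8 145 (decExp (lget expE8 145 0)) = true := by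
  decide +kernel

theorem hAllE8_r146 : hCheck chevE8 146 (decExp (lget expE8 146 0)) = true := by
  decide +kernel

theorem hAllE8_r147 : hCheck chevE8 147 (decExp (lget expE8 147 0)) = true := by
  decide +kernel

theorem hAllE8_r148 : hCheck chevE8 148 (decExp (lget expE8 148 0)) = true := by
  decide +kernel

theorem hAllE8_r149 : hCheck chevE8 149 (decExp (lget expE8 149 0)) = true := by
  decide +kernel

theorem hAllE8_143' (r : ℕ) (h1 : 143 ≤ r) (h2 : r < 150) : hCheck chevE8 r (decExp (lget expE8 r 0)) = true := by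
  have h : r = 143 ∨ r = 144 ∨ r = 145 ∨ r = 146 ∨ r = 147 ∨ r = 148 ∨ r = 149 := by omega
  rcases h with rfl | rfl | rfl | rfl | rfl | rfl | rfl
  exacts [hAllE8_r143, hAllE8_r144, hAllE8_r145, hAllE8_r146, hAllE8_r147, hAllE8_r148, hAllE8_r149]

end Cfsg.Agent.Helper18
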