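import Cfsg.Agent.Lib.Helper18.HAllSmall
import Cfsg.Agent.Lib.Helper18.HAllE6
import Cfsg.Agent.Lib.Helper18.HAllE7_0
import Cfsg.Agent.Lib.Helper18.HAllE7_1
import Cfsg.Agent.Lib.Helper18.HAllE7_2
import Cfsg.Agent.Lib.Helper18.HAllE7_3
import Cfsg.Agent.Lib.Helper18.HAllE8_0
import Cfsg.Agent.Lib.Helper18.HAllE8_1
import Cfsg.Agent.Lib.Helper18.HAllE8_2
import Cfsg.Agent.Lib.Helper18.HAllE8_3
import Cfsg.Agent.Lib.Helper18.HAllE8_4
import Cfsg.Agent.Lib.Helper18.HAllE8_5
import Cfsg.Agent.Lib.Helper18.HAllE8_6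
import Cfsg.Agent.Lib.Helper18.HAllE8_7
import Cfsg.Agent.Lib.Helper18.HAllE8_8
import Cfsg.Agent.Lib.Helper18.HAllE8_9
import Cfsg.Agent.Lib.Helper18.HAllE8_10
import Cfsg.Agent.Lib.Helper18.HAllE8_11
import Cfsg.Agent.Lib.Helper18.HAllE8_12
import Cfsg.Agent.Lib.Helper18.HAllE8_13
import Cfsg.Agent.Lib.Helper18.HAllE8_14
import Cfsg.Agent.Lib.Helper18.HAllE8_15
import Cfsg.Prelude.Def_LieTypes
import Cfsg.Prelude.Def_ChevB2

set_option autoImplicit false
set_option maxRecDepth 100000

namespace Cfsg.Agent.Helper18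

open Cfsg.Lie

theorem hAllG2 (r : ℕ) (hr : r < 12) : hCheck chevG2 r (decExp (lget expG2 r 0)) = true := by
  exact hAllG2_0' r (by omega) hr

theorem hAllB2 (r : ℕ) (hr : r < 8) : hCheck chevB2 r (decExp (lget expB2 r 0)) = true := by
  exact hAllB2_0' r (by omega) hr

theorem hAllD4 (r : ℕ) (hr : r < 24) : hCheck chevD4 r (decExp (lget expD4 r 0)) = true := by
  exact hAllD4_0' r (by omega) hr

theorem hAllF4 (r : ℕ) (hr : r < 48) : hCheck chevF4 r (decExp (lget expF4 r 0)) = true := by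
  by_cases h0 : r < 24
  · exact hAllF4_0' r (by omega) h0
  exact hAllF4_24' r (by omega) hr

theorem hAllE6 (r : ℕ) (hr : r < 72) : hCheck chevE6 r (decExp (lget expE6 r 0)) = true := by
  by_cases h0 : r < 36
  · exact hAllE6_0' r (by omega) h0
  exact hAllE6_36' r (by omega) hr

theorem hAllE7 (r : ℕ) (hr : r < 126) : hCheck chevE7 r (decExp (lget expE7 r 0)) = true := by
  by_cases h0 : r < 16
  · exact hAllE7_0' r (by omega) h0
  by_cases h1 : r < 32
  · exact hAllE7_16' r (by omega) h1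
  by_cases h2 : r < 48
  · exact hAllE7_32' r (by omega) h2
  by_cases h3 : r < 64
  · exact hAllE7_48' r (by omega) h3
  by_cases h4 : r < 80
  · exact hAllE7_64' r (by omega) h4
  by_cases h5 : r < 96
  · exact hAllE7_80' r (by omega) h5
  by_cases h6 : r < 111
  · exact hAllE7_96' r (by omega) h6
  exact hAllE7_111' r (by omega) hr

theorem hAllE8 (r : ℕ) (hr : r < 240) : hCheck chevE8 r (decExp (lget expE8 r 0)) = true := by
  by_cases h0 : r < 8
  · exact hAllE8_0' r (by omega) h0
  by_cases h1 : r < 15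
  · exact hAllE8_8' r (by omega) h1
  by_cases h2 : r < 23
  · exact hAllE8_15' r (by omega) h2
  by_cases h3 : r < 30
  · exact hAllE8_23' r (by omega) h3
  by_cases h4 : r < 38
  · exact hAllE8_30' r (by omega) h4
  by_cases h5 : r < 45
  · exact hAllE8_38' r (by omega) h5
  by_cases h6 : r < 53
  · exact hAllE8_45' r (by omega) h6
  by_cases h7 : r < 60
  · exact hAllE8_53' r (by omega) h7
  by_cases h8 : r < 68
  · exact hAllE8_60' r (by omega) h8
  by_cases h9 : r < 75
  · exact hAllE8_68' r (by omega) h9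
  by_cases h10 : r < 83
  · exact hAllE8_75' r (by omega) h10
  by_cases h11 : r < 90
  · exact hAllE8_83' r (by omega) h11
  by_cases h12 : r < 98
  · exact hAllE8_90' r (by omega) h12
  by_cases h13 : r < 105
  · exact hAllE8_98' r (by omega) h13
  by_cases h14 : r < 113
  · exact hAllE8_105' r (by omega) h14
  by_cases h15 : r < 120
  · exact hAllE8_113' r (by omega) h15
  by_cases h16 : r < 128
  · exact hAllE8_120' r (by omega) h16
  by_cases h17 : r < 135
  · exact hAllE8_128' r (by omega) h17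
  by_cases h18 : r < 143
  · exact hAllE8_135' r (by omega) h18
  by_cases h19 : r < 150
  · exact hAllE8_143' r (by omega) h19
  by_cases h20 : r < 158
  · exact hAllE8_150' r (by omega) h20
  by_cases h21 : r < 165
  · exact hAllE8_158' r (by omega) h21
  by_cases h22 : r < 173
  · exact hAllE8_165' r (by omega) h22
  by_cases h23 : r < 180
  · exact hAllE8_173' r (by omega) h23
  by_cases h24 : r < 188
  · exact hAllE8_180' r (by omega) h24
  by_cases h25 : r < 195
  · exact hAllE8_188' r (by omega) h25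
  by_cases h26 : r < 203
  · exact hAllE8_195' r (by omega) h26
  by_cases h27 : r < 210
  · exact hAllE8_203' r (by omega) h27
  by_cases h28 : r < 218
  · exact hAllE8_210' r (by omega) h28
  by_cases h29 : r < 225
  · exact hAllE8_218' r (by omega) h29
  by_cases h30 : r < 233
  · exact hAllE8_225' r (by omega) h30
  exact hAllE8_233' r (by omega) hr

/-- For every root `r` of the seven tabulated data, `h_r(c)` is a diagonal matrix `diagMat D e c`. -/
theorem exists_hCheck (D : ChevalleyDatum) (hD : D ∈ [chevG2, chevB2, chevD4, chevF4, chevE6, chevE7, chevE8]) (r : ℕ) (hr : r < D.nroots) :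
    ∃ e : ℕ → ℤ, hCheck D r e = true := by
  simp only [List.mem_cons, List.not_mem_nil, or_false] at hD
  rcases hD with rfl | rfl | rfl | rfl | rfl | rfl | rfl
  · exact ⟨_, hAllG2 r hr⟩
  · exact ⟨_, hAllB2 r hr⟩
  · exact ⟨_, hAllD4 r hr⟩
  · exact ⟨_, hAllF4 r hr⟩
  · exact ⟨_, hAllE6 r hr⟩
  · exact ⟨_, hAllE7 r hr⟩
  · exact ⟨_, hAllE8 r hr⟩

end Cfsg.Agent.Helper18
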