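import Cfsg.Agent.Lib.Helper18.ChevTorus
import Cfsg.Prelude.Def_LieTypes
import Cfsg.Prelude.Def_ChevB2

set_option autoImplicit false
set_option maxRecDepth 100000

namespace Cfsg.Agent.Helper18

open Cfsg.Lie

theorem linE6_r0 : linCheck chevE6 expE6 0 = true := by
  decide +kernel

theorem linE6_r1 : linCheck chevE6 expE6 1 = true := by
  decide +kernel

theorem linE6_r2 : linCheck chevE6 expE6 2 = true := by
  decide +kernel

theorem linE6_r3 : linCheck chevE6 expE6 3 = true := by
  decide +kernel

theorem linE6_r4 : linCheck chevE6 expE6 4 = true := by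
  decide +kernel

theorem linE6_r5 : linCheck chevE6 expE6 5 = true := by
  decide +kernel

theorem linE6_r6 : linCheck chevE6 expE6 6 = true := by
  decide +kernel

theorem linE6_r7 : linCheck chevE6 expE6 7 = true := by
  decide +kernel

theorem linE6_r8 : linCheck chevE6 expE6 8 = true := by
  decide +kernel

theorem linE6_r9 : linCheck chevE6 expE6 9 = true := by
  decide +kernel

theorem linE6_r10 : linCheck chevE6 expE6 10 = true := by
  decide +kernel

theorem linE6_r11 : linCheck chevE6 expE6 11 = true := by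
  decide +kernel

theorem linE6_r12 : linCheck chevE6 expE6 12 = true := by
  decide +kernel

theorem linE6_r13 : linCheck chevE6 expE6 13 = true := by
  decide +kernel

theorem linE6_r14 : linCheck chevE6 expE6 14 = true := by
  decide +kernel

theorem linE6_r15 : linCheck chevE6 expE6 15 = true := by
  decide +kernel

theorem linE6_r16 : linCheck chevE6 expE6 16 = true := by
  decide +kernel

theorem linE6_r17 : linCheck chevE6 expE6 17 = true := by
  decide +kernel

theorem linE6_r18 : linCheck chevE6 expE6 18 = true := by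
  decide +kernel

theorem linE6_r19 : linCheck chevE6 expE6 19 = true := by
  decide +kernel

theorem linE6_r20 : linCheck chevE6 expE6 20 = true := by
  decide +kernel

theorem linE6_r21 : linCheck chevE6 expE6 21 = true := by
  decide +kernel

theorem linE6_r22 : linCheck chevE6 expE6 22 = true := by
  decide +kernel

theorem linE6_r23 : linCheck chevE6 expE6 23 = true := by
  decide +kernel

theorem linE6_r24 : linCheck chevE6 expE6 24 = true := by
  decide +kernel

theorem linE6_r25 : linCheck chevE6 expE6 25 = true := by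
  decide +kernel

theorem linE6_r26 : linCheck chevE6 expE6 26 = true := by
  decide +kernel

theorem linE6_r27 : linCheck chevE6 expE6 27 = true := by
  decide +kernel

theorem linE6_r28 : linCheck chevE6 expE6 28 = true := by
  decide +kernel

theorem linE6_r29 : linCheck chevE6 expE6 29 = true := by
  decide +kernel

theorem linE6_r30 : linCheck chevE6 expE6 30 = true := by
  decide +kernel

theorem linE6_r31 : linCheck chevE6 expE6 31 = true := by
  decide +kernel

theorem linE6_r32 : linCheck chevE6 expE6 32 = true := by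
  decide +kernel

theorem linE6_r33 : linCheck chevE6 expE6 33 = true := by
  decide +kernel

theorem linE6_r34 : linCheck chevE6 expE6 34 = true := by
  decide +kernel

theorem linE6_r35 : linCheck chevE6 expE6 35 = true := by
  decide +kernel

theorem linE6_0' (r : ℕ) (h1 : 0 ≤ r) (h2 : r < 36) : linCheck chevE6 expE6 r = true := by
  have h : r = 0 ∨ r = 1 ∨ r = 2 ∨ r = 3 ∨ r = 4 ∨ r = 5 ∨ r = 6 ∨ r = 7 ∨ r = 8 ∨ r = 9 ∨ r = 10 ∨ r = 11 ∨ r = 12 ∨ r = 13 ∨ r = 14 ∨ r = 15 ∨ r = 16 ∨ r = 17 ∨ r = 18 ∨ r = 19 ∨ r = 20 ∨ r = 21 ∨ r = 22 ∨ r = 23 ∨ r = 24 ∨ r = 25 ∨ r = 26 ∨ r = 27 ∨ r = 28 ∨ r = 29 ∨ r = 30 ∨ r = 31 ∨ r = 32 ∨ r = 33 ∨ r = 34 ∨ r = 35 := by omega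
  rcases h with rfl | rfl | rfl | rfl | rfl | rfl | rfl | rfl | rfl | rfl | rfl | rfl | rfl | rfl | rfl | rfl | rfl | rfl | rfl | rfl | rfl | rfl | rfl | rfl | rfl | rfl | rfl | rfl | rfl | rfl | rfl | rfl | rfl | rfl | rfl | rfl
  exacts [linE6_r0, linE6_r1, linE6_r2, linE6_r3, linE6_r4, linE6_r5, linE6_r6, linE6_r7, linE6_r8, linE6_r9, linE6_r10, linE6_r11, linE6_r12, linE6_r13, linE6_r14, linE6_r15, linE6_r16, linE6_r17, linE6_r18, linE6_r19, linE6_r20, linE6_r21, linE6_r22, linE6_r23, linE6_r24, linE6_r25, linE6_r26, linE6_r27, linE6_r28, linE6_r29, linE6_r30, linE6_r31, linE6_r32, linE6_r33, linE6_r34, linE6_r35]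

theorem linE6_r36 : linCheck chevE6 expE6 36 = true := by
  decide +kernel

theorem linE6_r37 : linCheck chevE6 expE6 37 = true := by
  decide +kernel

theorem linE6_r38 : linCheck chevE6 expE6 38 = true := by
  decide +kernel

theorem linE6_r39 : linCheck chevE6 expE6 39 = true := by
  decide +kernel

theorem linE6_r40 : linCheck chevE6 expE6 40 = true := by
  decide +kernel

theorem linE6_r41 : linCheck chevE6 expE6 41 = true := by
  decide +kernel

theorem linE6_r42 : linCheck chevE6 expE6 42 = true := by
  decide +kernel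

theorem linE6_r43 : linCheck chevE6 expE6 43 = true := by
  decide +kernel

theorem linE6_r44 : linCheck chevE6 expE6 44 = true := by
  decide +kernel

theorem linE6_r45 : linCheck chevE6 expE6 45 = true := by
  decide +kernel

theorem linE6_r46 : linCheck chevE6 expE6 46 = true := by
  decide +kernel

theorem linE6_r47 : linCheck chevE6 expE6 47 = true := by
  decide +kernel

theorem linE6_r48 : linCheck chevE6 expE6 48 = true := by
  decide +kernel

theorem linE6_r49 : linCheck chevE6 expE6 49 = true := by
  decide +kernel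

theorem linE6_r50 : linCheck chevE6 expE6 50 = true := by
  decide +kernel

theorem linE6_r51 : linCheck chevE6 expE6 51 = true := by
  decide +kernel

theorem linE6_r52 : linCheck chevE6 expE6 52 = true := by
  decide +kernel

theorem linE6_r53 : linCheck chevE6 expE6 53 = true := by
  decide +kernel

theorem linE6_r54 : linCheck chevE6 expE6 54 = true := by
  decide +kernel

theorem linE6_r55 : linCheck chevE6 expE6 55 = true := by
  decide +kernel

theorem linE6_r56 : linCheck chevE6 expE6 56 = true := by
  decide +kernel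

theorem linE6_r57 : linCheck chevE6 expE6 57 = true := by
  decide +kernel

theorem linE6_r58 : linCheck chevE6 expE6 58 = true := by
  decide +kernel

theorem linE6_r59 : linCheck chevE6 expE6 59 = true := by
  decide +kernel

theorem linE6_r60 : linCheck chevE6 expE6 60 = true := by
  decide +kernel

theorem linE6_r61 : linCheck chevE6 expE6 61 = true := by
  decide +kernel

theorem linE6_r62 : linCheck chevE6 expE6 62 = true := by
  decide +kernel

theorem linE6_r63 : linCheck chevE6 expE6 63 = true := by
  decide +kernel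

theorem linE6_r64 : linCheck chevE6 expE6 64 = true := by
  decide +kernel

theorem linE6_r65 : linCheck chevE6 expE6 65 = true := by
  decide +kernel

theorem linE6_r66 : linCheck chevE6 expE6 66 = true := by
  decide +kernel

theorem linE6_r67 : linCheck chevE6 expE6 67 = true := by
  decide +kernel

theorem linE6_r68 : linCheck chevE6 expE6 68 = true := by
  decide +kernel

theorem linE6_r69 : linCheck chevE6 expE6 69 = true := by
  decide +kernel

theorem linE6_r70 : linCheck chevE6 expE6 70 = true := by
  decide +kernel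

theorem linE6_r71 : linCheck chevE6 expE6 71 = true := by
  decide +kernel

theorem linE6_36' (r : ℕ) (h1 : 36 ≤ r) (h2 : r < 72) : linCheck chevE6 expE6 r = true := by
  have h : r = 36 ∨ r = 37 ∨ r = 38 ∨ r = 39 ∨ r = 40 ∨ r = 41 ∨ r = 42 ∨ r = 43 ∨ r = 44 ∨ r = 45 ∨ r = 46 ∨ r = 47 ∨ r = 48 ∨ r = 49 ∨ r = 50 ∨ r = 51 ∨ r = 52 ∨ r = 53 ∨ r = 54 ∨ r = 55 ∨ r = 56 ∨ r = 57 ∨ r = 58 ∨ r = 59 ∨ r = 60 ∨ r = 61 ∨ r = 62 ∨ r = 63 ∨ r = 64 ∨ r = 65 ∨ r = 66 ∨ r = 67 ∨ r = 68 ∨ r = 69 ∨ r = 70 ∨ r = 71 := by omega
  rcases h with rfl | rfl | rfl | rfl | rfl | rfl | rfl | rfl | rfl | rfl | rfl | rfl | rfl | rfl | rfl | rfl | rfl | rfl | rfl | rfl | rfl | rfl | rfl | rfl | rfl | rfl | rfl | rfl | rfl | rfl | rfl | rfl | rfl | rfl | rfl | rfl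
  exacts [linE6_r36, linE6_r37, linE6_r38, linE6_r39, linE6_r40, linE6_r41, linE6_r42, linE6_r43, linE6_r44, linE6_r45, linE6_r46, linE6_r47, linE6_r48, linE6_r49, linE6_r50, linE6_r51, linE6_r52, linE6_r53, linE6_r54, linE6_r55, linE6_r56, linE6_r57, linE6_r58, linE6_r59, linE6_r60, linE6_r61, linE6_r62, linE6_r63, linE6_r64, linE6_r65, linE6_r66, linE6_r67, linE6_r68, linE6_r69, linE6_r70, linE6_r71]

end Cfsg.Agent.Helper18
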