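import Cfsg.Agent.Lib.Helper18.ChevTorus
import Cfsg.Prelude.Def_LieTypes
import Cfsg.Prelude.Def_ChevB2

set_option autoImplicit false
set_option maxRecDepth 100000

namespace Cfsg.Agent.Helper18

open Cfsg.Lie

theorem linE7_r0 : linCheck chevE7 expE7 0 = true := by
  decide +kernel

theorem linE7_r1 : linCheck chevE7 expE7 1 = true := by
  decide +kernel

theorem linE7_r2 : linCheck chevE7 expE7 2 = true := by
  decide +kernel

theorem linE7_r3 : linCheck chevE7 expE7 3 = true := by
  decide +kernel

theorem linE7_r4 : linCheck chevE7 expE7 4 = true := by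
  decide +kernel

theorem linE7_r5 : linCheck chevE7 expE7 5 = true := by
  decide +kernel

theorem linE7_r6 : linCheck chevE7 expE7 6 = true := by
  decide +kernel

theorem linE7_r7 : linCheck chevE7 expE7 7 = true := by
  decide +kernel

theorem linE7_r8 : linCheck chevE7 expE7 8 = true := by
  decide +kernel

theorem linE7_r9 : linCheck chevE7 expE7 9 = true := by
  decide +kernel

theorem linE7_r10 : linCheck chevE7 expE7 10 = true := by
  decide +kernel

theorem linE7_r11 : linCheck chevE7 expE7 11 = true := by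
  decide +kernel

theorem linE7_r12 : linCheck chevE7 expE7 12 = true := by
  decide +kernel

theorem linE7_r13 : linCheck chevE7 expE7 13 = true := by
  decide +kernel

theorem linE7_r14 : linCheck chevE7 expE7 14 = true := by
  decide +kernel

theorem linE7_r15 : linCheck chevE7 expE7 15 = true := by
  decide +kernel

theorem linE7_r16 : linCheck chevE7 expE7 16 = true := by
  decide +kernel

theorem linE7_r17 : linCheck chevE7 expE7 17 = true := by
  decide +kernel

theorem linE7_r18 : linCheck chevE7 expE7 18 = true := by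
  decide +kernel

theorem linE7_r19 : linCheck chevE7 expE7 19 = true := by
  decide +kernel

theorem linE7_r20 : linCheck chevE7 expE7 20 = true := by
  decide +kernel

theorem linE7_r21 : linCheck chevE7 expE7 21 = true := by
  decide +kernel

theorem linE7_r22 : linCheck chevE7 expE7 22 = true := by
  decide +kernel

theorem linE7_r23 : linCheck chevE7 expE7 23 = true := by
  decide +kernel

theorem linE7_r24 : linCheck chevE7 expE7 24 = true := by
  decide +kernel

theorem linE7_r25 : linCheck chevE7 expE7 25 = true := by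
  decide +kernel

theorem linE7_r26 : linCheck chevE7 expE7 26 = true := by
  decide +kernel

theorem linE7_r27 : linCheck chevE7 expE7 27 = true := by
  decide +kernel

theorem linE7_r28 : linCheck chevE7 expE7 28 = true := by
  decide +kernel

theorem linE7_r29 : linCheck chevE7 expE7 29 = true := by
  decide +kernel

theorem linE7_r30 : linCheck chevE7 expE7 30 = true := by
  decide +kernel

theorem linE7_r31 : linCheck chevE7 expE7 31 = true := by
  decide +kernel

theorem linE7_0' (r : ℕ) (h1 : 0 ≤ r) (h2 : r < 32) : linCheck chevE7 expE7 r = true := by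
  have h : r = 0 ∨ r = 1 ∨ r = 2 ∨ r = 3 ∨ r = 4 ∨ r = 5 ∨ r = 6 ∨ r = 7 ∨ r = 8 ∨ r = 9 ∨ r = 10 ∨ r = 11 ∨ r = 12 ∨ r = 13 ∨ r = 14 ∨ r = 15 ∨ r = 16 ∨ r = 17 ∨ r = 18 ∨ r = 19 ∨ r = 20 ∨ r = 21 ∨ r = 22 ∨ r = 23 ∨ r = 24 ∨ r = 25 ∨ r = 26 ∨ r = 27 ∨ r = 28 ∨ r = 29 ∨ r = 30 ∨ r = 31 := by omega
  rcases h with rfl | rfl | rfl | rfl | rfl | rfl | rfl | rfl | rfl | rfl | rfl | rfl | rfl | rfl | rfl | rfl | rfl | rfl | rfl | rfl | rfl | rfl | rfl | rfl | rfl | rfl | rfl | rfl | rfl | rfl | rfl | rfl
  exacts [linE7_r0, linE7_r1, linE7_r2, linE7_r3, linE7_r4, linE7_r5, linE7_r6, linE7_r7, linE7_r8, linE7_r9, linE7_r10, linE7_r11, linE7_r12, linE7_r13, linE7_r14, linE7_r15, linE7_r16, linE7_r17, linE7_r18, linE7_r19, linE7_r20, linE7_r21, linE7_r22, linE7_r23, linE7_r24, linE7_r25, linE7_r26, linE7_r27, linE7_r28, linE7_r29, linE7_r30, linE7_r31]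

theorem linE7_r32 : linCheck chevE7 expE7 32 = true := by
  decide +kernel

theorem linE7_r33 : linCheck chevE7 expE7 33 = true := by
  decide +kernel

theorem linE7_r34 : linCheck chevE7 expE7 34 = true := by
  decide +kernel

theorem linE7_r35 : linCheck chevE7 expE7 35 = true := by
  decide +kernel

theorem linE7_r36 : linCheck chevE7 expE7 36 = true := by
  decide +kernel

theorem linE7_r37 : linCheck chevE7 expE7 37 = true := by
  decide +kernel

theorem linE7_r38 : linCheck chevE7 expE7 38 = true := by
  decide +kernel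

theorem linE7_r39 : linCheck chevE7 expE7 39 = true := by
  decide +kernel

theorem linE7_r40 : linCheck chevE7 expE7 40 = true := by
  decide +kernel

theorem linE7_r41 : linCheck chevE7 expE7 41 = true := by
  decide +kernel

theorem linE7_r42 : linCheck chevE7 expE7 42 = true := by
  decide +kernel

theorem linE7_r43 : linCheck chevE7 expE7 43 = true := by
  decide +kernel

theorem linE7_r44 : linCheck chevE7 expE7 44 = true := by
  decide +kernel

theorem linE7_r45 : linCheck chevE7 expE7 45 = true := by
  decide +kernel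

theorem linE7_r46 : linCheck chevE7 expE7 46 = true := by
  decide +kernel

theorem linE7_r47 : linCheck chevE7 expE7 47 = true := by
  decide +kernel

theorem linE7_r48 : linCheck chevE7 expE7 48 = true := by
  decide +kernel

theorem linE7_r49 : linCheck chevE7 expE7 49 = true := by
  decide +kernel

theorem linE7_r50 : linCheck chevE7 expE7 50 = true := by
  decide +kernel

theorem linE7_r51 : linCheck chevE7 expE7 51 = true := by
  decide +kernel

theorem linE7_r52 : linCheck chevE7 expE7 52 = true := by
  decide +kernel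

theorem linE7_r53 : linCheck chevE7 expE7 53 = true := by
  decide +kernel

theorem linE7_r54 : linCheck chevE7 expE7 54 = true := by
  decide +kernel

theorem linE7_r55 : linCheck chevE7 expE7 55 = true := by
  decide +kernel

theorem linE7_r56 : linCheck chevE7 expE7 56 = true := by
  decide +kernel

theorem linE7_r57 : linCheck chevE7 expE7 57 = true := by
  decide +kernel

theorem linE7_r58 : linCheck chevE7 expE7 58 = true := by
  decide +kernel

theorem linE7_r59 : linCheck chevE7 expE7 59 = true := by
  decide +kernel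

theorem linE7_r60 : linCheck chevE7 expE7 60 = true := by
  decide +kernel

theorem linE7_r61 : linCheck chevE7 expE7 61 = true := by
  decide +kernel

theorem linE7_r62 : linCheck chevE7 expE7 62 = true := by
  decide +kernel

theorem linE7_32' (r : ℕ) (h1 : 32 ≤ r) (h2 : r < 63) : linCheck chevE7 expE7 r = true := by
  have h : r = 32 ∨ r = 33 ∨ r = 34 ∨ r = 35 ∨ r = 36 ∨ r = 37 ∨ r = 38 ∨ r = 39 ∨ r = 40 ∨ r = 41 ∨ r = 42 ∨ r = 43 ∨ r = 44 ∨ r = 45 ∨ r = 46 ∨ r = 47 ∨ r = 48 ∨ r = 49 ∨ r = 50 ∨ r = 51 ∨ r = 52 ∨ r = 53 ∨ r = 54 ∨ r = 55 ∨ r = 56 ∨ r = 57 ∨ r = 58 ∨ r = 59 ∨ r = 60 ∨ r = 61 ∨ r = 62 := by omega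
  rcases h with rfl | rfl | rfl | rfl | rfl | rfl | rfl | rfl | rfl | rfl | rfl | rfl | rfl | rfl | rfl | rfl | rfl | rfl | rfl | rfl | rfl | rfl | rfl | rfl | rfl | rfl | rfl | rfl | rfl | rfl | rfl
  exacts [linE7_r32, linE7_r33, linE7_r34, linE7_r35, linE7_r36, linE7_r37, linE7_r38, linE7_r39, linE7_r40, linE7_r41, linE7_r42, linE7_r43, linE7_r44, linE7_r45, linE7_r46, linE7_r47, linE7_r48, linE7_r49, linE7_r50, linE7_r51, linE7_r52, linE7_r53, linE7_r54, linE7_r55, linE7_r56, linE7_r57, linE7_r58, linE7_r59, linE7_r60, linE7_r61, linE7_r62]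

end Cfsg.Agent.Helper18
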