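import Cfsg.Agent.Lib.Helper18.ChevTorus
import Cfsg.Prelude.Def_LieTypes
import Cfsg.Prelude.Def_ChevB2

set_option autoImplicit false
set_option maxRecDepth 100000

namespace Cfsg.Agent.Helper18

open Cfsg.Lie

theorem linE7_r63 : linCheck chevE7 expE7 63 = true := by
  decide +kernel

theorem linE7_r64 : linCheck chevE7 expE7 64 = true := by
  decide +kernel

theorem linE7_r65 : linCheck chevE7 expE7 65 = true := by
  decide +kernel

theorem linE7_r66 : linCheck chevE7 expE7 66 = true := by
  decide +kernel

theorem linE7_r67 : linCheck chevE7 expE7 67 = true := by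
  decide +kernel

theorem linE7_r68 : linCheck chevE7 expE7 68 = true := by
  decide +kernel

theorem linE7_r69 : linCheck chevE7 expE7 69 = true := by
  decide +kernel

theorem linE7_r70 : linCheck chevE7 expE7 70 = true := by
  decide +kernel

theorem linE7_r71 : linCheck chevE7 expE7 71 = true := by
  decide +kernel

theorem linE7_r72 : linCheck chevE7 expE7 72 = true := by
  decide +kernel

theorem linE7_r73 : linCheck chevE7 expE7 73 = true := by
  decide +kernel

theorem linE7_r74 : linCheck chevE7 expE7 74 = true := by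
  decide +kernel

theorem linE7_r75 : linCheck chevE7 expE7 75 = true := by
  decide +kernel

theorem linE7_r76 : linCheck chevE7 expE7 76 = true := by
  decide +kernel

theorem linE7_r77 : linCheck chevE7 expE7 77 = true := by
  decide +kernel

theorem linE7_r78 : linCheck chevE7 expE7 78 = true := by
  decide +kernel

theorem linE7_r79 : linCheck chevE7 expE7 79 = true := by
  decide +kernel

theorem linE7_r80 : linCheck chevE7 expE7 80 = true := by
  decide +kernel

theorem linE7_r81 : linCheck chevE7 expE7 81 = true := by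
  decide +kernel

theorem linE7_r82 : linCheck chevE7 expE7 82 = true := by
  decide +kernel

theorem linE7_r83 : linCheck chevE7 expE7 83 = true := by
  decide +kernel

theorem linE7_r84 : linCheck chevE7 expE7 84 = true := by
  decide +kernel

theorem linE7_r85 : linCheck chevE7 expE7 85 = true := by
  decide +kernel

theorem linE7_r86 : linCheck chevE7 expE7 86 = true := by
  decide +kernel

theorem linE7_r87 : linCheck chevE7 expE7 87 = true := by
  decide +kernel

theorem linE7_r88 : linCheck chevE7 expE7 88 = true := by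
  decide +kernel

theorem linE7_r89 : linCheck chevE7 expE7 89 = true := by
  decide +kernel

theorem linE7_r90 : linCheck chevE7 expE7 90 = true := by
  decide +kernel

theorem linE7_r91 : linCheck chevE7 expE7 91 = true := by
  decide +kernel

theorem linE7_r92 : linCheck chevE7 expE7 92 = true := by
  decide +kernel

theorem linE7_r93 : linCheck chevE7 expE7 93 = true := by
  decide +kernel

theorem linE7_r94 : linCheck chevE7 expE7 94 = true := by
  decide +kernel

theorem linE7_63' (r : ℕ) (h1 : 63 ≤ r) (h2 : r < 95) : linCheck chevE7 expE7 r = true := by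
  have h : r = 63 ∨ r = 64 ∨ r = 65 ∨ r = 66 ∨ r = 67 ∨ r = 68 ∨ r = 69 ∨ r = 70 ∨ r = 71 ∨ r = 72 ∨ r = 73 ∨ r = 74 ∨ r = 75 ∨ r = 76 ∨ r = 77 ∨ r = 78 ∨ r = 79 ∨ r = 80 ∨ r = 81 ∨ r = 82 ∨ r = 83 ∨ r = 84 ∨ r = 85 ∨ r = 86 ∨ r = 87 ∨ r = 88 ∨ r = 89 ∨ r = 90 ∨ r = 91 ∨ r = 92 ∨ r = 93 ∨ r = 94 := by omega
  rcases h with rfl | rfl | rfl | rfl | rfl | rfl | rfl | rfl | rfl | rfl | rfl | rfl | rfl | rfl | rfl | rfl | rfl | rfl | rfl | rfl | rfl | rfl | rfl | rfl | rfl | rfl | rfl | rfl | rfl | rfl | rfl | rfl
  exacts [linE7_r63, linE7_r64, linE7_r65, linE7_r66, linE7_r67, linE7_r68, linE7_r69, linE7_r70, linE7_r71, linE7_r72, linE7_r73, linE7_r74, linE7_r75, linE7_r76, linE7_r77, linE7_r78, linE7_r79, linE7_r80, linE7_r81, linE7_r82, linE7_r83, linE7_r84, linE7_r85, linE7_r86, linE7_r87, linE7_r88, linE7_r89, linE7_r90, linE7_r91, linE7_r92, linE7_r93, linE7_r94]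

theorem linE7_r95 : linCheck chevE7 expE7 95 = true := by
  decide +kernel

theorem linE7_r96 : linCheck chevE7 expE7 96 = true := by
  decide +kernel

theorem linE7_r97 : linCheck chevE7 expE7 97 = true := by
  decide +kernel

theorem linE7_r98 : linCheck chevE7 expE7 98 = true := by
  decide +kernel

theorem linE7_r99 : linCheck chevE7 expE7 99 = true := by
  decide +kernel

theorem linE7_r100 : linCheck chevE7 expE7 100 = true := by
  decide +kernel

theorem linE7_r101 : linCheck chevE7 expE7 101 = true := by
  decide +kernel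

theorem linE7_r102 : linCheck chevE7 expE7 102 = true := by
  decide +kernel

theorem linE7_r103 : linCheck chevE7 expE7 103 = true := by
  decide +kernel

theorem linE7_r104 : linCheck chevE7 expE7 104 = true := by
  decide +kernel

theorem linE7_r105 : linCheck chevE7 expE7 105 = true := by
  decide +kernel

theorem linE7_r106 : linCheck chevE7 expE7 106 = true := by
  decide +kernel

theorem linE7_r107 : linCheck chevE7 expE7 107 = true := by
  decide +kernel

theorem linE7_r108 : linCheck chevE7 expE7 108 = true := by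
  decide +kernel

theorem linE7_r109 : linCheck chevE7 expE7 109 = true := by
  decide +kernel

theorem linE7_r110 : linCheck chevE7 expE7 110 = true := by
  decide +kernel

theorem linE7_r111 : linCheck chevE7 expE7 111 = true := by
  decide +kernel

theorem linE7_r112 : linCheck chevE7 expE7 112 = true := by
  decide +kernel

theorem linE7_r113 : linCheck chevE7 expE7 113 = true := by
  decide +kernel

theorem linE7_r114 : linCheck chevE7 expE7 114 = true := by
  decide +kernel

theorem linE7_r115 : linCheck chevE7 expE7 115 = true := by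
  decide +kernel

theorem linE7_r116 : linCheck chevE7 expE7 116 = true := by
  decide +kernel

theorem linE7_r117 : linCheck chevE7 expE7 117 = true := by
  decide +kernel

theorem linE7_r118 : linCheck chevE7 expE7 118 = true := by
  decide +kernel

theorem linE7_r119 : linCheck chevE7 expE7 119 = true := by
  decide +kernel

theorem linE7_r120 : linCheck chevE7 expE7 120 = true := by
  decide +kernel

theorem linE7_r121 : linCheck chevE7 expE7 121 = true := by
  decide +kernel

theorem linE7_r122 : linCheck chevE7 expE7 122 = true := by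
  decide +kernel

theorem linE7_r123 : linCheck chevE7 expE7 123 = true := by
  decide +kernel

theorem linE7_r124 : linCheck chevE7 expE7 124 = true := by
  decide +kernel

theorem linE7_r125 : linCheck chevE7 expE7 125 = true := by
  decide +kernel

theorem linE7_95' (r : ℕ) (h1 : 95 ≤ r) (h2 : r < 126) : linCheck chevE7 expE7 r = true := by
  have h : r = 95 ∨ r = 96 ∨ r = 97 ∨ r = 98 ∨ r = 99 ∨ r = 100 ∨ r = 101 ∨ r = 102 ∨ r = 103 ∨ r = 104 ∨ r = 105 ∨ r = 106 ∨ r = 107 ∨ r = 108 ∨ r = 109 ∨ r = 110 ∨ r = 111 ∨ r = 112 ∨ r = 113 ∨ r = 114 ∨ r = 115 ∨ r = 116 ∨ r = 117 ∨ r = 118 ∨ r = 119 ∨ r = 120 ∨ r = 121 ∨ r = 122 ∨ r = 123 ∨ r = 124 ∨ r = 125 := by omega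
  rcases h with rfl | rfl | rfl | rfl | rfl | rfl | rfl | rfl | rfl | rfl | rfl | rfl | rfl | rfl | rfl | rfl | rfl | rfl | rfl | rfl | rfl | rfl | rfl | rfl | rfl | rfl | rfl | rfl | rfl | rfl | rfl
  exacts [linE7_r95, linE7_r96, linE7_r97, linE7_r98, linE7_r99, linE7_r100, linE7_r101, linE7_r102, linE7_r103, linE7_r104, linE7_r105, linE7_r106, linE7_r107, linE7_r108, linE7_r109, linE7_r110, linE7_r111, linE7_r112, linE7_r113, linE7_r114, linE7_r115, linE7_r116, linE7_r117, linE7_r118, linE7_r119, linE7_r120, linE7_r121, linE7_r122, linE7_r123, linE7_r124, linE7_r125]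

end Cfsg.Agent.Helper18
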