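import Cfsg.Agent.Lib.Helper18.ChevTorus
import Cfsg.Prelude.Def_LieTypes
import Cfsg.Prelude.Def_ChevB2

set_option autoImplicit false
set_option maxRecDepth 100000

namespace Cfsg.Agent.Helper18

open Cfsg.Lie

theorem linE8_r0 : linCheck chevE8 expE8 0 = true := by
  decide +kernel

theorem linE8_r1 : linCheck chevE8 expE8 1 = true := by
  decide +kernel

theorem linE8_r2 : linCheck chevE8 expE8 2 = true := by
  decide +kernel

theorem linE8_r3 : linCheck chevE8 expE8 3 = true := by
  decide +kernel

theorem linE8_r4 : linCheck chevE8 expE8 4 = true := by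
  decide +kernel

theorem linE8_r5 : linCheck chevE8 expE8 5 = true := by
  decide +kernel

theorem linE8_r6 : linCheck chevE8 expE8 6 = true := by
  decide +kernel

theorem linE8_r7 : linCheck chevE8 expE8 7 = true := by
  decide +kernel

theorem linE8_r8 : linCheck chevE8 expE8 8 = true := by
  decide +kernel

theorem linE8_r9 : linCheck chevE8 expE8 9 = true := by
  decide +kernel

theorem linE8_0' (r : ℕ) (h1 : 0 ≤ r) (h2 : r < 10) : linCheck chevE8 expE8 r = true := by
  have h : r = 0 ∨ r = 1 ∨ r = 2 ∨ r = 3 ∨ r = 4 ∨ r = 5 ∨ r = 6 ∨ r = 7 ∨ r = 8 ∨ r = 9 := by omega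
  rcases h with rfl | rfl | rfl | rfl | rfl | rfl | rfl | rfl | rfl | rfl
  exacts [linE8_r0, linE8_r1, linE8_r2, linE8_r3, linE8_r4, linE8_r5, linE8_r6, linE8_r7, linE8_r8, linE8_r9]

theorem linE8_r10 : linCheck chevE8 expE8 10 = true := by
  decide +kernel

theorem linE8_r11 : linCheck chevE8 expE8 11 = true := by
  decide +kernel

theorem linE8_r12 : linCheck chevE8 expE8 12 = true := by
  decide +kernel

theorem linE8_r13 : linCheck chevE8 expE8 13 = true := by
  decide +kernel

theorem linE8_r14 : linCheck chevE8 expE8 14 = true := by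
  decide +kernel

theorem linE8_r15 : linCheck chevE8 expE8 15 = true := by
  decide +kernel

theorem linE8_r16 : linCheck chevE8 expE8 16 = true := by
  decide +kernel

theorem linE8_r17 : linCheck chevE8 expE8 17 = true := by
  decide +kernel

theorem linE8_r18 : linCheck chevE8 expE8 18 = true := by
  decide +kernel

theorem linE8_r19 : linCheck chevE8 expE8 19 = true := by
  decide +kernel

theorem linE8_10' (r : ℕ) (h1 : 10 ≤ r) (h2 : r < 20) : linCheck chevE8 expE8 r = true := by
  have h : r = 10 ∨ r = 11 ∨ r = 12 ∨ r = 13 ∨ r = 14 ∨ r = 15 ∨ r = 16 ∨ r = 17 ∨ r = 18 ∨ r = 19 := by omega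
  rcases h with rfl | rfl | rfl | rfl | rfl | rfl | rfl | rfl | rfl | rfl
  exacts [linE8_r10, linE8_r11, linE8_r12, linE8_r13, linE8_r14, linE8_r15, linE8_r16, linE8_r17, linE8_r18, linE8_r19]

end Cfsg.Agent.Helper18
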