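import Cfsg.Agent.Lib.Helper18.ChevTorus
import Cfsg.Prelude.Def_LieTypes
import Cfsg.Prelude.Def_ChevB2

set_option autoImplicit false
set_option maxRecDepth 100000

namespace Cfsg.Agent.Helper18

open Cfsg.Lie

theorem linE8_r20 : linCheck chevE8 expE8 20 = true := by
  decide +kernel

theorem linE8_r21 : linCheck chevE8 expE8 21 = true := by
  decide +kernel

theorem linE8_r22 : linCheck chevE8 expE8 22 = true := by
  decide +kernel

theorem linE8_r23 : linCheck chevE8 expE8 23 = true := by
  decide +kernel

theorem linE8_r24 : linCheck chevE8 expE8 24 = true := by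
  decide +kernel

theorem linE8_r25 : linCheck chevE8 expE8 25 = true := by
  decide +kernel

theorem linE8_r26 : linCheck chevE8 expE8 26 = true := by
  decide +kernel

theorem linE8_r27 : linCheck chevE8 expE8 27 = true := by
  decide +kernel

theorem linE8_r28 : linCheck chevE8 expE8 28 = true := by
  decide +kernel

theorem linE8_r29 : linCheck chevE8 expE8 29 = true := by
  decide +kernel

theorem linE8_20' (r : ℕ) (h1 : 20 ≤ r) (h2 : r < 30) : linCheck chevE8 expE8 r = true := by
  have h : r = 20 ∨ r = 21 ∨ r = 22 ∨ r = 23 ∨ r = 24 ∨ r = 25 ∨ r = 26 ∨ r = 27 ∨ r = 28 ∨ r = 29 := by omega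
  rcases h with rfl | rfl | rfl | rfl | rfl | rfl | rfl | rfl | rfl | rfl
  exacts [linE8_r20, linE8_r21, linE8_r22, linE8_r23, linE8_r24, linE8_r25, linE8_r26, linE8_r27, linE8_r28, linE8_r29]

theorem linE8_r30 : linCheck chevE8 expE8 30 = true := by
  decide +kernel

theorem linE8_r31 : linCheck chevE8 expE8 31 = true := by
  decide +kernel

theorem linE8_r32 : linCheck chevE8 expE8 32 = true := by
  decide +kernel

theorem linE8_r33 : linCheck chevE8 expE8 33 = true := by
  decide +kernel

theorem linE8_r34 : linCheck chevE8 expE8 34 = true := by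
  decide +kernel

theorem linE8_r35 : linCheck chevE8 expE8 35 = true := by
  decide +kernel

theorem linE8_r36 : linCheck chevE8 expE8 36 = true := by
  decide +kernel

theorem linE8_r37 : linCheck chevE8 expE8 37 = true := by
  decide +kernel

theorem linE8_r38 : linCheck chevE8 expE8 38 = true := by
  decide +kernel

theorem linE8_r39 : linCheck chevE8 expE8 39 = true := by
  decide +kernel

theorem linE8_30' (r : ℕ) (h1 : 30 ≤ r) (h2 : r < 40) : linCheck chevE8 expE8 r = true := by
  have h : r = 30 ∨ r = 31 ∨ r = 32 ∨ r = 33 ∨ r = 34 ∨ r = 35 ∨ r = 36 ∨ r = 37 ∨ r = 38 ∨ r = 39 := by omega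
  rcases h with rfl | rfl | rfl | rfl | rfl | rfl | rfl | rfl | rfl | rfl
  exacts [linE8_r30, linE8_r31, linE8_r32, linE8_r33, linE8_r34, linE8_r35, linE8_r36, linE8_r37, linE8_r38, linE8_r39]

end Cfsg.Agent.Helper18
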