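import Cfsg.Agent.Lib.Helper18.ChevTorus
import Cfsg.Prelude.Def_LieTypes
import Cfsg.Prelude.Def_ChevB2

set_option autoImplicit false
set_option maxRecDepth 100000

namespace Cfsg.Agent.Helper18

open Cfsg.Lie

theorem linE8_r200 : linCheck chevE8 expE8 200 = true := by
  decide +kernel

theorem linE8_r201 : linCheck chevE8 expE8 201 = true := by
  decide +kernel

theorem linE8_r202 : linCheck chevE8 expE8 202 = true := by
  decide +kernel

theorem linE8_r203 : linCheck chevE8 expE8 203 = true := by
  decide +kernel

theorem linE8_r204 : linCheck chevE8 expE8 204 = true := by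
  decide +kernel

theorem linE8_r205 : linCheck chevE8 expE8 205 = true := by
  decide +kernel

theorem linE8_r206 : linCheck chevE8 expE8 206 = true := by
  decide +kernel

theorem linE8_r207 : linCheck chevE8 expE8 207 = true := by
  decide +kernel

theorem linE8_r208 : linCheck chevE8 expE8 208 = true := by
  decide +kernel

theorem linE8_r209 : linCheck chevE8 expE8 209 = true := by
  decide +kernel

theorem linE8_200' (r : ℕ) (h1 : 200 ≤ r) (h2 : r < 210) : linCheck chevE8 expE8 r = true := by
  have h : r = 200 ∨ r = 201 ∨ r = 202 ∨ r = 203 ∨ r = 204 ∨ r = 205 ∨ r = 206 ∨ r = 207 ∨ r = 208 ∨ r = 209 := by omega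
  rcases h with rfl | rfl | rfl | rfl | rfl | rfl | rfl | rfl | rfl | rfl
  exacts [linE8_r200, linE8_r201, linE8_r202, linE8_r203, linE8_r204, linE8_r205, linE8_r206, linE8_r207, linE8_r208, linE8_r209]

theorem linE8_r210 : linCheck chevE8 expE8 210 = true := by
  decide +kernel

theorem linE8_r211 : linCheck chevE8 expE8 211 = true := by
  decide +kernel

theorem linE8_r212 : linCheck chevE8 expE8 212 = true := by
  decide +kernel

theorem linE8_r213 : linCheck chevE8 expE8 213 = true := by
  decide +kernel

theorem linE8_r214 : linCheck chevE8 expE8 214 = true := by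
  decide +kernel

theorem linE8_r215 : linCheck chevE8 expE8 215 = true := by
  decide +kernel

theorem linE8_r216 : linCheck chevE8 expE8 216 = true := by
  decide +kernel

theorem linE8_r217 : linCheck chevE8 expE8 217 = true := by
  decide +kernel

theorem linE8_r218 : linCheck chevE8 expE8 218 = true := by
  decide +kernel

theorem linE8_r219 : linCheck chevE8 expE8 219 = true := by
  decide +kernel

theorem linE8_210' (r : ℕ) (h1 : 210 ≤ r) (h2 : r < 220) : linCheck chevE8 expE8 r = true := by
  have h : r = 210 ∨ r = 211 ∨ r = 212 ∨ r = 213 ∨ r = 214 ∨ r = 215 ∨ r = 216 ∨ r = 217 ∨ r = 218 ∨ r = 219 := by omega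
  rcases h with rfl | rfl | rfl | rfl | rfl | rfl | rfl | rfl | rfl | rfl
  exacts [linE8_r210, linE8_r211, linE8_r212, linE8_r213, linE8_r214, linE8_r215, linE8_r216, linE8_r217, linE8_r218, linE8_r219]

end Cfsg.Agent.Helper18
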