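import Cfsg.Agent.Lib.Helper18.ChevTorus
import Cfsg.Prelude.Def_LieTypes
import Cfsg.Prelude.Def_ChevB2

set_option autoImplicit false
set_option maxRecDepth 100000

namespace Cfsg.Agent.Helper18

open Cfsg.Lie

theorem linE8_r220 : linCheck chevE8 expE8 220 = true := by
  decide +kernel

theorem linE8_r221 : linCheck chevE8 expE8 221 = true := by
  decide +kernel

theorem linE8_r222 : linCheck chevE8 expE8 222 = true := by
  decide +kernel

theorem linE8_r223 : linCheck chevE8 expE8 223 = true := by
  decide +kernel

theorem linE8_r224 : linCheck chevE8 expE8 224 = true := by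
  decide +kernel

theorem linE8_r225 : linCheck chevE8 expE8 225 = true := by
  decide +kernel

theorem linE8_r226 : linCheck chevE8 expE8 226 = true := by
  decide +kernel

theorem linE8_r227 : linCheck chevE8 expE8 227 = true := by
  decide +kernel

theorem linE8_r228 : linCheck chevE8 expE8 228 = true := by
  decide +kernel

theorem linE8_r229 : linCheck chevE8 expE8 229 = true := by
  decide +kernel

theorem linE8_220' (r : ℕ) (h1 : 220 ≤ r) (h2 : r < 230) : linCheck chevE8 expE8 r = true := by
  have h : r = 220 ∨ r = 221 ∨ r = 222 ∨ r = 223 ∨ r = 224 ∨ r = 225 ∨ r = 226 ∨ r = 227 ∨ r = 228 ∨ r = 229 := by omega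
  rcases h with rfl | rfl | rfl | rfl | rfl | rfl | rfl | rfl | rfl | rfl
  exacts [linE8_r220, linE8_r221, linE8_r222, linE8_r223, linE8_r224, linE8_r225, linE8_r226, linE8_r227, linE8_r228, linE8_r229]

theorem linE8_r230 : linCheck chevE8 expE8 230 = true := by
  decide +kernel

theorem linE8_r231 : linCheck chevE8 expE8 231 = true := by
  decide +kernel

theorem linE8_r232 : linCheck chevE8 expE8 232 = true := by
  decide +kernel

theorem linE8_r233 : linCheck chevE8 expE8 233 = true := by
  decide +kernel

theorem linE8_r234 : linCheck chevE8 expE8 234 = true := by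
  decide +kernel

theorem linE8_r235 : linCheck chevE8 expE8 235 = true := by
  decide +kernel

theorem linE8_r236 : linCheck chevE8 expE8 236 = true := by
  decide +kernel

theorem linE8_r237 : linCheck chevE8 expE8 237 = true := by
  decide +kernel

theorem linE8_r238 : linCheck chevE8 expE8 238 = true := by
  decide +kernel

theorem linE8_r239 : linCheck chevE8 expE8 239 = true := by
  decide +kernel

theorem linE8_230' (r : ℕ) (h1 : 230 ≤ r) (h2 : r < 240) : linCheck chevE8 expE8 r = true := by
  have h : r = 230 ∨ r = 231 ∨ r = 232 ∨ r = 233 ∨ r = 234 ∨ r = 235 ∨ r = 236 ∨ r = 237 ∨ r = 238 ∨ r = 239 := by omega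
  rcases h with rfl | rfl | rfl | rfl | rfl | rfl | rfl | rfl | rfl | rfl
  exacts [linE8_r230, linE8_r231, linE8_r232, linE8_r233, linE8_r234, linE8_r235, linE8_r236, linE8_r237, linE8_r238, linE8_r239]

end Cfsg.Agent.Helper18
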