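import Cfsg.Agent.Lib.Helper18.ChevTorus
import Cfsg.Prelude.Def_LieTypes
import Cfsg.Prelude.Def_ChevB2

set_option autoImplicit false
set_option maxRecDepth 100000

namespace Cfsg.Agent.Helper18

open Cfsg.Lie

theorem linE8_r40 : linCheck chevE8 expE8 40 = true := by
  decide +kernel

theorem linE8_r41 : linCheck chevE8 expE8 41 = true := by
  decide +kernel

theorem linE8_r42 : linCheck chevE8 expE8 42 = true := by
  decide +kernel

theorem linE8_r43 : linCheck chevE8 expE8 43 = true := by
  decide +kernel

theorem linE8_r44 : linCheck chevE8 expE8 44 = true := by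
  decide +kernel

theorem linE8_r45 : linCheck chevE8 expE8 45 = true := by
  decide +kernel

theorem linE8_r46 : linCheck chevE8 expE8 46 = true := by
  decide +kernel

theorem linE8_r47 : linCheck chevE8 expE8 47 = true := by
  decide +kernel

theorem linE8_r48 : linCheck chevE8 expE8 48 = true := by
  decide +kernel

theorem linE8_r49 : linCheck chevE8 expE8 49 = true := by
  decide +kernel

theorem linE8_40' (r : ℕ) (h1 : 40 ≤ r) (h2 : r < 50) : linCheck chevE8 expE8 r = true := by
  have h : r = 40 ∨ r = 41 ∨ r = 42 ∨ r = 43 ∨ r = 44 ∨ r = 45 ∨ r = 46 ∨ r = 47 ∨ r = 48 ∨ r = 49 := by omega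
  rcases h with rfl | rfl | rfl | rfl | rfl | rfl | rfl | rfl | rfl | rfl
  exacts [linE8_r40, linE8_r41, linE8_r42, linE8_r43, linE8_r44, linE8_r45, linE8_r46, linE8_r47, linE8_r48, linE8_r49]

theorem linE8_r50 : linCheck chevE8 expE8 50 = true := by
  decide +kernel

theorem linE8_r51 : linCheck chevE8 expE8 51 = true := by
  decide +kernel

theorem linE8_r52 : linCheck chevE8 expE8 52 = true := by
  decide +kernel

theorem linE8_r53 : linCheck chevE8 expE8 53 = true := by
  decide +kernel

theorem linE8_r54 : linCheck chevE8 expE8 54 = true := by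
  decide +kernel

theorem linE8_r55 : linCheck chevE8 expE8 55 = true := by
  decide +kernel

theorem linE8_r56 : linCheck chevE8 expE8 56 = true := by
  decide +kernel

theorem linE8_r57 : linCheck chevE8 expE8 57 = true := by
  decide +kernel

theorem linE8_r58 : linCheck chevE8 expE8 58 = true := by
  decide +kernel

theorem linE8_r59 : linCheck chevE8 expE8 59 = true := by
  decide +kernel

theorem linE8_50' (r : ℕ) (h1 : 50 ≤ r) (h2 : r < 60) : linCheck chevE8 expE8 r = true := by
  have h : r = 50 ∨ r = 51 ∨ r = 52 ∨ r = 53 ∨ r = 54 ∨ r = 55 ∨ r = 56 ∨ r = 57 ∨ r = 58 ∨ r = 59 := by omega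
  rcases h with rfl | rfl | rfl | rfl | rfl | rfl | rfl | rfl | rfl | rfl
  exacts [linE8_r50, linE8_r51, linE8_r52, linE8_r53, linE8_r54, linE8_r55, linE8_r56, linE8_r57, linE8_r58, linE8_r59]

end Cfsg.Agent.Helper18
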