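import Cfsg.Agent.Lib.Helper18.ChevTorus
import Cfsg.Prelude.Def_LieTypes
import Cfsg.Prelude.Def_ChevB2

set_option autoImplicit false
set_option maxRecDepth 100000

namespace Cfsg.Agent.Helper18

open Cfsg.Lie

theorem linE8_r60 : linCheck chevE8 expE8 60 = true := by
  decide +kernel

theorem linE8_r61 : linCheck chevE8 expE8 61 = true := by
  decide +kernel

theorem linE8_r62 : linCheck chevE8 expE8 62 = true := by
  decide +kernel

theorem linE8_r63 : linCheck chevE8 expE8 63 = true := by
  decide +kernel

theorem linE8_r64 : linCheck chevE8 expE8 64 = true := by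
  decide +kernel

theorem linE8_r65 : linCheck chevE8 expE8 65 = true := by
  decide +kernel

theorem linE8_r66 : linCheck chevE8 expE8 66 = true := by
  decide +kernel

theorem linE8_r67 : linCheck chevE8 expE8 67 = true := by
  decide +kernel

theorem linE8_r68 : linCheck chevE8 expE8 68 = true := by
  decide +kernel

theorem linE8_r69 : linCheck chevE8 expE8 69 = true := by
  decide +kernel

theorem linE8_60' (r : ℕ) (h1 : 60 ≤ r) (h2 : r < 70) : linCheck chevE8 expE8 r = true := by
  have h : r = 60 ∨ r = 61 ∨ r = 62 ∨ r = 63 ∨ r = 64 ∨ r = 65 ∨ r = 66 ∨ r = 67 ∨ r = 68 ∨ r = 69 := by omega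
  rcases h with rfl | rfl | rfl | rfl | rfl | rfl | rfl | rfl | rfl | rfl
  exacts [linE8_r60, linE8_r61, linE8_r62, linE8_r63, linE8_r64, linE8_r65, linE8_r66, linE8_r67, linE8_r68, linE8_r69]

theorem linE8_r70 : linCheck chevE8 expE8 70 = true := by
  decide +kernel

theorem linE8_r71 : linCheck chevE8 expE8 71 = true := by
  decide +kernel

theorem linE8_r72 : linCheck chevE8 expE8 72 = true := by
  decide +kernel

theorem linE8_r73 : linCheck chevE8 expE8 73 = true := by
  decide +kernel

theorem linE8_r74 : linCheck chevE8 expE8 74 = true := by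
  decide +kernel

theorem linE8_r75 : linCheck chevE8 expE8 75 = true := by
  decide +kernel

theorem linE8_r76 : linCheck chevE8 expE8 76 = true := by
  decide +kernel

theorem linE8_r77 : linCheck chevE8 expE8 77 = true := by
  decide +kernel

theorem linE8_r78 : linCheck chevE8 expE8 78 = true := by
  decide +kernel

theorem linE8_r79 : linCheck chevE8 expE8 79 = true := by
  decide +kernel

theorem linE8_70' (r : ℕ) (h1 : 70 ≤ r) (h2 : r < 80) : linCheck chevE8 expE8 r = true := by
  have h : r = 70 ∨ r = 71 ∨ r = 72 ∨ r = 73 ∨ r = 74 ∨ r = 75 ∨ r = 76 ∨ r = 77 ∨ r = 78 ∨ r = 79 := by omega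
  rcases h with rfl | rfl | rfl | rfl | rfl | rfl | rfl | rfl | rfl | rfl
  exacts [linE8_r70, linE8_r71, linE8_r72, linE8_r73, linE8_r74, linE8_r75, linE8_r76, linE8_r77, linE8_r78, linE8_r79]

end Cfsg.Agent.Helper18
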