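import Cfsg.Agent.Lib.Helper18.ChevTorus
import Cfsg.Prelude.Def_LieTypes
import Cfsg.Prelude.Def_ChevB2

set_option autoImplicit false
set_option maxRecDepth 100000

namespace Cfsg.Agent.Helper18

open Cfsg.Lie

theorem linE8_r80 : linCheck chevE8 expE8 80 = true := by
  decide +kernel

theorem linE8_r81 : linCheck chevE8 expE8 81 = true := by
  decide +kernel

theorem linE8_r82 : linCheck chevE8 expE8 82 = true := by
  decide +kernel

theorem linE8_r83 : linCheck chevE8 expE8 83 = true := by
  decide +kernel

theorem linE8_r84 : linCheck chevE8 expE8 84 = true := by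
  decide +kernel

theorem linE8_r85 : linCheck chevE8 expE8 85 = true := by
  decide +kernel

theorem linE8_r86 : linCheck chevE8 expE8 86 = true := by
  decide +kernel

theorem linE8_r87 : linCheck chevE8 expE8 87 = true := by
  decide +kernel

theorem linE8_r88 : linCheck chevE8 expE8 88 = true := by
  decide +kernel

theorem linE8_r89 : linCheck chevE8 expE8 89 = true := by
  decide +kernel

theorem linE8_80' (r : ℕ) (h1 : 80 ≤ r) (h2 : r < 90) : linCheck chevE8 expE8 r = true := by
  have h : r = 80 ∨ r = 81 ∨ r = 82 ∨ r = 83 ∨ r = 84 ∨ r = 85 ∨ r = 86 ∨ r = 87 ∨ r = 88 ∨ r = 89 := by omega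
  rcases h with rfl | rfl | rfl | rfl | rfl | rfl | rfl | rfl | rfl | rfl
  exacts [linE8_r80, linE8_r81, linE8_r82, linE8_r83, linE8_r84, linE8_r85, linE8_r86, linE8_r87, linE8_r88, linE8_r89]

theorem linE8_r90 : linCheck chevE8 expE8 90 = true := by
  decide +kernel

theorem linE8_r91 : linCheck chevE8 expE8 91 = true := by
  decide +kernel

theorem linE8_r92 : linCheck chevE8 expE8 92 = true := by
  decide +kernel

theorem linE8_r93 : linCheck chevE8 expE8 93 = true := by
  decide +kernel

theorem linE8_r94 : linCheck chevE8 expE8 94 = true := by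
  decide +kernel

theorem linE8_r95 : linCheck chevE8 expE8 95 = true := by
  decide +kernel

theorem linE8_r96 : linCheck chevE8 expE8 96 = true := by
  decide +kernel

theorem linE8_r97 : linCheck chevE8 expE8 97 = true := by
  decide +kernel

theorem linE8_r98 : linCheck chevE8 expE8 98 = true := by
  decide +kernel

theorem linE8_r99 : linCheck chevE8 expE8 99 = true := by
  decide +kernel

theorem linE8_90' (r : ℕ) (h1 : 90 ≤ r) (h2 : r < 100) : linCheck chevE8 expE8 r = true := by
  have h : r = 90 ∨ r = 91 ∨ r = 92 ∨ r = 93 ∨ r = 94 ∨ r = 95 ∨ r = 96 ∨ r = 97 ∨ r = 98 ∨ r = 99 := by omega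
  rcases h with rfl | rfl | rfl | rfl | rfl | rfl | rfl | rfl | rfl | rfl
  exacts [linE8_r90, linE8_r91, linE8_r92, linE8_r93, linE8_r94, linE8_r95, linE8_r96, linE8_r97, linE8_r98, linE8_r99]

end Cfsg.Agent.Helper18
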