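import Cfsg.Agent.Lib.Helper18.ChevTorus
import Cfsg.Prelude.Def_LieTypes
import Cfsg.Prelude.Def_ChevB2

set_option autoImplicit false
set_option maxRecDepth 100000

namespace Cfsg.Agent.Helper18

open Cfsg.Lie

theorem linE8_r100 : linCheck chevE8 expE8 100 = true := by
  decide +kernel

theorem linE8_r101 : linCheck chevE8 expE8 101 = true := by
  decide +kernel

theorem linE8_r102 : linCheck chevE8 expE8 102 = true := by
  decide +kernel

theorem linE8_r103 : linCheck chevE8 expE8 103 = true := by
  decide +kernel

theorem linE8_r104 : linCheck chevE8 expE8 104 = true := by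
  decide +kernel

theorem linE8_r105 : linCheck chevE8 expE8 105 = true := by
  decide +kernel

theorem linE8_r106 : linCheck chevE8 expE8 106 = true := by
  decide +kernel

theorem linE8_r107 : linCheck chevE8 expE8 107 = true := by
  decide +kernel

theorem linE8_r108 : linCheck chevE8 expE8 108 = true := by
  decide +kernel

theorem linE8_r109 : linCheck chevE8 expE8 109 = true := by
  decide +kernel

theorem linE8_100' (r : ℕ) (h1 : 100 ≤ r) (h2 : r < 110) : linCheck chevE8 expE8 r = true := by
  have h : r = 100 ∨ r = 101 ∨ r = 102 ∨ r = 103 ∨ r = 104 ∨ r = 105 ∨ r = 106 ∨ r = 107 ∨ r = 108 ∨ r = 109 := by omega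
  rcases h with rfl | rfl | rfl | rfl | rfl | rfl | rfl | rfl | rfl | rfl
  exacts [linE8_r100, linE8_r101, linE8_r102, linE8_r103, linE8_r104, linE8_r105, linE8_r106, linE8_r107, linE8_r108, linE8_r109]

theorem linE8_r110 : linCheck chevE8 expE8 110 = true := by
  decide +kernel

theorem linE8_r111 : linCheck chevE8 expE8 111 = true := by
  decide +kernel

theorem linE8_r112 : linCheck chevE8 expE8 112 = true := by
  decide +kernel

theorem linE8_r113 : linCheck chevE8 expE8 113 = true := by
  decide +kernel

theorem linE8_r114 : linCheck chevE8 expE8 114 = true := by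
  decide +kernel

theorem linE8_r115 : linCheck chevE8 expE8 115 = true := by
  decide +kernel

theorem linE8_r116 : linCheck chevE8 expE8 116 = true := by
  decide +kernel

theorem linE8_r117 : linCheck chevE8 expE8 117 = true := by
  decide +kernel

theorem linE8_r118 : linCheck chevE8 expE8 118 = true := by
  decide +kernel

theorem linE8_r119 : linCheck chevE8 expE8 119 = true := by
  decide +kernel

theorem linE8_110' (r : ℕ) (h1 : 110 ≤ r) (h2 : r < 120) : linCheck chevE8 expE8 r = true := by
  have h : r = 110 ∨ r = 111 ∨ r = 112 ∨ r = 113 ∨ r = 114 ∨ r = 115 ∨ r = 116 ∨ r = 117 ∨ r = 118 ∨ r = 119 := by omega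
  rcases h with rfl | rfl | rfl | rfl | rfl | rfl | rfl | rfl | rfl | rfl
  exacts [linE8_r110, linE8_r111, linE8_r112, linE8_r113, linE8_r114, linE8_r115, linE8_r116, linE8_r117, linE8_r118, linE8_r119]

end Cfsg.Agent.Helper18
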