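import Cfsg.Agent.Lib.Helper18.ChevTorus
import Cfsg.Prelude.Def_LieTypes
import Cfsg.Prelude.Def_ChevB2

set_option autoImplicit false
set_option maxRecDepth 100000

namespace Cfsg.Agent.Helper18

open Cfsg.Lie

theorem linE8_r120 : linCheck chevE8 expE8 120 = true := by
  decide +kernel

theorem linE8_r121 : linCheck chevE8 expE8 121 = true := by
  decide +kernel

theorem linE8_r122 : linCheck chevE8 expE8 122 = true := by
  decide +kernel

theorem linE8_r123 : linCheck chevE8 expE8 123 = true := by
  decide +kernel

theorem linE8_r124 : linCheck chevE8 expE8 124 = true := by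
  decide +kernel

theorem linE8_r125 : linCheck chevE8 expE8 125 = true := by
  decide +kernel

theorem linE8_r126 : linCheck chevE8 expE8 126 = true := by
  decide +kernel

theorem linE8_r127 : linCheck chevE8 expE8 127 = true := by
  decide +kernel

theorem linE8_r128 : linCheck chevE8 expE8 128 = true := by
  decide +kernel

theorem linE8_r129 : linCheck chevE8 expE8 129 = true := by
  decide +kernel

theorem linE8_120' (r : ℕ) (h1 : 120 ≤ r) (h2 : r < 130) : linCheck chevE8 expE8 r = true := by
  have h : r = 120 ∨ r = 121 ∨ r = 122 ∨ r = 123 ∨ r = 124 ∨ r = 125 ∨ r = 126 ∨ r = 127 ∨ r = 128 ∨ r = 129 := by omega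
  rcases h with rfl | rfl | rfl | rfl | rfl | rfl | rfl | rfl | rfl | rfl
  exacts [linE8_r120, linE8_r121, linE8_r122, linE8_r123, linE8_r124, linE8_r125, linE8_r126, linE8_r127, linE8_r128, linE8_r129]

theorem linE8_r130 : linCheck chevE8 expE8 130 = true := by
  decide +kernel

theorem linE8_r131 : linCheck chevE8 expE8 131 = true := by
  decide +kernel

theorem linE8_r132 : linCheck chevE8 expE8 132 = true := by
  decide +kernel

theorem linE8_r133 : linCheck chevE8 expE8 133 = true := by
  decide +kernel

theorem linE8_r134 : linCheck chevE8 expE8 134 = true := by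
  decide +kernel

theorem linE8_r135 : linCheck chevE8 expE8 135 = true := by
  decide +kernel

theorem linE8_r136 : linCheck chevE8 expE8 136 = true := by
  decide +kernel

theorem linE8_r137 : linCheck chevE8 expE8 137 = true := by
  decide +kernel

theorem linE8_r138 : linCheck chevE8 expE8 138 = true := by
  decide +kernel

theorem linE8_r139 : linCheck chevE8 expE8 139 = true := by
  decide +kernel

theorem linE8_130' (r : ℕ) (h1 : 130 ≤ r) (h2 : r < 140) : linCheck chevE8 expE8 r = true := by
  have h : r = 130 ∨ r = 131 ∨ r = 132 ∨ r = 133 ∨ r = 134 ∨ r = 135 ∨ r = 136 ∨ r = 137 ∨ r = 138 ∨ r = 139 := by omega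
  rcases h with rfl | rfl | rfl | rfl | rfl | rfl | rfl | rfl | rfl | rfl
  exacts [linE8_r130, linE8_r131, linE8_r132, linE8_r133, linE8_r134, linE8_r135, linE8_r136, linE8_r137, linE8_r138, linE8_r139]

end Cfsg.Agent.Helper18
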