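import Cfsg.Agent.Lib.Helper18.ChevTorus
import Cfsg.Prelude.Def_LieTypes
import Cfsg.Prelude.Def_ChevB2

set_option autoImplicit false
set_option maxRecDepth 100000

namespace Cfsg.Agent.Helper18

open Cfsg.Lie

theorem linE8_r140 : linCheck chevE8 expE8 140 = true := by
  decide +kernel

theorem linE8_r141 : linCheck chevE8 expE8 141 = true := by
  decide +kernel

theorem linE8_r142 : linCheck chevE8 expE8 142 = true := by
  decide +kernel

theorem linE8_r143 : linCheck chevE8 expE8 143 = true := by
  decide +kernel

theorem linE8_r144 : linCheck chevE8 expE8 144 = true := by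
  decide +kernel

theorem linE8_r145 : linCheck chevE8 expE8 145 = true := by
  decide +kernel

theorem linE8_r146 : linCheck chevE8 expE8 146 = true := by
  decide +kernel

theorem linE8_r147 : linCheck chevE8 expE8 147 = true := by
  decide +kernel

theorem linE8_r148 : linCheck chevE8 expE8 148 = true := by
  decide +kernel

theorem linE8_r149 : linCheck chevE8 expE8 149 = true := by
  decide +kernel

theorem linE8_140' (r : ℕ) (h1 : 140 ≤ r) (h2 : r < 150) : linCheck chevE8 expE8 r = true := by
  have h : r = 140 ∨ r = 141 ∨ r = 142 ∨ r = 143 ∨ r = 144 ∨ r = 145 ∨ r = 146 ∨ r = 147 ∨ r = 148 ∨ r = 149 := by omega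
  rcases h with rfl | rfl | rfl | rfl | rfl | rfl | rfl | rfl | rfl | rfl
  exacts [linE8_r140, linE8_r141, linE8_r142, linE8_r143, linE8_r144, linE8_r145, linE8_r146, linE8_r147, linE8_r148, linE8_r149]

theorem linE8_r150 : linCheck chevE8 expE8 150 = true := by
  decide +kernel

theorem linE8_r151 : linCheck chevE8 expE8 151 = true := by
  decide +kernel

theorem linE8_r152 : linCheck chevE8 expE8 152 = true := by
  decide +kernel

theorem linE8_r153 : linCheck chevE8 expE8 153 = true := by
  decide +kernel

theorem linE8_r154 : linCheck chevE8 expE8 154 = true := by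
  decide +kernel

theorem linE8_r155 : linCheck chevE8 expE8 155 = true := by
  decide +kernel

theorem linE8_r156 : linCheck chevE8 expE8 156 = true := by
  decide +kernel

theorem linE8_r157 : linCheck chevE8 expE8 157 = true := by
  decide +kernel

theorem linE8_r158 : linCheck chevE8 expE8 158 = true := by
  decide +kernel

theorem linE8_r159 : linCheck chevE8 expE8 159 = true := by
  decide +kernel

theorem linE8_150' (r : ℕ) (h1 : 150 ≤ r) (h2 : r < 160) : linCheck chevE8 expE8 r = true := by
  have h : r = 150 ∨ r = 151 ∨ r = 152 ∨ r = 153 ∨ r = 154 ∨ r = 155 ∨ r = 156 ∨ r = 157 ∨ r = 158 ∨ r = 159 := by omega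
  rcases h with rfl | rfl | rfl | rfl | rfl | rfl | rfl | rfl | rfl | rfl
  exacts [linE8_r150, linE8_r151, linE8_r152, linE8_r153, linE8_r154, linE8_r155, linE8_r156, linE8_r157, linE8_r158, linE8_r159]

end Cfsg.Agent.Helper18
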