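import Cfsg.Agent.Lib.Helper18.ChevTorus
import Cfsg.Prelude.Def_LieTypes
import Cfsg.Prelude.Def_ChevB2

set_option autoImplicit false
set_option maxRecDepth 100000

namespace Cfsg.Agent.Helper18

open Cfsg.Lie

theorem linE8_r160 : linCheck chevE8 expE8 160 = true := by
  decide +kernel

theorem linE8_r161 : linCheck chevE8 expE8 161 = true := by
  decide +kernel

theorem linE8_r162 : linCheck chevE8 expE8 162 = true := by
  decide +kernel

theorem linE8_r163 : linCheck chevE8 expE8 163 = true := by
  decide +kernel

theorem linE8_r164 : linCheck chevE8 expE8 164 = true := by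
  decide +kernel

theorem linE8_r165 : linCheck chevE8 expE8 165 = true := by
  decide +kernel

theorem linE8_r166 : linCheck chevE8 expE8 166 = true := by
  decide +kernel

theorem linE8_r167 : linCheck chevE8 expE8 167 = true := by
  decide +kernel

theorem linE8_r168 : linCheck chevE8 expE8 168 = true := by
  decide +kernel

theorem linE8_r169 : linCheck chevE8 expE8 169 = true := by
  decide +kernel

theorem linE8_160' (r : ℕ) (h1 : 160 ≤ r) (h2 : r < 170) : linCheck chevE8 expE8 r = true := by
  have h : r = 160 ∨ r = 161 ∨ r = 162 ∨ r = 163 ∨ r = 164 ∨ r = 165 ∨ r = 166 ∨ r = 167 ∨ r = 168 ∨ r = 169 := by omega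
  rcases h with rfl | rfl | rfl | rfl | rfl | rfl | rfl | rfl | rfl | rfl
  exacts [linE8_r160, linE8_r161, linE8_r162, linE8_r163, linE8_r164, linE8_r165, linE8_r166, linE8_r167, linE8_r168, linE8_r169]

theorem linE8_r170 : linCheck chevE8 expE8 170 = true := by
  decide +kernel

theorem linE8_r171 : linCheck chevE8 expE8 171 = true := by
  decide +kernel

theorem linE8_r172 : linCheck chevE8 expE8 172 = true := by
  decide +kernel

theorem linE8_r173 : linCheck chevE8 expE8 173 = true := by
  decide +kernel

theorem linE8_r174 : linCheck chevE8 expE8 174 = true := by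
  decide +kernel

theorem linE8_r175 : linCheck chevE8 expE8 175 = true := by
  decide +kernel

theorem linE8_r176 : linCheck chevE8 expE8 176 = true := by
  decide +kernel

theorem linE8_r177 : linCheck chevE8 expE8 177 = true := by
  decide +kernel

theorem linE8_r178 : linCheck chevE8 expE8 178 = true := by
  decide +kernel

theorem linE8_r179 : linCheck chevE8 expE8 179 = true := by
  decide +kernel

theorem linE8_170' (r : ℕ) (h1 : 170 ≤ r) (h2 : r < 180) : linCheck chevE8 expE8 r = true := by
  have h : r = 170 ∨ r = 171 ∨ r = 172 ∨ r = 173 ∨ r = 174 ∨ r = 175 ∨ r = 176 ∨ r = 177 ∨ r = 178 ∨ r = 179 := by omega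
  rcases h with rfl | rfl | rfl | rfl | rfl | rfl | rfl | rfl | rfl | rfl
  exacts [linE8_r170, linE8_r171, linE8_r172, linE8_r173, linE8_r174, linE8_r175, linE8_r176, linE8_r177, linE8_r178, linE8_r179]

end Cfsg.Agent.Helper18
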