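import Cfsg.Agent.Lib.Helper18.LinSmall
import Cfsg.Agent.Lib.Helper18.LinE6
import Cfsg.Agent.Lib.Helper18.LinE7_0
import Cfsg.Agent.Lib.Helper18.LinE7_1
import Cfsg.Agent.Lib.Helper18.LinE8_0
import Cfsg.Agent.Lib.Helper18.LinE8_1
import Cfsg.Agent.Lib.Helper18.LinE8_2
import Cfsg.Agent.Lib.Helper18.LinE8_3
import Cfsg.Agent.Lib.Helper18.LinE8_4
import Cfsg.Agent.Lib.Helper18.LinE8_5
import Cfsg.Agent.Lib.Helper18.LinE8_6
import Cfsg.Agent.Lib.Helper18.LinE8_7
import Cfsg.Agent.Lib.Helper18.LinE8_8
import Cfsg.Agent.Lib.Helper18.LinE8_9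
import Cfsg.Agent.Lib.Helper18.LinE8_10
import Cfsg.Agent.Lib.Helper18.LinE8_11
import Cfsg.Prelude.Def_LieTypes
import Cfsg.Prelude.Def_ChevB2

set_option autoImplicit false

namespace Cfsg.Agent.Helper18

open Cfsg.Lie

theorem linG2 (r : ℕ) (hr : r < 12) : linCheck chevG2 expG2 r = true := by
  exact linG2_0' r (by omega) hr

theorem linB2 (r : ℕ) (hr : r < 8) : linCheck chevB2 expB2 r = true := by
  exact linB2_0' r (by omega) hr

theorem linD4 (r : ℕ) (hr : r < 24) : linCheck chevD4 expD4 r = true := by
  exact linD4_0' r (by omega) hr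

theorem linF4 (r : ℕ) (hr : r < 48) : linCheck chevF4 expF4 r = true := by
  by_cases h0 : r < 24
  · exact linF4_0' r (by omega) h0
  exact linF4_24' r (by omega) hr

theorem linE6 (r : ℕ) (hr : r < 72) : linCheck chevE6 expE6 r = true := by
  by_cases h0 : r < 36
  · exact linE6_0' r (by omega) h0
  exact linE6_36' r (by omega) hr

theorem linE7 (r : ℕ) (hr : r < 126) : linCheck chevE7 expE7 r = true := by
  by_cases h0 : r < 32
  · exact linE7_0' r (by omega) h0
  by_cases h1 : r < 63
  · exact linE7_32' r (by omega) h1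
  by_cases h2 : r < 95
  · exact linE7_63' r (by omega) h2
  exact linE7_95' r (by omega) hr

theorem linE8 (r : ℕ) (hr : r < 240) : linCheck chevE8 expE8 r = true := by
  by_cases h0 : r < 10
  · exact linE8_0' r (by omega) h0
  by_cases h1 : r < 20
  · exact linE8_10' r (by omega) h1
  by_cases h2 : r < 30
  · exact linE8_20' r (by omega) h2
  by_cases h3 : r < 40
  · exact linE8_30' r (by omega) h3
  by_cases h4 : r < 50
  · exact linE8_40' r (by omega) h4
  by_cases h5 : r < 60
  · exact linE8_50' r (by omega) h5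
  by_cases h6 : r < 70
  · exact linE8_60' r (by omega) h6
  by_cases h7 : r < 80
  · exact linE8_70' r (by omega) h7
  by_cases h8 : r < 90
  · exact linE8_80' r (by omega) h8
  by_cases h9 : r < 100
  · exact linE8_90' r (by omega) h9
  by_cases h10 : r < 110
  · exact linE8_100' r (by omega) h10
  by_cases h11 : r < 120
  · exact linE8_110' r (by omega) h11
  by_cases h12 : r < 130
  · exact linE8_120' r (by omega) h12
  by_cases h13 : r < 140
  · exact linE8_130' r (by omega) h13
  by_cases h14 : r < 150
  · exact linE8_140' r (by omega) h14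
  by_cases h15 : r < 160
  · exact linE8_150' r (by omega) h15
  by_cases h16 : r < 170
  · exact linE8_160' r (by omega) h16
  by_cases h17 : r < 180
  · exact linE8_170' r (by omega) h17
  by_cases h18 : r < 190
  · exact linE8_180' r (by omega) h18
  by_cases h19 : r < 200
  · exact linE8_190' r (by omega) h19
  by_cases h20 : r < 210
  · exact linE8_200' r (by omega) h20
  by_cases h21 : r < 220
  · exact linE8_210' r (by omega) h21
  by_cases h22 : r < 230
  · exact linE8_220' r (by omega) h22
  exact linE8_230' r (by omega) hr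

end Cfsg.Agent.Helper18
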