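import Cfsg.Agent.Lib.Helper18.ChevDiagConj
import Cfsg.Prelude.Def_LieTypes
import Cfsg.Prelude.Def_ChevB2

set_option autoImplicit false
set_option maxRecDepth 100000

namespace Cfsg.Agent.Helper18

open Cfsg.Lie

theorem sConjE6_0 : simpleConjCheck chevE6 0 (lget expE6 (fSimple chevE6 0) 0) = true := by
  decide +kernel

theorem sConjE6_1 : simpleConjCheck chevE6 1 (lget expE6 (fSimple chevE6 1) 0) = true := by
  decide +kernel

theorem sConjE6_2 : simpleConjCheck chevE6 2 (lget expE6 (fSimple chevE6 2) 0) = true := by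
  decide +kernel

theorem sConjE6_3 : simpleConjCheck chevE6 3 (lget expE6 (fSimple chevE6 3) 0) = true := by
  decide +kernel

theorem sConjE6_4 : simpleConjCheck chevE6 4 (lget expE6 (fSimple chevE6 4) 0) = true := by
  decide +kernel

theorem sConjE6_5 : simpleConjCheck chevE6 5 (lget expE6 (fSimple chevE6 5) 0) = true := by
  decide +kernel

theorem sConjE6 (i : ℕ) (hlo : 0 ≤ i) (hi : i < 6) : simpleConjCheck chevE6 i (lget expE6 (fSimple chevE6 i) 0) = true := by
  have h : i = 0 ∨ i = 1 ∨ i = 2 ∨ i = 3 ∨ i = 4 ∨ i = 5 := by omega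
  rcases h with rfl | rfl | rfl | rfl | rfl | rfl
  exacts [sConjE6_0, sConjE6_1, sConjE6_2, sConjE6_3, sConjE6_4, sConjE6_5]

end Cfsg.Agent.Helper18
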