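import Cfsg.Agent.Lib.Helper18.ChevDiagConj
import Cfsg.Prelude.Def_LieTypes
import Cfsg.Prelude.Def_ChevB2

set_option autoImplicit false
set_option maxRecDepth 100000

namespace Cfsg.Agent.Helper18

open Cfsg.Lie

theorem sConjE7_0 : simpleConjCheck chevE7 0 (lget expE7 (fSimple chevE7 0) 0) = true := by
  decide +kernel

theorem sConjE7_1 : simpleConjCheck chevE7 1 (lget expE7 (fSimple chevE7 1) 0) = true := by
  decide +kernel

theorem sConjE7_2 : simpleConjCheck chevE7 2 (lget expE7 (fSimple chevE7 2) 0) = true := by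
  decide +kernel

theorem sConjE7_3 : simpleConjCheck chevE7 3 (lget expE7 (fSimple chevE7 3) 0) = true := by
  decide +kernel

theorem sConjE7_4 : simpleConjCheck chevE7 4 (lget expE7 (fSimple chevE7 4) 0) = true := by
  decide +kernel

theorem sConjE7_5 : simpleConjCheck chevE7 5 (lget expE7 (fSimple chevE7 5) 0) = true := by
  decide +kernel

theorem sConjE7_6 : simpleConjCheck chevE7 6 (lget expE7 (fSimple chevE7 6) 0) = true := by
  decide +kernel

theorem sConjE7 (i : ℕ) (hlo : 0 ≤ i) (hi : i < 7) : simpleConjCheck chevE7 i (lget expE7 (fSimple chevE7 i) 0) = true := by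
  have h : i = 0 ∨ i = 1 ∨ i = 2 ∨ i = 3 ∨ i = 4 ∨ i = 5 ∨ i = 6 := by omega
  rcases h with rfl | rfl | rfl | rfl | rfl | rfl | rfl
  exacts [sConjE7_0, sConjE7_1, sConjE7_2, sConjE7_3, sConjE7_4, sConjE7_5, sConjE7_6]

end Cfsg.Agent.Helper18
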