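import Cfsg.Agent.Lib.Helper18.ChevDiagConj
import Cfsg.Prelude.Def_LieTypes
import Cfsg.Prelude.Def_ChevB2

set_option autoImplicit false
set_option maxRecDepth 100000

namespace Cfsg.Agent.Helper18

open Cfsg.Lie

theorem sConjE8_0 : simpleConjCheck chevE8 0 (lget expE8 (fSimple chevE8 0) 0) = true := by
  decide +kernel

theorem sConjE8_1 : simpleConjCheck chevE8 1 (lget expE8 (fSimple chevE8 1) 0) = true := by
  decide +kernel

theorem sConjE8_a (i : ℕ) (hlo : 0 ≤ i) (hi : i < 2) : simpleConjCheck chevE8 i (lget expE8 (fSimple chevE8 i) 0) = true := by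
  have h : i = 0 ∨ i = 1 := by omega
  rcases h with rfl | rfl
  exacts [sConjE8_0, sConjE8_1]

end Cfsg.Agent.Helper18
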