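import Cfsg.Agent.Lib.Helper18.ChevDiagConj
import Cfsg.Prelude.Def_LieTypes
import Cfsg.Prelude.Def_ChevB2

set_option autoImplicit false
set_option maxRecDepth 100000

namespace Cfsg.Agent.Helper18

open Cfsg.Lie

theorem sConjE8_4 : simpleConjCheck chevE8 4 (lget expE8 (fSimple chevE8 4) 0) = true := by
  decide +kernel

theorem sConjE8_5 : simpleConjCheck chevE8 5 (lget expE8 (fSimple chevE8 5) 0) = true := by
  decide +kernel

theorem sConjE8_c (i : ℕ) (hlo : 4 ≤ i) (hi : i < 6) : simpleConjCheck chevE8 i (lget expE8 (fSimple chevE8 i) 0) = true := by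
  have h : i = 4 ∨ i = 5 := by omega
  rcases h with rfl | rfl
  exacts [sConjE8_4, sConjE8_5]

end Cfsg.Agent.Helper18
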