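import Cfsg.Agent.Lib.Helper18.SConjSmall
import Cfsg.Agent.Lib.Helper18.SConjE6
import Cfsg.Agent.Lib.Helper18.SConjE7
import Cfsg.Agent.Lib.Helper18.SConjE8_0
import Cfsg.Agent.Lib.Helper18.SConjE8_1
import Cfsg.Agent.Lib.Helper18.SConjE8_2
import Cfsg.Agent.Lib.Helper18.SConjE8_3
import Cfsg.Prelude.Def_LieTypes
import Cfsg.Prelude.Def_ChevB2

set_option autoImplicit false

namespace Cfsg.Agent.Helper18

open Cfsg.Lie

/-- For the seven tabulated data and every fundamental root, the conjugation checks hold. -/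
theorem sConj_all (D : ChevalleyDatum) (hD : D ∈ [chevG2, chevB2, chevD4, chevF4, chevE6, chevE7, chevE8]) (i : ℕ) (hi : i < D.rank) :
    ∃ E : ℕ, simpleConjCheck D i E = true := by
  simp only [List.mem_cons, List.not_mem_nil, or_false] at hD
  rcases hD with rfl | rfl | rfl | rfl | rfl | rfl | rfl
  · exact ⟨_, sConjG2 i (Nat.zero_le _) hi⟩
  · exact ⟨_, sConjB2 i (Nat.zero_le _) hi⟩
  · exact ⟨_, sConjD4 i (Nat.zero_le _) hi⟩
  · exact ⟨_, sConjF4 i (Nat.zero_le _) hi⟩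
  · exact ⟨_, sConjE6 i (Nat.zero_le _) hi⟩
  · exact ⟨_, sConjE7 i (Nat.zero_le _) hi⟩
  · have hi' : i < 8 := hi
    by_cases h1 : i < 2
    · exact ⟨_, sConjE8_a i (Nat.zero_le _) h1⟩
    by_cases h2 : i < 4
    · exact ⟨_, sConjE8_b i (by omega) h2⟩
    by_cases h3 : i < 6
    · exact ⟨_, sConjE8_c i (by omega) h3⟩
    · exact ⟨_, sConjE8_d i (by omega) hi'⟩

end Cfsg.Agent.Helper18
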