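import Cfsg.Agent.Lib.Helper18.ChevH
import Cfsg.Prelude.Def_LieTypes
import Cfsg.Prelude.Def_ChevB2

set_option autoImplicit false
set_option maxRecDepth 100000

namespace Cfsg.Agent.Helper18

open Cfsg.Lie

theorem hChkE7_0 : hSimpleCheck chevE7 0 = true := by decide +kernel
theorem hChkE7_1 : hSimpleCheck chevE7 1 = true := by decide +kernel
theorem hChkE7_2 : hSimpleCheck chevE7 2 = true := by decide +kernel
theorem hChkE7_3 : hSimpleCheck chevE7 3 = true := by decide +kernel
theorem hChkE7_4 : hSimpleCheck chevE7 4 = true := by decide +kernel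
theorem hChkE7_5 : hSimpleCheck chevE7 5 = true := by decide +kernel
theorem hChkE7_6 : hSimpleCheck chevE7 6 = true := by decide +kernel

theorem hSimpleE7 (i : ℕ) (hlo : 0 ≤ i) (hi : i < 7) : hSimpleCheck chevE7 i = true := by
  interval_cases i
  · exact hChkE7_0
  · exact hChkE7_1
  · exact hChkE7_2
  · exact hChkE7_3
  · exact hChkE7_4
  · exact hChkE7_5
  · exact hChkE7_6

end Cfsg.Agent.Helper18
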