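import Cfsg.Agent.Lib.Helper18.ChevH
import Cfsg.Prelude.Def_LieTypes
import Cfsg.Prelude.Def_ChevB2

set_option autoImplicit false
set_option maxRecDepth 100000

namespace Cfsg.Agent.Helper18

open Cfsg.Lie

theorem hChkE8_0 : hSimpleCheck chevE8 0 = true := by decide +kernel
theorem hChkE8_1 : hSimpleCheck chevE8 1 = true := by decide +kernel
theorem hChkE8_2 : hSimpleCheck chevE8 2 = true := by decide +kernel
theorem hChkE8_3 : hSimpleCheck chevE8 3 = true := by decide +kernel

theorem hSimpleE8a (i : ℕ) (hlo : 0 ≤ i) (hi : i < 4) : hSimpleCheck chevE8 i = true := by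
  interval_cases i
  · exact hChkE8_0
  · exact hChkE8_1
  · exact hChkE8_2
  · exact hChkE8_3

end Cfsg.Agent.Helper18
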