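import Cfsg.Agent.Lib.Helper18.ChevH
import Cfsg.Prelude.Def_LieTypes
import Cfsg.Prelude.Def_ChevB2

set_option autoImplicit false
set_option maxRecDepth 100000

namespace Cfsg.Agent.Helper18

open Cfsg.Lie

theorem hChkE8_4 : hSimpleCheck chevE8 4 = true := by decide +kernel
theorem hChkE8_5 : hSimpleCheck chevE8 5 = true := by decide +kernel
theorem hChkE8_6 : hSimpleCheck chevE8 6 = true := by decide +kernel
theorem hChkE8_7 : hSimpleCheck chevE8 7 = true := by decide +kernel

theorem hSimpleE8b (i : ℕ) (hlo : 4 ≤ i) (hi : i < 8) : hSimpleCheck chevE8 i = true := by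
  interval_cases i
  · exact hChkE8_4
  · exact hChkE8_5
  · exact hChkE8_6
  · exact hChkE8_7

end Cfsg.Agent.Helper18
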