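import Cfsg.Agent.Lib.Helper18.ChevH
import Cfsg.Prelude.Def_LieTypes
import Cfsg.Prelude.Def_ChevB2

set_option autoImplicit false
set_option maxRecDepth 100000

namespace Cfsg.Agent.Helper18

open Cfsg.Lie

theorem hChkG2_0 : hSimpleCheck chevG2 0 = true := by decide +kernel
theorem hChkG2_1 : hSimpleCheck chevG2 1 = true := by decide +kernel

theorem hSimpleG2 (i : ℕ) (hlo : 0 ≤ i) (hi : i < 2) : hSimpleCheck chevG2 i = true := by
  interval_cases i
  · exact hChkG2_0
  · exact hChkG2_1

theorem hChkB2_0 : hSimpleCheck chevB2 0 = true := by decide +kernel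
theorem hChkB2_1 : hSimpleCheck chevB2 1 = true := by decide +kernel

theorem hSimpleB2 (i : ℕ) (hlo : 0 ≤ i) (hi : i < 2) : hSimpleCheck chevB2 i = true := by
  interval_cases i
  · exact hChkB2_0
  · exact hChkB2_1

theorem hChkD4_0 : hSimpleCheck chevD4 0 = true := by decide +kernel
theorem hChkD4_1 : hSimpleCheck chevD4 1 = true := by decide +kernel
theorem hChkD4_2 : hSimpleCheck chevD4 2 = true := by decide +kernel
theorem hChkD4_3 : hSimpleCheck chevD4 3 = true := by decide +kernel

theorem hSimpleD4 (i : ℕ) (hlo : 0 ≤ i) (hi : i < 4) : hSimpleCheck chevD4 i = true := by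
  interval_cases i
  · exact hChkD4_0
  · exact hChkD4_1
  · exact hChkD4_2
  · exact hChkD4_3

theorem hChkF4_0 : hSimpleCheck chevF4 0 = true := by decide +kernel
theorem hChkF4_1 : hSimpleCheck chevF4 1 = true := by decide +kernel
theorem hChkF4_2 : hSimpleCheck chevF4 2 = true := by decide +kernel
theorem hChkF4_3 : hSimpleCheck chevF4 3 = true := by decide +kernel

theorem hSimpleF4 (i : ℕ) (hlo : 0 ≤ i) (hi : i < 4) : hSimpleCheck chevF4 i = true := by
  interval_cases i
  · exact hChkF4_0
  · exact hChkF4_1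
  · exact hChkF4_2
  · exact hChkF4_3

theorem hChkE6_0 : hSimpleCheck chevE6 0 = true := by decide +kernel
theorem hChkE6_1 : hSimpleCheck chevE6 1 = true := by decide +kernel
theorem hChkE6_2 : hSimpleCheck chevE6 2 = true := by decide +kernel
theorem hChkE6_3 : hSimpleCheck chevE6 3 = true := by decide +kernel
theorem hChkE6_4 : hSimpleCheck chevE6 4 = true := by decide +kernel
theorem hChkE6_5 : hSimpleCheck chevE6 5 = true := by decide +kernel

theorem hSimpleE6 (i : ℕ) (hlo : 0 ≤ i) (hi : i < 6) : hSimpleCheck chevE6 i = true := by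
  interval_cases i
  · exact hChkE6_0
  · exact hChkE6_1
  · exact hChkE6_2
  · exact hChkE6_3
  · exact hChkE6_4
  · exact hChkE6_5

end Cfsg.Agent.Helper18
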