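import Cfsg.Agent.Lib.Helper18.ChevTorus
import Cfsg.Agent.Lib.Helper18.HAll
import Cfsg.Agent.Lib.Helper18.SConjAll
import Cfsg.Agent.Lib.Helper18.LinAll
import Cfsg.Agent.S1033

set_option autoImplicit false

namespace Cfsg.Agent.Helper18

open Cfsg.Lie

/-- The kernel-checked facts about diagonal elements hold for the seven tabulated data. -/
theorem torusData_all (D : ChevalleyDatum)
    (hD : D ∈ [chevG2, chevB2, chevD4, chevF4, chevE6, chevE7, chevE8]) :
    ∃ tbl : List ℕ, TorusData D tbl := by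
  have hS := Cfsg.Agent.S1033.all D hD
  simp only [List.mem_cons, List.not_mem_nil, or_false] at hD
  rcases hD with rfl | rfl | rfl | rfl | rfl | rfl | rfl
  · exact ⟨expG2, ⟨hAllG2, hS, fun i hi => sConjG2 i (Nat.zero_le _) hi, linG2⟩⟩
  · exact ⟨expB2, ⟨hAllB2, hS, fun i hi => sConjB2 i (Nat.zero_le _) hi, linB2⟩⟩
  · exact ⟨expD4, ⟨hAllD4, hS, fun i hi => sConjD4 i (Nat.zero_le _) hi, linD4⟩⟩
  · exact ⟨expF4, ⟨hAllF4, hS, fun i hi => sConjF4 i (Nat.zero_le _) hi, linF4⟩⟩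
  · exact ⟨expE6, ⟨hAllE6, hS, fun i hi => sConjE6 i (Nat.zero_le _) hi, linE6⟩⟩
  · exact ⟨expE7, ⟨hAllE7, hS, fun i hi => sConjE7 i (Nat.zero_le _) hi, linE7⟩⟩
  · refine ⟨expE8, ⟨hAllE8, hS, fun i hi => ?_, linE8⟩⟩
    have hi' : i < 8 := hi
    by_cases h1 : i < 2
    · exact sConjE8_a i (Nat.zero_le _) h1
    by_cases h2 : i < 4
    · exact sConjE8_b i (by omega) h2
    by_cases h3 : i < 6
    · exact sConjE8_c i (by omega) h3
    · exact sConjE8_d i (by omega) hi'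

end Cfsg.Agent.Helper18
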