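import Cfsg.Agent.Lib.Helper18.ChevComm
import Cfsg.Prelude.Def_LieTypes
import Cfsg.Prelude.Def_ChevB2

set_option autoImplicit false
set_option maxRecDepth 100000
set_option Elab.async false

namespace Cfsg.Agent.Helper18

open Cfsg.Lie

theorem commE6_0_36 : commCheck chevE6 56 36 = true := by
  decide +kernel

theorem commE6_0_37 : commCheck chevE6 56 37 = true := by
  decide +kernel

theorem commE6_0_38 : commCheck chevE6 56 38 = true := by
  decide +kernel

theorem commE6_0_39 : commCheck chevE6 56 39 = true := by
  decide +kernel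

theorem commE6_0_40 : commCheck chevE6 56 40 = true := by
  decide +kernel

theorem commE6_0_41 : commCheck chevE6 56 41 = true := by
  decide +kernel

theorem commE6_0_42 : commCheck chevE6 56 42 = true := by
  decide +kernel

theorem commE6_0_43 : commCheck chevE6 56 43 = true := by
  decide +kernel

theorem commE6_0_44 : commCheck chevE6 56 44 = true := by
  decide +kernel

theorem commE6_0_45 : commCheck chevE6 56 45 = true := by
  decide +kernel

theorem commE6_0_46 : commCheck chevE6 56 46 = true := by
  decide +kernel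

theorem commE6_0_47 : commCheck chevE6 56 47 = true := by
  decide +kernel

theorem commE6_0_48 : commCheck chevE6 56 48 = true := by
  decide +kernel

theorem commE6_0_49 : commCheck chevE6 56 49 = true := by
  decide +kernel

theorem commE6_0_50 : commCheck chevE6 56 50 = true := by
  decide +kernel

theorem commE6_0_51 : commCheck chevE6 56 51 = true := by
  decide +kernel

theorem commE6_0_52 : commCheck chevE6 56 52 = true := by
  decide +kernel

theorem commE6_0_53 : commCheck chevE6 56 53 = true := by
  decide +kernel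

theorem commE6_0_54 : commCheck chevE6 56 54 = true := by
  decide +kernel

theorem commE6_0_55 : commCheck chevE6 56 55 = true := by
  decide +kernel

theorem commE6_0_56 : commCheck chevE6 56 56 = true := by
  decide +kernel

theorem commE6_0_57 : commCheck chevE6 56 57 = true := by
  decide +kernel

theorem commE6_0_58 : commCheck chevE6 56 58 = true := by
  decide +kernel

theorem commE6_0_59 : commCheck chevE6 56 59 = true := by
  decide +kernel

theorem commE6_0_60 : commCheck chevE6 56 60 = true := by
  decide +kernel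

theorem commE6_0_61 : commCheck chevE6 56 61 = true := by
  decide +kernel

theorem commE6_0_62 : commCheck chevE6 56 62 = true := by
  decide +kernel

theorem commE6_0_63 : commCheck chevE6 56 63 = true := by
  decide +kernel

theorem commE6_0_64 : commCheck chevE6 56 64 = true := by
  decide +kernel

theorem commE6_0_65 : commCheck chevE6 56 65 = true := by
  decide +kernel

theorem commE6_0_66 : commCheck chevE6 56 66 = true := by
  decide +kernel

theorem commE6_0_67 : commCheck chevE6 56 67 = true := by
  decide +kernel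

theorem commE6_0_68 : commCheck chevE6 56 68 = true := by
  decide +kernel

theorem commE6_0_69 : commCheck chevE6 56 69 = true := by
  decide +kernel

theorem commE6_0_70 : commCheck chevE6 56 70 = true := by
  decide +kernel

theorem commE6_0_71 : commCheck chevE6 56 71 = true := by
  decide +kernel

theorem commE6_0_from36 (s : ℕ) (h1 : 36 ≤ s) (h2 : s < 72) : commCheck chevE6 56 s = true := by
  have h : s = 36 ∨ s = 37 ∨ s = 38 ∨ s = 39 ∨ s = 40 ∨ s = 41 ∨ s = 42 ∨ s = 43 ∨ s = 44 ∨ s = 45 ∨ s = 46 ∨ s = 47 ∨ s = 48 ∨ s = 49 ∨ s = 50 ∨ s = 51 ∨ s = 52 ∨ s = 53 ∨ s = 54 ∨ s = 55 ∨ s = 56 ∨ s = 57 ∨ s = 58 ∨ s = 59 ∨ s = 60 ∨ s = 61 ∨ s = 62 ∨ s = 63 ∨ s = 64 ∨ s = 65 ∨ s = 66 ∨ s = 67 ∨ s = 68 ∨ s = 69 ∨ s = 70 ∨ s = 71 := by omega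
  rcases h with rfl | rfl | rfl | rfl | rfl | rfl | rfl | rfl | rfl | rfl | rfl | rfl | rfl | rfl | rfl | rfl | rfl | rfl | rfl | rfl | rfl | rfl | rfl | rfl | rfl | rfl | rfl | rfl | rfl | rfl | rfl | rfl | rfl | rfl | rfl | rfl
  exacts [commE6_0_36, commE6_0_37, commE6_0_38, commE6_0_39, commE6_0_40, commE6_0_41, commE6_0_42, commE6_0_43, commE6_0_44, commE6_0_45, commE6_0_46, commE6_0_47, commE6_0_48, commE6_0_49, commE6_0_50, commE6_0_51, commE6_0_52, commE6_0_53, commE6_0_54, commE6_0_55, commE6_0_56, commE6_0_57, commE6_0_58, commE6_0_59, commE6_0_60, commE6_0_61, commE6_0_62, commE6_0_63, commE6_0_64, commE6_0_65, commE6_0_66, commE6_0_67, commE6_0_68, commE6_0_69, commE6_0_70, commE6_0_71]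

theorem commE6_1_36 : commCheck chevE6 46 36 = true := by
  decide +kernel

theorem commE6_1_37 : commCheck chevE6 46 37 = true := by
  decide +kernel

theorem commE6_1_38 : commCheck chevE6 46 38 = true := by
  decide +kernel

theorem commE6_1_39 : commCheck chevE6 46 39 = true := by
  decide +kernel

theorem commE6_1_40 : commCheck chevE6 46 40 = true := by
  decide +kernel

theorem commE6_1_41 : commCheck chevE6 46 41 = true := by
  decide +kernel

theorem commE6_1_42 : commCheck chevE6 46 42 = true := by
  decide +kernel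

theorem commE6_1_43 : commCheck chevE6 46 43 = true := by
  decide +kernel

theorem commE6_1_44 : commCheck chevE6 46 44 = true := by
  decide +kernel

theorem commE6_1_45 : commCheck chevE6 46 45 = true := by
  decide +kernel

theorem commE6_1_46 : commCheck chevE6 46 46 = true := by
  decide +kernel

theorem commE6_1_47 : commCheck chevE6 46 47 = true := by
  decide +kernel

theorem commE6_1_48 : commCheck chevE6 46 48 = true := by
  decide +kernel

theorem commE6_1_49 : commCheck chevE6 46 49 = true := by
  decide +kernel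

theorem commE6_1_50 : commCheck chevE6 46 50 = true := by
  decide +kernel

theorem commE6_1_51 : commCheck chevE6 46 51 = true := by
  decide +kernel

theorem commE6_1_52 : commCheck chevE6 46 52 = true := by
  decide +kernel

theorem commE6_1_53 : commCheck chevE6 46 53 = true := by
  decide +kernel

theorem commE6_1_54 : commCheck chevE6 46 54 = true := by
  decide +kernel

theorem commE6_1_55 : commCheck chevE6 46 55 = true := by
  decide +kernel

theorem commE6_1_56 : commCheck chevE6 46 56 = true := by
  decide +kernel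

theorem commE6_1_57 : commCheck chevE6 46 57 = true := by
  decide +kernel

theorem commE6_1_58 : commCheck chevE6 46 58 = true := by
  decide +kernel

theorem commE6_1_59 : commCheck chevE6 46 59 = true := by
  decide +kernel

theorem commE6_1_60 : commCheck chevE6 46 60 = true := by
  decide +kernel

theorem commE6_1_61 : commCheck chevE6 46 61 = true := by
  decide +kernel

theorem commE6_1_62 : commCheck chevE6 46 62 = true := by
  decide +kernel

theorem commE6_1_63 : commCheck chevE6 46 63 = true := by
  decide +kernel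

theorem commE6_1_64 : commCheck chevE6 46 64 = true := by
  decide +kernel

theorem commE6_1_65 : commCheck chevE6 46 65 = true := by
  decide +kernel

theorem commE6_1_66 : commCheck chevE6 46 66 = true := by
  decide +kernel

theorem commE6_1_67 : commCheck chevE6 46 67 = true := by
  decide +kernel

theorem commE6_1_68 : commCheck chevE6 46 68 = true := by
  decide +kernel

theorem commE6_1_69 : commCheck chevE6 46 69 = true := by
  decide +kernel

theorem commE6_1_70 : commCheck chevE6 46 70 = true := by
  decide +kernel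

theorem commE6_1_71 : commCheck chevE6 46 71 = true := by
  decide +kernel

theorem commE6_1_from36 (s : ℕ) (h1 : 36 ≤ s) (h2 : s < 72) : commCheck chevE6 46 s = true := by
  have h : s = 36 ∨ s = 37 ∨ s = 38 ∨ s = 39 ∨ s = 40 ∨ s = 41 ∨ s = 42 ∨ s = 43 ∨ s = 44 ∨ s = 45 ∨ s = 46 ∨ s = 47 ∨ s = 48 ∨ s = 49 ∨ s = 50 ∨ s = 51 ∨ s = 52 ∨ s = 53 ∨ s = 54 ∨ s = 55 ∨ s = 56 ∨ s = 57 ∨ s = 58 ∨ s = 59 ∨ s = 60 ∨ s = 61 ∨ s = 62 ∨ s = 63 ∨ s = 64 ∨ s = 65 ∨ s = 66 ∨ s = 67 ∨ s = 68 ∨ s = 69 ∨ s = 70 ∨ s = 71 := by omega
  rcases h with rfl | rfl | rfl | rfl | rfl | rfl | rfl | rfl | rfl | rfl | rfl | rfl | rfl | rfl | rfl | rfl | rfl | rfl | rfl | rfl | rfl | rfl | rfl | rfl | rfl | rfl | rfl | rfl | rfl | rfl | rfl | rfl | rfl | rfl | rfl | rfl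
  exacts [commE6_1_36, commE6_1_37, commE6_1_38, commE6_1_39, commE6_1_40, commE6_1_41, commE6_1_42, commE6_1_43, commE6_1_44, commE6_1_45, commE6_1_46, commE6_1_47, commE6_1_48, commE6_1_49, commE6_1_50, commE6_1_51, commE6_1_52, commE6_1_53, commE6_1_54, commE6_1_55, commE6_1_56, commE6_1_57, commE6_1_58, commE6_1_59, commE6_1_60, commE6_1_61, commE6_1_62, commE6_1_63, commE6_1_64, commE6_1_65, commE6_1_66, commE6_1_67, commE6_1_68, commE6_1_69, commE6_1_70, commE6_1_71]

theorem commE6_2_36 : commCheck chevE6 42 36 = true := by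
  decide +kernel

theorem commE6_2_37 : commCheck chevE6 42 37 = true := by
  decide +kernel

theorem commE6_2_38 : commCheck chevE6 42 38 = true := by
  decide +kernel

theorem commE6_2_39 : commCheck chevE6 42 39 = true := by
  decide +kernel

theorem commE6_2_40 : commCheck chevE6 42 40 = true := by
  decide +kernel

theorem commE6_2_41 : commCheck chevE6 42 41 = true := by
  decide +kernel

theorem commE6_2_42 : commCheck chevE6 42 42 = true := by
  decide +kernel

theorem commE6_2_43 : commCheck chevE6 42 43 = true := by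
  decide +kernel

theorem commE6_2_44 : commCheck chevE6 42 44 = true := by
  decide +kernel

theorem commE6_2_45 : commCheck chevE6 42 45 = true := by
  decide +kernel

theorem commE6_2_46 : commCheck chevE6 42 46 = true := by
  decide +kernel

theorem commE6_2_47 : commCheck chevE6 42 47 = true := by
  decide +kernel

theorem commE6_2_48 : commCheck chevE6 42 48 = true := by
  decide +kernel

theorem commE6_2_49 : commCheck chevE6 42 49 = true := by
  decide +kernel

theorem commE6_2_50 : commCheck chevE6 42 50 = true := by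
  decide +kernel

theorem commE6_2_51 : commCheck chevE6 42 51 = true := by
  decide +kernel

theorem commE6_2_52 : commCheck chevE6 42 52 = true := by
  decide +kernel

theorem commE6_2_53 : commCheck chevE6 42 53 = true := by
  decide +kernel

theorem commE6_2_54 : commCheck chevE6 42 54 = true := by
  decide +kernel

theorem commE6_2_55 : commCheck chevE6 42 55 = true := by
  decide +kernel

theorem commE6_2_56 : commCheck chevE6 42 56 = true := by
  decide +kernel

theorem commE6_2_57 : commCheck chevE6 42 57 = true := by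
  decide +kernel

theorem commE6_2_58 : commCheck chevE6 42 58 = true := by
  decide +kernel

theorem commE6_2_59 : commCheck chevE6 42 59 = true := by
  decide +kernel

theorem commE6_2_60 : commCheck chevE6 42 60 = true := by
  decide +kernel

theorem commE6_2_61 : commCheck chevE6 42 61 = true := by
  decide +kernel

theorem commE6_2_62 : commCheck chevE6 42 62 = true := by
  decide +kernel

theorem commE6_2_63 : commCheck chevE6 42 63 = true := by
  decide +kernel

theorem commE6_2_64 : commCheck chevE6 42 64 = true := by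
  decide +kernel

theorem commE6_2_65 : commCheck chevE6 42 65 = true := by
  decide +kernel

theorem commE6_2_66 : commCheck chevE6 42 66 = true := by
  decide +kernel

theorem commE6_2_67 : commCheck chevE6 42 67 = true := by
  decide +kernel

theorem commE6_2_68 : commCheck chevE6 42 68 = true := by
  decide +kernel

theorem commE6_2_69 : commCheck chevE6 42 69 = true := by
  decide +kernel

theorem commE6_2_70 : commCheck chevE6 42 70 = true := by
  decide +kernel

theorem commE6_2_71 : commCheck chevE6 42 71 = true := by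
  decide +kernel

theorem commE6_2_from36 (s : ℕ) (h1 : 36 ≤ s) (h2 : s < 72) : commCheck chevE6 42 s = true := by
  have h : s = 36 ∨ s = 37 ∨ s = 38 ∨ s = 39 ∨ s = 40 ∨ s = 41 ∨ s = 42 ∨ s = 43 ∨ s = 44 ∨ s = 45 ∨ s = 46 ∨ s = 47 ∨ s = 48 ∨ s = 49 ∨ s = 50 ∨ s = 51 ∨ s = 52 ∨ s = 53 ∨ s = 54 ∨ s = 55 ∨ s = 56 ∨ s = 57 ∨ s = 58 ∨ s = 59 ∨ s = 60 ∨ s = 61 ∨ s = 62 ∨ s = 63 ∨ s = 64 ∨ s = 65 ∨ s = 66 ∨ s = 67 ∨ s = 68 ∨ s = 69 ∨ s = 70 ∨ s = 71 := by omega
  rcases h with rfl | rfl | rfl | rfl | rfl | rfl | rfl | rfl | rfl | rfl | rfl | rfl | rfl | rfl | rfl | rfl | rfl | rfl | rfl | rfl | rfl | rfl | rfl | rfl | rfl | rfl | rfl | rfl | rfl | rfl | rfl | rfl | rfl | rfl | rfl | rfl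
  exacts [commE6_2_36, commE6_2_37, commE6_2_38, commE6_2_39, commE6_2_40, commE6_2_41, commE6_2_42, commE6_2_43, commE6_2_44, commE6_2_45, commE6_2_46, commE6_2_47, commE6_2_48, commE6_2_49, commE6_2_50, commE6_2_51, commE6_2_52, commE6_2_53, commE6_2_54, commE6_2_55, commE6_2_56, commE6_2_57, commE6_2_58, commE6_2_59, commE6_2_60, commE6_2_61, commE6_2_62, commE6_2_63, commE6_2_64, commE6_2_65, commE6_2_66, commE6_2_67, commE6_2_68, commE6_2_69, commE6_2_70, commE6_2_71]

end Cfsg.Agent.Helper18
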