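import Cfsg.Agent.Lib.Helper18.ChevComm
import Cfsg.Prelude.Def_LieTypes
import Cfsg.Prelude.Def_ChevB2

set_option autoImplicit false
set_option maxRecDepth 100000
set_option Elab.async false

namespace Cfsg.Agent.Helper18

open Cfsg.Lie

theorem commE6_3_36 : commCheck chevE6 39 36 = true := by
  decide +kernel

theorem commE6_3_37 : commCheck chevE6 39 37 = true := by
  decide +kernel

theorem commE6_3_38 : commCheck chevE6 39 38 = true := by
  decide +kernel

theorem commE6_3_39 : commCheck chevE6 39 39 = true := by
  decide +kernel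

theorem commE6_3_40 : commCheck chevE6 39 40 = true := by
  decide +kernel

theorem commE6_3_41 : commCheck chevE6 39 41 = true := by
  decide +kernel

theorem commE6_3_42 : commCheck chevE6 39 42 = true := by
  decide +kernel

theorem commE6_3_43 : commCheck chevE6 39 43 = true := by
  decide +kernel

theorem commE6_3_44 : commCheck chevE6 39 44 = true := by
  decide +kernel

theorem commE6_3_45 : commCheck chevE6 39 45 = true := by
  decide +kernel

theorem commE6_3_46 : commCheck chevE6 39 46 = true := by
  decide +kernel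

theorem commE6_3_47 : commCheck chevE6 39 47 = true := by
  decide +kernel

theorem commE6_3_48 : commCheck chevE6 39 48 = true := by
  decide +kernel

theorem commE6_3_49 : commCheck chevE6 39 49 = true := by
  decide +kernel

theorem commE6_3_50 : commCheck chevE6 39 50 = true := by
  decide +kernel

theorem commE6_3_51 : commCheck chevE6 39 51 = true := by
  decide +kernel

theorem commE6_3_52 : commCheck chevE6 39 52 = true := by
  decide +kernel

theorem commE6_3_53 : commCheck chevE6 39 53 = true := by
  decide +kernel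

theorem commE6_3_54 : commCheck chevE6 39 54 = true := by
  decide +kernel

theorem commE6_3_55 : commCheck chevE6 39 55 = true := by
  decide +kernel

theorem commE6_3_56 : commCheck chevE6 39 56 = true := by
  decide +kernel

theorem commE6_3_57 : commCheck chevE6 39 57 = true := by
  decide +kernel

theorem commE6_3_58 : commCheck chevE6 39 58 = true := by
  decide +kernel

theorem commE6_3_59 : commCheck chevE6 39 59 = true := by
  decide +kernel

theorem commE6_3_60 : commCheck chevE6 39 60 = true := by
  decide +kernel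

theorem commE6_3_61 : commCheck chevE6 39 61 = true := by
  decide +kernel

theorem commE6_3_62 : commCheck chevE6 39 62 = true := by
  decide +kernel

theorem commE6_3_63 : commCheck chevE6 39 63 = true := by
  decide +kernel

theorem commE6_3_64 : commCheck chevE6 39 64 = true := by
  decide +kernel

theorem commE6_3_65 : commCheck chevE6 39 65 = true := by
  decide +kernel

theorem commE6_3_66 : commCheck chevE6 39 66 = true := by
  decide +kernel

theorem commE6_3_67 : commCheck chevE6 39 67 = true := by
  decide +kernel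

theorem commE6_3_68 : commCheck chevE6 39 68 = true := by
  decide +kernel

theorem commE6_3_69 : commCheck chevE6 39 69 = true := by
  decide +kernel

theorem commE6_3_70 : commCheck chevE6 39 70 = true := by
  decide +kernel

theorem commE6_3_71 : commCheck chevE6 39 71 = true := by
  decide +kernel

theorem commE6_3_from36 (s : ℕ) (h1 : 36 ≤ s) (h2 : s < 72) : commCheck chevE6 39 s = true := by
  have h : s = 36 ∨ s = 37 ∨ s = 38 ∨ s = 39 ∨ s = 40 ∨ s = 41 ∨ s = 42 ∨ s = 43 ∨ s = 44 ∨ s = 45 ∨ s = 46 ∨ s = 47 ∨ s = 48 ∨ s = 49 ∨ s = 50 ∨ s = 51 ∨ s = 52 ∨ s = 53 ∨ s = 54 ∨ s = 55 ∨ s = 56 ∨ s = 57 ∨ s = 58 ∨ s = 59 ∨ s = 60 ∨ s = 61 ∨ s = 62 ∨ s = 63 ∨ s = 64 ∨ s = 65 ∨ s = 66 ∨ s = 67 ∨ s = 68 ∨ s = 69 ∨ s = 70 ∨ s = 71 := by omega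
  rcases h with rfl | rfl | rfl | rfl | rfl | rfl | rfl | rfl | rfl | rfl | rfl | rfl | rfl | rfl | rfl | rfl | rfl | rfl | rfl | rfl | rfl | rfl | rfl | rfl | rfl | rfl | rfl | rfl | rfl | rfl | rfl | rfl | rfl | rfl | rfl | rfl
  exacts [commE6_3_36, commE6_3_37, commE6_3_38, commE6_3_39, commE6_3_40, commE6_3_41, commE6_3_42, commE6_3_43, commE6_3_44, commE6_3_45, commE6_3_46, commE6_3_47, commE6_3_48, commE6_3_49, commE6_3_50, commE6_3_51, commE6_3_52, commE6_3_53, commE6_3_54, commE6_3_55, commE6_3_56, commE6_3_57, commE6_3_58, commE6_3_59, commE6_3_60, commE6_3_61, commE6_3_62, commE6_3_63, commE6_3_64, commE6_3_65, commE6_3_66, commE6_3_67, commE6_3_68, commE6_3_69, commE6_3_70, commE6_3_71]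

theorem commE6_4_36 : commCheck chevE6 37 36 = true := by
  decide +kernel

theorem commE6_4_37 : commCheck chevE6 37 37 = true := by
  decide +kernel

theorem commE6_4_38 : commCheck chevE6 37 38 = true := by
  decide +kernel

theorem commE6_4_39 : commCheck chevE6 37 39 = true := by
  decide +kernel

theorem commE6_4_40 : commCheck chevE6 37 40 = true := by
  decide +kernel

theorem commE6_4_41 : commCheck chevE6 37 41 = true := by
  decide +kernel

theorem commE6_4_42 : commCheck chevE6 37 42 = true := by
  decide +kernel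

theorem commE6_4_43 : commCheck chevE6 37 43 = true := by
  decide +kernel

theorem commE6_4_44 : commCheck chevE6 37 44 = true := by
  decide +kernel

theorem commE6_4_45 : commCheck chevE6 37 45 = true := by
  decide +kernel

theorem commE6_4_46 : commCheck chevE6 37 46 = true := by
  decide +kernel

theorem commE6_4_47 : commCheck chevE6 37 47 = true := by
  decide +kernel

theorem commE6_4_48 : commCheck chevE6 37 48 = true := by
  decide +kernel

theorem commE6_4_49 : commCheck chevE6 37 49 = true := by
  decide +kernel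

theorem commE6_4_50 : commCheck chevE6 37 50 = true := by
  decide +kernel

theorem commE6_4_51 : commCheck chevE6 37 51 = true := by
  decide +kernel

theorem commE6_4_52 : commCheck chevE6 37 52 = true := by
  decide +kernel

theorem commE6_4_53 : commCheck chevE6 37 53 = true := by
  decide +kernel

theorem commE6_4_54 : commCheck chevE6 37 54 = true := by
  decide +kernel

theorem commE6_4_55 : commCheck chevE6 37 55 = true := by
  decide +kernel

theorem commE6_4_56 : commCheck chevE6 37 56 = true := by
  decide +kernel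

theorem commE6_4_57 : commCheck chevE6 37 57 = true := by
  decide +kernel

theorem commE6_4_58 : commCheck chevE6 37 58 = true := by
  decide +kernel

theorem commE6_4_59 : commCheck chevE6 37 59 = true := by
  decide +kernel

theorem commE6_4_60 : commCheck chevE6 37 60 = true := by
  decide +kernel

theorem commE6_4_61 : commCheck chevE6 37 61 = true := by
  decide +kernel

theorem commE6_4_62 : commCheck chevE6 37 62 = true := by
  decide +kernel

theorem commE6_4_63 : commCheck chevE6 37 63 = true := by
  decide +kernel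

theorem commE6_4_64 : commCheck chevE6 37 64 = true := by
  decide +kernel

theorem commE6_4_65 : commCheck chevE6 37 65 = true := by
  decide +kernel

theorem commE6_4_66 : commCheck chevE6 37 66 = true := by
  decide +kernel

theorem commE6_4_67 : commCheck chevE6 37 67 = true := by
  decide +kernel

theorem commE6_4_68 : commCheck chevE6 37 68 = true := by
  decide +kernel

theorem commE6_4_69 : commCheck chevE6 37 69 = true := by
  decide +kernel

theorem commE6_4_70 : commCheck chevE6 37 70 = true := by
  decide +kernel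

theorem commE6_4_71 : commCheck chevE6 37 71 = true := by
  decide +kernel

theorem commE6_4_from36 (s : ℕ) (h1 : 36 ≤ s) (h2 : s < 72) : commCheck chevE6 37 s = true := by
  have h : s = 36 ∨ s = 37 ∨ s = 38 ∨ s = 39 ∨ s = 40 ∨ s = 41 ∨ s = 42 ∨ s = 43 ∨ s = 44 ∨ s = 45 ∨ s = 46 ∨ s = 47 ∨ s = 48 ∨ s = 49 ∨ s = 50 ∨ s = 51 ∨ s = 52 ∨ s = 53 ∨ s = 54 ∨ s = 55 ∨ s = 56 ∨ s = 57 ∨ s = 58 ∨ s = 59 ∨ s = 60 ∨ s = 61 ∨ s = 62 ∨ s = 63 ∨ s = 64 ∨ s = 65 ∨ s = 66 ∨ s = 67 ∨ s = 68 ∨ s = 69 ∨ s = 70 ∨ s = 71 := by omega
  rcases h with rfl | rfl | rfl | rfl | rfl | rfl | rfl | rfl | rfl | rfl | rfl | rfl | rfl | rfl | rfl | rfl | rfl | rfl | rfl | rfl | rfl | rfl | rfl | rfl | rfl | rfl | rfl | rfl | rfl | rfl | rfl | rfl | rfl | rfl | rfl | rfl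
  exacts [commE6_4_36, commE6_4_37, commE6_4_38, commE6_4_39, commE6_4_40, commE6_4_41, commE6_4_42, commE6_4_43, commE6_4_44, commE6_4_45, commE6_4_46, commE6_4_47, commE6_4_48, commE6_4_49, commE6_4_50, commE6_4_51, commE6_4_52, commE6_4_53, commE6_4_54, commE6_4_55, commE6_4_56, commE6_4_57, commE6_4_58, commE6_4_59, commE6_4_60, commE6_4_61, commE6_4_62, commE6_4_63, commE6_4_64, commE6_4_65, commE6_4_66, commE6_4_67, commE6_4_68, commE6_4_69, commE6_4_70, commE6_4_71]

theorem commE6_5_36 : commCheck chevE6 36 36 = true := by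
  decide +kernel

theorem commE6_5_37 : commCheck chevE6 36 37 = true := by
  decide +kernel

theorem commE6_5_38 : commCheck chevE6 36 38 = true := by
  decide +kernel

theorem commE6_5_39 : commCheck chevE6 36 39 = true := by
  decide +kernel

theorem commE6_5_40 : commCheck chevE6 36 40 = true := by
  decide +kernel

theorem commE6_5_41 : commCheck chevE6 36 41 = true := by
  decide +kernel

theorem commE6_5_42 : commCheck chevE6 36 42 = true := by
  decide +kernel

theorem commE6_5_43 : commCheck chevE6 36 43 = true := by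
  decide +kernel

theorem commE6_5_44 : commCheck chevE6 36 44 = true := by
  decide +kernel

theorem commE6_5_45 : commCheck chevE6 36 45 = true := by
  decide +kernel

theorem commE6_5_46 : commCheck chevE6 36 46 = true := by
  decide +kernel

theorem commE6_5_47 : commCheck chevE6 36 47 = true := by
  decide +kernel

theorem commE6_5_48 : commCheck chevE6 36 48 = true := by
  decide +kernel

theorem commE6_5_49 : commCheck chevE6 36 49 = true := by
  decide +kernel

theorem commE6_5_50 : commCheck chevE6 36 50 = true := by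
  decide +kernel

theorem commE6_5_51 : commCheck chevE6 36 51 = true := by
  decide +kernel

theorem commE6_5_52 : commCheck chevE6 36 52 = true := by
  decide +kernel

theorem commE6_5_53 : commCheck chevE6 36 53 = true := by
  decide +kernel

theorem commE6_5_54 : commCheck chevE6 36 54 = true := by
  decide +kernel

theorem commE6_5_55 : commCheck chevE6 36 55 = true := by
  decide +kernel

theorem commE6_5_56 : commCheck chevE6 36 56 = true := by
  decide +kernel

theorem commE6_5_57 : commCheck chevE6 36 57 = true := by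
  decide +kernel

theorem commE6_5_58 : commCheck chevE6 36 58 = true := by
  decide +kernel

theorem commE6_5_59 : commCheck chevE6 36 59 = true := by
  decide +kernel

theorem commE6_5_60 : commCheck chevE6 36 60 = true := by
  decide +kernel

theorem commE6_5_61 : commCheck chevE6 36 61 = true := by
  decide +kernel

theorem commE6_5_62 : commCheck chevE6 36 62 = true := by
  decide +kernel

theorem commE6_5_63 : commCheck chevE6 36 63 = true := by
  decide +kernel

theorem commE6_5_64 : commCheck chevE6 36 64 = true := by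
  decide +kernel

theorem commE6_5_65 : commCheck chevE6 36 65 = true := by
  decide +kernel

theorem commE6_5_66 : commCheck chevE6 36 66 = true := by
  decide +kernel

theorem commE6_5_67 : commCheck chevE6 36 67 = true := by
  decide +kernel

theorem commE6_5_68 : commCheck chevE6 36 68 = true := by
  decide +kernel

theorem commE6_5_69 : commCheck chevE6 36 69 = true := by
  decide +kernel

theorem commE6_5_70 : commCheck chevE6 36 70 = true := by
  decide +kernel

theorem commE6_5_71 : commCheck chevE6 36 71 = true := by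
  decide +kernel

theorem commE6_5_from36 (s : ℕ) (h1 : 36 ≤ s) (h2 : s < 72) : commCheck chevE6 36 s = true := by
  have h : s = 36 ∨ s = 37 ∨ s = 38 ∨ s = 39 ∨ s = 40 ∨ s = 41 ∨ s = 42 ∨ s = 43 ∨ s = 44 ∨ s = 45 ∨ s = 46 ∨ s = 47 ∨ s = 48 ∨ s = 49 ∨ s = 50 ∨ s = 51 ∨ s = 52 ∨ s = 53 ∨ s = 54 ∨ s = 55 ∨ s = 56 ∨ s = 57 ∨ s = 58 ∨ s = 59 ∨ s = 60 ∨ s = 61 ∨ s = 62 ∨ s = 63 ∨ s = 64 ∨ s = 65 ∨ s = 66 ∨ s = 67 ∨ s = 68 ∨ s = 69 ∨ s = 70 ∨ s = 71 := by omega
  rcases h with rfl | rfl | rfl | rfl | rfl | rfl | rfl | rfl | rfl | rfl | rfl | rfl | rfl | rfl | rfl | rfl | rfl | rfl | rfl | rfl | rfl | rfl | rfl | rfl | rfl | rfl | rfl | rfl | rfl | rfl | rfl | rfl | rfl | rfl | rfl | rfl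
  exacts [commE6_5_36, commE6_5_37, commE6_5_38, commE6_5_39, commE6_5_40, commE6_5_41, commE6_5_42, commE6_5_43, commE6_5_44, commE6_5_45, commE6_5_46, commE6_5_47, commE6_5_48, commE6_5_49, commE6_5_50, commE6_5_51, commE6_5_52, commE6_5_53, commE6_5_54, commE6_5_55, commE6_5_56, commE6_5_57, commE6_5_58, commE6_5_59, commE6_5_60, commE6_5_61, commE6_5_62, commE6_5_63, commE6_5_64, commE6_5_65, commE6_5_66, commE6_5_67, commE6_5_68, commE6_5_69, commE6_5_70, commE6_5_71]

end Cfsg.Agent.Helper18
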