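import Cfsg.Agent.Lib.Helper18.ChevComm
import Cfsg.Prelude.Def_LieTypes
import Cfsg.Prelude.Def_ChevB2

set_option autoImplicit false
set_option maxRecDepth 100000
set_option Elab.async false

namespace Cfsg.Agent.Helper18

open Cfsg.Lie

theorem commE7_0_63 : commCheck chevE7 93 63 = true := by
  decide +kernel

theorem commE7_0_64 : commCheck chevE7 93 64 = true := by
  decide +kernel

theorem commE7_0_65 : commCheck chevE7 93 65 = true := by
  decide +kernel

theorem commE7_0_66 : commCheck chevE7 93 66 = true := by
  decide +kernel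

theorem commE7_0_67 : commCheck chevE7 93 67 = true := by
  decide +kernel

theorem commE7_0_68 : commCheck chevE7 93 68 = true := by
  decide +kernel

theorem commE7_0_69 : commCheck chevE7 93 69 = true := by
  decide +kernel

theorem commE7_0_70 : commCheck chevE7 93 70 = true := by
  decide +kernel

theorem commE7_0_71 : commCheck chevE7 93 71 = true := by
  decide +kernel

theorem commE7_0_72 : commCheck chevE7 93 72 = true := by
  decide +kernel

theorem commE7_0_73 : commCheck chevE7 93 73 = true := by
  decide +kernel

theorem commE7_0_74 : commCheck chevE7 93 74 = true := by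
  decide +kernel

theorem commE7_0_75 : commCheck chevE7 93 75 = true := by
  decide +kernel

theorem commE7_0_76 : commCheck chevE7 93 76 = true := by
  decide +kernel

theorem commE7_0_77 : commCheck chevE7 93 77 = true := by
  decide +kernel

theorem commE7_0_78 : commCheck chevE7 93 78 = true := by
  decide +kernel

theorem commE7_0_79 : commCheck chevE7 93 79 = true := by
  decide +kernel

theorem commE7_0_80 : commCheck chevE7 93 80 = true := by
  decide +kernel

theorem commE7_0_81 : commCheck chevE7 93 81 = true := by
  decide +kernel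

theorem commE7_0_82 : commCheck chevE7 93 82 = true := by
  decide +kernel

theorem commE7_0_83 : commCheck chevE7 93 83 = true := by
  decide +kernel

theorem commE7_0_84 : commCheck chevE7 93 84 = true := by
  decide +kernel

theorem commE7_0_85 : commCheck chevE7 93 85 = true := by
  decide +kernel

theorem commE7_0_86 : commCheck chevE7 93 86 = true := by
  decide +kernel

theorem commE7_0_87 : commCheck chevE7 93 87 = true := by
  decide +kernel

theorem commE7_0_88 : commCheck chevE7 93 88 = true := by
  decide +kernel

theorem commE7_0_89 : commCheck chevE7 93 89 = true := by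
  decide +kernel

theorem commE7_0_90 : commCheck chevE7 93 90 = true := by
  decide +kernel

theorem commE7_0_91 : commCheck chevE7 93 91 = true := by
  decide +kernel

theorem commE7_0_92 : commCheck chevE7 93 92 = true := by
  decide +kernel

theorem commE7_0_93 : commCheck chevE7 93 93 = true := by
  decide +kernel

theorem commE7_0_94 : commCheck chevE7 93 94 = true := by
  decide +kernel

theorem commE7_0_from63 (s : ℕ) (h1 : 63 ≤ s) (h2 : s < 95) : commCheck chevE7 93 s = true := by
  have h : s = 63 ∨ s = 64 ∨ s = 65 ∨ s = 66 ∨ s = 67 ∨ s = 68 ∨ s = 69 ∨ s = 70 ∨ s = 71 ∨ s = 72 ∨ s = 73 ∨ s = 74 ∨ s = 75 ∨ s = 76 ∨ s = 77 ∨ s = 78 ∨ s = 79 ∨ s = 80 ∨ s = 81 ∨ s = 82 ∨ s = 83 ∨ s = 84 ∨ s = 85 ∨ s = 86 ∨ s = 87 ∨ s = 88 ∨ s = 89 ∨ s = 90 ∨ s = 91 ∨ s = 92 ∨ s = 93 ∨ s = 94 := by omega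
  rcases h with rfl | rfl | rfl | rfl | rfl | rfl | rfl | rfl | rfl | rfl | rfl | rfl | rfl | rfl | rfl | rfl | rfl | rfl | rfl | rfl | rfl | rfl | rfl | rfl | rfl | rfl | rfl | rfl | rfl | rfl | rfl | rfl
  exacts [commE7_0_63, commE7_0_64, commE7_0_65, commE7_0_66, commE7_0_67, commE7_0_68, commE7_0_69, commE7_0_70, commE7_0_71, commE7_0_72, commE7_0_73, commE7_0_74, commE7_0_75, commE7_0_76, commE7_0_77, commE7_0_78, commE7_0_79, commE7_0_80, commE7_0_81, commE7_0_82, commE7_0_83, commE7_0_84, commE7_0_85, commE7_0_86, commE7_0_87, commE7_0_88, commE7_0_89, commE7_0_90, commE7_0_91, commE7_0_92, commE7_0_93, commE7_0_94]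

theorem commE7_0_95 : commCheck chevE7 93 95 = true := by
  decide +kernel

theorem commE7_0_96 : commCheck chevE7 93 96 = true := by
  decide +kernel

theorem commE7_0_97 : commCheck chevE7 93 97 = true := by
  decide +kernel

theorem commE7_0_98 : commCheck chevE7 93 98 = true := by
  decide +kernel

theorem commE7_0_99 : commCheck chevE7 93 99 = true := by
  decide +kernel

theorem commE7_0_100 : commCheck chevE7 93 100 = true := by
  decide +kernel

theorem commE7_0_101 : commCheck chevE7 93 101 = true := by
  decide +kernel

theorem commE7_0_102 : commCheck chevE7 93 102 = true := by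
  decide +kernel

theorem commE7_0_103 : commCheck chevE7 93 103 = true := by
  decide +kernel

theorem commE7_0_104 : commCheck chevE7 93 104 = true := by
  decide +kernel

theorem commE7_0_105 : commCheck chevE7 93 105 = true := by
  decide +kernel

theorem commE7_0_106 : commCheck chevE7 93 106 = true := by
  decide +kernel

theorem commE7_0_107 : commCheck chevE7 93 107 = true := by
  decide +kernel

theorem commE7_0_108 : commCheck chevE7 93 108 = true := by
  decide +kernel

theorem commE7_0_109 : commCheck chevE7 93 109 = true := by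
  decide +kernel

theorem commE7_0_110 : commCheck chevE7 93 110 = true := by
  decide +kernel

theorem commE7_0_111 : commCheck chevE7 93 111 = true := by
  decide +kernel

theorem commE7_0_112 : commCheck chevE7 93 112 = true := by
  decide +kernel

theorem commE7_0_113 : commCheck chevE7 93 113 = true := by
  decide +kernel

theorem commE7_0_114 : commCheck chevE7 93 114 = true := by
  decide +kernel

theorem commE7_0_115 : commCheck chevE7 93 115 = true := by
  decide +kernel

theorem commE7_0_116 : commCheck chevE7 93 116 = true := by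
  decide +kernel

theorem commE7_0_117 : commCheck chevE7 93 117 = true := by
  decide +kernel

theorem commE7_0_118 : commCheck chevE7 93 118 = true := by
  decide +kernel

theorem commE7_0_119 : commCheck chevE7 93 119 = true := by
  decide +kernel

theorem commE7_0_120 : commCheck chevE7 93 120 = true := by
  decide +kernel

theorem commE7_0_121 : commCheck chevE7 93 121 = true := by
  decide +kernel

theorem commE7_0_122 : commCheck chevE7 93 122 = true := by
  decide +kernel

theorem commE7_0_123 : commCheck chevE7 93 123 = true := by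
  decide +kernel

theorem commE7_0_124 : commCheck chevE7 93 124 = true := by
  decide +kernel

theorem commE7_0_125 : commCheck chevE7 93 125 = true := by
  decide +kernel

theorem commE7_0_from95 (s : ℕ) (h1 : 95 ≤ s) (h2 : s < 126) : commCheck chevE7 93 s = true := by
  have h : s = 95 ∨ s = 96 ∨ s = 97 ∨ s = 98 ∨ s = 99 ∨ s = 100 ∨ s = 101 ∨ s = 102 ∨ s = 103 ∨ s = 104 ∨ s = 105 ∨ s = 106 ∨ s = 107 ∨ s = 108 ∨ s = 109 ∨ s = 110 ∨ s = 111 ∨ s = 112 ∨ s = 113 ∨ s = 114 ∨ s = 115 ∨ s = 116 ∨ s = 117 ∨ s = 118 ∨ s = 119 ∨ s = 120 ∨ s = 121 ∨ s = 122 ∨ s = 123 ∨ s = 124 ∨ s = 125 := by omega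
  rcases h with rfl | rfl | rfl | rfl | rfl | rfl | rfl | rfl | rfl | rfl | rfl | rfl | rfl | rfl | rfl | rfl | rfl | rfl | rfl | rfl | rfl | rfl | rfl | rfl | rfl | rfl | rfl | rfl | rfl | rfl | rfl
  exacts [commE7_0_95, commE7_0_96, commE7_0_97, commE7_0_98, commE7_0_99, commE7_0_100, commE7_0_101, commE7_0_102, commE7_0_103, commE7_0_104, commE7_0_105, commE7_0_106, commE7_0_107, commE7_0_108, commE7_0_109, commE7_0_110, commE7_0_111, commE7_0_112, commE7_0_113, commE7_0_114, commE7_0_115, commE7_0_116, commE7_0_117, commE7_0_118, commE7_0_119, commE7_0_120, commE7_0_121, commE7_0_122, commE7_0_123, commE7_0_124, commE7_0_125]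

end Cfsg.Agent.Helper18
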