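import Cfsg.Agent.Lib.Helper18.ChevComm
import Cfsg.Prelude.Def_LieTypes
import Cfsg.Prelude.Def_ChevB2

set_option autoImplicit false
set_option maxRecDepth 100000
set_option Elab.async false

namespace Cfsg.Agent.Helper18

open Cfsg.Lie

theorem commE7_1_63 : commCheck chevE7 78 63 = true := by
  decide +kernel

theorem commE7_1_64 : commCheck chevE7 78 64 = true := by
  decide +kernel

theorem commE7_1_65 : commCheck chevE7 78 65 = true := by
  decide +kernel

theorem commE7_1_66 : commCheck chevE7 78 66 = true := by
  decide +kernel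

theorem commE7_1_67 : commCheck chevE7 78 67 = true := by
  decide +kernel

theorem commE7_1_68 : commCheck chevE7 78 68 = true := by
  decide +kernel

theorem commE7_1_69 : commCheck chevE7 78 69 = true := by
  decide +kernel

theorem commE7_1_70 : commCheck chevE7 78 70 = true := by
  decide +kernel

theorem commE7_1_71 : commCheck chevE7 78 71 = true := by
  decide +kernel

theorem commE7_1_72 : commCheck chevE7 78 72 = true := by
  decide +kernel

theorem commE7_1_73 : commCheck chevE7 78 73 = true := by
  decide +kernel

theorem commE7_1_74 : commCheck chevE7 78 74 = true := by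
  decide +kernel

theorem commE7_1_75 : commCheck chevE7 78 75 = true := by
  decide +kernel

theorem commE7_1_76 : commCheck chevE7 78 76 = true := by
  decide +kernel

theorem commE7_1_77 : commCheck chevE7 78 77 = true := by
  decide +kernel

theorem commE7_1_78 : commCheck chevE7 78 78 = true := by
  decide +kernel

theorem commE7_1_79 : commCheck chevE7 78 79 = true := by
  decide +kernel

theorem commE7_1_80 : commCheck chevE7 78 80 = true := by
  decide +kernel

theorem commE7_1_81 : commCheck chevE7 78 81 = true := by
  decide +kernel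

theorem commE7_1_82 : commCheck chevE7 78 82 = true := by
  decide +kernel

theorem commE7_1_83 : commCheck chevE7 78 83 = true := by
  decide +kernel

theorem commE7_1_84 : commCheck chevE7 78 84 = true := by
  decide +kernel

theorem commE7_1_85 : commCheck chevE7 78 85 = true := by
  decide +kernel

theorem commE7_1_86 : commCheck chevE7 78 86 = true := by
  decide +kernel

theorem commE7_1_87 : commCheck chevE7 78 87 = true := by
  decide +kernel

theorem commE7_1_88 : commCheck chevE7 78 88 = true := by
  decide +kernel

theorem commE7_1_89 : commCheck chevE7 78 89 = true := by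
  decide +kernel

theorem commE7_1_90 : commCheck chevE7 78 90 = true := by
  decide +kernel

theorem commE7_1_91 : commCheck chevE7 78 91 = true := by
  decide +kernel

theorem commE7_1_92 : commCheck chevE7 78 92 = true := by
  decide +kernel

theorem commE7_1_93 : commCheck chevE7 78 93 = true := by
  decide +kernel

theorem commE7_1_94 : commCheck chevE7 78 94 = true := by
  decide +kernel

theorem commE7_1_from63 (s : ℕ) (h1 : 63 ≤ s) (h2 : s < 95) : commCheck chevE7 78 s = true := by
  have h : s = 63 ∨ s = 64 ∨ s = 65 ∨ s = 66 ∨ s = 67 ∨ s = 68 ∨ s = 69 ∨ s = 70 ∨ s = 71 ∨ s = 72 ∨ s = 73 ∨ s = 74 ∨ s = 75 ∨ s = 76 ∨ s = 77 ∨ s = 78 ∨ s = 79 ∨ s = 80 ∨ s = 81 ∨ s = 82 ∨ s = 83 ∨ s = 84 ∨ s = 85 ∨ s = 86 ∨ s = 87 ∨ s = 88 ∨ s = 89 ∨ s = 90 ∨ s = 91 ∨ s = 92 ∨ s = 93 ∨ s = 94 := by omega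
  rcases h with rfl | rfl | rfl | rfl | rfl | rfl | rfl | rfl | rfl | rfl | rfl | rfl | rfl | rfl | rfl | rfl | rfl | rfl | rfl | rfl | rfl | rfl | rfl | rfl | rfl | rfl | rfl | rfl | rfl | rfl | rfl | rfl
  exacts [commE7_1_63, commE7_1_64, commE7_1_65, commE7_1_66, commE7_1_67, commE7_1_68, commE7_1_69, commE7_1_70, commE7_1_71, commE7_1_72, commE7_1_73, commE7_1_74, commE7_1_75, commE7_1_76, commE7_1_77, commE7_1_78, commE7_1_79, commE7_1_80, commE7_1_81, commE7_1_82, commE7_1_83, commE7_1_84, commE7_1_85, commE7_1_86, commE7_1_87, commE7_1_88, commE7_1_89, commE7_1_90, commE7_1_91, commE7_1_92, commE7_1_93, commE7_1_94]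

theorem commE7_1_95 : commCheck chevE7 78 95 = true := by
  decide +kernel

theorem commE7_1_96 : commCheck chevE7 78 96 = true := by
  decide +kernel

theorem commE7_1_97 : commCheck chevE7 78 97 = true := by
  decide +kernel

theorem commE7_1_98 : commCheck chevE7 78 98 = true := by
  decide +kernel

theorem commE7_1_99 : commCheck chevE7 78 99 = true := by
  decide +kernel

theorem commE7_1_100 : commCheck chevE7 78 100 = true := by
  decide +kernel

theorem commE7_1_101 : commCheck chevE7 78 101 = true := by
  decide +kernel

theorem commE7_1_102 : commCheck chevE7 78 102 = true := by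
  decide +kernel

theorem commE7_1_103 : commCheck chevE7 78 103 = true := by
  decide +kernel

theorem commE7_1_104 : commCheck chevE7 78 104 = true := by
  decide +kernel

theorem commE7_1_105 : commCheck chevE7 78 105 = true := by
  decide +kernel

theorem commE7_1_106 : commCheck chevE7 78 106 = true := by
  decide +kernel

theorem commE7_1_107 : commCheck chevE7 78 107 = true := by
  decide +kernel

theorem commE7_1_108 : commCheck chevE7 78 108 = true := by
  decide +kernel

theorem commE7_1_109 : commCheck chevE7 78 109 = true := by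
  decide +kernel

theorem commE7_1_110 : commCheck chevE7 78 110 = true := by
  decide +kernel

theorem commE7_1_111 : commCheck chevE7 78 111 = true := by
  decide +kernel

theorem commE7_1_112 : commCheck chevE7 78 112 = true := by
  decide +kernel

theorem commE7_1_113 : commCheck chevE7 78 113 = true := by
  decide +kernel

theorem commE7_1_114 : commCheck chevE7 78 114 = true := by
  decide +kernel

theorem commE7_1_115 : commCheck chevE7 78 115 = true := by
  decide +kernel

theorem commE7_1_116 : commCheck chevE7 78 116 = true := by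
  decide +kernel

theorem commE7_1_117 : commCheck chevE7 78 117 = true := by
  decide +kernel

theorem commE7_1_118 : commCheck chevE7 78 118 = true := by
  decide +kernel

theorem commE7_1_119 : commCheck chevE7 78 119 = true := by
  decide +kernel

theorem commE7_1_120 : commCheck chevE7 78 120 = true := by
  decide +kernel

theorem commE7_1_121 : commCheck chevE7 78 121 = true := by
  decide +kernel

theorem commE7_1_122 : commCheck chevE7 78 122 = true := by
  decide +kernel

theorem commE7_1_123 : commCheck chevE7 78 123 = true := by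
  decide +kernel

theorem commE7_1_124 : commCheck chevE7 78 124 = true := by
  decide +kernel

theorem commE7_1_125 : commCheck chevE7 78 125 = true := by
  decide +kernel

theorem commE7_1_from95 (s : ℕ) (h1 : 95 ≤ s) (h2 : s < 126) : commCheck chevE7 78 s = true := by
  have h : s = 95 ∨ s = 96 ∨ s = 97 ∨ s = 98 ∨ s = 99 ∨ s = 100 ∨ s = 101 ∨ s = 102 ∨ s = 103 ∨ s = 104 ∨ s = 105 ∨ s = 106 ∨ s = 107 ∨ s = 108 ∨ s = 109 ∨ s = 110 ∨ s = 111 ∨ s = 112 ∨ s = 113 ∨ s = 114 ∨ s = 115 ∨ s = 116 ∨ s = 117 ∨ s = 118 ∨ s = 119 ∨ s = 120 ∨ s = 121 ∨ s = 122 ∨ s = 123 ∨ s = 124 ∨ s = 125 := by omega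
  rcases h with rfl | rfl | rfl | rfl | rfl | rfl | rfl | rfl | rfl | rfl | rfl | rfl | rfl | rfl | rfl | rfl | rfl | rfl | rfl | rfl | rfl | rfl | rfl | rfl | rfl | rfl | rfl | rfl | rfl | rfl | rfl
  exacts [commE7_1_95, commE7_1_96, commE7_1_97, commE7_1_98, commE7_1_99, commE7_1_100, commE7_1_101, commE7_1_102, commE7_1_103, commE7_1_104, commE7_1_105, commE7_1_106, commE7_1_107, commE7_1_108, commE7_1_109, commE7_1_110, commE7_1_111, commE7_1_112, commE7_1_113, commE7_1_114, commE7_1_115, commE7_1_116, commE7_1_117, commE7_1_118, commE7_1_119, commE7_1_120, commE7_1_121, commE7_1_122, commE7_1_123, commE7_1_124, commE7_1_125]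

end Cfsg.Agent.Helper18
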