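import Cfsg.Agent.Lib.Helper18.ChevComm
import Cfsg.Prelude.Def_LieTypes
import Cfsg.Prelude.Def_ChevB2

set_option autoImplicit false
set_option maxRecDepth 100000
set_option Elab.async false

namespace Cfsg.Agent.Helper18

open Cfsg.Lie

theorem commE7_2_63 : commCheck chevE7 73 63 = true := by
  decide +kernel

theorem commE7_2_64 : commCheck chevE7 73 64 = true := by
  decide +kernel

theorem commE7_2_65 : commCheck chevE7 73 65 = true := by
  decide +kernel

theorem commE7_2_66 : commCheck chevE7 73 66 = true := by
  decide +kernel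

theorem commE7_2_67 : commCheck chevE7 73 67 = true := by
  decide +kernel

theorem commE7_2_68 : commCheck chevE7 73 68 = true := by
  decide +kernel

theorem commE7_2_69 : commCheck chevE7 73 69 = true := by
  decide +kernel

theorem commE7_2_70 : commCheck chevE7 73 70 = true := by
  decide +kernel

theorem commE7_2_71 : commCheck chevE7 73 71 = true := by
  decide +kernel

theorem commE7_2_72 : commCheck chevE7 73 72 = true := by
  decide +kernel

theorem commE7_2_73 : commCheck chevE7 73 73 = true := by
  decide +kernel

theorem commE7_2_74 : commCheck chevE7 73 74 = true := by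
  decide +kernel

theorem commE7_2_75 : commCheck chevE7 73 75 = true := by
  decide +kernel

theorem commE7_2_76 : commCheck chevE7 73 76 = true := by
  decide +kernel

theorem commE7_2_77 : commCheck chevE7 73 77 = true := by
  decide +kernel

theorem commE7_2_78 : commCheck chevE7 73 78 = true := by
  decide +kernel

theorem commE7_2_79 : commCheck chevE7 73 79 = true := by
  decide +kernel

theorem commE7_2_80 : commCheck chevE7 73 80 = true := by
  decide +kernel

theorem commE7_2_81 : commCheck chevE7 73 81 = true := by
  decide +kernel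

theorem commE7_2_82 : commCheck chevE7 73 82 = true := by
  decide +kernel

theorem commE7_2_83 : commCheck chevE7 73 83 = true := by
  decide +kernel

theorem commE7_2_84 : commCheck chevE7 73 84 = true := by
  decide +kernel

theorem commE7_2_85 : commCheck chevE7 73 85 = true := by
  decide +kernel

theorem commE7_2_86 : commCheck chevE7 73 86 = true := by
  decide +kernel

theorem commE7_2_87 : commCheck chevE7 73 87 = true := by
  decide +kernel

theorem commE7_2_88 : commCheck chevE7 73 88 = true := by
  decide +kernel

theorem commE7_2_89 : commCheck chevE7 73 89 = true := by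
  decide +kernel

theorem commE7_2_90 : commCheck chevE7 73 90 = true := by
  decide +kernel

theorem commE7_2_91 : commCheck chevE7 73 91 = true := by
  decide +kernel

theorem commE7_2_92 : commCheck chevE7 73 92 = true := by
  decide +kernel

theorem commE7_2_93 : commCheck chevE7 73 93 = true := by
  decide +kernel

theorem commE7_2_94 : commCheck chevE7 73 94 = true := by
  decide +kernel

theorem commE7_2_from63 (s : ℕ) (h1 : 63 ≤ s) (h2 : s < 95) : commCheck chevE7 73 s = true := by
  have h : s = 63 ∨ s = 64 ∨ s = 65 ∨ s = 66 ∨ s = 67 ∨ s = 68 ∨ s = 69 ∨ s = 70 ∨ s = 71 ∨ s = 72 ∨ s = 73 ∨ s = 74 ∨ s = 75 ∨ s = 76 ∨ s = 77 ∨ s = 78 ∨ s = 79 ∨ s = 80 ∨ s = 81 ∨ s = 82 ∨ s = 83 ∨ s = 84 ∨ s = 85 ∨ s = 86 ∨ s = 87 ∨ s = 88 ∨ s = 89 ∨ s = 90 ∨ s = 91 ∨ s = 92 ∨ s = 93 ∨ s = 94 := by omega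
  rcases h with rfl | rfl | rfl | rfl | rfl | rfl | rfl | rfl | rfl | rfl | rfl | rfl | rfl | rfl | rfl | rfl | rfl | rfl | rfl | rfl | rfl | rfl | rfl | rfl | rfl | rfl | rfl | rfl | rfl | rfl | rfl | rfl
  exacts [commE7_2_63, commE7_2_64, commE7_2_65, commE7_2_66, commE7_2_67, commE7_2_68, commE7_2_69, commE7_2_70, commE7_2_71, commE7_2_72, commE7_2_73, commE7_2_74, commE7_2_75, commE7_2_76, commE7_2_77, commE7_2_78, commE7_2_79, commE7_2_80, commE7_2_81, commE7_2_82, commE7_2_83, commE7_2_84, commE7_2_85, commE7_2_86, commE7_2_87, commE7_2_88, commE7_2_89, commE7_2_90, commE7_2_91, commE7_2_92, commE7_2_93, commE7_2_94]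

theorem commE7_2_95 : commCheck chevE7 73 95 = true := by
  decide +kernel

theorem commE7_2_96 : commCheck chevE7 73 96 = true := by
  decide +kernel

theorem commE7_2_97 : commCheck chevE7 73 97 = true := by
  decide +kernel

theorem commE7_2_98 : commCheck chevE7 73 98 = true := by
  decide +kernel

theorem commE7_2_99 : commCheck chevE7 73 99 = true := by
  decide +kernel

theorem commE7_2_100 : commCheck chevE7 73 100 = true := by
  decide +kernel

theorem commE7_2_101 : commCheck chevE7 73 101 = true := by
  decide +kernel

theorem commE7_2_102 : commCheck chevE7 73 102 = true := by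
  decide +kernel

theorem commE7_2_103 : commCheck chevE7 73 103 = true := by
  decide +kernel

theorem commE7_2_104 : commCheck chevE7 73 104 = true := by
  decide +kernel

theorem commE7_2_105 : commCheck chevE7 73 105 = true := by
  decide +kernel

theorem commE7_2_106 : commCheck chevE7 73 106 = true := by
  decide +kernel

theorem commE7_2_107 : commCheck chevE7 73 107 = true := by
  decide +kernel

theorem commE7_2_108 : commCheck chevE7 73 108 = true := by
  decide +kernel

theorem commE7_2_109 : commCheck chevE7 73 109 = true := by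
  decide +kernel

theorem commE7_2_110 : commCheck chevE7 73 110 = true := by
  decide +kernel

theorem commE7_2_111 : commCheck chevE7 73 111 = true := by
  decide +kernel

theorem commE7_2_112 : commCheck chevE7 73 112 = true := by
  decide +kernel

theorem commE7_2_113 : commCheck chevE7 73 113 = true := by
  decide +kernel

theorem commE7_2_114 : commCheck chevE7 73 114 = true := by
  decide +kernel

theorem commE7_2_115 : commCheck chevE7 73 115 = true := by
  decide +kernel

theorem commE7_2_116 : commCheck chevE7 73 116 = true := by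
  decide +kernel

theorem commE7_2_117 : commCheck chevE7 73 117 = true := by
  decide +kernel

theorem commE7_2_118 : commCheck chevE7 73 118 = true := by
  decide +kernel

theorem commE7_2_119 : commCheck chevE7 73 119 = true := by
  decide +kernel

theorem commE7_2_120 : commCheck chevE7 73 120 = true := by
  decide +kernel

theorem commE7_2_121 : commCheck chevE7 73 121 = true := by
  decide +kernel

theorem commE7_2_122 : commCheck chevE7 73 122 = true := by
  decide +kernel

theorem commE7_2_123 : commCheck chevE7 73 123 = true := by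
  decide +kernel

theorem commE7_2_124 : commCheck chevE7 73 124 = true := by
  decide +kernel

theorem commE7_2_125 : commCheck chevE7 73 125 = true := by
  decide +kernel

theorem commE7_2_from95 (s : ℕ) (h1 : 95 ≤ s) (h2 : s < 126) : commCheck chevE7 73 s = true := by
  have h : s = 95 ∨ s = 96 ∨ s = 97 ∨ s = 98 ∨ s = 99 ∨ s = 100 ∨ s = 101 ∨ s = 102 ∨ s = 103 ∨ s = 104 ∨ s = 105 ∨ s = 106 ∨ s = 107 ∨ s = 108 ∨ s = 109 ∨ s = 110 ∨ s = 111 ∨ s = 112 ∨ s = 113 ∨ s = 114 ∨ s = 115 ∨ s = 116 ∨ s = 117 ∨ s = 118 ∨ s = 119 ∨ s = 120 ∨ s = 121 ∨ s = 122 ∨ s = 123 ∨ s = 124 ∨ s = 125 := by omega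
  rcases h with rfl | rfl | rfl | rfl | rfl | rfl | rfl | rfl | rfl | rfl | rfl | rfl | rfl | rfl | rfl | rfl | rfl | rfl | rfl | rfl | rfl | rfl | rfl | rfl | rfl | rfl | rfl | rfl | rfl | rfl | rfl
  exacts [commE7_2_95, commE7_2_96, commE7_2_97, commE7_2_98, commE7_2_99, commE7_2_100, commE7_2_101, commE7_2_102, commE7_2_103, commE7_2_104, commE7_2_105, commE7_2_106, commE7_2_107, commE7_2_108, commE7_2_109, commE7_2_110, commE7_2_111, commE7_2_112, commE7_2_113, commE7_2_114, commE7_2_115, commE7_2_116, commE7_2_117, commE7_2_118, commE7_2_119, commE7_2_120, commE7_2_121, commE7_2_122, commE7_2_123, commE7_2_124, commE7_2_125]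

end Cfsg.Agent.Helper18
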