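import Cfsg.Agent.Lib.Helper18.ChevComm
import Cfsg.Prelude.Def_LieTypes
import Cfsg.Prelude.Def_ChevB2

set_option autoImplicit false
set_option maxRecDepth 100000
set_option Elab.async false

namespace Cfsg.Agent.Helper18

open Cfsg.Lie

theorem commE7_3_63 : commCheck chevE7 69 63 = true := by
  decide +kernel

theorem commE7_3_64 : commCheck chevE7 69 64 = true := by
  decide +kernel

theorem commE7_3_65 : commCheck chevE7 69 65 = true := by
  decide +kernel

theorem commE7_3_66 : commCheck chevE7 69 66 = true := by
  decide +kernel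

theorem commE7_3_67 : commCheck chevE7 69 67 = true := by
  decide +kernel

theorem commE7_3_68 : commCheck chevE7 69 68 = true := by
  decide +kernel

theorem commE7_3_69 : commCheck chevE7 69 69 = true := by
  decide +kernel

theorem commE7_3_70 : commCheck chevE7 69 70 = true := by
  decide +kernel

theorem commE7_3_71 : commCheck chevE7 69 71 = true := by
  decide +kernel

theorem commE7_3_72 : commCheck chevE7 69 72 = true := by
  decide +kernel

theorem commE7_3_73 : commCheck chevE7 69 73 = true := by
  decide +kernel

theorem commE7_3_74 : commCheck chevE7 69 74 = true := by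
  decide +kernel

theorem commE7_3_75 : commCheck chevE7 69 75 = true := by
  decide +kernel

theorem commE7_3_76 : commCheck chevE7 69 76 = true := by
  decide +kernel

theorem commE7_3_77 : commCheck chevE7 69 77 = true := by
  decide +kernel

theorem commE7_3_78 : commCheck chevE7 69 78 = true := by
  decide +kernel

theorem commE7_3_79 : commCheck chevE7 69 79 = true := by
  decide +kernel

theorem commE7_3_80 : commCheck chevE7 69 80 = true := by
  decide +kernel

theorem commE7_3_81 : commCheck chevE7 69 81 = true := by
  decide +kernel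

theorem commE7_3_82 : commCheck chevE7 69 82 = true := by
  decide +kernel

theorem commE7_3_83 : commCheck chevE7 69 83 = true := by
  decide +kernel

theorem commE7_3_84 : commCheck chevE7 69 84 = true := by
  decide +kernel

theorem commE7_3_85 : commCheck chevE7 69 85 = true := by
  decide +kernel

theorem commE7_3_86 : commCheck chevE7 69 86 = true := by
  decide +kernel

theorem commE7_3_87 : commCheck chevE7 69 87 = true := by
  decide +kernel

theorem commE7_3_88 : commCheck chevE7 69 88 = true := by
  decide +kernel

theorem commE7_3_89 : commCheck chevE7 69 89 = true := by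
  decide +kernel

theorem commE7_3_90 : commCheck chevE7 69 90 = true := by
  decide +kernel

theorem commE7_3_91 : commCheck chevE7 69 91 = true := by
  decide +kernel

theorem commE7_3_92 : commCheck chevE7 69 92 = true := by
  decide +kernel

theorem commE7_3_93 : commCheck chevE7 69 93 = true := by
  decide +kernel

theorem commE7_3_94 : commCheck chevE7 69 94 = true := by
  decide +kernel

theorem commE7_3_from63 (s : ℕ) (h1 : 63 ≤ s) (h2 : s < 95) : commCheck chevE7 69 s = true := by
  have h : s = 63 ∨ s = 64 ∨ s = 65 ∨ s = 66 ∨ s = 67 ∨ s = 68 ∨ s = 69 ∨ s = 70 ∨ s = 71 ∨ s = 72 ∨ s = 73 ∨ s = 74 ∨ s = 75 ∨ s = 76 ∨ s = 77 ∨ s = 78 ∨ s = 79 ∨ s = 80 ∨ s = 81 ∨ s = 82 ∨ s = 83 ∨ s = 84 ∨ s = 85 ∨ s = 86 ∨ s = 87 ∨ s = 88 ∨ s = 89 ∨ s = 90 ∨ s = 91 ∨ s = 92 ∨ s = 93 ∨ s = 94 := by omega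
  rcases h with rfl | rfl | rfl | rfl | rfl | rfl | rfl | rfl | rfl | rfl | rfl | rfl | rfl | rfl | rfl | rfl | rfl | rfl | rfl | rfl | rfl | rfl | rfl | rfl | rfl | rfl | rfl | rfl | rfl | rfl | rfl | rfl
  exacts [commE7_3_63, commE7_3_64, commE7_3_65, commE7_3_66, commE7_3_67, commE7_3_68, commE7_3_69, commE7_3_70, commE7_3_71, commE7_3_72, commE7_3_73, commE7_3_74, commE7_3_75, commE7_3_76, commE7_3_77, commE7_3_78, commE7_3_79, commE7_3_80, commE7_3_81, commE7_3_82, commE7_3_83, commE7_3_84, commE7_3_85, commE7_3_86, commE7_3_87, commE7_3_88, commE7_3_89, commE7_3_90, commE7_3_91, commE7_3_92, commE7_3_93, commE7_3_94]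

theorem commE7_3_95 : commCheck chevE7 69 95 = true := by
  decide +kernel

theorem commE7_3_96 : commCheck chevE7 69 96 = true := by
  decide +kernel

theorem commE7_3_97 : commCheck chevE7 69 97 = true := by
  decide +kernel

theorem commE7_3_98 : commCheck chevE7 69 98 = true := by
  decide +kernel

theorem commE7_3_99 : commCheck chevE7 69 99 = true := by
  decide +kernel

theorem commE7_3_100 : commCheck chevE7 69 100 = true := by
  decide +kernel

theorem commE7_3_101 : commCheck chevE7 69 101 = true := by
  decide +kernel

theorem commE7_3_102 : commCheck chevE7 69 102 = true := by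
  decide +kernel

theorem commE7_3_103 : commCheck chevE7 69 103 = true := by
  decide +kernel

theorem commE7_3_104 : commCheck chevE7 69 104 = true := by
  decide +kernel

theorem commE7_3_105 : commCheck chevE7 69 105 = true := by
  decide +kernel

theorem commE7_3_106 : commCheck chevE7 69 106 = true := by
  decide +kernel

theorem commE7_3_107 : commCheck chevE7 69 107 = true := by
  decide +kernel

theorem commE7_3_108 : commCheck chevE7 69 108 = true := by
  decide +kernel

theorem commE7_3_109 : commCheck chevE7 69 109 = true := by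
  decide +kernel

theorem commE7_3_110 : commCheck chevE7 69 110 = true := by
  decide +kernel

theorem commE7_3_111 : commCheck chevE7 69 111 = true := by
  decide +kernel

theorem commE7_3_112 : commCheck chevE7 69 112 = true := by
  decide +kernel

theorem commE7_3_113 : commCheck chevE7 69 113 = true := by
  decide +kernel

theorem commE7_3_114 : commCheck chevE7 69 114 = true := by
  decide +kernel

theorem commE7_3_115 : commCheck chevE7 69 115 = true := by
  decide +kernel

theorem commE7_3_116 : commCheck chevE7 69 116 = true := by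
  decide +kernel

theorem commE7_3_117 : commCheck chevE7 69 117 = true := by
  decide +kernel

theorem commE7_3_118 : commCheck chevE7 69 118 = true := by
  decide +kernel

theorem commE7_3_119 : commCheck chevE7 69 119 = true := by
  decide +kernel

theorem commE7_3_120 : commCheck chevE7 69 120 = true := by
  decide +kernel

theorem commE7_3_121 : commCheck chevE7 69 121 = true := by
  decide +kernel

theorem commE7_3_122 : commCheck chevE7 69 122 = true := by
  decide +kernel

theorem commE7_3_123 : commCheck chevE7 69 123 = true := by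
  decide +kernel

theorem commE7_3_124 : commCheck chevE7 69 124 = true := by
  decide +kernel

theorem commE7_3_125 : commCheck chevE7 69 125 = true := by
  decide +kernel

theorem commE7_3_from95 (s : ℕ) (h1 : 95 ≤ s) (h2 : s < 126) : commCheck chevE7 69 s = true := by
  have h : s = 95 ∨ s = 96 ∨ s = 97 ∨ s = 98 ∨ s = 99 ∨ s = 100 ∨ s = 101 ∨ s = 102 ∨ s = 103 ∨ s = 104 ∨ s = 105 ∨ s = 106 ∨ s = 107 ∨ s = 108 ∨ s = 109 ∨ s = 110 ∨ s = 111 ∨ s = 112 ∨ s = 113 ∨ s = 114 ∨ s = 115 ∨ s = 116 ∨ s = 117 ∨ s = 118 ∨ s = 119 ∨ s = 120 ∨ s = 121 ∨ s = 122 ∨ s = 123 ∨ s = 124 ∨ s = 125 := by omega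
  rcases h with rfl | rfl | rfl | rfl | rfl | rfl | rfl | rfl | rfl | rfl | rfl | rfl | rfl | rfl | rfl | rfl | rfl | rfl | rfl | rfl | rfl | rfl | rfl | rfl | rfl | rfl | rfl | rfl | rfl | rfl | rfl
  exacts [commE7_3_95, commE7_3_96, commE7_3_97, commE7_3_98, commE7_3_99, commE7_3_100, commE7_3_101, commE7_3_102, commE7_3_103, commE7_3_104, commE7_3_105, commE7_3_106, commE7_3_107, commE7_3_108, commE7_3_109, commE7_3_110, commE7_3_111, commE7_3_112, commE7_3_113, commE7_3_114, commE7_3_115, commE7_3_116, commE7_3_117, commE7_3_118, commE7_3_119, commE7_3_120, commE7_3_121, commE7_3_122, commE7_3_123, commE7_3_124, commE7_3_125]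

end Cfsg.Agent.Helper18
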