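import Cfsg.Agent.Lib.Helper18.ChevComm
import Cfsg.Prelude.Def_LieTypes
import Cfsg.Prelude.Def_ChevB2

set_option autoImplicit false
set_option maxRecDepth 100000
set_option Elab.async false

namespace Cfsg.Agent.Helper18

open Cfsg.Lie

theorem commE7_4_63 : commCheck chevE7 66 63 = true := by
  decide +kernel

theorem commE7_4_64 : commCheck chevE7 66 64 = true := by
  decide +kernel

theorem commE7_4_65 : commCheck chevE7 66 65 = true := by
  decide +kernel

theorem commE7_4_66 : commCheck chevE7 66 66 = true := by
  decide +kernel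

theorem commE7_4_67 : commCheck chevE7 66 67 = true := by
  decide +kernel

theorem commE7_4_68 : commCheck chevE7 66 68 = true := by
  decide +kernel

theorem commE7_4_69 : commCheck chevE7 66 69 = true := by
  decide +kernel

theorem commE7_4_70 : commCheck chevE7 66 70 = true := by
  decide +kernel

theorem commE7_4_71 : commCheck chevE7 66 71 = true := by
  decide +kernel

theorem commE7_4_72 : commCheck chevE7 66 72 = true := by
  decide +kernel

theorem commE7_4_73 : commCheck chevE7 66 73 = true := by
  decide +kernel

theorem commE7_4_74 : commCheck chevE7 66 74 = true := by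
  decide +kernel

theorem commE7_4_75 : commCheck chevE7 66 75 = true := by
  decide +kernel

theorem commE7_4_76 : commCheck chevE7 66 76 = true := by
  decide +kernel

theorem commE7_4_77 : commCheck chevE7 66 77 = true := by
  decide +kernel

theorem commE7_4_78 : commCheck chevE7 66 78 = true := by
  decide +kernel

theorem commE7_4_79 : commCheck chevE7 66 79 = true := by
  decide +kernel

theorem commE7_4_80 : commCheck chevE7 66 80 = true := by
  decide +kernel

theorem commE7_4_81 : commCheck chevE7 66 81 = true := by
  decide +kernel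

theorem commE7_4_82 : commCheck chevE7 66 82 = true := by
  decide +kernel

theorem commE7_4_83 : commCheck chevE7 66 83 = true := by
  decide +kernel

theorem commE7_4_84 : commCheck chevE7 66 84 = true := by
  decide +kernel

theorem commE7_4_85 : commCheck chevE7 66 85 = true := by
  decide +kernel

theorem commE7_4_86 : commCheck chevE7 66 86 = true := by
  decide +kernel

theorem commE7_4_87 : commCheck chevE7 66 87 = true := by
  decide +kernel

theorem commE7_4_88 : commCheck chevE7 66 88 = true := by
  decide +kernel

theorem commE7_4_89 : commCheck chevE7 66 89 = true := by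
  decide +kernel

theorem commE7_4_90 : commCheck chevE7 66 90 = true := by
  decide +kernel

theorem commE7_4_91 : commCheck chevE7 66 91 = true := by
  decide +kernel

theorem commE7_4_92 : commCheck chevE7 66 92 = true := by
  decide +kernel

theorem commE7_4_93 : commCheck chevE7 66 93 = true := by
  decide +kernel

theorem commE7_4_94 : commCheck chevE7 66 94 = true := by
  decide +kernel

theorem commE7_4_from63 (s : ℕ) (h1 : 63 ≤ s) (h2 : s < 95) : commCheck chevE7 66 s = true := by
  have h : s = 63 ∨ s = 64 ∨ s = 65 ∨ s = 66 ∨ s = 67 ∨ s = 68 ∨ s = 69 ∨ s = 70 ∨ s = 71 ∨ s = 72 ∨ s = 73 ∨ s = 74 ∨ s = 75 ∨ s = 76 ∨ s = 77 ∨ s = 78 ∨ s = 79 ∨ s = 80 ∨ s = 81 ∨ s = 82 ∨ s = 83 ∨ s = 84 ∨ s = 85 ∨ s = 86 ∨ s = 87 ∨ s = 88 ∨ s = 89 ∨ s = 90 ∨ s = 91 ∨ s = 92 ∨ s = 93 ∨ s = 94 := by omega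
  rcases h with rfl | rfl | rfl | rfl | rfl | rfl | rfl | rfl | rfl | rfl | rfl | rfl | rfl | rfl | rfl | rfl | rfl | rfl | rfl | rfl | rfl | rfl | rfl | rfl | rfl | rfl | rfl | rfl | rfl | rfl | rfl | rfl
  exacts [commE7_4_63, commE7_4_64, commE7_4_65, commE7_4_66, commE7_4_67, commE7_4_68, commE7_4_69, commE7_4_70, commE7_4_71, commE7_4_72, commE7_4_73, commE7_4_74, commE7_4_75, commE7_4_76, commE7_4_77, commE7_4_78, commE7_4_79, commE7_4_80, commE7_4_81, commE7_4_82, commE7_4_83, commE7_4_84, commE7_4_85, commE7_4_86, commE7_4_87, commE7_4_88, commE7_4_89, commE7_4_90, commE7_4_91, commE7_4_92, commE7_4_93, commE7_4_94]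

theorem commE7_4_95 : commCheck chevE7 66 95 = true := by
  decide +kernel

theorem commE7_4_96 : commCheck chevE7 66 96 = true := by
  decide +kernel

theorem commE7_4_97 : commCheck chevE7 66 97 = true := by
  decide +kernel

theorem commE7_4_98 : commCheck chevE7 66 98 = true := by
  decide +kernel

theorem commE7_4_99 : commCheck chevE7 66 99 = true := by
  decide +kernel

theorem commE7_4_100 : commCheck chevE7 66 100 = true := by
  decide +kernel

theorem commE7_4_101 : commCheck chevE7 66 101 = true := by
  decide +kernel

theorem commE7_4_102 : commCheck chevE7 66 102 = true := by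
  decide +kernel

theorem commE7_4_103 : commCheck chevE7 66 103 = true := by
  decide +kernel

theorem commE7_4_104 : commCheck chevE7 66 104 = true := by
  decide +kernel

theorem commE7_4_105 : commCheck chevE7 66 105 = true := by
  decide +kernel

theorem commE7_4_106 : commCheck chevE7 66 106 = true := by
  decide +kernel

theorem commE7_4_107 : commCheck chevE7 66 107 = true := by
  decide +kernel

theorem commE7_4_108 : commCheck chevE7 66 108 = true := by
  decide +kernel

theorem commE7_4_109 : commCheck chevE7 66 109 = true := by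
  decide +kernel

theorem commE7_4_110 : commCheck chevE7 66 110 = true := by
  decide +kernel

theorem commE7_4_111 : commCheck chevE7 66 111 = true := by
  decide +kernel

theorem commE7_4_112 : commCheck chevE7 66 112 = true := by
  decide +kernel

theorem commE7_4_113 : commCheck chevE7 66 113 = true := by
  decide +kernel

theorem commE7_4_114 : commCheck chevE7 66 114 = true := by
  decide +kernel

theorem commE7_4_115 : commCheck chevE7 66 115 = true := by
  decide +kernel

theorem commE7_4_116 : commCheck chevE7 66 116 = true := by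
  decide +kernel

theorem commE7_4_117 : commCheck chevE7 66 117 = true := by
  decide +kernel

theorem commE7_4_118 : commCheck chevE7 66 118 = true := by
  decide +kernel

theorem commE7_4_119 : commCheck chevE7 66 119 = true := by
  decide +kernel

theorem commE7_4_120 : commCheck chevE7 66 120 = true := by
  decide +kernel

theorem commE7_4_121 : commCheck chevE7 66 121 = true := by
  decide +kernel

theorem commE7_4_122 : commCheck chevE7 66 122 = true := by
  decide +kernel

theorem commE7_4_123 : commCheck chevE7 66 123 = true := by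
  decide +kernel

theorem commE7_4_124 : commCheck chevE7 66 124 = true := by
  decide +kernel

theorem commE7_4_125 : commCheck chevE7 66 125 = true := by
  decide +kernel

theorem commE7_4_from95 (s : ℕ) (h1 : 95 ≤ s) (h2 : s < 126) : commCheck chevE7 66 s = true := by
  have h : s = 95 ∨ s = 96 ∨ s = 97 ∨ s = 98 ∨ s = 99 ∨ s = 100 ∨ s = 101 ∨ s = 102 ∨ s = 103 ∨ s = 104 ∨ s = 105 ∨ s = 106 ∨ s = 107 ∨ s = 108 ∨ s = 109 ∨ s = 110 ∨ s = 111 ∨ s = 112 ∨ s = 113 ∨ s = 114 ∨ s = 115 ∨ s = 116 ∨ s = 117 ∨ s = 118 ∨ s = 119 ∨ s = 120 ∨ s = 121 ∨ s = 122 ∨ s = 123 ∨ s = 124 ∨ s = 125 := by omega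
  rcases h with rfl | rfl | rfl | rfl | rfl | rfl | rfl | rfl | rfl | rfl | rfl | rfl | rfl | rfl | rfl | rfl | rfl | rfl | rfl | rfl | rfl | rfl | rfl | rfl | rfl | rfl | rfl | rfl | rfl | rfl | rfl
  exacts [commE7_4_95, commE7_4_96, commE7_4_97, commE7_4_98, commE7_4_99, commE7_4_100, commE7_4_101, commE7_4_102, commE7_4_103, commE7_4_104, commE7_4_105, commE7_4_106, commE7_4_107, commE7_4_108, commE7_4_109, commE7_4_110, commE7_4_111, commE7_4_112, commE7_4_113, commE7_4_114, commE7_4_115, commE7_4_116, commE7_4_117, commE7_4_118, commE7_4_119, commE7_4_120, commE7_4_121, commE7_4_122, commE7_4_123, commE7_4_124, commE7_4_125]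

end Cfsg.Agent.Helper18
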