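import Cfsg.Agent.Lib.Helper18.ChevComm
import Cfsg.Prelude.Def_LieTypes
import Cfsg.Prelude.Def_ChevB2

set_option autoImplicit false
set_option maxRecDepth 100000
set_option Elab.async false

namespace Cfsg.Agent.Helper18

open Cfsg.Lie

theorem commE7_5_63 : commCheck chevE7 64 63 = true := by
  decide +kernel

theorem commE7_5_64 : commCheck chevE7 64 64 = true := by
  decide +kernel

theorem commE7_5_65 : commCheck chevE7 64 65 = true := by
  decide +kernel

theorem commE7_5_66 : commCheck chevE7 64 66 = true := by
  decide +kernel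

theorem commE7_5_67 : commCheck chevE7 64 67 = true := by
  decide +kernel

theorem commE7_5_68 : commCheck chevE7 64 68 = true := by
  decide +kernel

theorem commE7_5_69 : commCheck chevE7 64 69 = true := by
  decide +kernel

theorem commE7_5_70 : commCheck chevE7 64 70 = true := by
  decide +kernel

theorem commE7_5_71 : commCheck chevE7 64 71 = true := by
  decide +kernel

theorem commE7_5_72 : commCheck chevE7 64 72 = true := by
  decide +kernel

theorem commE7_5_73 : commCheck chevE7 64 73 = true := by
  decide +kernel

theorem commE7_5_74 : commCheck chevE7 64 74 = true := by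
  decide +kernel

theorem commE7_5_75 : commCheck chevE7 64 75 = true := by
  decide +kernel

theorem commE7_5_76 : commCheck chevE7 64 76 = true := by
  decide +kernel

theorem commE7_5_77 : commCheck chevE7 64 77 = true := by
  decide +kernel

theorem commE7_5_78 : commCheck chevE7 64 78 = true := by
  decide +kernel

theorem commE7_5_79 : commCheck chevE7 64 79 = true := by
  decide +kernel

theorem commE7_5_80 : commCheck chevE7 64 80 = true := by
  decide +kernel

theorem commE7_5_81 : commCheck chevE7 64 81 = true := by
  decide +kernel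

theorem commE7_5_82 : commCheck chevE7 64 82 = true := by
  decide +kernel

theorem commE7_5_83 : commCheck chevE7 64 83 = true := by
  decide +kernel

theorem commE7_5_84 : commCheck chevE7 64 84 = true := by
  decide +kernel

theorem commE7_5_85 : commCheck chevE7 64 85 = true := by
  decide +kernel

theorem commE7_5_86 : commCheck chevE7 64 86 = true := by
  decide +kernel

theorem commE7_5_87 : commCheck chevE7 64 87 = true := by
  decide +kernel

theorem commE7_5_88 : commCheck chevE7 64 88 = true := by
  decide +kernel

theorem commE7_5_89 : commCheck chevE7 64 89 = true := by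
  decide +kernel

theorem commE7_5_90 : commCheck chevE7 64 90 = true := by
  decide +kernel

theorem commE7_5_91 : commCheck chevE7 64 91 = true := by
  decide +kernel

theorem commE7_5_92 : commCheck chevE7 64 92 = true := by
  decide +kernel

theorem commE7_5_93 : commCheck chevE7 64 93 = true := by
  decide +kernel

theorem commE7_5_94 : commCheck chevE7 64 94 = true := by
  decide +kernel

theorem commE7_5_from63 (s : ℕ) (h1 : 63 ≤ s) (h2 : s < 95) : commCheck chevE7 64 s = true := by
  have h : s = 63 ∨ s = 64 ∨ s = 65 ∨ s = 66 ∨ s = 67 ∨ s = 68 ∨ s = 69 ∨ s = 70 ∨ s = 71 ∨ s = 72 ∨ s = 73 ∨ s = 74 ∨ s = 75 ∨ s = 76 ∨ s = 77 ∨ s = 78 ∨ s = 79 ∨ s = 80 ∨ s = 81 ∨ s = 82 ∨ s = 83 ∨ s = 84 ∨ s = 85 ∨ s = 86 ∨ s = 87 ∨ s = 88 ∨ s = 89 ∨ s = 90 ∨ s = 91 ∨ s = 92 ∨ s = 93 ∨ s = 94 := by omega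
  rcases h with rfl | rfl | rfl | rfl | rfl | rfl | rfl | rfl | rfl | rfl | rfl | rfl | rfl | rfl | rfl | rfl | rfl | rfl | rfl | rfl | rfl | rfl | rfl | rfl | rfl | rfl | rfl | rfl | rfl | rfl | rfl | rfl
  exacts [commE7_5_63, commE7_5_64, commE7_5_65, commE7_5_66, commE7_5_67, commE7_5_68, commE7_5_69, commE7_5_70, commE7_5_71, commE7_5_72, commE7_5_73, commE7_5_74, commE7_5_75, commE7_5_76, commE7_5_77, commE7_5_78, commE7_5_79, commE7_5_80, commE7_5_81, commE7_5_82, commE7_5_83, commE7_5_84, commE7_5_85, commE7_5_86, commE7_5_87, commE7_5_88, commE7_5_89, commE7_5_90, commE7_5_91, commE7_5_92, commE7_5_93, commE7_5_94]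

theorem commE7_5_95 : commCheck chevE7 64 95 = true := by
  decide +kernel

theorem commE7_5_96 : commCheck chevE7 64 96 = true := by
  decide +kernel

theorem commE7_5_97 : commCheck chevE7 64 97 = true := by
  decide +kernel

theorem commE7_5_98 : commCheck chevE7 64 98 = true := by
  decide +kernel

theorem commE7_5_99 : commCheck chevE7 64 99 = true := by
  decide +kernel

theorem commE7_5_100 : commCheck chevE7 64 100 = true := by
  decide +kernel

theorem commE7_5_101 : commCheck chevE7 64 101 = true := by
  decide +kernel

theorem commE7_5_102 : commCheck chevE7 64 102 = true := by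
  decide +kernel

theorem commE7_5_103 : commCheck chevE7 64 103 = true := by
  decide +kernel

theorem commE7_5_104 : commCheck chevE7 64 104 = true := by
  decide +kernel

theorem commE7_5_105 : commCheck chevE7 64 105 = true := by
  decide +kernel

theorem commE7_5_106 : commCheck chevE7 64 106 = true := by
  decide +kernel

theorem commE7_5_107 : commCheck chevE7 64 107 = true := by
  decide +kernel

theorem commE7_5_108 : commCheck chevE7 64 108 = true := by
  decide +kernel

theorem commE7_5_109 : commCheck chevE7 64 109 = true := by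
  decide +kernel

theorem commE7_5_110 : commCheck chevE7 64 110 = true := by
  decide +kernel

theorem commE7_5_111 : commCheck chevE7 64 111 = true := by
  decide +kernel

theorem commE7_5_112 : commCheck chevE7 64 112 = true := by
  decide +kernel

theorem commE7_5_113 : commCheck chevE7 64 113 = true := by
  decide +kernel

theorem commE7_5_114 : commCheck chevE7 64 114 = true := by
  decide +kernel

theorem commE7_5_115 : commCheck chevE7 64 115 = true := by
  decide +kernel

theorem commE7_5_116 : commCheck chevE7 64 116 = true := by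
  decide +kernel

theorem commE7_5_117 : commCheck chevE7 64 117 = true := by
  decide +kernel

theorem commE7_5_118 : commCheck chevE7 64 118 = true := by
  decide +kernel

theorem commE7_5_119 : commCheck chevE7 64 119 = true := by
  decide +kernel

theorem commE7_5_120 : commCheck chevE7 64 120 = true := by
  decide +kernel

theorem commE7_5_121 : commCheck chevE7 64 121 = true := by
  decide +kernel

theorem commE7_5_122 : commCheck chevE7 64 122 = true := by
  decide +kernel

theorem commE7_5_123 : commCheck chevE7 64 123 = true := by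
  decide +kernel

theorem commE7_5_124 : commCheck chevE7 64 124 = true := by
  decide +kernel

theorem commE7_5_125 : commCheck chevE7 64 125 = true := by
  decide +kernel

theorem commE7_5_from95 (s : ℕ) (h1 : 95 ≤ s) (h2 : s < 126) : commCheck chevE7 64 s = true := by
  have h : s = 95 ∨ s = 96 ∨ s = 97 ∨ s = 98 ∨ s = 99 ∨ s = 100 ∨ s = 101 ∨ s = 102 ∨ s = 103 ∨ s = 104 ∨ s = 105 ∨ s = 106 ∨ s = 107 ∨ s = 108 ∨ s = 109 ∨ s = 110 ∨ s = 111 ∨ s = 112 ∨ s = 113 ∨ s = 114 ∨ s = 115 ∨ s = 116 ∨ s = 117 ∨ s = 118 ∨ s = 119 ∨ s = 120 ∨ s = 121 ∨ s = 122 ∨ s = 123 ∨ s = 124 ∨ s = 125 := by omega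
  rcases h with rfl | rfl | rfl | rfl | rfl | rfl | rfl | rfl | rfl | rfl | rfl | rfl | rfl | rfl | rfl | rfl | rfl | rfl | rfl | rfl | rfl | rfl | rfl | rfl | rfl | rfl | rfl | rfl | rfl | rfl | rfl
  exacts [commE7_5_95, commE7_5_96, commE7_5_97, commE7_5_98, commE7_5_99, commE7_5_100, commE7_5_101, commE7_5_102, commE7_5_103, commE7_5_104, commE7_5_105, commE7_5_106, commE7_5_107, commE7_5_108, commE7_5_109, commE7_5_110, commE7_5_111, commE7_5_112, commE7_5_113, commE7_5_114, commE7_5_115, commE7_5_116, commE7_5_117, commE7_5_118, commE7_5_119, commE7_5_120, commE7_5_121, commE7_5_122, commE7_5_123, commE7_5_124, commE7_5_125]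

end Cfsg.Agent.Helper18
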