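import Cfsg.Agent.Lib.Helper18.ChevComm
import Cfsg.Prelude.Def_LieTypes
import Cfsg.Prelude.Def_ChevB2

set_option autoImplicit false
set_option maxRecDepth 100000
set_option Elab.async false

namespace Cfsg.Agent.Helper18

open Cfsg.Lie

theorem commE7_6_63 : commCheck chevE7 63 63 = true := by
  decide +kernel

theorem commE7_6_64 : commCheck chevE7 63 64 = true := by
  decide +kernel

theorem commE7_6_65 : commCheck chevE7 63 65 = true := by
  decide +kernel

theorem commE7_6_66 : commCheck chevE7 63 66 = true := by
  decide +kernel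

theorem commE7_6_67 : commCheck chevE7 63 67 = true := by
  decide +kernel

theorem commE7_6_68 : commCheck chevE7 63 68 = true := by
  decide +kernel

theorem commE7_6_69 : commCheck chevE7 63 69 = true := by
  decide +kernel

theorem commE7_6_70 : commCheck chevE7 63 70 = true := by
  decide +kernel

theorem commE7_6_71 : commCheck chevE7 63 71 = true := by
  decide +kernel

theorem commE7_6_72 : commCheck chevE7 63 72 = true := by
  decide +kernel

theorem commE7_6_73 : commCheck chevE7 63 73 = true := by
  decide +kernel

theorem commE7_6_74 : commCheck chevE7 63 74 = true := by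
  decide +kernel

theorem commE7_6_75 : commCheck chevE7 63 75 = true := by
  decide +kernel

theorem commE7_6_76 : commCheck chevE7 63 76 = true := by
  decide +kernel

theorem commE7_6_77 : commCheck chevE7 63 77 = true := by
  decide +kernel

theorem commE7_6_78 : commCheck chevE7 63 78 = true := by
  decide +kernel

theorem commE7_6_79 : commCheck chevE7 63 79 = true := by
  decide +kernel

theorem commE7_6_80 : commCheck chevE7 63 80 = true := by
  decide +kernel

theorem commE7_6_81 : commCheck chevE7 63 81 = true := by
  decide +kernel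

theorem commE7_6_82 : commCheck chevE7 63 82 = true := by
  decide +kernel

theorem commE7_6_83 : commCheck chevE7 63 83 = true := by
  decide +kernel

theorem commE7_6_84 : commCheck chevE7 63 84 = true := by
  decide +kernel

theorem commE7_6_85 : commCheck chevE7 63 85 = true := by
  decide +kernel

theorem commE7_6_86 : commCheck chevE7 63 86 = true := by
  decide +kernel

theorem commE7_6_87 : commCheck chevE7 63 87 = true := by
  decide +kernel

theorem commE7_6_88 : commCheck chevE7 63 88 = true := by
  decide +kernel

theorem commE7_6_89 : commCheck chevE7 63 89 = true := by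
  decide +kernel

theorem commE7_6_90 : commCheck chevE7 63 90 = true := by
  decide +kernel

theorem commE7_6_91 : commCheck chevE7 63 91 = true := by
  decide +kernel

theorem commE7_6_92 : commCheck chevE7 63 92 = true := by
  decide +kernel

theorem commE7_6_93 : commCheck chevE7 63 93 = true := by
  decide +kernel

theorem commE7_6_94 : commCheck chevE7 63 94 = true := by
  decide +kernel

theorem commE7_6_from63 (s : ℕ) (h1 : 63 ≤ s) (h2 : s < 95) : commCheck chevE7 63 s = true := by
  have h : s = 63 ∨ s = 64 ∨ s = 65 ∨ s = 66 ∨ s = 67 ∨ s = 68 ∨ s = 69 ∨ s = 70 ∨ s = 71 ∨ s = 72 ∨ s = 73 ∨ s = 74 ∨ s = 75 ∨ s = 76 ∨ s = 77 ∨ s = 78 ∨ s = 79 ∨ s = 80 ∨ s = 81 ∨ s = 82 ∨ s = 83 ∨ s = 84 ∨ s = 85 ∨ s = 86 ∨ s = 87 ∨ s = 88 ∨ s = 89 ∨ s = 90 ∨ s = 91 ∨ s = 92 ∨ s = 93 ∨ s = 94 := by omega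
  rcases h with rfl | rfl | rfl | rfl | rfl | rfl | rfl | rfl | rfl | rfl | rfl | rfl | rfl | rfl | rfl | rfl | rfl | rfl | rfl | rfl | rfl | rfl | rfl | rfl | rfl | rfl | rfl | rfl | rfl | rfl | rfl | rfl
  exacts [commE7_6_63, commE7_6_64, commE7_6_65, commE7_6_66, commE7_6_67, commE7_6_68, commE7_6_69, commE7_6_70, commE7_6_71, commE7_6_72, commE7_6_73, commE7_6_74, commE7_6_75, commE7_6_76, commE7_6_77, commE7_6_78, commE7_6_79, commE7_6_80, commE7_6_81, commE7_6_82, commE7_6_83, commE7_6_84, commE7_6_85, commE7_6_86, commE7_6_87, commE7_6_88, commE7_6_89, commE7_6_90, commE7_6_91, commE7_6_92, commE7_6_93, commE7_6_94]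

theorem commE7_6_95 : commCheck chevE7 63 95 = true := by
  decide +kernel

theorem commE7_6_96 : commCheck chevE7 63 96 = true := by
  decide +kernel

theorem commE7_6_97 : commCheck chevE7 63 97 = true := by
  decide +kernel

theorem commE7_6_98 : commCheck chevE7 63 98 = true := by
  decide +kernel

theorem commE7_6_99 : commCheck chevE7 63 99 = true := by
  decide +kernel

theorem commE7_6_100 : commCheck chevE7 63 100 = true := by
  decide +kernel

theorem commE7_6_101 : commCheck chevE7 63 101 = true := by
  decide +kernel

theorem commE7_6_102 : commCheck chevE7 63 102 = true := by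
  decide +kernel

theorem commE7_6_103 : commCheck chevE7 63 103 = true := by
  decide +kernel

theorem commE7_6_104 : commCheck chevE7 63 104 = true := by
  decide +kernel

theorem commE7_6_105 : commCheck chevE7 63 105 = true := by
  decide +kernel

theorem commE7_6_106 : commCheck chevE7 63 106 = true := by
  decide +kernel

theorem commE7_6_107 : commCheck chevE7 63 107 = true := by
  decide +kernel

theorem commE7_6_108 : commCheck chevE7 63 108 = true := by
  decide +kernel

theorem commE7_6_109 : commCheck chevE7 63 109 = true := by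
  decide +kernel

theorem commE7_6_110 : commCheck chevE7 63 110 = true := by
  decide +kernel

theorem commE7_6_111 : commCheck chevE7 63 111 = true := by
  decide +kernel

theorem commE7_6_112 : commCheck chevE7 63 112 = true := by
  decide +kernel

theorem commE7_6_113 : commCheck chevE7 63 113 = true := by
  decide +kernel

theorem commE7_6_114 : commCheck chevE7 63 114 = true := by
  decide +kernel

theorem commE7_6_115 : commCheck chevE7 63 115 = true := by
  decide +kernel

theorem commE7_6_116 : commCheck chevE7 63 116 = true := by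
  decide +kernel

theorem commE7_6_117 : commCheck chevE7 63 117 = true := by
  decide +kernel

theorem commE7_6_118 : commCheck chevE7 63 118 = true := by
  decide +kernel

theorem commE7_6_119 : commCheck chevE7 63 119 = true := by
  decide +kernel

theorem commE7_6_120 : commCheck chevE7 63 120 = true := by
  decide +kernel

theorem commE7_6_121 : commCheck chevE7 63 121 = true := by
  decide +kernel

theorem commE7_6_122 : commCheck chevE7 63 122 = true := by
  decide +kernel

theorem commE7_6_123 : commCheck chevE7 63 123 = true := by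
  decide +kernel

theorem commE7_6_124 : commCheck chevE7 63 124 = true := by
  decide +kernel

theorem commE7_6_125 : commCheck chevE7 63 125 = true := by
  decide +kernel

theorem commE7_6_from95 (s : ℕ) (h1 : 95 ≤ s) (h2 : s < 126) : commCheck chevE7 63 s = true := by
  have h : s = 95 ∨ s = 96 ∨ s = 97 ∨ s = 98 ∨ s = 99 ∨ s = 100 ∨ s = 101 ∨ s = 102 ∨ s = 103 ∨ s = 104 ∨ s = 105 ∨ s = 106 ∨ s = 107 ∨ s = 108 ∨ s = 109 ∨ s = 110 ∨ s = 111 ∨ s = 112 ∨ s = 113 ∨ s = 114 ∨ s = 115 ∨ s = 116 ∨ s = 117 ∨ s = 118 ∨ s = 119 ∨ s = 120 ∨ s = 121 ∨ s = 122 ∨ s = 123 ∨ s = 124 ∨ s = 125 := by omega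
  rcases h with rfl | rfl | rfl | rfl | rfl | rfl | rfl | rfl | rfl | rfl | rfl | rfl | rfl | rfl | rfl | rfl | rfl | rfl | rfl | rfl | rfl | rfl | rfl | rfl | rfl | rfl | rfl | rfl | rfl | rfl | rfl
  exacts [commE7_6_95, commE7_6_96, commE7_6_97, commE7_6_98, commE7_6_99, commE7_6_100, commE7_6_101, commE7_6_102, commE7_6_103, commE7_6_104, commE7_6_105, commE7_6_106, commE7_6_107, commE7_6_108, commE7_6_109, commE7_6_110, commE7_6_111, commE7_6_112, commE7_6_113, commE7_6_114, commE7_6_115, commE7_6_116, commE7_6_117, commE7_6_118, commE7_6_119, commE7_6_120, commE7_6_121, commE7_6_122, commE7_6_123, commE7_6_124, commE7_6_125]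

end Cfsg.Agent.Helper18
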