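import Cfsg.Agent.Lib.Helper18.ChevComm
import Cfsg.Prelude.Def_LieTypes
import Cfsg.Prelude.Def_ChevB2

set_option autoImplicit false
set_option maxRecDepth 100000
set_option Elab.async false

namespace Cfsg.Agent.Helper18

open Cfsg.Lie

theorem commE8_0_120 : commCheck chevE8 162 120 = true := by
  decide +kernel

theorem commE8_0_121 : commCheck chevE8 162 121 = true := by
  decide +kernel

theorem commE8_0_122 : commCheck chevE8 162 122 = true := by
  decide +kernel

theorem commE8_0_123 : commCheck chevE8 162 123 = true := by
  decide +kernel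

theorem commE8_0_124 : commCheck chevE8 162 124 = true := by
  decide +kernel

theorem commE8_0_125 : commCheck chevE8 162 125 = true := by
  decide +kernel

theorem commE8_0_126 : commCheck chevE8 162 126 = true := by
  decide +kernel

theorem commE8_0_127 : commCheck chevE8 162 127 = true := by
  decide +kernel

theorem commE8_0_128 : commCheck chevE8 162 128 = true := by
  decide +kernel

theorem commE8_0_129 : commCheck chevE8 162 129 = true := by
  decide +kernel

theorem commE8_0_130 : commCheck chevE8 162 130 = true := by
  decide +kernel

theorem commE8_0_131 : commCheck chevE8 162 131 = true := by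
  decide +kernel

theorem commE8_0_132 : commCheck chevE8 162 132 = true := by
  decide +kernel

theorem commE8_0_133 : commCheck chevE8 162 133 = true := by
  decide +kernel

theorem commE8_0_134 : commCheck chevE8 162 134 = true := by
  decide +kernel

theorem commE8_0_135 : commCheck chevE8 162 135 = true := by
  decide +kernel

theorem commE8_0_136 : commCheck chevE8 162 136 = true := by
  decide +kernel

theorem commE8_0_137 : commCheck chevE8 162 137 = true := by
  decide +kernel

theorem commE8_0_138 : commCheck chevE8 162 138 = true := by
  decide +kernel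

theorem commE8_0_139 : commCheck chevE8 162 139 = true := by
  decide +kernel

theorem commE8_0_140 : commCheck chevE8 162 140 = true := by
  decide +kernel

theorem commE8_0_141 : commCheck chevE8 162 141 = true := by
  decide +kernel

theorem commE8_0_142 : commCheck chevE8 162 142 = true := by
  decide +kernel

theorem commE8_0_143 : commCheck chevE8 162 143 = true := by
  decide +kernel

theorem commE8_0_144 : commCheck chevE8 162 144 = true := by
  decide +kernel

theorem commE8_0_145 : commCheck chevE8 162 145 = true := by
  decide +kernel

theorem commE8_0_146 : commCheck chevE8 162 146 = true := by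
  decide +kernel

theorem commE8_0_147 : commCheck chevE8 162 147 = true := by
  decide +kernel

theorem commE8_0_148 : commCheck chevE8 162 148 = true := by
  decide +kernel

theorem commE8_0_149 : commCheck chevE8 162 149 = true := by
  decide +kernel

theorem commE8_0_from120 (s : ℕ) (h1 : 120 ≤ s) (h2 : s < 150) : commCheck chevE8 162 s = true := by
  have h : s = 120 ∨ s = 121 ∨ s = 122 ∨ s = 123 ∨ s = 124 ∨ s = 125 ∨ s = 126 ∨ s = 127 ∨ s = 128 ∨ s = 129 ∨ s = 130 ∨ s = 131 ∨ s = 132 ∨ s = 133 ∨ s = 134 ∨ s = 135 ∨ s = 136 ∨ s = 137 ∨ s = 138 ∨ s = 139 ∨ s = 140 ∨ s = 141 ∨ s = 142 ∨ s = 143 ∨ s = 144 ∨ s = 145 ∨ s = 146 ∨ s = 147 ∨ s = 148 ∨ s = 149 := by omega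
  rcases h with rfl | rfl | rfl | rfl | rfl | rfl | rfl | rfl | rfl | rfl | rfl | rfl | rfl | rfl | rfl | rfl | rfl | rfl | rfl | rfl | rfl | rfl | rfl | rfl | rfl | rfl | rfl | rfl | rfl | rfl
  exacts [commE8_0_120, commE8_0_121, commE8_0_122, commE8_0_123, commE8_0_124, commE8_0_125, commE8_0_126, commE8_0_127, commE8_0_128, commE8_0_129, commE8_0_130, commE8_0_131, commE8_0_132, commE8_0_133, commE8_0_134, commE8_0_135, commE8_0_136, commE8_0_137, commE8_0_138, commE8_0_139, commE8_0_140, commE8_0_141, commE8_0_142, commE8_0_143, commE8_0_144, commE8_0_145, commE8_0_146, commE8_0_147, commE8_0_148, commE8_0_149]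

theorem commE8_0_150 : commCheck chevE8 162 150 = true := by
  decide +kernel

theorem commE8_0_151 : commCheck chevE8 162 151 = true := by
  decide +kernel

theorem commE8_0_152 : commCheck chevE8 162 152 = true := by
  decide +kernel

theorem commE8_0_153 : commCheck chevE8 162 153 = true := by
  decide +kernel

theorem commE8_0_154 : commCheck chevE8 162 154 = true := by
  decide +kernel

theorem commE8_0_155 : commCheck chevE8 162 155 = true := by
  decide +kernel

theorem commE8_0_156 : commCheck chevE8 162 156 = true := by
  decide +kernel

theorem commE8_0_157 : commCheck chevE8 162 157 = true := by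
  decide +kernel

theorem commE8_0_158 : commCheck chevE8 162 158 = true := by
  decide +kernel

theorem commE8_0_159 : commCheck chevE8 162 159 = true := by
  decide +kernel

theorem commE8_0_160 : commCheck chevE8 162 160 = true := by
  decide +kernel

theorem commE8_0_161 : commCheck chevE8 162 161 = true := by
  decide +kernel

theorem commE8_0_162 : commCheck chevE8 162 162 = true := by
  decide +kernel

theorem commE8_0_163 : commCheck chevE8 162 163 = true := by
  decide +kernel

theorem commE8_0_164 : commCheck chevE8 162 164 = true := by
  decide +kernel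

theorem commE8_0_165 : commCheck chevE8 162 165 = true := by
  decide +kernel

theorem commE8_0_166 : commCheck chevE8 162 166 = true := by
  decide +kernel

theorem commE8_0_167 : commCheck chevE8 162 167 = true := by
  decide +kernel

theorem commE8_0_168 : commCheck chevE8 162 168 = true := by
  decide +kernel

theorem commE8_0_169 : commCheck chevE8 162 169 = true := by
  decide +kernel

theorem commE8_0_170 : commCheck chevE8 162 170 = true := by
  decide +kernel

theorem commE8_0_171 : commCheck chevE8 162 171 = true := by
  decide +kernel

theorem commE8_0_172 : commCheck chevE8 162 172 = true := by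
  decide +kernel

theorem commE8_0_173 : commCheck chevE8 162 173 = true := by
  decide +kernel

theorem commE8_0_174 : commCheck chevE8 162 174 = true := by
  decide +kernel

theorem commE8_0_175 : commCheck chevE8 162 175 = true := by
  decide +kernel

theorem commE8_0_176 : commCheck chevE8 162 176 = true := by
  decide +kernel

theorem commE8_0_177 : commCheck chevE8 162 177 = true := by
  decide +kernel

theorem commE8_0_178 : commCheck chevE8 162 178 = true := by
  decide +kernel

theorem commE8_0_179 : commCheck chevE8 162 179 = true := by
  decide +kernel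

theorem commE8_0_from150 (s : ℕ) (h1 : 150 ≤ s) (h2 : s < 180) : commCheck chevE8 162 s = true := by
  have h : s = 150 ∨ s = 151 ∨ s = 152 ∨ s = 153 ∨ s = 154 ∨ s = 155 ∨ s = 156 ∨ s = 157 ∨ s = 158 ∨ s = 159 ∨ s = 160 ∨ s = 161 ∨ s = 162 ∨ s = 163 ∨ s = 164 ∨ s = 165 ∨ s = 166 ∨ s = 167 ∨ s = 168 ∨ s = 169 ∨ s = 170 ∨ s = 171 ∨ s = 172 ∨ s = 173 ∨ s = 174 ∨ s = 175 ∨ s = 176 ∨ s = 177 ∨ s = 178 ∨ s = 179 := by omega
  rcases h with rfl | rfl | rfl | rfl | rfl | rfl | rfl | rfl | rfl | rfl | rfl | rfl | rfl | rfl | rfl | rfl | rfl | rfl | rfl | rfl | rfl | rfl | rfl | rfl | rfl | rfl | rfl | rfl | rfl | rfl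
  exacts [commE8_0_150, commE8_0_151, commE8_0_152, commE8_0_153, commE8_0_154, commE8_0_155, commE8_0_156, commE8_0_157, commE8_0_158, commE8_0_159, commE8_0_160, commE8_0_161, commE8_0_162, commE8_0_163, commE8_0_164, commE8_0_165, commE8_0_166, commE8_0_167, commE8_0_168, commE8_0_169, commE8_0_170, commE8_0_171, commE8_0_172, commE8_0_173, commE8_0_174, commE8_0_175, commE8_0_176, commE8_0_177, commE8_0_178, commE8_0_179]

end Cfsg.Agent.Helper18
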