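import Cfsg.Agent.Lib.Helper18.ChevComm
import Cfsg.Prelude.Def_LieTypes
import Cfsg.Prelude.Def_ChevB2

set_option autoImplicit false
set_option maxRecDepth 100000
set_option Elab.async false

namespace Cfsg.Agent.Helper18

open Cfsg.Lie

theorem commE8_0_180 : commCheck chevE8 162 180 = true := by
  decide +kernel

theorem commE8_0_181 : commCheck chevE8 162 181 = true := by
  decide +kernel

theorem commE8_0_182 : commCheck chevE8 162 182 = true := by
  decide +kernel

theorem commE8_0_183 : commCheck chevE8 162 183 = true := by
  decide +kernel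

theorem commE8_0_184 : commCheck chevE8 162 184 = true := by
  decide +kernel

theorem commE8_0_185 : commCheck chevE8 162 185 = true := by
  decide +kernel

theorem commE8_0_186 : commCheck chevE8 162 186 = true := by
  decide +kernel

theorem commE8_0_187 : commCheck chevE8 162 187 = true := by
  decide +kernel

theorem commE8_0_188 : commCheck chevE8 162 188 = true := by
  decide +kernel

theorem commE8_0_189 : commCheck chevE8 162 189 = true := by
  decide +kernel

theorem commE8_0_190 : commCheck chevE8 162 190 = true := by
  decide +kernel

theorem commE8_0_191 : commCheck chevE8 162 191 = true := by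
  decide +kernel

theorem commE8_0_192 : commCheck chevE8 162 192 = true := by
  decide +kernel

theorem commE8_0_193 : commCheck chevE8 162 193 = true := by
  decide +kernel

theorem commE8_0_194 : commCheck chevE8 162 194 = true := by
  decide +kernel

theorem commE8_0_195 : commCheck chevE8 162 195 = true := by
  decide +kernel

theorem commE8_0_196 : commCheck chevE8 162 196 = true := by
  decide +kernel

theorem commE8_0_197 : commCheck chevE8 162 197 = true := by
  decide +kernel

theorem commE8_0_198 : commCheck chevE8 162 198 = true := by
  decide +kernel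

theorem commE8_0_199 : commCheck chevE8 162 199 = true := by
  decide +kernel

theorem commE8_0_200 : commCheck chevE8 162 200 = true := by
  decide +kernel

theorem commE8_0_201 : commCheck chevE8 162 201 = true := by
  decide +kernel

theorem commE8_0_202 : commCheck chevE8 162 202 = true := by
  decide +kernel

theorem commE8_0_203 : commCheck chevE8 162 203 = true := by
  decide +kernel

theorem commE8_0_204 : commCheck chevE8 162 204 = true := by
  decide +kernel

theorem commE8_0_205 : commCheck chevE8 162 205 = true := by
  decide +kernel

theorem commE8_0_206 : commCheck chevE8 162 206 = true := by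
  decide +kernel

theorem commE8_0_207 : commCheck chevE8 162 207 = true := by
  decide +kernel

theorem commE8_0_208 : commCheck chevE8 162 208 = true := by
  decide +kernel

theorem commE8_0_209 : commCheck chevE8 162 209 = true := by
  decide +kernel

theorem commE8_0_from180 (s : ℕ) (h1 : 180 ≤ s) (h2 : s < 210) : commCheck chevE8 162 s = true := by
  have h : s = 180 ∨ s = 181 ∨ s = 182 ∨ s = 183 ∨ s = 184 ∨ s = 185 ∨ s = 186 ∨ s = 187 ∨ s = 188 ∨ s = 189 ∨ s = 190 ∨ s = 191 ∨ s = 192 ∨ s = 193 ∨ s = 194 ∨ s = 195 ∨ s = 196 ∨ s = 197 ∨ s = 198 ∨ s = 199 ∨ s = 200 ∨ s = 201 ∨ s = 202 ∨ s = 203 ∨ s = 204 ∨ s = 205 ∨ s = 206 ∨ s = 207 ∨ s = 208 ∨ s = 209 := by omega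
  rcases h with rfl | rfl | rfl | rfl | rfl | rfl | rfl | rfl | rfl | rfl | rfl | rfl | rfl | rfl | rfl | rfl | rfl | rfl | rfl | rfl | rfl | rfl | rfl | rfl | rfl | rfl | rfl | rfl | rfl | rfl
  exacts [commE8_0_180, commE8_0_181, commE8_0_182, commE8_0_183, commE8_0_184, commE8_0_185, commE8_0_186, commE8_0_187, commE8_0_188, commE8_0_189, commE8_0_190, commE8_0_191, commE8_0_192, commE8_0_193, commE8_0_194, commE8_0_195, commE8_0_196, commE8_0_197, commE8_0_198, commE8_0_199, commE8_0_200, commE8_0_201, commE8_0_202, commE8_0_203, commE8_0_204, commE8_0_205, commE8_0_206, commE8_0_207, commE8_0_208, commE8_0_209]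

theorem commE8_0_210 : commCheck chevE8 162 210 = true := by
  decide +kernel

theorem commE8_0_211 : commCheck chevE8 162 211 = true := by
  decide +kernel

theorem commE8_0_212 : commCheck chevE8 162 212 = true := by
  decide +kernel

theorem commE8_0_213 : commCheck chevE8 162 213 = true := by
  decide +kernel

theorem commE8_0_214 : commCheck chevE8 162 214 = true := by
  decide +kernel

theorem commE8_0_215 : commCheck chevE8 162 215 = true := by
  decide +kernel

theorem commE8_0_216 : commCheck chevE8 162 216 = true := by
  decide +kernel

theorem commE8_0_217 : commCheck chevE8 162 217 = true := by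
  decide +kernel

theorem commE8_0_218 : commCheck chevE8 162 218 = true := by
  decide +kernel

theorem commE8_0_219 : commCheck chevE8 162 219 = true := by
  decide +kernel

theorem commE8_0_220 : commCheck chevE8 162 220 = true := by
  decide +kernel

theorem commE8_0_221 : commCheck chevE8 162 221 = true := by
  decide +kernel

theorem commE8_0_222 : commCheck chevE8 162 222 = true := by
  decide +kernel

theorem commE8_0_223 : commCheck chevE8 162 223 = true := by
  decide +kernel

theorem commE8_0_224 : commCheck chevE8 162 224 = true := by
  decide +kernel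

theorem commE8_0_225 : commCheck chevE8 162 225 = true := by
  decide +kernel

theorem commE8_0_226 : commCheck chevE8 162 226 = true := by
  decide +kernel

theorem commE8_0_227 : commCheck chevE8 162 227 = true := by
  decide +kernel

theorem commE8_0_228 : commCheck chevE8 162 228 = true := by
  decide +kernel

theorem commE8_0_229 : commCheck chevE8 162 229 = true := by
  decide +kernel

theorem commE8_0_230 : commCheck chevE8 162 230 = true := by
  decide +kernel

theorem commE8_0_231 : commCheck chevE8 162 231 = true := by
  decide +kernel

theorem commE8_0_232 : commCheck chevE8 162 232 = true := by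
  decide +kernel

theorem commE8_0_233 : commCheck chevE8 162 233 = true := by
  decide +kernel

theorem commE8_0_234 : commCheck chevE8 162 234 = true := by
  decide +kernel

theorem commE8_0_235 : commCheck chevE8 162 235 = true := by
  decide +kernel

theorem commE8_0_236 : commCheck chevE8 162 236 = true := by
  decide +kernel

theorem commE8_0_237 : commCheck chevE8 162 237 = true := by
  decide +kernel

theorem commE8_0_238 : commCheck chevE8 162 238 = true := by
  decide +kernel

theorem commE8_0_239 : commCheck chevE8 162 239 = true := by
  decide +kernel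

theorem commE8_0_from210 (s : ℕ) (h1 : 210 ≤ s) (h2 : s < 240) : commCheck chevE8 162 s = true := by
  have h : s = 210 ∨ s = 211 ∨ s = 212 ∨ s = 213 ∨ s = 214 ∨ s = 215 ∨ s = 216 ∨ s = 217 ∨ s = 218 ∨ s = 219 ∨ s = 220 ∨ s = 221 ∨ s = 222 ∨ s = 223 ∨ s = 224 ∨ s = 225 ∨ s = 226 ∨ s = 227 ∨ s = 228 ∨ s = 229 ∨ s = 230 ∨ s = 231 ∨ s = 232 ∨ s = 233 ∨ s = 234 ∨ s = 235 ∨ s = 236 ∨ s = 237 ∨ s = 238 ∨ s = 239 := by omega
  rcases h with rfl | rfl | rfl | rfl | rfl | rfl | rfl | rfl | rfl | rfl | rfl | rfl | rfl | rfl | rfl | rfl | rfl | rfl | rfl | rfl | rfl | rfl | rfl | rfl | rfl | rfl | rfl | rfl | rfl | rfl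
  exacts [commE8_0_210, commE8_0_211, commE8_0_212, commE8_0_213, commE8_0_214, commE8_0_215, commE8_0_216, commE8_0_217, commE8_0_218, commE8_0_219, commE8_0_220, commE8_0_221, commE8_0_222, commE8_0_223, commE8_0_224, commE8_0_225, commE8_0_226, commE8_0_227, commE8_0_228, commE8_0_229, commE8_0_230, commE8_0_231, commE8_0_232, commE8_0_233, commE8_0_234, commE8_0_235, commE8_0_236, commE8_0_237, commE8_0_238, commE8_0_239]

end Cfsg.Agent.Helper18
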