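import Cfsg.Agent.Lib.Helper18.ChevComm
import Cfsg.Prelude.Def_LieTypes
import Cfsg.Prelude.Def_ChevB2

set_option autoImplicit false
set_option maxRecDepth 100000
set_option Elab.async false

namespace Cfsg.Agent.Helper18

open Cfsg.Lie

theorem commE8_1_180 : commCheck chevE8 141 180 = true := by
  decide +kernel

theorem commE8_1_181 : commCheck chevE8 141 181 = true := by
  decide +kernel

theorem commE8_1_182 : commCheck chevE8 141 182 = true := by
  decide +kernel

theorem commE8_1_183 : commCheck chevE8 141 183 = true := by
  decide +kernel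

theorem commE8_1_184 : commCheck chevE8 141 184 = true := by
  decide +kernel

theorem commE8_1_185 : commCheck chevE8 141 185 = true := by
  decide +kernel

theorem commE8_1_186 : commCheck chevE8 141 186 = true := by
  decide +kernel

theorem commE8_1_187 : commCheck chevE8 141 187 = true := by
  decide +kernel

theorem commE8_1_188 : commCheck chevE8 141 188 = true := by
  decide +kernel

theorem commE8_1_189 : commCheck chevE8 141 189 = true := by
  decide +kernel

theorem commE8_1_190 : commCheck chevE8 141 190 = true := by
  decide +kernel

theorem commE8_1_191 : commCheck chevE8 141 191 = true := by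
  decide +kernel

theorem commE8_1_192 : commCheck chevE8 141 192 = true := by
  decide +kernel

theorem commE8_1_193 : commCheck chevE8 141 193 = true := by
  decide +kernel

theorem commE8_1_194 : commCheck chevE8 141 194 = true := by
  decide +kernel

theorem commE8_1_195 : commCheck chevE8 141 195 = true := by
  decide +kernel

theorem commE8_1_196 : commCheck chevE8 141 196 = true := by
  decide +kernel

theorem commE8_1_197 : commCheck chevE8 141 197 = true := by
  decide +kernel

theorem commE8_1_198 : commCheck chevE8 141 198 = true := by
  decide +kernel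

theorem commE8_1_199 : commCheck chevE8 141 199 = true := by
  decide +kernel

theorem commE8_1_200 : commCheck chevE8 141 200 = true := by
  decide +kernel

theorem commE8_1_201 : commCheck chevE8 141 201 = true := by
  decide +kernel

theorem commE8_1_202 : commCheck chevE8 141 202 = true := by
  decide +kernel

theorem commE8_1_203 : commCheck chevE8 141 203 = true := by
  decide +kernel

theorem commE8_1_204 : commCheck chevE8 141 204 = true := by
  decide +kernel

theorem commE8_1_205 : commCheck chevE8 141 205 = true := by
  decide +kernel

theorem commE8_1_206 : commCheck chevE8 141 206 = true := by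
  decide +kernel

theorem commE8_1_207 : commCheck chevE8 141 207 = true := by
  decide +kernel

theorem commE8_1_208 : commCheck chevE8 141 208 = true := by
  decide +kernel

theorem commE8_1_209 : commCheck chevE8 141 209 = true := by
  decide +kernel

theorem commE8_1_from180 (s : ℕ) (h1 : 180 ≤ s) (h2 : s < 210) : commCheck chevE8 141 s = true := by
  have h : s = 180 ∨ s = 181 ∨ s = 182 ∨ s = 183 ∨ s = 184 ∨ s = 185 ∨ s = 186 ∨ s = 187 ∨ s = 188 ∨ s = 189 ∨ s = 190 ∨ s = 191 ∨ s = 192 ∨ s = 193 ∨ s = 194 ∨ s = 195 ∨ s = 196 ∨ s = 197 ∨ s = 198 ∨ s = 199 ∨ s = 200 ∨ s = 201 ∨ s = 202 ∨ s = 203 ∨ s = 204 ∨ s = 205 ∨ s = 206 ∨ s = 207 ∨ s = 208 ∨ s = 209 := by omega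
  rcases h with rfl | rfl | rfl | rfl | rfl | rfl | rfl | rfl | rfl | rfl | rfl | rfl | rfl | rfl | rfl | rfl | rfl | rfl | rfl | rfl | rfl | rfl | rfl | rfl | rfl | rfl | rfl | rfl | rfl | rfl
  exacts [commE8_1_180, commE8_1_181, commE8_1_182, commE8_1_183, commE8_1_184, commE8_1_185, commE8_1_186, commE8_1_187, commE8_1_188, commE8_1_189, commE8_1_190, commE8_1_191, commE8_1_192, commE8_1_193, commE8_1_194, commE8_1_195, commE8_1_196, commE8_1_197, commE8_1_198, commE8_1_199, commE8_1_200, commE8_1_201, commE8_1_202, commE8_1_203, commE8_1_204, commE8_1_205, commE8_1_206, commE8_1_207, commE8_1_208, commE8_1_209]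

theorem commE8_1_210 : commCheck chevE8 141 210 = true := by
  decide +kernel

theorem commE8_1_211 : commCheck chevE8 141 211 = true := by
  decide +kernel

theorem commE8_1_212 : commCheck chevE8 141 212 = true := by
  decide +kernel

theorem commE8_1_213 : commCheck chevE8 141 213 = true := by
  decide +kernel

theorem commE8_1_214 : commCheck chevE8 141 214 = true := by
  decide +kernel

theorem commE8_1_215 : commCheck chevE8 141 215 = true := by
  decide +kernel

theorem commE8_1_216 : commCheck chevE8 141 216 = true := by
  decide +kernel

theorem commE8_1_217 : commCheck chevE8 141 217 = true := by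
  decide +kernel

theorem commE8_1_218 : commCheck chevE8 141 218 = true := by
  decide +kernel

theorem commE8_1_219 : commCheck chevE8 141 219 = true := by
  decide +kernel

theorem commE8_1_220 : commCheck chevE8 141 220 = true := by
  decide +kernel

theorem commE8_1_221 : commCheck chevE8 141 221 = true := by
  decide +kernel

theorem commE8_1_222 : commCheck chevE8 141 222 = true := by
  decide +kernel

theorem commE8_1_223 : commCheck chevE8 141 223 = true := by
  decide +kernel

theorem commE8_1_224 : commCheck chevE8 141 224 = true := by
  decide +kernel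

theorem commE8_1_225 : commCheck chevE8 141 225 = true := by
  decide +kernel

theorem commE8_1_226 : commCheck chevE8 141 226 = true := by
  decide +kernel

theorem commE8_1_227 : commCheck chevE8 141 227 = true := by
  decide +kernel

theorem commE8_1_228 : commCheck chevE8 141 228 = true := by
  decide +kernel

theorem commE8_1_229 : commCheck chevE8 141 229 = true := by
  decide +kernel

theorem commE8_1_230 : commCheck chevE8 141 230 = true := by
  decide +kernel

theorem commE8_1_231 : commCheck chevE8 141 231 = true := by
  decide +kernel

theorem commE8_1_232 : commCheck chevE8 141 232 = true := by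
  decide +kernel

theorem commE8_1_233 : commCheck chevE8 141 233 = true := by
  decide +kernel

theorem commE8_1_234 : commCheck chevE8 141 234 = true := by
  decide +kernel

theorem commE8_1_235 : commCheck chevE8 141 235 = true := by
  decide +kernel

theorem commE8_1_236 : commCheck chevE8 141 236 = true := by
  decide +kernel

theorem commE8_1_237 : commCheck chevE8 141 237 = true := by
  decide +kernel

theorem commE8_1_238 : commCheck chevE8 141 238 = true := by
  decide +kernel

theorem commE8_1_239 : commCheck chevE8 141 239 = true := by
  decide +kernel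

theorem commE8_1_from210 (s : ℕ) (h1 : 210 ≤ s) (h2 : s < 240) : commCheck chevE8 141 s = true := by
  have h : s = 210 ∨ s = 211 ∨ s = 212 ∨ s = 213 ∨ s = 214 ∨ s = 215 ∨ s = 216 ∨ s = 217 ∨ s = 218 ∨ s = 219 ∨ s = 220 ∨ s = 221 ∨ s = 222 ∨ s = 223 ∨ s = 224 ∨ s = 225 ∨ s = 226 ∨ s = 227 ∨ s = 228 ∨ s = 229 ∨ s = 230 ∨ s = 231 ∨ s = 232 ∨ s = 233 ∨ s = 234 ∨ s = 235 ∨ s = 236 ∨ s = 237 ∨ s = 238 ∨ s = 239 := by omega
  rcases h with rfl | rfl | rfl | rfl | rfl | rfl | rfl | rfl | rfl | rfl | rfl | rfl | rfl | rfl | rfl | rfl | rfl | rfl | rfl | rfl | rfl | rfl | rfl | rfl | rfl | rfl | rfl | rfl | rfl | rfl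
  exacts [commE8_1_210, commE8_1_211, commE8_1_212, commE8_1_213, commE8_1_214, commE8_1_215, commE8_1_216, commE8_1_217, commE8_1_218, commE8_1_219, commE8_1_220, commE8_1_221, commE8_1_222, commE8_1_223, commE8_1_224, commE8_1_225, commE8_1_226, commE8_1_227, commE8_1_228, commE8_1_229, commE8_1_230, commE8_1_231, commE8_1_232, commE8_1_233, commE8_1_234, commE8_1_235, commE8_1_236, commE8_1_237, commE8_1_238, commE8_1_239]

end Cfsg.Agent.Helper18
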