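import Cfsg.Agent.Lib.Helper18.ChevComm
import Cfsg.Prelude.Def_LieTypes
import Cfsg.Prelude.Def_ChevB2

set_option autoImplicit false
set_option maxRecDepth 100000
set_option Elab.async false

namespace Cfsg.Agent.Helper18

open Cfsg.Lie

theorem commE8_2_120 : commCheck chevE8 135 120 = true := by
  decide +kernel

theorem commE8_2_121 : commCheck chevE8 135 121 = true := by
  decide +kernel

theorem commE8_2_122 : commCheck chevE8 135 122 = true := by
  decide +kernel

theorem commE8_2_123 : commCheck chevE8 135 123 = true := by
  decide +kernel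

theorem commE8_2_124 : commCheck chevE8 135 124 = true := by
  decide +kernel

theorem commE8_2_125 : commCheck chevE8 135 125 = true := by
  decide +kernel

theorem commE8_2_126 : commCheck chevE8 135 126 = true := by
  decide +kernel

theorem commE8_2_127 : commCheck chevE8 135 127 = true := by
  decide +kernel

theorem commE8_2_128 : commCheck chevE8 135 128 = true := by
  decide +kernel

theorem commE8_2_129 : commCheck chevE8 135 129 = true := by
  decide +kernel

theorem commE8_2_130 : commCheck chevE8 135 130 = true := by
  decide +kernel

theorem commE8_2_131 : commCheck chevE8 135 131 = true := by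
  decide +kernel

theorem commE8_2_132 : commCheck chevE8 135 132 = true := by
  decide +kernel

theorem commE8_2_133 : commCheck chevE8 135 133 = true := by
  decide +kernel

theorem commE8_2_134 : commCheck chevE8 135 134 = true := by
  decide +kernel

theorem commE8_2_135 : commCheck chevE8 135 135 = true := by
  decide +kernel

theorem commE8_2_136 : commCheck chevE8 135 136 = true := by
  decide +kernel

theorem commE8_2_137 : commCheck chevE8 135 137 = true := by
  decide +kernel

theorem commE8_2_138 : commCheck chevE8 135 138 = true := by
  decide +kernel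

theorem commE8_2_139 : commCheck chevE8 135 139 = true := by
  decide +kernel

theorem commE8_2_140 : commCheck chevE8 135 140 = true := by
  decide +kernel

theorem commE8_2_141 : commCheck chevE8 135 141 = true := by
  decide +kernel

theorem commE8_2_142 : commCheck chevE8 135 142 = true := by
  decide +kernel

theorem commE8_2_143 : commCheck chevE8 135 143 = true := by
  decide +kernel

theorem commE8_2_144 : commCheck chevE8 135 144 = true := by
  decide +kernel

theorem commE8_2_145 : commCheck chevE8 135 145 = true := by
  decide +kernel

theorem commE8_2_146 : commCheck chevE8 135 146 = true := by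
  decide +kernel

theorem commE8_2_147 : commCheck chevE8 135 147 = true := by
  decide +kernel

theorem commE8_2_148 : commCheck chevE8 135 148 = true := by
  decide +kernel

theorem commE8_2_149 : commCheck chevE8 135 149 = true := by
  decide +kernel

theorem commE8_2_from120 (s : ℕ) (h1 : 120 ≤ s) (h2 : s < 150) : commCheck chevE8 135 s = true := by
  have h : s = 120 ∨ s = 121 ∨ s = 122 ∨ s = 123 ∨ s = 124 ∨ s = 125 ∨ s = 126 ∨ s = 127 ∨ s = 128 ∨ s = 129 ∨ s = 130 ∨ s = 131 ∨ s = 132 ∨ s = 133 ∨ s = 134 ∨ s = 135 ∨ s = 136 ∨ s = 137 ∨ s = 138 ∨ s = 139 ∨ s = 140 ∨ s = 141 ∨ s = 142 ∨ s = 143 ∨ s = 144 ∨ s = 145 ∨ s = 146 ∨ s = 147 ∨ s = 148 ∨ s = 149 := by omega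
  rcases h with rfl | rfl | rfl | rfl | rfl | rfl | rfl | rfl | rfl | rfl | rfl | rfl | rfl | rfl | rfl | rfl | rfl | rfl | rfl | rfl | rfl | rfl | rfl | rfl | rfl | rfl | rfl | rfl | rfl | rfl
  exacts [commE8_2_120, commE8_2_121, commE8_2_122, commE8_2_123, commE8_2_124, commE8_2_125, commE8_2_126, commE8_2_127, commE8_2_128, commE8_2_129, commE8_2_130, commE8_2_131, commE8_2_132, commE8_2_133, commE8_2_134, commE8_2_135, commE8_2_136, commE8_2_137, commE8_2_138, commE8_2_139, commE8_2_140, commE8_2_141, commE8_2_142, commE8_2_143, commE8_2_144, commE8_2_145, commE8_2_146, commE8_2_147, commE8_2_148, commE8_2_149]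

theorem commE8_2_150 : commCheck chevE8 135 150 = true := by
  decide +kernel

theorem commE8_2_151 : commCheck chevE8 135 151 = true := by
  decide +kernel

theorem commE8_2_152 : commCheck chevE8 135 152 = true := by
  decide +kernel

theorem commE8_2_153 : commCheck chevE8 135 153 = true := by
  decide +kernel

theorem commE8_2_154 : commCheck chevE8 135 154 = true := by
  decide +kernel

theorem commE8_2_155 : commCheck chevE8 135 155 = true := by
  decide +kernel

theorem commE8_2_156 : commCheck chevE8 135 156 = true := by
  decide +kernel

theorem commE8_2_157 : commCheck chevE8 135 157 = true := by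
  decide +kernel

theorem commE8_2_158 : commCheck chevE8 135 158 = true := by
  decide +kernel

theorem commE8_2_159 : commCheck chevE8 135 159 = true := by
  decide +kernel

theorem commE8_2_160 : commCheck chevE8 135 160 = true := by
  decide +kernel

theorem commE8_2_161 : commCheck chevE8 135 161 = true := by
  decide +kernel

theorem commE8_2_162 : commCheck chevE8 135 162 = true := by
  decide +kernel

theorem commE8_2_163 : commCheck chevE8 135 163 = true := by
  decide +kernel

theorem commE8_2_164 : commCheck chevE8 135 164 = true := by
  decide +kernel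

theorem commE8_2_165 : commCheck chevE8 135 165 = true := by
  decide +kernel

theorem commE8_2_166 : commCheck chevE8 135 166 = true := by
  decide +kernel

theorem commE8_2_167 : commCheck chevE8 135 167 = true := by
  decide +kernel

theorem commE8_2_168 : commCheck chevE8 135 168 = true := by
  decide +kernel

theorem commE8_2_169 : commCheck chevE8 135 169 = true := by
  decide +kernel

theorem commE8_2_170 : commCheck chevE8 135 170 = true := by
  decide +kernel

theorem commE8_2_171 : commCheck chevE8 135 171 = true := by
  decide +kernel

theorem commE8_2_172 : commCheck chevE8 135 172 = true := by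
  decide +kernel

theorem commE8_2_173 : commCheck chevE8 135 173 = true := by
  decide +kernel

theorem commE8_2_174 : commCheck chevE8 135 174 = true := by
  decide +kernel

theorem commE8_2_175 : commCheck chevE8 135 175 = true := by
  decide +kernel

theorem commE8_2_176 : commCheck chevE8 135 176 = true := by
  decide +kernel

theorem commE8_2_177 : commCheck chevE8 135 177 = true := by
  decide +kernel

theorem commE8_2_178 : commCheck chevE8 135 178 = true := by
  decide +kernel

theorem commE8_2_179 : commCheck chevE8 135 179 = true := by
  decide +kernel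

theorem commE8_2_from150 (s : ℕ) (h1 : 150 ≤ s) (h2 : s < 180) : commCheck chevE8 135 s = true := by
  have h : s = 150 ∨ s = 151 ∨ s = 152 ∨ s = 153 ∨ s = 154 ∨ s = 155 ∨ s = 156 ∨ s = 157 ∨ s = 158 ∨ s = 159 ∨ s = 160 ∨ s = 161 ∨ s = 162 ∨ s = 163 ∨ s = 164 ∨ s = 165 ∨ s = 166 ∨ s = 167 ∨ s = 168 ∨ s = 169 ∨ s = 170 ∨ s = 171 ∨ s = 172 ∨ s = 173 ∨ s = 174 ∨ s = 175 ∨ s = 176 ∨ s = 177 ∨ s = 178 ∨ s = 179 := by omega
  rcases h with rfl | rfl | rfl | rfl | rfl | rfl | rfl | rfl | rfl | rfl | rfl | rfl | rfl | rfl | rfl | rfl | rfl | rfl | rfl | rfl | rfl | rfl | rfl | rfl | rfl | rfl | rfl | rfl | rfl | rfl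
  exacts [commE8_2_150, commE8_2_151, commE8_2_152, commE8_2_153, commE8_2_154, commE8_2_155, commE8_2_156, commE8_2_157, commE8_2_158, commE8_2_159, commE8_2_160, commE8_2_161, commE8_2_162, commE8_2_163, commE8_2_164, commE8_2_165, commE8_2_166, commE8_2_167, commE8_2_168, commE8_2_169, commE8_2_170, commE8_2_171, commE8_2_172, commE8_2_173, commE8_2_174, commE8_2_175, commE8_2_176, commE8_2_177, commE8_2_178, commE8_2_179]

end Cfsg.Agent.Helper18
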