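import Cfsg.Agent.Lib.Helper18.ChevComm
import Cfsg.Prelude.Def_LieTypes
import Cfsg.Prelude.Def_ChevB2

set_option autoImplicit false
set_option maxRecDepth 100000
set_option Elab.async false

namespace Cfsg.Agent.Helper18

open Cfsg.Lie

theorem commE8_2_180 : commCheck chevE8 135 180 = true := by
  decide +kernel

theorem commE8_2_181 : commCheck chevE8 135 181 = true := by
  decide +kernel

theorem commE8_2_182 : commCheck chevE8 135 182 = true := by
  decide +kernel

theorem commE8_2_183 : commCheck chevE8 135 183 = true := by
  decide +kernel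

theorem commE8_2_184 : commCheck chevE8 135 184 = true := by
  decide +kernel

theorem commE8_2_185 : commCheck chevE8 135 185 = true := by
  decide +kernel

theorem commE8_2_186 : commCheck chevE8 135 186 = true := by
  decide +kernel

theorem commE8_2_187 : commCheck chevE8 135 187 = true := by
  decide +kernel

theorem commE8_2_188 : commCheck chevE8 135 188 = true := by
  decide +kernel

theorem commE8_2_189 : commCheck chevE8 135 189 = true := by
  decide +kernel

theorem commE8_2_190 : commCheck chevE8 135 190 = true := by
  decide +kernel

theorem commE8_2_191 : commCheck chevE8 135 191 = true := by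
  decide +kernel

theorem commE8_2_192 : commCheck chevE8 135 192 = true := by
  decide +kernel

theorem commE8_2_193 : commCheck chevE8 135 193 = true := by
  decide +kernel

theorem commE8_2_194 : commCheck chevE8 135 194 = true := by
  decide +kernel

theorem commE8_2_195 : commCheck chevE8 135 195 = true := by
  decide +kernel

theorem commE8_2_196 : commCheck chevE8 135 196 = true := by
  decide +kernel

theorem commE8_2_197 : commCheck chevE8 135 197 = true := by
  decide +kernel

theorem commE8_2_198 : commCheck chevE8 135 198 = true := by
  decide +kernel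

theorem commE8_2_199 : commCheck chevE8 135 199 = true := by
  decide +kernel

theorem commE8_2_200 : commCheck chevE8 135 200 = true := by
  decide +kernel

theorem commE8_2_201 : commCheck chevE8 135 201 = true := by
  decide +kernel

theorem commE8_2_202 : commCheck chevE8 135 202 = true := by
  decide +kernel

theorem commE8_2_203 : commCheck chevE8 135 203 = true := by
  decide +kernel

theorem commE8_2_204 : commCheck chevE8 135 204 = true := by
  decide +kernel

theorem commE8_2_205 : commCheck chevE8 135 205 = true := by
  decide +kernel

theorem commE8_2_206 : commCheck chevE8 135 206 = true := by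
  decide +kernel

theorem commE8_2_207 : commCheck chevE8 135 207 = true := by
  decide +kernel

theorem commE8_2_208 : commCheck chevE8 135 208 = true := by
  decide +kernel

theorem commE8_2_209 : commCheck chevE8 135 209 = true := by
  decide +kernel

theorem commE8_2_from180 (s : ℕ) (h1 : 180 ≤ s) (h2 : s < 210) : commCheck chevE8 135 s = true := by
  have h : s = 180 ∨ s = 181 ∨ s = 182 ∨ s = 183 ∨ s = 184 ∨ s = 185 ∨ s = 186 ∨ s = 187 ∨ s = 188 ∨ s = 189 ∨ s = 190 ∨ s = 191 ∨ s = 192 ∨ s = 193 ∨ s = 194 ∨ s = 195 ∨ s = 196 ∨ s = 197 ∨ s = 198 ∨ s = 199 ∨ s = 200 ∨ s = 201 ∨ s = 202 ∨ s = 203 ∨ s = 204 ∨ s = 205 ∨ s = 206 ∨ s = 207 ∨ s = 208 ∨ s = 209 := by omega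
  rcases h with rfl | rfl | rfl | rfl | rfl | rfl | rfl | rfl | rfl | rfl | rfl | rfl | rfl | rfl | rfl | rfl | rfl | rfl | rfl | rfl | rfl | rfl | rfl | rfl | rfl | rfl | rfl | rfl | rfl | rfl
  exacts [commE8_2_180, commE8_2_181, commE8_2_182, commE8_2_183, commE8_2_184, commE8_2_185, commE8_2_186, commE8_2_187, commE8_2_188, commE8_2_189, commE8_2_190, commE8_2_191, commE8_2_192, commE8_2_193, commE8_2_194, commE8_2_195, commE8_2_196, commE8_2_197, commE8_2_198, commE8_2_199, commE8_2_200, commE8_2_201, commE8_2_202, commE8_2_203, commE8_2_204, commE8_2_205, commE8_2_206, commE8_2_207, commE8_2_208, commE8_2_209]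

theorem commE8_2_210 : commCheck chevE8 135 210 = true := by
  decide +kernel

theorem commE8_2_211 : commCheck chevE8 135 211 = true := by
  decide +kernel

theorem commE8_2_212 : commCheck chevE8 135 212 = true := by
  decide +kernel

theorem commE8_2_213 : commCheck chevE8 135 213 = true := by
  decide +kernel

theorem commE8_2_214 : commCheck chevE8 135 214 = true := by
  decide +kernel

theorem commE8_2_215 : commCheck chevE8 135 215 = true := by
  decide +kernel

theorem commE8_2_216 : commCheck chevE8 135 216 = true := by
  decide +kernel

theorem commE8_2_217 : commCheck chevE8 135 217 = true := by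
  decide +kernel

theorem commE8_2_218 : commCheck chevE8 135 218 = true := by
  decide +kernel

theorem commE8_2_219 : commCheck chevE8 135 219 = true := by
  decide +kernel

theorem commE8_2_220 : commCheck chevE8 135 220 = true := by
  decide +kernel

theorem commE8_2_221 : commCheck chevE8 135 221 = true := by
  decide +kernel

theorem commE8_2_222 : commCheck chevE8 135 222 = true := by
  decide +kernel

theorem commE8_2_223 : commCheck chevE8 135 223 = true := by
  decide +kernel

theorem commE8_2_224 : commCheck chevE8 135 224 = true := by
  decide +kernel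

theorem commE8_2_225 : commCheck chevE8 135 225 = true := by
  decide +kernel

theorem commE8_2_226 : commCheck chevE8 135 226 = true := by
  decide +kernel

theorem commE8_2_227 : commCheck chevE8 135 227 = true := by
  decide +kernel

theorem commE8_2_228 : commCheck chevE8 135 228 = true := by
  decide +kernel

theorem commE8_2_229 : commCheck chevE8 135 229 = true := by
  decide +kernel

theorem commE8_2_230 : commCheck chevE8 135 230 = true := by
  decide +kernel

theorem commE8_2_231 : commCheck chevE8 135 231 = true := by
  decide +kernel

theorem commE8_2_232 : commCheck chevE8 135 232 = true := by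
  decide +kernel

theorem commE8_2_233 : commCheck chevE8 135 233 = true := by
  decide +kernel

theorem commE8_2_234 : commCheck chevE8 135 234 = true := by
  decide +kernel

theorem commE8_2_235 : commCheck chevE8 135 235 = true := by
  decide +kernel

theorem commE8_2_236 : commCheck chevE8 135 236 = true := by
  decide +kernel

theorem commE8_2_237 : commCheck chevE8 135 237 = true := by
  decide +kernel

theorem commE8_2_238 : commCheck chevE8 135 238 = true := by
  decide +kernel

theorem commE8_2_239 : commCheck chevE8 135 239 = true := by
  decide +kernel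

theorem commE8_2_from210 (s : ℕ) (h1 : 210 ≤ s) (h2 : s < 240) : commCheck chevE8 135 s = true := by
  have h : s = 210 ∨ s = 211 ∨ s = 212 ∨ s = 213 ∨ s = 214 ∨ s = 215 ∨ s = 216 ∨ s = 217 ∨ s = 218 ∨ s = 219 ∨ s = 220 ∨ s = 221 ∨ s = 222 ∨ s = 223 ∨ s = 224 ∨ s = 225 ∨ s = 226 ∨ s = 227 ∨ s = 228 ∨ s = 229 ∨ s = 230 ∨ s = 231 ∨ s = 232 ∨ s = 233 ∨ s = 234 ∨ s = 235 ∨ s = 236 ∨ s = 237 ∨ s = 238 ∨ s = 239 := by omega
  rcases h with rfl | rfl | rfl | rfl | rfl | rfl | rfl | rfl | rfl | rfl | rfl | rfl | rfl | rfl | rfl | rfl | rfl | rfl | rfl | rfl | rfl | rfl | rfl | rfl | rfl | rfl | rfl | rfl | rfl | rfl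
  exacts [commE8_2_210, commE8_2_211, commE8_2_212, commE8_2_213, commE8_2_214, commE8_2_215, commE8_2_216, commE8_2_217, commE8_2_218, commE8_2_219, commE8_2_220, commE8_2_221, commE8_2_222, commE8_2_223, commE8_2_224, commE8_2_225, commE8_2_226, commE8_2_227, commE8_2_228, commE8_2_229, commE8_2_230, commE8_2_231, commE8_2_232, commE8_2_233, commE8_2_234, commE8_2_235, commE8_2_236, commE8_2_237, commE8_2_238, commE8_2_239]

end Cfsg.Agent.Helper18
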