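import Cfsg.Agent.Lib.Helper18.ChevComm
import Cfsg.Prelude.Def_LieTypes
import Cfsg.Prelude.Def_ChevB2

set_option autoImplicit false
set_option maxRecDepth 100000
set_option Elab.async false

namespace Cfsg.Agent.Helper18

open Cfsg.Lie

theorem commE8_3_120 : commCheck chevE8 130 120 = true := by
  decide +kernel

theorem commE8_3_121 : commCheck chevE8 130 121 = true := by
  decide +kernel

theorem commE8_3_122 : commCheck chevE8 130 122 = true := by
  decide +kernel

theorem commE8_3_123 : commCheck chevE8 130 123 = true := by
  decide +kernel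

theorem commE8_3_124 : commCheck chevE8 130 124 = true := by
  decide +kernel

theorem commE8_3_125 : commCheck chevE8 130 125 = true := by
  decide +kernel

theorem commE8_3_126 : commCheck chevE8 130 126 = true := by
  decide +kernel

theorem commE8_3_127 : commCheck chevE8 130 127 = true := by
  decide +kernel

theorem commE8_3_128 : commCheck chevE8 130 128 = true := by
  decide +kernel

theorem commE8_3_129 : commCheck chevE8 130 129 = true := by
  decide +kernel

theorem commE8_3_130 : commCheck chevE8 130 130 = true := by
  decide +kernel

theorem commE8_3_131 : commCheck chevE8 130 131 = true := by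
  decide +kernel

theorem commE8_3_132 : commCheck chevE8 130 132 = true := by
  decide +kernel

theorem commE8_3_133 : commCheck chevE8 130 133 = true := by
  decide +kernel

theorem commE8_3_134 : commCheck chevE8 130 134 = true := by
  decide +kernel

theorem commE8_3_135 : commCheck chevE8 130 135 = true := by
  decide +kernel

theorem commE8_3_136 : commCheck chevE8 130 136 = true := by
  decide +kernel

theorem commE8_3_137 : commCheck chevE8 130 137 = true := by
  decide +kernel

theorem commE8_3_138 : commCheck chevE8 130 138 = true := by
  decide +kernel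

theorem commE8_3_139 : commCheck chevE8 130 139 = true := by
  decide +kernel

theorem commE8_3_140 : commCheck chevE8 130 140 = true := by
  decide +kernel

theorem commE8_3_141 : commCheck chevE8 130 141 = true := by
  decide +kernel

theorem commE8_3_142 : commCheck chevE8 130 142 = true := by
  decide +kernel

theorem commE8_3_143 : commCheck chevE8 130 143 = true := by
  decide +kernel

theorem commE8_3_144 : commCheck chevE8 130 144 = true := by
  decide +kernel

theorem commE8_3_145 : commCheck chevE8 130 145 = true := by
  decide +kernel

theorem commE8_3_146 : commCheck chevE8 130 146 = true := by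
  decide +kernel

theorem commE8_3_147 : commCheck chevE8 130 147 = true := by
  decide +kernel

theorem commE8_3_148 : commCheck chevE8 130 148 = true := by
  decide +kernel

theorem commE8_3_149 : commCheck chevE8 130 149 = true := by
  decide +kernel

theorem commE8_3_from120 (s : ℕ) (h1 : 120 ≤ s) (h2 : s < 150) : commCheck chevE8 130 s = true := by
  have h : s = 120 ∨ s = 121 ∨ s = 122 ∨ s = 123 ∨ s = 124 ∨ s = 125 ∨ s = 126 ∨ s = 127 ∨ s = 128 ∨ s = 129 ∨ s = 130 ∨ s = 131 ∨ s = 132 ∨ s = 133 ∨ s = 134 ∨ s = 135 ∨ s = 136 ∨ s = 137 ∨ s = 138 ∨ s = 139 ∨ s = 140 ∨ s = 141 ∨ s = 142 ∨ s = 143 ∨ s = 144 ∨ s = 145 ∨ s = 146 ∨ s = 147 ∨ s = 148 ∨ s = 149 := by omega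
  rcases h with rfl | rfl | rfl | rfl | rfl | rfl | rfl | rfl | rfl | rfl | rfl | rfl | rfl | rfl | rfl | rfl | rfl | rfl | rfl | rfl | rfl | rfl | rfl | rfl | rfl | rfl | rfl | rfl | rfl | rfl
  exacts [commE8_3_120, commE8_3_121, commE8_3_122, commE8_3_123, commE8_3_124, commE8_3_125, commE8_3_126, commE8_3_127, commE8_3_128, commE8_3_129, commE8_3_130, commE8_3_131, commE8_3_132, commE8_3_133, commE8_3_134, commE8_3_135, commE8_3_136, commE8_3_137, commE8_3_138, commE8_3_139, commE8_3_140, commE8_3_141, commE8_3_142, commE8_3_143, commE8_3_144, commE8_3_145, commE8_3_146, commE8_3_147, commE8_3_148, commE8_3_149]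

theorem commE8_3_150 : commCheck chevE8 130 150 = true := by
  decide +kernel

theorem commE8_3_151 : commCheck chevE8 130 151 = true := by
  decide +kernel

theorem commE8_3_152 : commCheck chevE8 130 152 = true := by
  decide +kernel

theorem commE8_3_153 : commCheck chevE8 130 153 = true := by
  decide +kernel

theorem commE8_3_154 : commCheck chevE8 130 154 = true := by
  decide +kernel

theorem commE8_3_155 : commCheck chevE8 130 155 = true := by
  decide +kernel

theorem commE8_3_156 : commCheck chevE8 130 156 = true := by
  decide +kernel

theorem commE8_3_157 : commCheck chevE8 130 157 = true := by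
  decide +kernel

theorem commE8_3_158 : commCheck chevE8 130 158 = true := by
  decide +kernel

theorem commE8_3_159 : commCheck chevE8 130 159 = true := by
  decide +kernel

theorem commE8_3_160 : commCheck chevE8 130 160 = true := by
  decide +kernel

theorem commE8_3_161 : commCheck chevE8 130 161 = true := by
  decide +kernel

theorem commE8_3_162 : commCheck chevE8 130 162 = true := by
  decide +kernel

theorem commE8_3_163 : commCheck chevE8 130 163 = true := by
  decide +kernel

theorem commE8_3_164 : commCheck chevE8 130 164 = true := by
  decide +kernel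

theorem commE8_3_165 : commCheck chevE8 130 165 = true := by
  decide +kernel

theorem commE8_3_166 : commCheck chevE8 130 166 = true := by
  decide +kernel

theorem commE8_3_167 : commCheck chevE8 130 167 = true := by
  decide +kernel

theorem commE8_3_168 : commCheck chevE8 130 168 = true := by
  decide +kernel

theorem commE8_3_169 : commCheck chevE8 130 169 = true := by
  decide +kernel

theorem commE8_3_170 : commCheck chevE8 130 170 = true := by
  decide +kernel

theorem commE8_3_171 : commCheck chevE8 130 171 = true := by
  decide +kernel

theorem commE8_3_172 : commCheck chevE8 130 172 = true := by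
  decide +kernel

theorem commE8_3_173 : commCheck chevE8 130 173 = true := by
  decide +kernel

theorem commE8_3_174 : commCheck chevE8 130 174 = true := by
  decide +kernel

theorem commE8_3_175 : commCheck chevE8 130 175 = true := by
  decide +kernel

theorem commE8_3_176 : commCheck chevE8 130 176 = true := by
  decide +kernel

theorem commE8_3_177 : commCheck chevE8 130 177 = true := by
  decide +kernel

theorem commE8_3_178 : commCheck chevE8 130 178 = true := by
  decide +kernel

theorem commE8_3_179 : commCheck chevE8 130 179 = true := by
  decide +kernel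

theorem commE8_3_from150 (s : ℕ) (h1 : 150 ≤ s) (h2 : s < 180) : commCheck chevE8 130 s = true := by
  have h : s = 150 ∨ s = 151 ∨ s = 152 ∨ s = 153 ∨ s = 154 ∨ s = 155 ∨ s = 156 ∨ s = 157 ∨ s = 158 ∨ s = 159 ∨ s = 160 ∨ s = 161 ∨ s = 162 ∨ s = 163 ∨ s = 164 ∨ s = 165 ∨ s = 166 ∨ s = 167 ∨ s = 168 ∨ s = 169 ∨ s = 170 ∨ s = 171 ∨ s = 172 ∨ s = 173 ∨ s = 174 ∨ s = 175 ∨ s = 176 ∨ s = 177 ∨ s = 178 ∨ s = 179 := by omega
  rcases h with rfl | rfl | rfl | rfl | rfl | rfl | rfl | rfl | rfl | rfl | rfl | rfl | rfl | rfl | rfl | rfl | rfl | rfl | rfl | rfl | rfl | rfl | rfl | rfl | rfl | rfl | rfl | rfl | rfl | rfl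
  exacts [commE8_3_150, commE8_3_151, commE8_3_152, commE8_3_153, commE8_3_154, commE8_3_155, commE8_3_156, commE8_3_157, commE8_3_158, commE8_3_159, commE8_3_160, commE8_3_161, commE8_3_162, commE8_3_163, commE8_3_164, commE8_3_165, commE8_3_166, commE8_3_167, commE8_3_168, commE8_3_169, commE8_3_170, commE8_3_171, commE8_3_172, commE8_3_173, commE8_3_174, commE8_3_175, commE8_3_176, commE8_3_177, commE8_3_178, commE8_3_179]

end Cfsg.Agent.Helper18
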