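import Cfsg.Agent.Lib.Helper18.ChevComm
import Cfsg.Prelude.Def_LieTypes
import Cfsg.Prelude.Def_ChevB2

set_option autoImplicit false
set_option maxRecDepth 100000
set_option Elab.async false

namespace Cfsg.Agent.Helper18

open Cfsg.Lie

theorem commE8_3_180 : commCheck chevE8 130 180 = true := by
  decide +kernel

theorem commE8_3_181 : commCheck chevE8 130 181 = true := by
  decide +kernel

theorem commE8_3_182 : commCheck chevE8 130 182 = true := by
  decide +kernel

theorem commE8_3_183 : commCheck chevE8 130 183 = true := by
  decide +kernel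

theorem commE8_3_184 : commCheck chevE8 130 184 = true := by
  decide +kernel

theorem commE8_3_185 : commCheck chevE8 130 185 = true := by
  decide +kernel

theorem commE8_3_186 : commCheck chevE8 130 186 = true := by
  decide +kernel

theorem commE8_3_187 : commCheck chevE8 130 187 = true := by
  decide +kernel

theorem commE8_3_188 : commCheck chevE8 130 188 = true := by
  decide +kernel

theorem commE8_3_189 : commCheck chevE8 130 189 = true := by
  decide +kernel

theorem commE8_3_190 : commCheck chevE8 130 190 = true := by
  decide +kernel

theorem commE8_3_191 : commCheck chevE8 130 191 = true := by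
  decide +kernel

theorem commE8_3_192 : commCheck chevE8 130 192 = true := by
  decide +kernel

theorem commE8_3_193 : commCheck chevE8 130 193 = true := by
  decide +kernel

theorem commE8_3_194 : commCheck chevE8 130 194 = true := by
  decide +kernel

theorem commE8_3_195 : commCheck chevE8 130 195 = true := by
  decide +kernel

theorem commE8_3_196 : commCheck chevE8 130 196 = true := by
  decide +kernel

theorem commE8_3_197 : commCheck chevE8 130 197 = true := by
  decide +kernel

theorem commE8_3_198 : commCheck chevE8 130 198 = true := by
  decide +kernel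

theorem commE8_3_199 : commCheck chevE8 130 199 = true := by
  decide +kernel

theorem commE8_3_200 : commCheck chevE8 130 200 = true := by
  decide +kernel

theorem commE8_3_201 : commCheck chevE8 130 201 = true := by
  decide +kernel

theorem commE8_3_202 : commCheck chevE8 130 202 = true := by
  decide +kernel

theorem commE8_3_203 : commCheck chevE8 130 203 = true := by
  decide +kernel

theorem commE8_3_204 : commCheck chevE8 130 204 = true := by
  decide +kernel

theorem commE8_3_205 : commCheck chevE8 130 205 = true := by
  decide +kernel

theorem commE8_3_206 : commCheck chevE8 130 206 = true := by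
  decide +kernel

theorem commE8_3_207 : commCheck chevE8 130 207 = true := by
  decide +kernel

theorem commE8_3_208 : commCheck chevE8 130 208 = true := by
  decide +kernel

theorem commE8_3_209 : commCheck chevE8 130 209 = true := by
  decide +kernel

theorem commE8_3_from180 (s : ℕ) (h1 : 180 ≤ s) (h2 : s < 210) : commCheck chevE8 130 s = true := by
  have h : s = 180 ∨ s = 181 ∨ s = 182 ∨ s = 183 ∨ s = 184 ∨ s = 185 ∨ s = 186 ∨ s = 187 ∨ s = 188 ∨ s = 189 ∨ s = 190 ∨ s = 191 ∨ s = 192 ∨ s = 193 ∨ s = 194 ∨ s = 195 ∨ s = 196 ∨ s = 197 ∨ s = 198 ∨ s = 199 ∨ s = 200 ∨ s = 201 ∨ s = 202 ∨ s = 203 ∨ s = 204 ∨ s = 205 ∨ s = 206 ∨ s = 207 ∨ s = 208 ∨ s = 209 := by omega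
  rcases h with rfl | rfl | rfl | rfl | rfl | rfl | rfl | rfl | rfl | rfl | rfl | rfl | rfl | rfl | rfl | rfl | rfl | rfl | rfl | rfl | rfl | rfl | rfl | rfl | rfl | rfl | rfl | rfl | rfl | rfl
  exacts [commE8_3_180, commE8_3_181, commE8_3_182, commE8_3_183, commE8_3_184, commE8_3_185, commE8_3_186, commE8_3_187, commE8_3_188, commE8_3_189, commE8_3_190, commE8_3_191, commE8_3_192, commE8_3_193, commE8_3_194, commE8_3_195, commE8_3_196, commE8_3_197, commE8_3_198, commE8_3_199, commE8_3_200, commE8_3_201, commE8_3_202, commE8_3_203, commE8_3_204, commE8_3_205, commE8_3_206, commE8_3_207, commE8_3_208, commE8_3_209]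

theorem commE8_3_210 : commCheck chevE8 130 210 = true := by
  decide +kernel

theorem commE8_3_211 : commCheck chevE8 130 211 = true := by
  decide +kernel

theorem commE8_3_212 : commCheck chevE8 130 212 = true := by
  decide +kernel

theorem commE8_3_213 : commCheck chevE8 130 213 = true := by
  decide +kernel

theorem commE8_3_214 : commCheck chevE8 130 214 = true := by
  decide +kernel

theorem commE8_3_215 : commCheck chevE8 130 215 = true := by
  decide +kernel

theorem commE8_3_216 : commCheck chevE8 130 216 = true := by
  decide +kernel

theorem commE8_3_217 : commCheck chevE8 130 217 = true := by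
  decide +kernel

theorem commE8_3_218 : commCheck chevE8 130 218 = true := by
  decide +kernel

theorem commE8_3_219 : commCheck chevE8 130 219 = true := by
  decide +kernel

theorem commE8_3_220 : commCheck chevE8 130 220 = true := by
  decide +kernel

theorem commE8_3_221 : commCheck chevE8 130 221 = true := by
  decide +kernel

theorem commE8_3_222 : commCheck chevE8 130 222 = true := by
  decide +kernel

theorem commE8_3_223 : commCheck chevE8 130 223 = true := by
  decide +kernel

theorem commE8_3_224 : commCheck chevE8 130 224 = true := by
  decide +kernel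

theorem commE8_3_225 : commCheck chevE8 130 225 = true := by
  decide +kernel

theorem commE8_3_226 : commCheck chevE8 130 226 = true := by
  decide +kernel

theorem commE8_3_227 : commCheck chevE8 130 227 = true := by
  decide +kernel

theorem commE8_3_228 : commCheck chevE8 130 228 = true := by
  decide +kernel

theorem commE8_3_229 : commCheck chevE8 130 229 = true := by
  decide +kernel

theorem commE8_3_230 : commCheck chevE8 130 230 = true := by
  decide +kernel

theorem commE8_3_231 : commCheck chevE8 130 231 = true := by
  decide +kernel

theorem commE8_3_232 : commCheck chevE8 130 232 = true := by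
  decide +kernel

theorem commE8_3_233 : commCheck chevE8 130 233 = true := by
  decide +kernel

theorem commE8_3_234 : commCheck chevE8 130 234 = true := by
  decide +kernel

theorem commE8_3_235 : commCheck chevE8 130 235 = true := by
  decide +kernel

theorem commE8_3_236 : commCheck chevE8 130 236 = true := by
  decide +kernel

theorem commE8_3_237 : commCheck chevE8 130 237 = true := by
  decide +kernel

theorem commE8_3_238 : commCheck chevE8 130 238 = true := by
  decide +kernel

theorem commE8_3_239 : commCheck chevE8 130 239 = true := by
  decide +kernel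

theorem commE8_3_from210 (s : ℕ) (h1 : 210 ≤ s) (h2 : s < 240) : commCheck chevE8 130 s = true := by
  have h : s = 210 ∨ s = 211 ∨ s = 212 ∨ s = 213 ∨ s = 214 ∨ s = 215 ∨ s = 216 ∨ s = 217 ∨ s = 218 ∨ s = 219 ∨ s = 220 ∨ s = 221 ∨ s = 222 ∨ s = 223 ∨ s = 224 ∨ s = 225 ∨ s = 226 ∨ s = 227 ∨ s = 228 ∨ s = 229 ∨ s = 230 ∨ s = 231 ∨ s = 232 ∨ s = 233 ∨ s = 234 ∨ s = 235 ∨ s = 236 ∨ s = 237 ∨ s = 238 ∨ s = 239 := by omega
  rcases h with rfl | rfl | rfl | rfl | rfl | rfl | rfl | rfl | rfl | rfl | rfl | rfl | rfl | rfl | rfl | rfl | rfl | rfl | rfl | rfl | rfl | rfl | rfl | rfl | rfl | rfl | rfl | rfl | rfl | rfl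
  exacts [commE8_3_210, commE8_3_211, commE8_3_212, commE8_3_213, commE8_3_214, commE8_3_215, commE8_3_216, commE8_3_217, commE8_3_218, commE8_3_219, commE8_3_220, commE8_3_221, commE8_3_222, commE8_3_223, commE8_3_224, commE8_3_225, commE8_3_226, commE8_3_227, commE8_3_228, commE8_3_229, commE8_3_230, commE8_3_231, commE8_3_232, commE8_3_233, commE8_3_234, commE8_3_235, commE8_3_236, commE8_3_237, commE8_3_238, commE8_3_239]

end Cfsg.Agent.Helper18
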