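import Cfsg.Agent.Lib.Helper18.ChevComm
import Cfsg.Prelude.Def_LieTypes
import Cfsg.Prelude.Def_ChevB2

set_option autoImplicit false
set_option maxRecDepth 100000
set_option Elab.async false

namespace Cfsg.Agent.Helper18

open Cfsg.Lie

theorem commE8_4_120 : commCheck chevE8 126 120 = true := by
  decide +kernel

theorem commE8_4_121 : commCheck chevE8 126 121 = true := by
  decide +kernel

theorem commE8_4_122 : commCheck chevE8 126 122 = true := by
  decide +kernel

theorem commE8_4_123 : commCheck chevE8 126 123 = true := by
  decide +kernel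

theorem commE8_4_124 : commCheck chevE8 126 124 = true := by
  decide +kernel

theorem commE8_4_125 : commCheck chevE8 126 125 = true := by
  decide +kernel

theorem commE8_4_126 : commCheck chevE8 126 126 = true := by
  decide +kernel

theorem commE8_4_127 : commCheck chevE8 126 127 = true := by
  decide +kernel

theorem commE8_4_128 : commCheck chevE8 126 128 = true := by
  decide +kernel

theorem commE8_4_129 : commCheck chevE8 126 129 = true := by
  decide +kernel

theorem commE8_4_130 : commCheck chevE8 126 130 = true := by
  decide +kernel

theorem commE8_4_131 : commCheck chevE8 126 131 = true := by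
  decide +kernel

theorem commE8_4_132 : commCheck chevE8 126 132 = true := by
  decide +kernel

theorem commE8_4_133 : commCheck chevE8 126 133 = true := by
  decide +kernel

theorem commE8_4_134 : commCheck chevE8 126 134 = true := by
  decide +kernel

theorem commE8_4_135 : commCheck chevE8 126 135 = true := by
  decide +kernel

theorem commE8_4_136 : commCheck chevE8 126 136 = true := by
  decide +kernel

theorem commE8_4_137 : commCheck chevE8 126 137 = true := by
  decide +kernel

theorem commE8_4_138 : commCheck chevE8 126 138 = true := by
  decide +kernel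

theorem commE8_4_139 : commCheck chevE8 126 139 = true := by
  decide +kernel

theorem commE8_4_140 : commCheck chevE8 126 140 = true := by
  decide +kernel

theorem commE8_4_141 : commCheck chevE8 126 141 = true := by
  decide +kernel

theorem commE8_4_142 : commCheck chevE8 126 142 = true := by
  decide +kernel

theorem commE8_4_143 : commCheck chevE8 126 143 = true := by
  decide +kernel

theorem commE8_4_144 : commCheck chevE8 126 144 = true := by
  decide +kernel

theorem commE8_4_145 : commCheck chevE8 126 145 = true := by
  decide +kernel

theorem commE8_4_146 : commCheck chevE8 126 146 = true := by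
  decide +kernel

theorem commE8_4_147 : commCheck chevE8 126 147 = true := by
  decide +kernel

theorem commE8_4_148 : commCheck chevE8 126 148 = true := by
  decide +kernel

theorem commE8_4_149 : commCheck chevE8 126 149 = true := by
  decide +kernel

theorem commE8_4_from120 (s : ℕ) (h1 : 120 ≤ s) (h2 : s < 150) : commCheck chevE8 126 s = true := by
  have h : s = 120 ∨ s = 121 ∨ s = 122 ∨ s = 123 ∨ s = 124 ∨ s = 125 ∨ s = 126 ∨ s = 127 ∨ s = 128 ∨ s = 129 ∨ s = 130 ∨ s = 131 ∨ s = 132 ∨ s = 133 ∨ s = 134 ∨ s = 135 ∨ s = 136 ∨ s = 137 ∨ s = 138 ∨ s = 139 ∨ s = 140 ∨ s = 141 ∨ s = 142 ∨ s = 143 ∨ s = 144 ∨ s = 145 ∨ s = 146 ∨ s = 147 ∨ s = 148 ∨ s = 149 := by omega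
  rcases h with rfl | rfl | rfl | rfl | rfl | rfl | rfl | rfl | rfl | rfl | rfl | rfl | rfl | rfl | rfl | rfl | rfl | rfl | rfl | rfl | rfl | rfl | rfl | rfl | rfl | rfl | rfl | rfl | rfl | rfl
  exacts [commE8_4_120, commE8_4_121, commE8_4_122, commE8_4_123, commE8_4_124, commE8_4_125, commE8_4_126, commE8_4_127, commE8_4_128, commE8_4_129, commE8_4_130, commE8_4_131, commE8_4_132, commE8_4_133, commE8_4_134, commE8_4_135, commE8_4_136, commE8_4_137, commE8_4_138, commE8_4_139, commE8_4_140, commE8_4_141, commE8_4_142, commE8_4_143, commE8_4_144, commE8_4_145, commE8_4_146, commE8_4_147, commE8_4_148, commE8_4_149]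

theorem commE8_4_150 : commCheck chevE8 126 150 = true := by
  decide +kernel

theorem commE8_4_151 : commCheck chevE8 126 151 = true := by
  decide +kernel

theorem commE8_4_152 : commCheck chevE8 126 152 = true := by
  decide +kernel

theorem commE8_4_153 : commCheck chevE8 126 153 = true := by
  decide +kernel

theorem commE8_4_154 : commCheck chevE8 126 154 = true := by
  decide +kernel

theorem commE8_4_155 : commCheck chevE8 126 155 = true := by
  decide +kernel

theorem commE8_4_156 : commCheck chevE8 126 156 = true := by
  decide +kernel

theorem commE8_4_157 : commCheck chevE8 126 157 = true := by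
  decide +kernel

theorem commE8_4_158 : commCheck chevE8 126 158 = true := by
  decide +kernel

theorem commE8_4_159 : commCheck chevE8 126 159 = true := by
  decide +kernel

theorem commE8_4_160 : commCheck chevE8 126 160 = true := by
  decide +kernel

theorem commE8_4_161 : commCheck chevE8 126 161 = true := by
  decide +kernel

theorem commE8_4_162 : commCheck chevE8 126 162 = true := by
  decide +kernel

theorem commE8_4_163 : commCheck chevE8 126 163 = true := by
  decide +kernel

theorem commE8_4_164 : commCheck chevE8 126 164 = true := by
  decide +kernel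

theorem commE8_4_165 : commCheck chevE8 126 165 = true := by
  decide +kernel

theorem commE8_4_166 : commCheck chevE8 126 166 = true := by
  decide +kernel

theorem commE8_4_167 : commCheck chevE8 126 167 = true := by
  decide +kernel

theorem commE8_4_168 : commCheck chevE8 126 168 = true := by
  decide +kernel

theorem commE8_4_169 : commCheck chevE8 126 169 = true := by
  decide +kernel

theorem commE8_4_170 : commCheck chevE8 126 170 = true := by
  decide +kernel

theorem commE8_4_171 : commCheck chevE8 126 171 = true := by
  decide +kernel

theorem commE8_4_172 : commCheck chevE8 126 172 = true := by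
  decide +kernel

theorem commE8_4_173 : commCheck chevE8 126 173 = true := by
  decide +kernel

theorem commE8_4_174 : commCheck chevE8 126 174 = true := by
  decide +kernel

theorem commE8_4_175 : commCheck chevE8 126 175 = true := by
  decide +kernel

theorem commE8_4_176 : commCheck chevE8 126 176 = true := by
  decide +kernel

theorem commE8_4_177 : commCheck chevE8 126 177 = true := by
  decide +kernel

theorem commE8_4_178 : commCheck chevE8 126 178 = true := by
  decide +kernel

theorem commE8_4_179 : commCheck chevE8 126 179 = true := by
  decide +kernel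

theorem commE8_4_from150 (s : ℕ) (h1 : 150 ≤ s) (h2 : s < 180) : commCheck chevE8 126 s = true := by
  have h : s = 150 ∨ s = 151 ∨ s = 152 ∨ s = 153 ∨ s = 154 ∨ s = 155 ∨ s = 156 ∨ s = 157 ∨ s = 158 ∨ s = 159 ∨ s = 160 ∨ s = 161 ∨ s = 162 ∨ s = 163 ∨ s = 164 ∨ s = 165 ∨ s = 166 ∨ s = 167 ∨ s = 168 ∨ s = 169 ∨ s = 170 ∨ s = 171 ∨ s = 172 ∨ s = 173 ∨ s = 174 ∨ s = 175 ∨ s = 176 ∨ s = 177 ∨ s = 178 ∨ s = 179 := by omega
  rcases h with rfl | rfl | rfl | rfl | rfl | rfl | rfl | rfl | rfl | rfl | rfl | rfl | rfl | rfl | rfl | rfl | rfl | rfl | rfl | rfl | rfl | rfl | rfl | rfl | rfl | rfl | rfl | rfl | rfl | rfl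
  exacts [commE8_4_150, commE8_4_151, commE8_4_152, commE8_4_153, commE8_4_154, commE8_4_155, commE8_4_156, commE8_4_157, commE8_4_158, commE8_4_159, commE8_4_160, commE8_4_161, commE8_4_162, commE8_4_163, commE8_4_164, commE8_4_165, commE8_4_166, commE8_4_167, commE8_4_168, commE8_4_169, commE8_4_170, commE8_4_171, commE8_4_172, commE8_4_173, commE8_4_174, commE8_4_175, commE8_4_176, commE8_4_177, commE8_4_178, commE8_4_179]

end Cfsg.Agent.Helper18
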