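import Cfsg.Agent.Lib.Helper18.ChevComm
import Cfsg.Prelude.Def_LieTypes
import Cfsg.Prelude.Def_ChevB2

set_option autoImplicit false
set_option maxRecDepth 100000
set_option Elab.async false

namespace Cfsg.Agent.Helper18

open Cfsg.Lie

theorem commE8_4_180 : commCheck chevE8 126 180 = true := by
  decide +kernel

theorem commE8_4_181 : commCheck chevE8 126 181 = true := by
  decide +kernel

theorem commE8_4_182 : commCheck chevE8 126 182 = true := by
  decide +kernel

theorem commE8_4_183 : commCheck chevE8 126 183 = true := by
  decide +kernel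

theorem commE8_4_184 : commCheck chevE8 126 184 = true := by
  decide +kernel

theorem commE8_4_185 : commCheck chevE8 126 185 = true := by
  decide +kernel

theorem commE8_4_186 : commCheck chevE8 126 186 = true := by
  decide +kernel

theorem commE8_4_187 : commCheck chevE8 126 187 = true := by
  decide +kernel

theorem commE8_4_188 : commCheck chevE8 126 188 = true := by
  decide +kernel

theorem commE8_4_189 : commCheck chevE8 126 189 = true := by
  decide +kernel

theorem commE8_4_190 : commCheck chevE8 126 190 = true := by
  decide +kernel

theorem commE8_4_191 : commCheck chevE8 126 191 = true := by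
  decide +kernel

theorem commE8_4_192 : commCheck chevE8 126 192 = true := by
  decide +kernel

theorem commE8_4_193 : commCheck chevE8 126 193 = true := by
  decide +kernel

theorem commE8_4_194 : commCheck chevE8 126 194 = true := by
  decide +kernel

theorem commE8_4_195 : commCheck chevE8 126 195 = true := by
  decide +kernel

theorem commE8_4_196 : commCheck chevE8 126 196 = true := by
  decide +kernel

theorem commE8_4_197 : commCheck chevE8 126 197 = true := by
  decide +kernel

theorem commE8_4_198 : commCheck chevE8 126 198 = true := by
  decide +kernel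

theorem commE8_4_199 : commCheck chevE8 126 199 = true := by
  decide +kernel

theorem commE8_4_200 : commCheck chevE8 126 200 = true := by
  decide +kernel

theorem commE8_4_201 : commCheck chevE8 126 201 = true := by
  decide +kernel

theorem commE8_4_202 : commCheck chevE8 126 202 = true := by
  decide +kernel

theorem commE8_4_203 : commCheck chevE8 126 203 = true := by
  decide +kernel

theorem commE8_4_204 : commCheck chevE8 126 204 = true := by
  decide +kernel

theorem commE8_4_205 : commCheck chevE8 126 205 = true := by
  decide +kernel

theorem commE8_4_206 : commCheck chevE8 126 206 = true := by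
  decide +kernel

theorem commE8_4_207 : commCheck chevE8 126 207 = true := by
  decide +kernel

theorem commE8_4_208 : commCheck chevE8 126 208 = true := by
  decide +kernel

theorem commE8_4_209 : commCheck chevE8 126 209 = true := by
  decide +kernel

theorem commE8_4_from180 (s : ℕ) (h1 : 180 ≤ s) (h2 : s < 210) : commCheck chevE8 126 s = true := by
  have h : s = 180 ∨ s = 181 ∨ s = 182 ∨ s = 183 ∨ s = 184 ∨ s = 185 ∨ s = 186 ∨ s = 187 ∨ s = 188 ∨ s = 189 ∨ s = 190 ∨ s = 191 ∨ s = 192 ∨ s = 193 ∨ s = 194 ∨ s = 195 ∨ s = 196 ∨ s = 197 ∨ s = 198 ∨ s = 199 ∨ s = 200 ∨ s = 201 ∨ s = 202 ∨ s = 203 ∨ s = 204 ∨ s = 205 ∨ s = 206 ∨ s = 207 ∨ s = 208 ∨ s = 209 := by omega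
  rcases h with rfl | rfl | rfl | rfl | rfl | rfl | rfl | rfl | rfl | rfl | rfl | rfl | rfl | rfl | rfl | rfl | rfl | rfl | rfl | rfl | rfl | rfl | rfl | rfl | rfl | rfl | rfl | rfl | rfl | rfl
  exacts [commE8_4_180, commE8_4_181, commE8_4_182, commE8_4_183, commE8_4_184, commE8_4_185, commE8_4_186, commE8_4_187, commE8_4_188, commE8_4_189, commE8_4_190, commE8_4_191, commE8_4_192, commE8_4_193, commE8_4_194, commE8_4_195, commE8_4_196, commE8_4_197, commE8_4_198, commE8_4_199, commE8_4_200, commE8_4_201, commE8_4_202, commE8_4_203, commE8_4_204, commE8_4_205, commE8_4_206, commE8_4_207, commE8_4_208, commE8_4_209]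

theorem commE8_4_210 : commCheck chevE8 126 210 = true := by
  decide +kernel

theorem commE8_4_211 : commCheck chevE8 126 211 = true := by
  decide +kernel

theorem commE8_4_212 : commCheck chevE8 126 212 = true := by
  decide +kernel

theorem commE8_4_213 : commCheck chevE8 126 213 = true := by
  decide +kernel

theorem commE8_4_214 : commCheck chevE8 126 214 = true := by
  decide +kernel

theorem commE8_4_215 : commCheck chevE8 126 215 = true := by
  decide +kernel

theorem commE8_4_216 : commCheck chevE8 126 216 = true := by
  decide +kernel

theorem commE8_4_217 : commCheck chevE8 126 217 = true := by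
  decide +kernel

theorem commE8_4_218 : commCheck chevE8 126 218 = true := by
  decide +kernel

theorem commE8_4_219 : commCheck chevE8 126 219 = true := by
  decide +kernel

theorem commE8_4_220 : commCheck chevE8 126 220 = true := by
  decide +kernel

theorem commE8_4_221 : commCheck chevE8 126 221 = true := by
  decide +kernel

theorem commE8_4_222 : commCheck chevE8 126 222 = true := by
  decide +kernel

theorem commE8_4_223 : commCheck chevE8 126 223 = true := by
  decide +kernel

theorem commE8_4_224 : commCheck chevE8 126 224 = true := by
  decide +kernel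

theorem commE8_4_225 : commCheck chevE8 126 225 = true := by
  decide +kernel

theorem commE8_4_226 : commCheck chevE8 126 226 = true := by
  decide +kernel

theorem commE8_4_227 : commCheck chevE8 126 227 = true := by
  decide +kernel

theorem commE8_4_228 : commCheck chevE8 126 228 = true := by
  decide +kernel

theorem commE8_4_229 : commCheck chevE8 126 229 = true := by
  decide +kernel

theorem commE8_4_230 : commCheck chevE8 126 230 = true := by
  decide +kernel

theorem commE8_4_231 : commCheck chevE8 126 231 = true := by
  decide +kernel

theorem commE8_4_232 : commCheck chevE8 126 232 = true := by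
  decide +kernel

theorem commE8_4_233 : commCheck chevE8 126 233 = true := by
  decide +kernel

theorem commE8_4_234 : commCheck chevE8 126 234 = true := by
  decide +kernel

theorem commE8_4_235 : commCheck chevE8 126 235 = true := by
  decide +kernel

theorem commE8_4_236 : commCheck chevE8 126 236 = true := by
  decide +kernel

theorem commE8_4_237 : commCheck chevE8 126 237 = true := by
  decide +kernel

theorem commE8_4_238 : commCheck chevE8 126 238 = true := by
  decide +kernel

theorem commE8_4_239 : commCheck chevE8 126 239 = true := by
  decide +kernel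

theorem commE8_4_from210 (s : ℕ) (h1 : 210 ≤ s) (h2 : s < 240) : commCheck chevE8 126 s = true := by
  have h : s = 210 ∨ s = 211 ∨ s = 212 ∨ s = 213 ∨ s = 214 ∨ s = 215 ∨ s = 216 ∨ s = 217 ∨ s = 218 ∨ s = 219 ∨ s = 220 ∨ s = 221 ∨ s = 222 ∨ s = 223 ∨ s = 224 ∨ s = 225 ∨ s = 226 ∨ s = 227 ∨ s = 228 ∨ s = 229 ∨ s = 230 ∨ s = 231 ∨ s = 232 ∨ s = 233 ∨ s = 234 ∨ s = 235 ∨ s = 236 ∨ s = 237 ∨ s = 238 ∨ s = 239 := by omega
  rcases h with rfl | rfl | rfl | rfl | rfl | rfl | rfl | rfl | rfl | rfl | rfl | rfl | rfl | rfl | rfl | rfl | rfl | rfl | rfl | rfl | rfl | rfl | rfl | rfl | rfl | rfl | rfl | rfl | rfl | rfl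
  exacts [commE8_4_210, commE8_4_211, commE8_4_212, commE8_4_213, commE8_4_214, commE8_4_215, commE8_4_216, commE8_4_217, commE8_4_218, commE8_4_219, commE8_4_220, commE8_4_221, commE8_4_222, commE8_4_223, commE8_4_224, commE8_4_225, commE8_4_226, commE8_4_227, commE8_4_228, commE8_4_229, commE8_4_230, commE8_4_231, commE8_4_232, commE8_4_233, commE8_4_234, commE8_4_235, commE8_4_236, commE8_4_237, commE8_4_238, commE8_4_239]

end Cfsg.Agent.Helper18
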