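import Cfsg.Agent.Lib.Helper18.ChevComm
import Cfsg.Prelude.Def_LieTypes
import Cfsg.Prelude.Def_ChevB2

set_option autoImplicit false
set_option maxRecDepth 100000
set_option Elab.async false

namespace Cfsg.Agent.Helper18

open Cfsg.Lie

theorem commE8_5_120 : commCheck chevE8 123 120 = true := by
  decide +kernel

theorem commE8_5_121 : commCheck chevE8 123 121 = true := by
  decide +kernel

theorem commE8_5_122 : commCheck chevE8 123 122 = true := by
  decide +kernel

theorem commE8_5_123 : commCheck chevE8 123 123 = true := by
  decide +kernel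

theorem commE8_5_124 : commCheck chevE8 123 124 = true := by
  decide +kernel

theorem commE8_5_125 : commCheck chevE8 123 125 = true := by
  decide +kernel

theorem commE8_5_126 : commCheck chevE8 123 126 = true := by
  decide +kernel

theorem commE8_5_127 : commCheck chevE8 123 127 = true := by
  decide +kernel

theorem commE8_5_128 : commCheck chevE8 123 128 = true := by
  decide +kernel

theorem commE8_5_129 : commCheck chevE8 123 129 = true := by
  decide +kernel

theorem commE8_5_130 : commCheck chevE8 123 130 = true := by
  decide +kernel

theorem commE8_5_131 : commCheck chevE8 123 131 = true := by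
  decide +kernel

theorem commE8_5_132 : commCheck chevE8 123 132 = true := by
  decide +kernel

theorem commE8_5_133 : commCheck chevE8 123 133 = true := by
  decide +kernel

theorem commE8_5_134 : commCheck chevE8 123 134 = true := by
  decide +kernel

theorem commE8_5_135 : commCheck chevE8 123 135 = true := by
  decide +kernel

theorem commE8_5_136 : commCheck chevE8 123 136 = true := by
  decide +kernel

theorem commE8_5_137 : commCheck chevE8 123 137 = true := by
  decide +kernel

theorem commE8_5_138 : commCheck chevE8 123 138 = true := by
  decide +kernel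

theorem commE8_5_139 : commCheck chevE8 123 139 = true := by
  decide +kernel

theorem commE8_5_140 : commCheck chevE8 123 140 = true := by
  decide +kernel

theorem commE8_5_141 : commCheck chevE8 123 141 = true := by
  decide +kernel

theorem commE8_5_142 : commCheck chevE8 123 142 = true := by
  decide +kernel

theorem commE8_5_143 : commCheck chevE8 123 143 = true := by
  decide +kernel

theorem commE8_5_144 : commCheck chevE8 123 144 = true := by
  decide +kernel

theorem commE8_5_145 : commCheck chevE8 123 145 = true := by
  decide +kernel

theorem commE8_5_146 : commCheck chevE8 123 146 = true := by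
  decide +kernel

theorem commE8_5_147 : commCheck chevE8 123 147 = true := by
  decide +kernel

theorem commE8_5_148 : commCheck chevE8 123 148 = true := by
  decide +kernel

theorem commE8_5_149 : commCheck chevE8 123 149 = true := by
  decide +kernel

theorem commE8_5_from120 (s : ℕ) (h1 : 120 ≤ s) (h2 : s < 150) : commCheck chevE8 123 s = true := by
  have h : s = 120 ∨ s = 121 ∨ s = 122 ∨ s = 123 ∨ s = 124 ∨ s = 125 ∨ s = 126 ∨ s = 127 ∨ s = 128 ∨ s = 129 ∨ s = 130 ∨ s = 131 ∨ s = 132 ∨ s = 133 ∨ s = 134 ∨ s = 135 ∨ s = 136 ∨ s = 137 ∨ s = 138 ∨ s = 139 ∨ s = 140 ∨ s = 141 ∨ s = 142 ∨ s = 143 ∨ s = 144 ∨ s = 145 ∨ s = 146 ∨ s = 147 ∨ s = 148 ∨ s = 149 := by omega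
  rcases h with rfl | rfl | rfl | rfl | rfl | rfl | rfl | rfl | rfl | rfl | rfl | rfl | rfl | rfl | rfl | rfl | rfl | rfl | rfl | rfl | rfl | rfl | rfl | rfl | rfl | rfl | rfl | rfl | rfl | rfl
  exacts [commE8_5_120, commE8_5_121, commE8_5_122, commE8_5_123, commE8_5_124, commE8_5_125, commE8_5_126, commE8_5_127, commE8_5_128, commE8_5_129, commE8_5_130, commE8_5_131, commE8_5_132, commE8_5_133, commE8_5_134, commE8_5_135, commE8_5_136, commE8_5_137, commE8_5_138, commE8_5_139, commE8_5_140, commE8_5_141, commE8_5_142, commE8_5_143, commE8_5_144, commE8_5_145, commE8_5_146, commE8_5_147, commE8_5_148, commE8_5_149]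

theorem commE8_5_150 : commCheck chevE8 123 150 = true := by
  decide +kernel

theorem commE8_5_151 : commCheck chevE8 123 151 = true := by
  decide +kernel

theorem commE8_5_152 : commCheck chevE8 123 152 = true := by
  decide +kernel

theorem commE8_5_153 : commCheck chevE8 123 153 = true := by
  decide +kernel

theorem commE8_5_154 : commCheck chevE8 123 154 = true := by
  decide +kernel

theorem commE8_5_155 : commCheck chevE8 123 155 = true := by
  decide +kernel

theorem commE8_5_156 : commCheck chevE8 123 156 = true := by
  decide +kernel

theorem commE8_5_157 : commCheck chevE8 123 157 = true := by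
  decide +kernel

theorem commE8_5_158 : commCheck chevE8 123 158 = true := by
  decide +kernel

theorem commE8_5_159 : commCheck chevE8 123 159 = true := by
  decide +kernel

theorem commE8_5_160 : commCheck chevE8 123 160 = true := by
  decide +kernel

theorem commE8_5_161 : commCheck chevE8 123 161 = true := by
  decide +kernel

theorem commE8_5_162 : commCheck chevE8 123 162 = true := by
  decide +kernel

theorem commE8_5_163 : commCheck chevE8 123 163 = true := by
  decide +kernel

theorem commE8_5_164 : commCheck chevE8 123 164 = true := by
  decide +kernel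

theorem commE8_5_165 : commCheck chevE8 123 165 = true := by
  decide +kernel

theorem commE8_5_166 : commCheck chevE8 123 166 = true := by
  decide +kernel

theorem commE8_5_167 : commCheck chevE8 123 167 = true := by
  decide +kernel

theorem commE8_5_168 : commCheck chevE8 123 168 = true := by
  decide +kernel

theorem commE8_5_169 : commCheck chevE8 123 169 = true := by
  decide +kernel

theorem commE8_5_170 : commCheck chevE8 123 170 = true := by
  decide +kernel

theorem commE8_5_171 : commCheck chevE8 123 171 = true := by
  decide +kernel

theorem commE8_5_172 : commCheck chevE8 123 172 = true := by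
  decide +kernel

theorem commE8_5_173 : commCheck chevE8 123 173 = true := by
  decide +kernel

theorem commE8_5_174 : commCheck chevE8 123 174 = true := by
  decide +kernel

theorem commE8_5_175 : commCheck chevE8 123 175 = true := by
  decide +kernel

theorem commE8_5_176 : commCheck chevE8 123 176 = true := by
  decide +kernel

theorem commE8_5_177 : commCheck chevE8 123 177 = true := by
  decide +kernel

theorem commE8_5_178 : commCheck chevE8 123 178 = true := by
  decide +kernel

theorem commE8_5_179 : commCheck chevE8 123 179 = true := by
  decide +kernel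

theorem commE8_5_from150 (s : ℕ) (h1 : 150 ≤ s) (h2 : s < 180) : commCheck chevE8 123 s = true := by
  have h : s = 150 ∨ s = 151 ∨ s = 152 ∨ s = 153 ∨ s = 154 ∨ s = 155 ∨ s = 156 ∨ s = 157 ∨ s = 158 ∨ s = 159 ∨ s = 160 ∨ s = 161 ∨ s = 162 ∨ s = 163 ∨ s = 164 ∨ s = 165 ∨ s = 166 ∨ s = 167 ∨ s = 168 ∨ s = 169 ∨ s = 170 ∨ s = 171 ∨ s = 172 ∨ s = 173 ∨ s = 174 ∨ s = 175 ∨ s = 176 ∨ s = 177 ∨ s = 178 ∨ s = 179 := by omega
  rcases h with rfl | rfl | rfl | rfl | rfl | rfl | rfl | rfl | rfl | rfl | rfl | rfl | rfl | rfl | rfl | rfl | rfl | rfl | rfl | rfl | rfl | rfl | rfl | rfl | rfl | rfl | rfl | rfl | rfl | rfl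
  exacts [commE8_5_150, commE8_5_151, commE8_5_152, commE8_5_153, commE8_5_154, commE8_5_155, commE8_5_156, commE8_5_157, commE8_5_158, commE8_5_159, commE8_5_160, commE8_5_161, commE8_5_162, commE8_5_163, commE8_5_164, commE8_5_165, commE8_5_166, commE8_5_167, commE8_5_168, commE8_5_169, commE8_5_170, commE8_5_171, commE8_5_172, commE8_5_173, commE8_5_174, commE8_5_175, commE8_5_176, commE8_5_177, commE8_5_178, commE8_5_179]

end Cfsg.Agent.Helper18
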