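import Cfsg.Agent.Lib.Helper18.ChevComm
import Cfsg.Prelude.Def_LieTypes
import Cfsg.Prelude.Def_ChevB2

set_option autoImplicit false
set_option maxRecDepth 100000
set_option Elab.async false

namespace Cfsg.Agent.Helper18

open Cfsg.Lie

theorem commE8_5_180 : commCheck chevE8 123 180 = true := by
  decide +kernel

theorem commE8_5_181 : commCheck chevE8 123 181 = true := by
  decide +kernel

theorem commE8_5_182 : commCheck chevE8 123 182 = true := by
  decide +kernel

theorem commE8_5_183 : commCheck chevE8 123 183 = true := by
  decide +kernel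

theorem commE8_5_184 : commCheck chevE8 123 184 = true := by
  decide +kernel

theorem commE8_5_185 : commCheck chevE8 123 185 = true := by
  decide +kernel

theorem commE8_5_186 : commCheck chevE8 123 186 = true := by
  decide +kernel

theorem commE8_5_187 : commCheck chevE8 123 187 = true := by
  decide +kernel

theorem commE8_5_188 : commCheck chevE8 123 188 = true := by
  decide +kernel

theorem commE8_5_189 : commCheck chevE8 123 189 = true := by
  decide +kernel

theorem commE8_5_190 : commCheck chevE8 123 190 = true := by
  decide +kernel

theorem commE8_5_191 : commCheck chevE8 123 191 = true := by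
  decide +kernel

theorem commE8_5_192 : commCheck chevE8 123 192 = true := by
  decide +kernel

theorem commE8_5_193 : commCheck chevE8 123 193 = true := by
  decide +kernel

theorem commE8_5_194 : commCheck chevE8 123 194 = true := by
  decide +kernel

theorem commE8_5_195 : commCheck chevE8 123 195 = true := by
  decide +kernel

theorem commE8_5_196 : commCheck chevE8 123 196 = true := by
  decide +kernel

theorem commE8_5_197 : commCheck chevE8 123 197 = true := by
  decide +kernel

theorem commE8_5_198 : commCheck chevE8 123 198 = true := by
  decide +kernel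

theorem commE8_5_199 : commCheck chevE8 123 199 = true := by
  decide +kernel

theorem commE8_5_200 : commCheck chevE8 123 200 = true := by
  decide +kernel

theorem commE8_5_201 : commCheck chevE8 123 201 = true := by
  decide +kernel

theorem commE8_5_202 : commCheck chevE8 123 202 = true := by
  decide +kernel

theorem commE8_5_203 : commCheck chevE8 123 203 = true := by
  decide +kernel

theorem commE8_5_204 : commCheck chevE8 123 204 = true := by
  decide +kernel

theorem commE8_5_205 : commCheck chevE8 123 205 = true := by
  decide +kernel

theorem commE8_5_206 : commCheck chevE8 123 206 = true := by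
  decide +kernel

theorem commE8_5_207 : commCheck chevE8 123 207 = true := by
  decide +kernel

theorem commE8_5_208 : commCheck chevE8 123 208 = true := by
  decide +kernel

theorem commE8_5_209 : commCheck chevE8 123 209 = true := by
  decide +kernel

theorem commE8_5_from180 (s : ℕ) (h1 : 180 ≤ s) (h2 : s < 210) : commCheck chevE8 123 s = true := by
  have h : s = 180 ∨ s = 181 ∨ s = 182 ∨ s = 183 ∨ s = 184 ∨ s = 185 ∨ s = 186 ∨ s = 187 ∨ s = 188 ∨ s = 189 ∨ s = 190 ∨ s = 191 ∨ s = 192 ∨ s = 193 ∨ s = 194 ∨ s = 195 ∨ s = 196 ∨ s = 197 ∨ s = 198 ∨ s = 199 ∨ s = 200 ∨ s = 201 ∨ s = 202 ∨ s = 203 ∨ s = 204 ∨ s = 205 ∨ s = 206 ∨ s = 207 ∨ s = 208 ∨ s = 209 := by omega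
  rcases h with rfl | rfl | rfl | rfl | rfl | rfl | rfl | rfl | rfl | rfl | rfl | rfl | rfl | rfl | rfl | rfl | rfl | rfl | rfl | rfl | rfl | rfl | rfl | rfl | rfl | rfl | rfl | rfl | rfl | rfl
  exacts [commE8_5_180, commE8_5_181, commE8_5_182, commE8_5_183, commE8_5_184, commE8_5_185, commE8_5_186, commE8_5_187, commE8_5_188, commE8_5_189, commE8_5_190, commE8_5_191, commE8_5_192, commE8_5_193, commE8_5_194, commE8_5_195, commE8_5_196, commE8_5_197, commE8_5_198, commE8_5_199, commE8_5_200, commE8_5_201, commE8_5_202, commE8_5_203, commE8_5_204, commE8_5_205, commE8_5_206, commE8_5_207, commE8_5_208, commE8_5_209]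

theorem commE8_5_210 : commCheck chevE8 123 210 = true := by
  decide +kernel

theorem commE8_5_211 : commCheck chevE8 123 211 = true := by
  decide +kernel

theorem commE8_5_212 : commCheck chevE8 123 212 = true := by
  decide +kernel

theorem commE8_5_213 : commCheck chevE8 123 213 = true := by
  decide +kernel

theorem commE8_5_214 : commCheck chevE8 123 214 = true := by
  decide +kernel

theorem commE8_5_215 : commCheck chevE8 123 215 = true := by
  decide +kernel

theorem commE8_5_216 : commCheck chevE8 123 216 = true := by
  decide +kernel

theorem commE8_5_217 : commCheck chevE8 123 217 = true := by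
  decide +kernel

theorem commE8_5_218 : commCheck chevE8 123 218 = true := by
  decide +kernel

theorem commE8_5_219 : commCheck chevE8 123 219 = true := by
  decide +kernel

theorem commE8_5_220 : commCheck chevE8 123 220 = true := by
  decide +kernel

theorem commE8_5_221 : commCheck chevE8 123 221 = true := by
  decide +kernel

theorem commE8_5_222 : commCheck chevE8 123 222 = true := by
  decide +kernel

theorem commE8_5_223 : commCheck chevE8 123 223 = true := by
  decide +kernel

theorem commE8_5_224 : commCheck chevE8 123 224 = true := by
  decide +kernel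

theorem commE8_5_225 : commCheck chevE8 123 225 = true := by
  decide +kernel

theorem commE8_5_226 : commCheck chevE8 123 226 = true := by
  decide +kernel

theorem commE8_5_227 : commCheck chevE8 123 227 = true := by
  decide +kernel

theorem commE8_5_228 : commCheck chevE8 123 228 = true := by
  decide +kernel

theorem commE8_5_229 : commCheck chevE8 123 229 = true := by
  decide +kernel

theorem commE8_5_230 : commCheck chevE8 123 230 = true := by
  decide +kernel

theorem commE8_5_231 : commCheck chevE8 123 231 = true := by
  decide +kernel

theorem commE8_5_232 : commCheck chevE8 123 232 = true := by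
  decide +kernel

theorem commE8_5_233 : commCheck chevE8 123 233 = true := by
  decide +kernel

theorem commE8_5_234 : commCheck chevE8 123 234 = true := by
  decide +kernel

theorem commE8_5_235 : commCheck chevE8 123 235 = true := by
  decide +kernel

theorem commE8_5_236 : commCheck chevE8 123 236 = true := by
  decide +kernel

theorem commE8_5_237 : commCheck chevE8 123 237 = true := by
  decide +kernel

theorem commE8_5_238 : commCheck chevE8 123 238 = true := by
  decide +kernel

theorem commE8_5_239 : commCheck chevE8 123 239 = true := by
  decide +kernel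

theorem commE8_5_from210 (s : ℕ) (h1 : 210 ≤ s) (h2 : s < 240) : commCheck chevE8 123 s = true := by
  have h : s = 210 ∨ s = 211 ∨ s = 212 ∨ s = 213 ∨ s = 214 ∨ s = 215 ∨ s = 216 ∨ s = 217 ∨ s = 218 ∨ s = 219 ∨ s = 220 ∨ s = 221 ∨ s = 222 ∨ s = 223 ∨ s = 224 ∨ s = 225 ∨ s = 226 ∨ s = 227 ∨ s = 228 ∨ s = 229 ∨ s = 230 ∨ s = 231 ∨ s = 232 ∨ s = 233 ∨ s = 234 ∨ s = 235 ∨ s = 236 ∨ s = 237 ∨ s = 238 ∨ s = 239 := by omega
  rcases h with rfl | rfl | rfl | rfl | rfl | rfl | rfl | rfl | rfl | rfl | rfl | rfl | rfl | rfl | rfl | rfl | rfl | rfl | rfl | rfl | rfl | rfl | rfl | rfl | rfl | rfl | rfl | rfl | rfl | rfl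
  exacts [commE8_5_210, commE8_5_211, commE8_5_212, commE8_5_213, commE8_5_214, commE8_5_215, commE8_5_216, commE8_5_217, commE8_5_218, commE8_5_219, commE8_5_220, commE8_5_221, commE8_5_222, commE8_5_223, commE8_5_224, commE8_5_225, commE8_5_226, commE8_5_227, commE8_5_228, commE8_5_229, commE8_5_230, commE8_5_231, commE8_5_232, commE8_5_233, commE8_5_234, commE8_5_235, commE8_5_236, commE8_5_237, commE8_5_238, commE8_5_239]

end Cfsg.Agent.Helper18
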