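import Cfsg.Agent.Lib.Helper18.ChevComm
import Cfsg.Prelude.Def_LieTypes
import Cfsg.Prelude.Def_ChevB2

set_option autoImplicit false
set_option maxRecDepth 100000
set_option Elab.async false

namespace Cfsg.Agent.Helper18

open Cfsg.Lie

theorem commE8_6_120 : commCheck chevE8 121 120 = true := by
  decide +kernel

theorem commE8_6_121 : commCheck chevE8 121 121 = true := by
  decide +kernel

theorem commE8_6_122 : commCheck chevE8 121 122 = true := by
  decide +kernel

theorem commE8_6_123 : commCheck chevE8 121 123 = true := by
  decide +kernel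

theorem commE8_6_124 : commCheck chevE8 121 124 = true := by
  decide +kernel

theorem commE8_6_125 : commCheck chevE8 121 125 = true := by
  decide +kernel

theorem commE8_6_126 : commCheck chevE8 121 126 = true := by
  decide +kernel

theorem commE8_6_127 : commCheck chevE8 121 127 = true := by
  decide +kernel

theorem commE8_6_128 : commCheck chevE8 121 128 = true := by
  decide +kernel

theorem commE8_6_129 : commCheck chevE8 121 129 = true := by
  decide +kernel

theorem commE8_6_130 : commCheck chevE8 121 130 = true := by
  decide +kernel

theorem commE8_6_131 : commCheck chevE8 121 131 = true := by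
  decide +kernel

theorem commE8_6_132 : commCheck chevE8 121 132 = true := by
  decide +kernel

theorem commE8_6_133 : commCheck chevE8 121 133 = true := by
  decide +kernel

theorem commE8_6_134 : commCheck chevE8 121 134 = true := by
  decide +kernel

theorem commE8_6_135 : commCheck chevE8 121 135 = true := by
  decide +kernel

theorem commE8_6_136 : commCheck chevE8 121 136 = true := by
  decide +kernel

theorem commE8_6_137 : commCheck chevE8 121 137 = true := by
  decide +kernel

theorem commE8_6_138 : commCheck chevE8 121 138 = true := by
  decide +kernel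

theorem commE8_6_139 : commCheck chevE8 121 139 = true := by
  decide +kernel

theorem commE8_6_140 : commCheck chevE8 121 140 = true := by
  decide +kernel

theorem commE8_6_141 : commCheck chevE8 121 141 = true := by
  decide +kernel

theorem commE8_6_142 : commCheck chevE8 121 142 = true := by
  decide +kernel

theorem commE8_6_143 : commCheck chevE8 121 143 = true := by
  decide +kernel

theorem commE8_6_144 : commCheck chevE8 121 144 = true := by
  decide +kernel

theorem commE8_6_145 : commCheck chevE8 121 145 = true := by
  decide +kernel

theorem commE8_6_146 : commCheck chevE8 121 146 = true := by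
  decide +kernel

theorem commE8_6_147 : commCheck chevE8 121 147 = true := by
  decide +kernel

theorem commE8_6_148 : commCheck chevE8 121 148 = true := by
  decide +kernel

theorem commE8_6_149 : commCheck chevE8 121 149 = true := by
  decide +kernel

theorem commE8_6_from120 (s : ℕ) (h1 : 120 ≤ s) (h2 : s < 150) : commCheck chevE8 121 s = true := by
  have h : s = 120 ∨ s = 121 ∨ s = 122 ∨ s = 123 ∨ s = 124 ∨ s = 125 ∨ s = 126 ∨ s = 127 ∨ s = 128 ∨ s = 129 ∨ s = 130 ∨ s = 131 ∨ s = 132 ∨ s = 133 ∨ s = 134 ∨ s = 135 ∨ s = 136 ∨ s = 137 ∨ s = 138 ∨ s = 139 ∨ s = 140 ∨ s = 141 ∨ s = 142 ∨ s = 143 ∨ s = 144 ∨ s = 145 ∨ s = 146 ∨ s = 147 ∨ s = 148 ∨ s = 149 := by omega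
  rcases h with rfl | rfl | rfl | rfl | rfl | rfl | rfl | rfl | rfl | rfl | rfl | rfl | rfl | rfl | rfl | rfl | rfl | rfl | rfl | rfl | rfl | rfl | rfl | rfl | rfl | rfl | rfl | rfl | rfl | rfl
  exacts [commE8_6_120, commE8_6_121, commE8_6_122, commE8_6_123, commE8_6_124, commE8_6_125, commE8_6_126, commE8_6_127, commE8_6_128, commE8_6_129, commE8_6_130, commE8_6_131, commE8_6_132, commE8_6_133, commE8_6_134, commE8_6_135, commE8_6_136, commE8_6_137, commE8_6_138, commE8_6_139, commE8_6_140, commE8_6_141, commE8_6_142, commE8_6_143, commE8_6_144, commE8_6_145, commE8_6_146, commE8_6_147, commE8_6_148, commE8_6_149]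

theorem commE8_6_150 : commCheck chevE8 121 150 = true := by
  decide +kernel

theorem commE8_6_151 : commCheck chevE8 121 151 = true := by
  decide +kernel

theorem commE8_6_152 : commCheck chevE8 121 152 = true := by
  decide +kernel

theorem commE8_6_153 : commCheck chevE8 121 153 = true := by
  decide +kernel

theorem commE8_6_154 : commCheck chevE8 121 154 = true := by
  decide +kernel

theorem commE8_6_155 : commCheck chevE8 121 155 = true := by
  decide +kernel

theorem commE8_6_156 : commCheck chevE8 121 156 = true := by
  decide +kernel

theorem commE8_6_157 : commCheck chevE8 121 157 = true := by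
  decide +kernel

theorem commE8_6_158 : commCheck chevE8 121 158 = true := by
  decide +kernel

theorem commE8_6_159 : commCheck chevE8 121 159 = true := by
  decide +kernel

theorem commE8_6_160 : commCheck chevE8 121 160 = true := by
  decide +kernel

theorem commE8_6_161 : commCheck chevE8 121 161 = true := by
  decide +kernel

theorem commE8_6_162 : commCheck chevE8 121 162 = true := by
  decide +kernel

theorem commE8_6_163 : commCheck chevE8 121 163 = true := by
  decide +kernel

theorem commE8_6_164 : commCheck chevE8 121 164 = true := by
  decide +kernel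

theorem commE8_6_165 : commCheck chevE8 121 165 = true := by
  decide +kernel

theorem commE8_6_166 : commCheck chevE8 121 166 = true := by
  decide +kernel

theorem commE8_6_167 : commCheck chevE8 121 167 = true := by
  decide +kernel

theorem commE8_6_168 : commCheck chevE8 121 168 = true := by
  decide +kernel

theorem commE8_6_169 : commCheck chevE8 121 169 = true := by
  decide +kernel

theorem commE8_6_170 : commCheck chevE8 121 170 = true := by
  decide +kernel

theorem commE8_6_171 : commCheck chevE8 121 171 = true := by
  decide +kernel

theorem commE8_6_172 : commCheck chevE8 121 172 = true := by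
  decide +kernel

theorem commE8_6_173 : commCheck chevE8 121 173 = true := by
  decide +kernel

theorem commE8_6_174 : commCheck chevE8 121 174 = true := by
  decide +kernel

theorem commE8_6_175 : commCheck chevE8 121 175 = true := by
  decide +kernel

theorem commE8_6_176 : commCheck chevE8 121 176 = true := by
  decide +kernel

theorem commE8_6_177 : commCheck chevE8 121 177 = true := by
  decide +kernel

theorem commE8_6_178 : commCheck chevE8 121 178 = true := by
  decide +kernel

theorem commE8_6_179 : commCheck chevE8 121 179 = true := by
  decide +kernel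

theorem commE8_6_from150 (s : ℕ) (h1 : 150 ≤ s) (h2 : s < 180) : commCheck chevE8 121 s = true := by
  have h : s = 150 ∨ s = 151 ∨ s = 152 ∨ s = 153 ∨ s = 154 ∨ s = 155 ∨ s = 156 ∨ s = 157 ∨ s = 158 ∨ s = 159 ∨ s = 160 ∨ s = 161 ∨ s = 162 ∨ s = 163 ∨ s = 164 ∨ s = 165 ∨ s = 166 ∨ s = 167 ∨ s = 168 ∨ s = 169 ∨ s = 170 ∨ s = 171 ∨ s = 172 ∨ s = 173 ∨ s = 174 ∨ s = 175 ∨ s = 176 ∨ s = 177 ∨ s = 178 ∨ s = 179 := by omega
  rcases h with rfl | rfl | rfl | rfl | rfl | rfl | rfl | rfl | rfl | rfl | rfl | rfl | rfl | rfl | rfl | rfl | rfl | rfl | rfl | rfl | rfl | rfl | rfl | rfl | rfl | rfl | rfl | rfl | rfl | rfl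
  exacts [commE8_6_150, commE8_6_151, commE8_6_152, commE8_6_153, commE8_6_154, commE8_6_155, commE8_6_156, commE8_6_157, commE8_6_158, commE8_6_159, commE8_6_160, commE8_6_161, commE8_6_162, commE8_6_163, commE8_6_164, commE8_6_165, commE8_6_166, commE8_6_167, commE8_6_168, commE8_6_169, commE8_6_170, commE8_6_171, commE8_6_172, commE8_6_173, commE8_6_174, commE8_6_175, commE8_6_176, commE8_6_177, commE8_6_178, commE8_6_179]

end Cfsg.Agent.Helper18
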