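import Cfsg.Agent.Lib.Helper18.ChevComm
import Cfsg.Prelude.Def_LieTypes
import Cfsg.Prelude.Def_ChevB2

set_option autoImplicit false
set_option maxRecDepth 100000
set_option Elab.async false

namespace Cfsg.Agent.Helper18

open Cfsg.Lie

theorem commE8_6_180 : commCheck chevE8 121 180 = true := by
  decide +kernel

theorem commE8_6_181 : commCheck chevE8 121 181 = true := by
  decide +kernel

theorem commE8_6_182 : commCheck chevE8 121 182 = true := by
  decide +kernel

theorem commE8_6_183 : commCheck chevE8 121 183 = true := by
  decide +kernel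

theorem commE8_6_184 : commCheck chevE8 121 184 = true := by
  decide +kernel

theorem commE8_6_185 : commCheck chevE8 121 185 = true := by
  decide +kernel

theorem commE8_6_186 : commCheck chevE8 121 186 = true := by
  decide +kernel

theorem commE8_6_187 : commCheck chevE8 121 187 = true := by
  decide +kernel

theorem commE8_6_188 : commCheck chevE8 121 188 = true := by
  decide +kernel

theorem commE8_6_189 : commCheck chevE8 121 189 = true := by
  decide +kernel

theorem commE8_6_190 : commCheck chevE8 121 190 = true := by
  decide +kernel

theorem commE8_6_191 : commCheck chevE8 121 191 = true := by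
  decide +kernel

theorem commE8_6_192 : commCheck chevE8 121 192 = true := by
  decide +kernel

theorem commE8_6_193 : commCheck chevE8 121 193 = true := by
  decide +kernel

theorem commE8_6_194 : commCheck chevE8 121 194 = true := by
  decide +kernel

theorem commE8_6_195 : commCheck chevE8 121 195 = true := by
  decide +kernel

theorem commE8_6_196 : commCheck chevE8 121 196 = true := by
  decide +kernel

theorem commE8_6_197 : commCheck chevE8 121 197 = true := by
  decide +kernel

theorem commE8_6_198 : commCheck chevE8 121 198 = true := by
  decide +kernel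

theorem commE8_6_199 : commCheck chevE8 121 199 = true := by
  decide +kernel

theorem commE8_6_200 : commCheck chevE8 121 200 = true := by
  decide +kernel

theorem commE8_6_201 : commCheck chevE8 121 201 = true := by
  decide +kernel

theorem commE8_6_202 : commCheck chevE8 121 202 = true := by
  decide +kernel

theorem commE8_6_203 : commCheck chevE8 121 203 = true := by
  decide +kernel

theorem commE8_6_204 : commCheck chevE8 121 204 = true := by
  decide +kernel

theorem commE8_6_205 : commCheck chevE8 121 205 = true := by
  decide +kernel

theorem commE8_6_206 : commCheck chevE8 121 206 = true := by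
  decide +kernel

theorem commE8_6_207 : commCheck chevE8 121 207 = true := by
  decide +kernel

theorem commE8_6_208 : commCheck chevE8 121 208 = true := by
  decide +kernel

theorem commE8_6_209 : commCheck chevE8 121 209 = true := by
  decide +kernel

theorem commE8_6_from180 (s : ℕ) (h1 : 180 ≤ s) (h2 : s < 210) : commCheck chevE8 121 s = true := by
  have h : s = 180 ∨ s = 181 ∨ s = 182 ∨ s = 183 ∨ s = 184 ∨ s = 185 ∨ s = 186 ∨ s = 187 ∨ s = 188 ∨ s = 189 ∨ s = 190 ∨ s = 191 ∨ s = 192 ∨ s = 193 ∨ s = 194 ∨ s = 195 ∨ s = 196 ∨ s = 197 ∨ s = 198 ∨ s = 199 ∨ s = 200 ∨ s = 201 ∨ s = 202 ∨ s = 203 ∨ s = 204 ∨ s = 205 ∨ s = 206 ∨ s = 207 ∨ s = 208 ∨ s = 209 := by omega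
  rcases h with rfl | rfl | rfl | rfl | rfl | rfl | rfl | rfl | rfl | rfl | rfl | rfl | rfl | rfl | rfl | rfl | rfl | rfl | rfl | rfl | rfl | rfl | rfl | rfl | rfl | rfl | rfl | rfl | rfl | rfl
  exacts [commE8_6_180, commE8_6_181, commE8_6_182, commE8_6_183, commE8_6_184, commE8_6_185, commE8_6_186, commE8_6_187, commE8_6_188, commE8_6_189, commE8_6_190, commE8_6_191, commE8_6_192, commE8_6_193, commE8_6_194, commE8_6_195, commE8_6_196, commE8_6_197, commE8_6_198, commE8_6_199, commE8_6_200, commE8_6_201, commE8_6_202, commE8_6_203, commE8_6_204, commE8_6_205, commE8_6_206, commE8_6_207, commE8_6_208, commE8_6_209]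

theorem commE8_6_210 : commCheck chevE8 121 210 = true := by
  decide +kernel

theorem commE8_6_211 : commCheck chevE8 121 211 = true := by
  decide +kernel

theorem commE8_6_212 : commCheck chevE8 121 212 = true := by
  decide +kernel

theorem commE8_6_213 : commCheck chevE8 121 213 = true := by
  decide +kernel

theorem commE8_6_214 : commCheck chevE8 121 214 = true := by
  decide +kernel

theorem commE8_6_215 : commCheck chevE8 121 215 = true := by
  decide +kernel

theorem commE8_6_216 : commCheck chevE8 121 216 = true := by
  decide +kernel

theorem commE8_6_217 : commCheck chevE8 121 217 = true := by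
  decide +kernel

theorem commE8_6_218 : commCheck chevE8 121 218 = true := by
  decide +kernel

theorem commE8_6_219 : commCheck chevE8 121 219 = true := by
  decide +kernel

theorem commE8_6_220 : commCheck chevE8 121 220 = true := by
  decide +kernel

theorem commE8_6_221 : commCheck chevE8 121 221 = true := by
  decide +kernel

theorem commE8_6_222 : commCheck chevE8 121 222 = true := by
  decide +kernel

theorem commE8_6_223 : commCheck chevE8 121 223 = true := by
  decide +kernel

theorem commE8_6_224 : commCheck chevE8 121 224 = true := by
  decide +kernel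

theorem commE8_6_225 : commCheck chevE8 121 225 = true := by
  decide +kernel

theorem commE8_6_226 : commCheck chevE8 121 226 = true := by
  decide +kernel

theorem commE8_6_227 : commCheck chevE8 121 227 = true := by
  decide +kernel

theorem commE8_6_228 : commCheck chevE8 121 228 = true := by
  decide +kernel

theorem commE8_6_229 : commCheck chevE8 121 229 = true := by
  decide +kernel

theorem commE8_6_230 : commCheck chevE8 121 230 = true := by
  decide +kernel

theorem commE8_6_231 : commCheck chevE8 121 231 = true := by
  decide +kernel

theorem commE8_6_232 : commCheck chevE8 121 232 = true := by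
  decide +kernel

theorem commE8_6_233 : commCheck chevE8 121 233 = true := by
  decide +kernel

theorem commE8_6_234 : commCheck chevE8 121 234 = true := by
  decide +kernel

theorem commE8_6_235 : commCheck chevE8 121 235 = true := by
  decide +kernel

theorem commE8_6_236 : commCheck chevE8 121 236 = true := by
  decide +kernel

theorem commE8_6_237 : commCheck chevE8 121 237 = true := by
  decide +kernel

theorem commE8_6_238 : commCheck chevE8 121 238 = true := by
  decide +kernel

theorem commE8_6_239 : commCheck chevE8 121 239 = true := by
  decide +kernel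

theorem commE8_6_from210 (s : ℕ) (h1 : 210 ≤ s) (h2 : s < 240) : commCheck chevE8 121 s = true := by
  have h : s = 210 ∨ s = 211 ∨ s = 212 ∨ s = 213 ∨ s = 214 ∨ s = 215 ∨ s = 216 ∨ s = 217 ∨ s = 218 ∨ s = 219 ∨ s = 220 ∨ s = 221 ∨ s = 222 ∨ s = 223 ∨ s = 224 ∨ s = 225 ∨ s = 226 ∨ s = 227 ∨ s = 228 ∨ s = 229 ∨ s = 230 ∨ s = 231 ∨ s = 232 ∨ s = 233 ∨ s = 234 ∨ s = 235 ∨ s = 236 ∨ s = 237 ∨ s = 238 ∨ s = 239 := by omega
  rcases h with rfl | rfl | rfl | rfl | rfl | rfl | rfl | rfl | rfl | rfl | rfl | rfl | rfl | rfl | rfl | rfl | rfl | rfl | rfl | rfl | rfl | rfl | rfl | rfl | rfl | rfl | rfl | rfl | rfl | rfl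
  exacts [commE8_6_210, commE8_6_211, commE8_6_212, commE8_6_213, commE8_6_214, commE8_6_215, commE8_6_216, commE8_6_217, commE8_6_218, commE8_6_219, commE8_6_220, commE8_6_221, commE8_6_222, commE8_6_223, commE8_6_224, commE8_6_225, commE8_6_226, commE8_6_227, commE8_6_228, commE8_6_229, commE8_6_230, commE8_6_231, commE8_6_232, commE8_6_233, commE8_6_234, commE8_6_235, commE8_6_236, commE8_6_237, commE8_6_238, commE8_6_239]

end Cfsg.Agent.Helper18
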