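import Cfsg.Agent.Lib.Helper18.ChevComm
import Cfsg.Prelude.Def_LieTypes
import Cfsg.Prelude.Def_ChevB2

set_option autoImplicit false
set_option maxRecDepth 100000
set_option Elab.async false

namespace Cfsg.Agent.Helper18

open Cfsg.Lie

theorem commE8_7_120 : commCheck chevE8 120 120 = true := by
  decide +kernel

theorem commE8_7_121 : commCheck chevE8 120 121 = true := by
  decide +kernel

theorem commE8_7_122 : commCheck chevE8 120 122 = true := by
  decide +kernel

theorem commE8_7_123 : commCheck chevE8 120 123 = true := by
  decide +kernel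

theorem commE8_7_124 : commCheck chevE8 120 124 = true := by
  decide +kernel

theorem commE8_7_125 : commCheck chevE8 120 125 = true := by
  decide +kernel

theorem commE8_7_126 : commCheck chevE8 120 126 = true := by
  decide +kernel

theorem commE8_7_127 : commCheck chevE8 120 127 = true := by
  decide +kernel

theorem commE8_7_128 : commCheck chevE8 120 128 = true := by
  decide +kernel

theorem commE8_7_129 : commCheck chevE8 120 129 = true := by
  decide +kernel

theorem commE8_7_130 : commCheck chevE8 120 130 = true := by
  decide +kernel

theorem commE8_7_131 : commCheck chevE8 120 131 = true := by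
  decide +kernel

theorem commE8_7_132 : commCheck chevE8 120 132 = true := by
  decide +kernel

theorem commE8_7_133 : commCheck chevE8 120 133 = true := by
  decide +kernel

theorem commE8_7_134 : commCheck chevE8 120 134 = true := by
  decide +kernel

theorem commE8_7_135 : commCheck chevE8 120 135 = true := by
  decide +kernel

theorem commE8_7_136 : commCheck chevE8 120 136 = true := by
  decide +kernel

theorem commE8_7_137 : commCheck chevE8 120 137 = true := by
  decide +kernel

theorem commE8_7_138 : commCheck chevE8 120 138 = true := by
  decide +kernel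

theorem commE8_7_139 : commCheck chevE8 120 139 = true := by
  decide +kernel

theorem commE8_7_140 : commCheck chevE8 120 140 = true := by
  decide +kernel

theorem commE8_7_141 : commCheck chevE8 120 141 = true := by
  decide +kernel

theorem commE8_7_142 : commCheck chevE8 120 142 = true := by
  decide +kernel

theorem commE8_7_143 : commCheck chevE8 120 143 = true := by
  decide +kernel

theorem commE8_7_144 : commCheck chevE8 120 144 = true := by
  decide +kernel

theorem commE8_7_145 : commCheck chevE8 120 145 = true := by
  decide +kernel

theorem commE8_7_146 : commCheck chevE8 120 146 = true := by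
  decide +kernel

theorem commE8_7_147 : commCheck chevE8 120 147 = true := by
  decide +kernel

theorem commE8_7_148 : commCheck chevE8 120 148 = true := by
  decide +kernel

theorem commE8_7_149 : commCheck chevE8 120 149 = true := by
  decide +kernel

theorem commE8_7_from120 (s : ℕ) (h1 : 120 ≤ s) (h2 : s < 150) : commCheck chevE8 120 s = true := by
  have h : s = 120 ∨ s = 121 ∨ s = 122 ∨ s = 123 ∨ s = 124 ∨ s = 125 ∨ s = 126 ∨ s = 127 ∨ s = 128 ∨ s = 129 ∨ s = 130 ∨ s = 131 ∨ s = 132 ∨ s = 133 ∨ s = 134 ∨ s = 135 ∨ s = 136 ∨ s = 137 ∨ s = 138 ∨ s = 139 ∨ s = 140 ∨ s = 141 ∨ s = 142 ∨ s = 143 ∨ s = 144 ∨ s = 145 ∨ s = 146 ∨ s = 147 ∨ s = 148 ∨ s = 149 := by omega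
  rcases h with rfl | rfl | rfl | rfl | rfl | rfl | rfl | rfl | rfl | rfl | rfl | rfl | rfl | rfl | rfl | rfl | rfl | rfl | rfl | rfl | rfl | rfl | rfl | rfl | rfl | rfl | rfl | rfl | rfl | rfl
  exacts [commE8_7_120, commE8_7_121, commE8_7_122, commE8_7_123, commE8_7_124, commE8_7_125, commE8_7_126, commE8_7_127, commE8_7_128, commE8_7_129, commE8_7_130, commE8_7_131, commE8_7_132, commE8_7_133, commE8_7_134, commE8_7_135, commE8_7_136, commE8_7_137, commE8_7_138, commE8_7_139, commE8_7_140, commE8_7_141, commE8_7_142, commE8_7_143, commE8_7_144, commE8_7_145, commE8_7_146, commE8_7_147, commE8_7_148, commE8_7_149]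

theorem commE8_7_150 : commCheck chevE8 120 150 = true := by
  decide +kernel

theorem commE8_7_151 : commCheck chevE8 120 151 = true := by
  decide +kernel

theorem commE8_7_152 : commCheck chevE8 120 152 = true := by
  decide +kernel

theorem commE8_7_153 : commCheck chevE8 120 153 = true := by
  decide +kernel

theorem commE8_7_154 : commCheck chevE8 120 154 = true := by
  decide +kernel

theorem commE8_7_155 : commCheck chevE8 120 155 = true := by
  decide +kernel

theorem commE8_7_156 : commCheck chevE8 120 156 = true := by
  decide +kernel

theorem commE8_7_157 : commCheck chevE8 120 157 = true := by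
  decide +kernel

theorem commE8_7_158 : commCheck chevE8 120 158 = true := by
  decide +kernel

theorem commE8_7_159 : commCheck chevE8 120 159 = true := by
  decide +kernel

theorem commE8_7_160 : commCheck chevE8 120 160 = true := by
  decide +kernel

theorem commE8_7_161 : commCheck chevE8 120 161 = true := by
  decide +kernel

theorem commE8_7_162 : commCheck chevE8 120 162 = true := by
  decide +kernel

theorem commE8_7_163 : commCheck chevE8 120 163 = true := by
  decide +kernel

theorem commE8_7_164 : commCheck chevE8 120 164 = true := by
  decide +kernel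

theorem commE8_7_165 : commCheck chevE8 120 165 = true := by
  decide +kernel

theorem commE8_7_166 : commCheck chevE8 120 166 = true := by
  decide +kernel

theorem commE8_7_167 : commCheck chevE8 120 167 = true := by
  decide +kernel

theorem commE8_7_168 : commCheck chevE8 120 168 = true := by
  decide +kernel

theorem commE8_7_169 : commCheck chevE8 120 169 = true := by
  decide +kernel

theorem commE8_7_170 : commCheck chevE8 120 170 = true := by
  decide +kernel

theorem commE8_7_171 : commCheck chevE8 120 171 = true := by
  decide +kernel

theorem commE8_7_172 : commCheck chevE8 120 172 = true := by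
  decide +kernel

theorem commE8_7_173 : commCheck chevE8 120 173 = true := by
  decide +kernel

theorem commE8_7_174 : commCheck chevE8 120 174 = true := by
  decide +kernel

theorem commE8_7_175 : commCheck chevE8 120 175 = true := by
  decide +kernel

theorem commE8_7_176 : commCheck chevE8 120 176 = true := by
  decide +kernel

theorem commE8_7_177 : commCheck chevE8 120 177 = true := by
  decide +kernel

theorem commE8_7_178 : commCheck chevE8 120 178 = true := by
  decide +kernel

theorem commE8_7_179 : commCheck chevE8 120 179 = true := by
  decide +kernel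

theorem commE8_7_from150 (s : ℕ) (h1 : 150 ≤ s) (h2 : s < 180) : commCheck chevE8 120 s = true := by
  have h : s = 150 ∨ s = 151 ∨ s = 152 ∨ s = 153 ∨ s = 154 ∨ s = 155 ∨ s = 156 ∨ s = 157 ∨ s = 158 ∨ s = 159 ∨ s = 160 ∨ s = 161 ∨ s = 162 ∨ s = 163 ∨ s = 164 ∨ s = 165 ∨ s = 166 ∨ s = 167 ∨ s = 168 ∨ s = 169 ∨ s = 170 ∨ s = 171 ∨ s = 172 ∨ s = 173 ∨ s = 174 ∨ s = 175 ∨ s = 176 ∨ s = 177 ∨ s = 178 ∨ s = 179 := by omega
  rcases h with rfl | rfl | rfl | rfl | rfl | rfl | rfl | rfl | rfl | rfl | rfl | rfl | rfl | rfl | rfl | rfl | rfl | rfl | rfl | rfl | rfl | rfl | rfl | rfl | rfl | rfl | rfl | rfl | rfl | rfl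
  exacts [commE8_7_150, commE8_7_151, commE8_7_152, commE8_7_153, commE8_7_154, commE8_7_155, commE8_7_156, commE8_7_157, commE8_7_158, commE8_7_159, commE8_7_160, commE8_7_161, commE8_7_162, commE8_7_163, commE8_7_164, commE8_7_165, commE8_7_166, commE8_7_167, commE8_7_168, commE8_7_169, commE8_7_170, commE8_7_171, commE8_7_172, commE8_7_173, commE8_7_174, commE8_7_175, commE8_7_176, commE8_7_177, commE8_7_178, commE8_7_179]

end Cfsg.Agent.Helper18
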