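import Cfsg.Agent.Lib.Helper18.CommSmall
import Cfsg.Agent.Lib.Helper18.CommE6_0
import Cfsg.Agent.Lib.Helper18.CommE6_1
import Cfsg.Agent.Lib.Helper18.CommE7_0
import Cfsg.Agent.Lib.Helper18.CommE7_1
import Cfsg.Agent.Lib.Helper18.CommE7_2
import Cfsg.Agent.Lib.Helper18.CommE7_3
import Cfsg.Agent.Lib.Helper18.CommE7_4
import Cfsg.Agent.Lib.Helper18.CommE7_5
import Cfsg.Agent.Lib.Helper18.CommE7_6
import Cfsg.Agent.Lib.Helper18.CommE8_0_0
import Cfsg.Agent.Lib.Helper18.CommE8_0_1
import Cfsg.Agent.Lib.Helper18.CommE8_1_0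
import Cfsg.Agent.Lib.Helper18.CommE8_1_1
import Cfsg.Agent.Lib.Helper18.CommE8_2_0
import Cfsg.Agent.Lib.Helper18.CommE8_2_1
import Cfsg.Agent.Lib.Helper18.CommE8_3_0
import Cfsg.Agent.Lib.Helper18.CommE8_3_1
import Cfsg.Agent.Lib.Helper18.CommE8_4_0
import Cfsg.Agent.Lib.Helper18.CommE8_4_1
import Cfsg.Agent.Lib.Helper18.CommE8_5_0
import Cfsg.Agent.Lib.Helper18.CommE8_5_1
import Cfsg.Agent.Lib.Helper18.CommE8_6_0
import Cfsg.Agent.Lib.Helper18.CommE8_6_1
import Cfsg.Agent.Lib.Helper18.CommE8_7_0
import Cfsg.Agent.Lib.Helper18.CommE8_7_1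
import Cfsg.Agent.S1043

set_option autoImplicit false

namespace Cfsg.Agent.Helper18

open Cfsg.Lie Cfsg.Agent.S1043

theorem posRangeG2 : ∀ s, chevG2.IsPosRoot s → 6 ≤ s ∧ s < 12 := by
  intro s hs
  have h1 : s < 12 := hs.1
  have : ∀ s < 12, chevG2.IsPosRoot s → 6 ≤ s := by decide +kernel
  exact ⟨this s h1 hs, h1⟩

theorem commAllG2 (i : ℕ) (hi : i < 2) (s : ℕ) (hs : chevG2.IsPosRoot s) : commCheck chevG2 (chevG2.simple i) s = true := by
  obtain ⟨h1, h2⟩ := posRangeG2 s hs
  have h : i = 0 ∨ i = 1 := by omega
  rcases h with rfl | rfl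
  · change commCheck chevG2 7 s = true
    exact commG2_0_from6 s (by omega) h2
  · change commCheck chevG2 6 s = true
    exact commG2_1_from6 s (by omega) h2

theorem posRangeB2 : ∀ s, chevB2.IsPosRoot s → 4 ≤ s ∧ s < 8 := by
  intro s hs
  have h1 : s < 8 := hs.1
  have : ∀ s < 8, chevB2.IsPosRoot s → 4 ≤ s := by decide +kernel
  exact ⟨this s h1 hs, h1⟩

theorem commAllB2 (i : ℕ) (hi : i < 2) (s : ℕ) (hs : chevB2.IsPosRoot s) : commCheck chevB2 (chevB2.simple i) s = true := by
  obtain ⟨h1, h2⟩ := posRangeB2 s hs
  have h : i = 0 ∨ i = 1 := by omega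
  rcases h with rfl | rfl
  · change commCheck chevB2 5 s = true
    exact commB2_0_from4 s (by omega) h2
  · change commCheck chevB2 4 s = true
    exact commB2_1_from4 s (by omega) h2

theorem posRangeD4 : ∀ s, chevD4.IsPosRoot s → 12 ≤ s ∧ s < 24 := by
  intro s hs
  have h1 : s < 24 := hs.1
  have : ∀ s < 24, chevD4.IsPosRoot s → 12 ≤ s := by decide +kernel
  exact ⟨this s h1 hs, h1⟩

theorem commAllD4 (i : ℕ) (hi : i < 4) (s : ℕ) (hs : chevD4.IsPosRoot s) : commCheck chevD4 (chevD4.simple i) s = true := by
  obtain ⟨h1, h2⟩ := posRangeD4 s hs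
  have h : i = 0 ∨ i = 1 ∨ i = 2 ∨ i = 3 := by omega
  rcases h with rfl | rfl | rfl | rfl
  · change commCheck chevD4 18 s = true
    exact commD4_0_from12 s (by omega) h2
  · change commCheck chevD4 14 s = true
    exact commD4_1_from12 s (by omega) h2
  · change commCheck chevD4 13 s = true
    exact commD4_2_from12 s (by omega) h2
  · change commCheck chevD4 12 s = true
    exact commD4_3_from12 s (by omega) h2

theorem posRangeF4 : ∀ s, chevF4.IsPosRoot s → 24 ≤ s ∧ s < 48 := by
  intro s hs
  have h1 : s < 48 := hs.1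
  have : ∀ s < 48, chevF4.IsPosRoot s → 24 ≤ s := by decide +kernel
  exact ⟨this s h1 hs, h1⟩

theorem commAllF4 (i : ℕ) (hi : i < 4) (s : ℕ) (hs : chevF4.IsPosRoot s) : commCheck chevF4 (chevF4.simple i) s = true := by
  obtain ⟨h1, h2⟩ := posRangeF4 s hs
  have h : i = 0 ∨ i = 1 ∨ i = 2 ∨ i = 3 := by omega
  rcases h with rfl | rfl | rfl | rfl
  · change commCheck chevF4 33 s = true
    exact commF4_0_from24 s (by omega) h2
  · change commCheck chevF4 27 s = true
    exact commF4_1_from24 s (by omega) h2
  · change commCheck chevF4 25 s = true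
    exact commF4_2_from24 s (by omega) h2
  · change commCheck chevF4 24 s = true
    exact commF4_3_from24 s (by omega) h2

theorem posRangeE6 : ∀ s, chevE6.IsPosRoot s → 36 ≤ s ∧ s < 72 := by
  intro s hs
  have h1 : s < 72 := hs.1
  have : ∀ s < 72, chevE6.IsPosRoot s → 36 ≤ s := by decide +kernel
  exact ⟨this s h1 hs, h1⟩

theorem commAllE6 (i : ℕ) (hi : i < 6) (s : ℕ) (hs : chevE6.IsPosRoot s) : commCheck chevE6 (chevE6.simple i) s = true := by
  obtain ⟨h1, h2⟩ := posRangeE6 s hs
  have h : i = 0 ∨ i = 1 ∨ i = 2 ∨ i = 3 ∨ i = 4 ∨ i = 5 := by omega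
  rcases h with rfl | rfl | rfl | rfl | rfl | rfl
  · change commCheck chevE6 56 s = true
    exact commE6_0_from36 s (by omega) h2
  · change commCheck chevE6 46 s = true
    exact commE6_1_from36 s (by omega) h2
  · change commCheck chevE6 42 s = true
    exact commE6_2_from36 s (by omega) h2
  · change commCheck chevE6 39 s = true
    exact commE6_3_from36 s (by omega) h2
  · change commCheck chevE6 37 s = true
    exact commE6_4_from36 s (by omega) h2
  · change commCheck chevE6 36 s = true
    exact commE6_5_from36 s (by omega) h2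

theorem posRangeE7 : ∀ s, chevE7.IsPosRoot s → 63 ≤ s ∧ s < 126 := by
  intro s hs
  have h1 : s < 126 := hs.1
  have : ∀ s < 126, chevE7.IsPosRoot s → 63 ≤ s := by decide +kernel
  exact ⟨this s h1 hs, h1⟩

theorem commAllE7 (i : ℕ) (hi : i < 7) (s : ℕ) (hs : chevE7.IsPosRoot s) : commCheck chevE7 (chevE7.simple i) s = true := by
  obtain ⟨h1, h2⟩ := posRangeE7 s hs
  have h : i = 0 ∨ i = 1 ∨ i = 2 ∨ i = 3 ∨ i = 4 ∨ i = 5 ∨ i = 6 := by omega
  rcases h with rfl | rfl | rfl | rfl | rfl | rfl | rfl
  · change commCheck chevE7 93 s = true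
    by_cases h95 : s < 95
    · exact commE7_0_from63 s (by omega) h95
    exact commE7_0_from95 s (by omega) h2
  · change commCheck chevE7 78 s = true
    by_cases h95 : s < 95
    · exact commE7_1_from63 s (by omega) h95
    exact commE7_1_from95 s (by omega) h2
  · change commCheck chevE7 73 s = true
    by_cases h95 : s < 95
    · exact commE7_2_from63 s (by omega) h95
    exact commE7_2_from95 s (by omega) h2
  · change commCheck chevE7 69 s = true
    by_cases h95 : s < 95
    · exact commE7_3_from63 s (by omega) h95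
    exact commE7_3_from95 s (by omega) h2
  · change commCheck chevE7 66 s = true
    by_cases h95 : s < 95
    · exact commE7_4_from63 s (by omega) h95
    exact commE7_4_from95 s (by omega) h2
  · change commCheck chevE7 64 s = true
    by_cases h95 : s < 95
    · exact commE7_5_from63 s (by omega) h95
    exact commE7_5_from95 s (by omega) h2
  · change commCheck chevE7 63 s = true
    by_cases h95 : s < 95
    · exact commE7_6_from63 s (by omega) h95
    exact commE7_6_from95 s (by omega) h2

theorem posRangeE8 : ∀ s, chevE8.IsPosRoot s → 120 ≤ s ∧ s < 240 := by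
  intro s hs
  have h1 : s < 240 := hs.1
  have : ∀ s < 240, chevE8.IsPosRoot s → 120 ≤ s := by decide +kernel
  exact ⟨this s h1 hs, h1⟩

theorem commAllE8 (i : ℕ) (hi : i < 8) (s : ℕ) (hs : chevE8.IsPosRoot s) : commCheck chevE8 (chevE8.simple i) s = true := by
  obtain ⟨h1, h2⟩ := posRangeE8 s hs
  have h : i = 0 ∨ i = 1 ∨ i = 2 ∨ i = 3 ∨ i = 4 ∨ i = 5 ∨ i = 6 ∨ i = 7 := by omega
  rcases h with rfl | rfl | rfl | rfl | rfl | rfl | rfl | rfl
  · change commCheck chevE8 162 s = true
    by_cases h150 : s < 150
    · exact commE8_0_from120 s (by omega) h150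
    by_cases h180 : s < 180
    · exact commE8_0_from150 s (by omega) h180
    by_cases h210 : s < 210
    · exact commE8_0_from180 s (by omega) h210
    exact commE8_0_from210 s (by omega) h2
  · change commCheck chevE8 141 s = true
    by_cases h150 : s < 150
    · exact commE8_1_from120 s (by omega) h150
    by_cases h180 : s < 180
    · exact commE8_1_from150 s (by omega) h180
    by_cases h210 : s < 210
    · exact commE8_1_from180 s (by omega) h210
    exact commE8_1_from210 s (by omega) h2
  · change commCheck chevE8 135 s = true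
    by_cases h150 : s < 150
    · exact commE8_2_from120 s (by omega) h150
    by_cases h180 : s < 180
    · exact commE8_2_from150 s (by omega) h180
    by_cases h210 : s < 210
    · exact commE8_2_from180 s (by omega) h210
    exact commE8_2_from210 s (by omega) h2
  · change commCheck chevE8 130 s = true
    by_cases h150 : s < 150
    · exact commE8_3_from120 s (by omega) h150
    by_cases h180 : s < 180
    · exact commE8_3_from150 s (by omega) h180
    by_cases h210 : s < 210
    · exact commE8_3_from180 s (by omega) h210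
    exact commE8_3_from210 s (by omega) h2
  · change commCheck chevE8 126 s = true
    by_cases h150 : s < 150
    · exact commE8_4_from120 s (by omega) h150
    by_cases h180 : s < 180
    · exact commE8_4_from150 s (by omega) h180
    by_cases h210 : s < 210
    · exact commE8_4_from180 s (by omega) h210
    exact commE8_4_from210 s (by omega) h2
  · change commCheck chevE8 123 s = true
    by_cases h150 : s < 150
    · exact commE8_5_from120 s (by omega) h150
    by_cases h180 : s < 180
    · exact commE8_5_from150 s (by omega) h180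
    by_cases h210 : s < 210
    · exact commE8_5_from180 s (by omega) h210
    exact commE8_5_from210 s (by omega) h2
  · change commCheck chevE8 121 s = true
    by_cases h150 : s < 150
    · exact commE8_6_from120 s (by omega) h150
    by_cases h180 : s < 180
    · exact commE8_6_from150 s (by omega) h180
    by_cases h210 : s < 210
    · exact commE8_6_from180 s (by omega) h210
    exact commE8_6_from210 s (by omega) h2
  · change commCheck chevE8 120 s = true
    by_cases h150 : s < 150
    · exact commE8_7_from120 s (by omega) h150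
    by_cases h180 : s < 180
    · exact commE8_7_from150 s (by omega) h180
    by_cases h210 : s < 210
    · exact commE8_7_from180 s (by omega) h210
    exact commE8_7_from210 s (by omega) h2

theorem commCheck_all (D : ChevalleyDatum) (hD : Good D) (i : ℕ) (hi : i < D.rank) (s : ℕ)
    (hs : D.IsPosRoot s) : commCheck D (D.simple i) s = true := by
  simp only [Good, List.mem_cons, List.not_mem_nil, or_false] at hD
  rcases hD with rfl | rfl | rfl | rfl | rfl | rfl | rfl
  · exact commAllG2 i hi s hs
  · exact commAllB2 i hi s hs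
  · exact commAllD4 i hi s hs
  · exact commAllF4 i hi s hs
  · exact commAllE6 i hi s hs
  · exact commAllE7 i hi s hs
  · exact commAllE8 i hi s hs

end Cfsg.Agent.Helper18
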