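import Cfsg.Agent.Lib.Helper18.UiData
import Cfsg.Agent.Lib.Helper18.CommAll

set_option autoImplicit false

namespace Cfsg.Agent.Helper18

open Cfsg.Lie Cfsg.Agent.S1043

theorem uiFacts_all (D : ChevalleyDatum) (hD : Good D) : UiFacts D :=
  ⟨(uiFacts12_all D hD).1, (uiFacts12_all D hD).2, fun i hi s hs => commCheck_all D hD i hi s hs⟩

end Cfsg.Agent.Helper18
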