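import Cfsg.Agent.Lib.Helper18.ChevUCard
import Cfsg.Agent.Lib.Helper18.BNData

set_option autoImplicit false
set_option Elab.async false

namespace Cfsg.Agent.Helper18

open Cfsg.Lie Cfsg.Agent.S1043 Cfsg.Agent.Helper17

theorem redChkG2 : redAux chevG2 permTblG2 [] w0WordG2 = true := by decide +kernel
theorem redChkB2 : redAux chevB2 permTblB2 [] w0WordB2 = true := by decide +kernel
theorem redChkD4 : redAux chevD4 permTblD4 [] w0WordD4 = true := by decide +kernel
theorem redChkF4 : redAux chevF4 permTblF4 [] w0WordF4 = true := by decide +kernel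
theorem redChkE6 : redAux chevE6 permTblE6 [] w0WordE6 = true := by decide +kernel
theorem redChkE7 : redAux chevE7 permTblE7 [] w0WordE7 = true := by decide +kernel
theorem redChkE8 : redAux chevE8 permTblE8 [] w0WordE8 = true := by decide +kernel

theorem w0ChkG2 : w0Check chevG2 permTblG2 w0WordG2 = true := by decide +kernel
theorem w0ChkB2 : w0Check chevB2 permTblB2 w0WordB2 = true := by decide +kernel
theorem w0ChkD4 : w0Check chevD4 permTblD4 w0WordD4 = true := by decide +kernel
theorem w0ChkF4 : w0Check chevF4 permTblF4 w0WordF4 = true := by decide +kernel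
theorem w0ChkE6 : w0Check chevE6 permTblE6 w0WordE6 = true := by decide +kernel
theorem w0ChkE7 : w0Check chevE7 permTblE7 w0WordE7 = true := by decide +kernel
theorem w0ChkE8 : w0Check chevE8 permTblE8 w0WordE8 = true := by decide +kernel

theorem w0LenG2 : w0WordG2.length = chevG2.nroots / 2 := by decide +kernel
theorem w0LenB2 : w0WordB2.length = chevB2.nroots / 2 := by decide +kernel
theorem w0LenD4 : w0WordD4.length = chevD4.nroots / 2 := by decide +kernel
theorem w0LenF4 : w0WordF4.length = chevF4.nroots / 2 := by decide +kernel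
theorem w0LenE6 : w0WordE6.length = chevE6.nroots / 2 := by decide +kernel
theorem w0LenE7 : w0WordE7.length = chevE7.nroots / 2 := by decide +kernel
theorem w0LenE8 : w0WordE8.length = chevE8.nroots / 2 := by decide +kernel

/-- A reduced word for the longest element, with its table facts. -/
theorem w0Data_all (D : ChevalleyDatum) (hD : Good D) :
    ∃ (tbls : List ℕ) (l : List ℕ), (∀ i < D.rank, permCheck D i (lget tbls i 0) = true) ∧
      redAux D tbls [] l = true ∧ w0Check D tbls l = true ∧ l.length = D.nroots / 2 := by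
  simp only [Good, List.mem_cons, List.not_mem_nil, or_false] at hD
  rcases hD with rfl | rfl | rfl | rfl | rfl | rfl | rfl
  · exact ⟨_, _, permTblG2_ok, redChkG2, w0ChkG2, w0LenG2⟩
  · exact ⟨_, _, permTblB2_ok, redChkB2, w0ChkB2, w0LenB2⟩
  · exact ⟨_, _, permTblD4_ok, redChkD4, w0ChkD4, w0LenD4⟩
  · exact ⟨_, _, permTblF4_ok, redChkF4, w0ChkF4, w0LenF4⟩
  · exact ⟨_, _, permTblE6_ok, redChkE6, w0ChkE6, w0LenE6⟩
  · exact ⟨_, _, permTblE7_ok, redChkE7, w0ChkE7, w0LenE7⟩
  · exact ⟨_, _, permTblE8_ok, redChkE8, w0ChkE8, w0LenE8⟩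

end Cfsg.Agent.Helper18
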