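import Cfsg.Agent.Lib.Helper18.ChevN
import Cfsg.Prelude.Def_LieTypes
import Cfsg.Prelude.Def_ChevB2

set_option autoImplicit false
set_option maxRecDepth 100000

namespace Cfsg.Agent.Helper18

open Cfsg.Lie

theorem nSignE7_0 : fSignCheck chevE7 0 (etaOf 42535295884914969941661665728038699009) = true := by decide +kernel
theorem nChkE7_0 : fnCheck chevE7 0 (etaOf 42535295884914969941661665728038699009) = true := by decide +kernel
theorem nGoalE7_0 {F : Type*} [Field F] : NGoal F chevE7 0 :=
  nGoal_of_checks chevE7 0 (by decide) _ nSignE7_0 nChkE7_0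

theorem nSignE7_1 : fSignCheck chevE7 1 (etaOf 9969219475911752942880135688992325752) = true := by decide +kernel
theorem nChkE7_1 : fnCheck chevE7 1 (etaOf 9969219475911752942880135688992325752) = true := by decide +kernel
theorem nGoalE7_1 {F : Type*} [Field F] : NGoal F chevE7 1 :=
  nGoal_of_checks chevE7 1 (by decide) _ nSignE7_1 nChkE7_1

theorem nSignE7_2 : fSignCheck chevE7 2 (etaOf 21308537290271745760265171479237359618) = true := by decide +kernel
theorem nChkE7_2 : fnCheck chevE7 2 (etaOf 21308537290271745760265171479237359618) = true := by decide +kernel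
theorem nGoalE7_2 {F : Type*} [Field F] : NGoal F chevE7 2 :=
  nGoal_of_checks chevE7 2 (by decide) _ nSignE7_2 nChkE7_2

theorem nSignE7_3 : fSignCheck chevE7 3 (etaOf 10924663619488793363045094406352799492) = true := by decide +kernel
theorem nChkE7_3 : fnCheck chevE7 3 (etaOf 10924663619488793363045094406352799492) = true := by decide +kernel
theorem nGoalE7_3 {F : Type*} [Field F] : NGoal F chevE7 3 :=
  nGoal_of_checks chevE7 3 (by decide) _ nSignE7_3 nChkE7_3

theorem nSignE7_4 : fSignCheck chevE7 4 (etaOf 5665040612189914454778297062204911752) = true := by decide +kernel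
theorem nChkE7_4 : fnCheck chevE7 4 (etaOf 5665040612189914454778297062204911752) = true := by decide +kernel
theorem nGoalE7_4 {F : Type*} [Field F] : NGoal F chevE7 4 :=
  nGoal_of_checks chevE7 4 (by decide) _ nSignE7_4 nChkE7_4

theorem nSignE7_5 : fSignCheck chevE7 5 (etaOf 2847024252714933557071685096178878736) = true := by decide +kernel
theorem nChkE7_5 : fnCheck chevE7 5 (etaOf 2847024252714933557071685096178878736) = true := by decide +kernel
theorem nGoalE7_5 {F : Type*} [Field F] : NGoal F chevE7 5 :=
  nGoal_of_checks chevE7 5 (by decide) _ nSignE7_5 nChkE7_5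

theorem nSignE7_6 : fSignCheck chevE7 6 (etaOf 1425493702456110909934783426152649248) = true := by decide +kernel
theorem nChkE7_6 : fnCheck chevE7 6 (etaOf 1425493702456110909934783426152649248) = true := by decide +kernel
theorem nGoalE7_6 {F : Type*} [Field F] : NGoal F chevE7 6 :=
  nGoal_of_checks chevE7 6 (by decide) _ nSignE7_6 nChkE7_6

theorem nGoalE7 {F : Type*} [Field F] (i : ℕ) (hlo : 0 ≤ i) (hi : i < 7) : NGoal F chevE7 i := by
  interval_cases i
  · exact nGoalE7_0
  · exact nGoalE7_1
  · exact nGoalE7_2
  · exact nGoalE7_3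
  · exact nGoalE7_4
  · exact nGoalE7_5
  · exact nGoalE7_6

end Cfsg.Agent.Helper18
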