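import Cfsg.Agent.Lib.Helper18.ChevN
import Cfsg.Prelude.Def_LieTypes
import Cfsg.Prelude.Def_ChevB2

set_option autoImplicit false
set_option maxRecDepth 100000

namespace Cfsg.Agent.Helper18

open Cfsg.Lie

theorem nSignE8_0 : fSignCheck chevE8 0 (etaOf 20597399253703088803137291363919720476649811351842022074600809197223744) = true := by decide +kernel
theorem nChkE8_0 : fnCheck chevE8 0 (etaOf 20597399253703088803137291363919720476649811351842022074600809197223744) = true := by decide +kernel
theorem nGoalE8_0 {F : Type*} [Field F] : NGoal F chevE8 0 :=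
  nGoal_of_checks chevE8 0 (by decide) _ nSignE8_0 nChkE8_0

theorem nSignE8_1 : fSignCheck chevE8 1 (etaOf 41464424276439592458547658795802407934099191135292454134463122888474720) = true := by decide +kernel
theorem nChkE8_1 : fnCheck chevE8 1 (etaOf 41464424276439592458547658795802407934099191135292454134463122888474720) = true := by decide +kernel
theorem nGoalE8_1 {F : Type*} [Field F] : NGoal F chevE8 1 :=
  nGoal_of_checks chevE8 1 (by decide) _ nSignE8_1 nChkE8_1

theorem nSignE8_2 : fSignCheck chevE8 2 (etaOf 34534849182311705006499453394853494570293073576682290393498244893048992) = true := by decide +kernel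
theorem nChkE8_2 : fnCheck chevE8 2 (etaOf 34534849182311705006499453394853494570293073576682290393498244893048992) = true := by decide +kernel
theorem nGoalE8_2 {F : Type*} [Field F] : NGoal F chevE8 2 :=
  nGoal_of_checks chevE8 2 (by decide) _ nSignE8_2 nChkE8_2

theorem nSignE8_3 : fSignCheck chevE8 3 (etaOf 58692198817062529918959764646698662451337801727423465191247917552271632) = true := by decide +kernel
theorem nChkE8_3 : fnCheck chevE8 3 (etaOf 58692198817062529918959764646698662451337801727423465191247917552271632) = true := by decide +kernel
theorem nGoalE8_3 {F : Type*} [Field F] : NGoal F chevE8 3 :=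
  nGoal_of_checks chevE8 3 (by decide) _ nSignE8_3 nChkE8_3

theorem nGoalE8a {F : Type*} [Field F] (i : ℕ) (hlo : 0 ≤ i) (hi : i < 4) : NGoal F chevE8 i := by
  interval_cases i
  · exact nGoalE8_0
  · exact nGoalE8_1
  · exact nGoalE8_2
  · exact nGoalE8_3

end Cfsg.Agent.Helper18
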