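import Cfsg.Agent.Lib.Helper18.ChevN
import Cfsg.Prelude.Def_LieTypes
import Cfsg.Prelude.Def_ChevB2

set_option autoImplicit false
set_option maxRecDepth 100000

namespace Cfsg.Agent.Helper18

open Cfsg.Lie

theorem nSignE8_4 : fSignCheck chevE8 4 (etaOf 112167290887630127568134548647500768953880284869065220113818780602270216) = true := by decide +kernel
theorem nChkE8_4 : fnCheck chevE8 4 (etaOf 112167290887630127568134548647500768953880284869065220113818780602270216) = true := by decide +kernel
theorem nGoalE8_4 {F : Type*} [Field F] : NGoal F chevE8 4 :=
  nGoal_of_checks chevE8 4 (by decide) _ nSignE8_4 nChkE8_4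

theorem nSignE8_5 : fSignCheck chevE8 5 (etaOf 221725565796465234069846255712747878990393484658275795028023269379933188) = true := by decide +kernel
theorem nChkE8_5 : fnCheck chevE8 5 (etaOf 221725565796465234069846255712747878990393484658275795028023269379933188) = true := by decide +kernel
theorem nGoalE8_5 {F : Type*} [Field F] : NGoal F chevE8 5 :=
  nGoal_of_checks chevE8 5 (by decide) _ nSignE8_5 nChkE8_5

theorem nSignE8_6 : fSignCheck chevE8 6 (etaOf 442146608110382968443535400616058046441516637287510334612417353510815746) = true := by decide +kernel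
theorem nChkE8_6 : fnCheck chevE8 6 (etaOf 442146608110382968443535400616058046441516637287510334612417353510815746) = true := by decide +kernel
theorem nGoalE8_6 {F : Type*} [Field F] : NGoal F chevE8 6 :=
  nGoal_of_checks chevE8 6 (by decide) _ nSignE8_6 nChkE8_6

theorem nSignE8_7 : fSignCheck chevE8 7 (etaOf 883640953424295284539211242083837250739230978062844892341602038697168897) = true := by decide +kernel
theorem nChkE8_7 : fnCheck chevE8 7 (etaOf 883640953424295284539211242083837250739230978062844892341602038697168897) = true := by decide +kernel
theorem nGoalE8_7 {F : Type*} [Field F] : NGoal F chevE8 7 :=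
  nGoal_of_checks chevE8 7 (by decide) _ nSignE8_7 nChkE8_7

theorem nGoalE8b {F : Type*} [Field F] (i : ℕ) (hlo : 4 ≤ i) (hi : i < 8) : NGoal F chevE8 i := by
  interval_cases i
  · exact nGoalE8_4
  · exact nGoalE8_5
  · exact nGoalE8_6
  · exact nGoalE8_7

end Cfsg.Agent.Helper18
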