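import Cfsg.Agent.Lib.Helper18.ChevN
import Cfsg.Prelude.Def_LieTypes
import Cfsg.Prelude.Def_ChevB2

set_option autoImplicit false
set_option maxRecDepth 100000

namespace Cfsg.Agent.Helper18

open Cfsg.Lie

theorem nSignG2_0 : fSignCheck chevG2 0 (etaOf 1686) = true := by decide +kernel
theorem nChkG2_0 : fnCheck chevG2 0 (etaOf 1686) = true := by decide +kernel
theorem nGoalG2_0 {F : Type*} [Field F] : NGoal F chevG2 0 :=
  nGoal_of_checks chevG2 0 (by decide) _ nSignG2_0 nChkG2_0

theorem nSignG2_1 : fSignCheck chevG2 1 (etaOf 2409) = true := by decide +kernel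
theorem nChkG2_1 : fnCheck chevG2 1 (etaOf 2409) = true := by decide +kernel
theorem nGoalG2_1 {F : Type*} [Field F] : NGoal F chevG2 1 :=
  nGoal_of_checks chevG2 1 (by decide) _ nSignG2_1 nChkG2_1

theorem nGoalG2 {F : Type*} [Field F] (i : ℕ) (hlo : 0 ≤ i) (hi : i < 2) : NGoal F chevG2 i := by
  interval_cases i
  · exact nGoalG2_0
  · exact nGoalG2_1

theorem nSignB2_0 : fSignCheck chevB2 0 (etaOf 255) = true := by decide +kernel
theorem nChkB2_0 : fnCheck chevB2 0 (etaOf 255) = true := by decide +kernel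
theorem nGoalB2_0 {F : Type*} [Field F] : NGoal F chevB2 0 :=
  nGoal_of_checks chevB2 0 (by decide) _ nSignB2_0 nChkB2_0

theorem nSignB2_1 : fSignCheck chevB2 1 (etaOf 90) = true := by decide +kernel
theorem nChkB2_1 : fnCheck chevB2 1 (etaOf 90) = true := by decide +kernel
theorem nGoalB2_1 {F : Type*} [Field F] : NGoal F chevB2 1 :=
  nGoal_of_checks chevB2 1 (by decide) _ nSignB2_1 nChkB2_1

theorem nGoalB2 {F : Type*} [Field F] (i : ℕ) (hlo : 0 ≤ i) (hi : i < 2) : NGoal F chevB2 i := by
  interval_cases i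
  · exact nGoalB2_0
  · exact nGoalB2_1

theorem nSignD4_0 : fSignCheck chevD4 0 (etaOf 508896) = true := by decide +kernel
theorem nChkD4_0 : fnCheck chevD4 0 (etaOf 508896) = true := by decide +kernel
theorem nGoalD4_0 {F : Type*} [Field F] : NGoal F chevD4 0 :=
  nGoal_of_checks chevD4 0 (by decide) _ nSignD4_0 nChkD4_0

theorem nSignD4_1 : fSignCheck chevD4 1 (etaOf 8945169) = true := by decide +kernel
theorem nChkD4_1 : fnCheck chevD4 1 (etaOf 8945169) = true := by decide +kernel
theorem nGoalD4_1 {F : Type*} [Field F] : NGoal F chevD4 1 :=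
  nGoal_of_checks chevD4 1 (by decide) _ nSignD4_1 nChkD4_1

theorem nSignD4_2 : fSignCheck chevD4 2 (etaOf 6497478) = true := by decide +kernel
theorem nChkD4_2 : fnCheck chevD4 2 (etaOf 6497478) = true := by decide +kernel
theorem nGoalD4_2 {F : Type*} [Field F] : NGoal F chevD4 2 :=
  nGoal_of_checks chevD4 2 (by decide) _ nSignD4_2 nChkD4_2

theorem nSignD4_3 : fSignCheck chevD4 3 (etaOf 5413194) = true := by decide +kernel
theorem nChkD4_3 : fnCheck chevD4 3 (etaOf 5413194) = true := by decide +kernel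
theorem nGoalD4_3 {F : Type*} [Field F] : NGoal F chevD4 3 :=
  nGoal_of_checks chevD4 3 (by decide) _ nSignD4_3 nChkD4_3

theorem nGoalD4 {F : Type*} [Field F] (i : ℕ) (hlo : 0 ≤ i) (hi : i < 4) : NGoal F chevD4 i := by
  interval_cases i
  · exact nGoalD4_0
  · exact nGoalD4_1
  · exact nGoalD4_2
  · exact nGoalD4_3

theorem nSignF4_0 : fSignCheck chevF4 0 (etaOf 33964469241720) = true := by decide +kernel
theorem nChkF4_0 : fnCheck chevF4 0 (etaOf 33964469241720) = true := by decide +kernel
theorem nGoalF4_0 {F : Type*} [Field F] : NGoal F chevF4 0 :=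
  nGoal_of_checks chevF4 0 (by decide) _ nSignF4_0 nChkF4_0

theorem nSignF4_1 : fSignCheck chevF4 1 (etaOf 19125464147592) = true := by decide +kernel
theorem nChkF4_1 : fnCheck chevF4 1 (etaOf 19125464147592) = true := by decide +kernel
theorem nGoalF4_1 {F : Type*} [Field F] : NGoal F chevF4 1 :=
  nGoal_of_checks chevF4 1 (by decide) _ nSignF4_1 nChkF4_1

theorem nSignF4_2 : fSignCheck chevF4 2 (etaOf 79753579630866) = true := by decide +kernel
theorem nChkF4_2 : fnCheck chevF4 2 (etaOf 79753579630866) = true := by decide +kernel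
theorem nGoalF4_2 {F : Type*} [Field F] : NGoal F chevF4 2 :=
  nGoal_of_checks chevF4 2 (by decide) _ nSignF4_2 nChkF4_2

theorem nSignF4_3 : fSignCheck chevF4 3 (etaOf 145481911306785) = true := by decide +kernel
theorem nChkF4_3 : fnCheck chevF4 3 (etaOf 145481911306785) = true := by decide +kernel
theorem nGoalF4_3 {F : Type*} [Field F] : NGoal F chevF4 3 :=
  nGoal_of_checks chevF4 3 (by decide) _ nSignF4_3 nChkF4_3

theorem nGoalF4 {F : Type*} [Field F] (i : ℕ) (hlo : 0 ≤ i) (hi : i < 4) : NGoal F chevF4 i := by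
  interval_cases i
  · exact nGoalF4_0
  · exact nGoalF4_1
  · exact nGoalF4_2
  · exact nGoalF4_3

theorem nSignE6_0 : fSignCheck chevE6 0 (etaOf 143055259877474304) = true := by decide +kernel
theorem nChkE6_0 : fnCheck chevE6 0 (etaOf 143055259877474304) = true := by decide +kernel
theorem nGoalE6_0 {F : Type*} [Field F] : NGoal F chevE6 0 :=
  nGoal_of_checks chevE6 0 (by decide) _ nSignE6_0 nChkE6_0

theorem nSignE6_1 : fSignCheck chevE6 1 (etaOf 2377332098023254656769) = true := by decide +kernel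
theorem nChkE6_1 : fnCheck chevE6 1 (etaOf 2377332098023254656769) = true := by decide +kernel
theorem nGoalE6_1 {F : Type*} [Field F] : NGoal F chevE6 1 :=
  nGoal_of_checks chevE6 1 (by decide) _ nSignE6_1 nChkE6_1

theorem nSignE6_2 : fSignCheck chevE6 2 (etaOf 1033169672869552603164) = true := by decide +kernel
theorem nChkE6_2 : fnCheck chevE6 2 (etaOf 1033169672869552603164) = true := by decide +kernel
theorem nGoalE6_2 {F : Type*} [Field F] : NGoal F chevE6 2 :=
  nGoal_of_checks chevE6 2 (by decide) _ nSignE6_2 nChkE6_2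

theorem nSignE6_3 : fSignCheck chevE6 3 (etaOf 1236247255438460330178) = true := by decide +kernel
theorem nChkE6_3 : fnCheck chevE6 3 (etaOf 1236247255438460330178) = true := by decide +kernel
theorem nGoalE6_3 {F : Type*} [Field F] : NGoal F chevE6 3 :=
  nGoal_of_checks chevE6 3 (by decide) _ nSignE6_3 nChkE6_3

theorem nSignE6_4 : fSignCheck chevE6 4 (etaOf 669309514447770948132) = true := by decide +kernel
theorem nChkE6_4 : fnCheck chevE6 4 (etaOf 669309514447770948132) = true := by decide +kernel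
theorem nGoalE6_4 {F : Type*} [Field F] : NGoal F chevE6 4 :=
  nGoal_of_checks chevE6 4 (by decide) _ nSignE6_4 nChkE6_4

theorem nSignE6_5 : fSignCheck chevE6 5 (etaOf 342440805587411929416) = true := by decide +kernel
theorem nChkE6_5 : fnCheck chevE6 5 (etaOf 342440805587411929416) = true := by decide +kernel
theorem nGoalE6_5 {F : Type*} [Field F] : NGoal F chevE6 5 :=
  nGoal_of_checks chevE6 5 (by decide) _ nSignE6_5 nChkE6_5

theorem nGoalE6 {F : Type*} [Field F] (i : ℕ) (hlo : 0 ≤ i) (hi : i < 6) : NGoal F chevE6 i := by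
  interval_cases i
  · exact nGoalE6_0
  · exact nGoalE6_1
  · exact nGoalE6_2
  · exact nGoalE6_3
  · exact nGoalE6_4
  · exact nGoalE6_5

end Cfsg.Agent.Helper18
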