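import Cfsg.Agent.Lib.Helper18.ChevNH
import Cfsg.Prelude.Def_LieTypes
import Cfsg.Prelude.Def_ChevB2

set_option autoImplicit false
set_option maxRecDepth 100000

namespace Cfsg.Agent.Helper18

open Cfsg.Lie

theorem reflE8_0 : ((List.range 8).all fun j => reflCheck chevE8 expE8 0 j) = true := by
  decide +kernel

theorem reflE8_1 : ((List.range 8).all fun j => reflCheck chevE8 expE8 1 j) = true := by
  decide +kernel

theorem reflE8_2 : ((List.range 8).all fun j => reflCheck chevE8 expE8 2 j) = true := by
  decide +kernel

theorem reflE8_3 : ((List.range 8).all fun j => reflCheck chevE8 expE8 3 j) = true := by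
  decide +kernel

theorem reflAllE8a (i j : ℕ) (hlo : 0 ≤ i) (hi : i < 4) (hj : j < 8) : reflCheck chevE8 expE8 i j = true := by
  have h : i = 0 ∨ i = 1 ∨ i = 2 ∨ i = 3 := by omega
  rcases h with rfl | rfl | rfl | rfl
  · have h := reflE8_0
    simp only [List.all_eq_true, List.mem_range] at h
    exact h j hj
  · have h := reflE8_1
    simp only [List.all_eq_true, List.mem_range] at h
    exact h j hj
  · have h := reflE8_2
    simp only [List.all_eq_true, List.mem_range] at h
    exact h j hj
  · have h := reflE8_3
    simp only [List.all_eq_true, List.mem_range] at h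
    exact h j hj

end Cfsg.Agent.Helper18
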