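import Cfsg.Agent.Lib.Helper18.ChevNH
import Cfsg.Prelude.Def_LieTypes
import Cfsg.Prelude.Def_ChevB2

set_option autoImplicit false
set_option maxRecDepth 100000

namespace Cfsg.Agent.Helper18

open Cfsg.Lie

theorem reflG2_0 : ((List.range 2).all fun j => reflCheck chevG2 expG2 0 j) = true := by
  decide +kernel

theorem reflG2_1 : ((List.range 2).all fun j => reflCheck chevG2 expG2 1 j) = true := by
  decide +kernel

theorem reflAllG2' (i j : ℕ) (hlo : 0 ≤ i) (hi : i < 2) (hj : j < 2) : reflCheck chevG2 expG2 i j = true := by
  have h : i = 0 ∨ i = 1 := by omega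
  rcases h with rfl | rfl
  · have h := reflG2_0
    simp only [List.all_eq_true, List.mem_range] at h
    exact h j hj
  · have h := reflG2_1
    simp only [List.all_eq_true, List.mem_range] at h
    exact h j hj

theorem reflAllG2 (i j : ℕ) (hi : i < 2) (hj : j < 2) : reflCheck chevG2 expG2 i j = true :=
  reflAllG2' i j (Nat.zero_le _) hi hj

theorem reflB2_0 : ((List.range 2).all fun j => reflCheck chevB2 expB2 0 j) = true := by
  decide +kernel

theorem reflB2_1 : ((List.range 2).all fun j => reflCheck chevB2 expB2 1 j) = true := by
  decide +kernel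

theorem reflAllB2' (i j : ℕ) (hlo : 0 ≤ i) (hi : i < 2) (hj : j < 2) : reflCheck chevB2 expB2 i j = true := by
  have h : i = 0 ∨ i = 1 := by omega
  rcases h with rfl | rfl
  · have h := reflB2_0
    simp only [List.all_eq_true, List.mem_range] at h
    exact h j hj
  · have h := reflB2_1
    simp only [List.all_eq_true, List.mem_range] at h
    exact h j hj

theorem reflAllB2 (i j : ℕ) (hi : i < 2) (hj : j < 2) : reflCheck chevB2 expB2 i j = true :=
  reflAllB2' i j (Nat.zero_le _) hi hj

theorem reflD4_0 : ((List.range 4).all fun j => reflCheck chevD4 expD4 0 j) = true := by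
  decide +kernel

theorem reflD4_1 : ((List.range 4).all fun j => reflCheck chevD4 expD4 1 j) = true := by
  decide +kernel

theorem reflD4_2 : ((List.range 4).all fun j => reflCheck chevD4 expD4 2 j) = true := by
  decide +kernel

theorem reflD4_3 : ((List.range 4).all fun j => reflCheck chevD4 expD4 3 j) = true := by
  decide +kernel

theorem reflAllD4' (i j : ℕ) (hlo : 0 ≤ i) (hi : i < 4) (hj : j < 4) : reflCheck chevD4 expD4 i j = true := by
  have h : i = 0 ∨ i = 1 ∨ i = 2 ∨ i = 3 := by omega
  rcases h with rfl | rfl | rfl | rfl
  · have h := reflD4_0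
    simp only [List.all_eq_true, List.mem_range] at h
    exact h j hj
  · have h := reflD4_1
    simp only [List.all_eq_true, List.mem_range] at h
    exact h j hj
  · have h := reflD4_2
    simp only [List.all_eq_true, List.mem_range] at h
    exact h j hj
  · have h := reflD4_3
    simp only [List.all_eq_true, List.mem_range] at h
    exact h j hj

theorem reflAllD4 (i j : ℕ) (hi : i < 4) (hj : j < 4) : reflCheck chevD4 expD4 i j = true :=
  reflAllD4' i j (Nat.zero_le _) hi hj

theorem reflF4_0 : ((List.range 4).all fun j => reflCheck chevF4 expF4 0 j) = true := by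
  decide +kernel

theorem reflF4_1 : ((List.range 4).all fun j => reflCheck chevF4 expF4 1 j) = true := by
  decide +kernel

theorem reflF4_2 : ((List.range 4).all fun j => reflCheck chevF4 expF4 2 j) = true := by
  decide +kernel

theorem reflF4_3 : ((List.range 4).all fun j => reflCheck chevF4 expF4 3 j) = true := by
  decide +kernel

theorem reflAllF4' (i j : ℕ) (hlo : 0 ≤ i) (hi : i < 4) (hj : j < 4) : reflCheck chevF4 expF4 i j = true := by
  have h : i = 0 ∨ i = 1 ∨ i = 2 ∨ i = 3 := by omega
  rcases h with rfl | rfl | rfl | rfl
  · have h := reflF4_0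
    simp only [List.all_eq_true, List.mem_range] at h
    exact h j hj
  · have h := reflF4_1
    simp only [List.all_eq_true, List.mem_range] at h
    exact h j hj
  · have h := reflF4_2
    simp only [List.all_eq_true, List.mem_range] at h
    exact h j hj
  · have h := reflF4_3
    simp only [List.all_eq_true, List.mem_range] at h
    exact h j hj

theorem reflAllF4 (i j : ℕ) (hi : i < 4) (hj : j < 4) : reflCheck chevF4 expF4 i j = true :=
  reflAllF4' i j (Nat.zero_le _) hi hj

theorem reflE6_0 : ((List.range 6).all fun j => reflCheck chevE6 expE6 0 j) = true := by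
  decide +kernel

theorem reflE6_1 : ((List.range 6).all fun j => reflCheck chevE6 expE6 1 j) = true := by
  decide +kernel

theorem reflE6_2 : ((List.range 6).all fun j => reflCheck chevE6 expE6 2 j) = true := by
  decide +kernel

theorem reflE6_3 : ((List.range 6).all fun j => reflCheck chevE6 expE6 3 j) = true := by
  decide +kernel

theorem reflE6_4 : ((List.range 6).all fun j => reflCheck chevE6 expE6 4 j) = true := by
  decide +kernel

theorem reflE6_5 : ((List.range 6).all fun j => reflCheck chevE6 expE6 5 j) = true := by
  decide +kernel

theorem reflAllE6' (i j : ℕ) (hlo : 0 ≤ i) (hi : i < 6) (hj : j < 6) : reflCheck chevE6 expE6 i j = true := by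
  have h : i = 0 ∨ i = 1 ∨ i = 2 ∨ i = 3 ∨ i = 4 ∨ i = 5 := by omega
  rcases h with rfl | rfl | rfl | rfl | rfl | rfl
  · have h := reflE6_0
    simp only [List.all_eq_true, List.mem_range] at h
    exact h j hj
  · have h := reflE6_1
    simp only [List.all_eq_true, List.mem_range] at h
    exact h j hj
  · have h := reflE6_2
    simp only [List.all_eq_true, List.mem_range] at h
    exact h j hj
  · have h := reflE6_3
    simp only [List.all_eq_true, List.mem_range] at h
    exact h j hj
  · have h := reflE6_4
    simp only [List.all_eq_true, List.mem_range] at h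
    exact h j hj
  · have h := reflE6_5
    simp only [List.all_eq_true, List.mem_range] at h
    exact h j hj

theorem reflAllE6 (i j : ℕ) (hi : i < 6) (hj : j < 6) : reflCheck chevE6 expE6 i j = true :=
  reflAllE6' i j (Nat.zero_le _) hi hj

theorem reflE7_0 : ((List.range 7).all fun j => reflCheck chevE7 expE7 0 j) = true := by
  decide +kernel

theorem reflE7_1 : ((List.range 7).all fun j => reflCheck chevE7 expE7 1 j) = true := by
  decide +kernel

theorem reflE7_2 : ((List.range 7).all fun j => reflCheck chevE7 expE7 2 j) = true := by
  decide +kernel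

theorem reflE7_3 : ((List.range 7).all fun j => reflCheck chevE7 expE7 3 j) = true := by
  decide +kernel

theorem reflE7_4 : ((List.range 7).all fun j => reflCheck chevE7 expE7 4 j) = true := by
  decide +kernel

theorem reflE7_5 : ((List.range 7).all fun j => reflCheck chevE7 expE7 5 j) = true := by
  decide +kernel

theorem reflE7_6 : ((List.range 7).all fun j => reflCheck chevE7 expE7 6 j) = true := by
  decide +kernel

theorem reflAllE7' (i j : ℕ) (hlo : 0 ≤ i) (hi : i < 7) (hj : j < 7) : reflCheck chevE7 expE7 i j = true := by
  have h : i = 0 ∨ i = 1 ∨ i = 2 ∨ i = 3 ∨ i = 4 ∨ i = 5 ∨ i = 6 := by omega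
  rcases h with rfl | rfl | rfl | rfl | rfl | rfl | rfl
  · have h := reflE7_0
    simp only [List.all_eq_true, List.mem_range] at h
    exact h j hj
  · have h := reflE7_1
    simp only [List.all_eq_true, List.mem_range] at h
    exact h j hj
  · have h := reflE7_2
    simp only [List.all_eq_true, List.mem_range] at h
    exact h j hj
  · have h := reflE7_3
    simp only [List.all_eq_true, List.mem_range] at h
    exact h j hj
  · have h := reflE7_4
    simp only [List.all_eq_true, List.mem_range] at h
    exact h j hj
  · have h := reflE7_5
    simp only [List.all_eq_true, List.mem_range] at h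
    exact h j hj
  · have h := reflE7_6
    simp only [List.all_eq_true, List.mem_range] at h
    exact h j hj

theorem reflAllE7 (i j : ℕ) (hi : i < 7) (hj : j < 7) : reflCheck chevE7 expE7 i j = true :=
  reflAllE7' i j (Nat.zero_le _) hi hj

end Cfsg.Agent.Helper18
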