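import Cfsg.Agent.Lib.Helper18.CellArith
import Cfsg.Agent.Lib.Helper18.UiAll
import Cfsg.Agent.Lib.Helper18.TorusAll
import Cfsg.Agent.Lib.Helper18.ConjAll
import Cfsg.Agent.S1038
import Cfsg.Agent.S1027

set_option autoImplicit false

namespace Cfsg.Agent.Helper18

open Cfsg.Lie Cfsg.Agent.S1043 Cfsg.Agent.Helper17

/-- The order of a Chevalley group from the table facts about its Weyl group. -/
theorem chev_card_formula {F : Type*} [Field F] [Fintype F] (D : ChevalleyDatum) (hD : Good D)
    (tbls : List ℕ) (R nxt : List (List ℕ)) (counts : List ℕ)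
    (hperm : ∀ i < D.rank, permCheck D i (lget tbls i 0) = true)
    (hchk : cellCheck D tbls R nxt = true) (hcnt : countCheck R counts = true) :
    Nat.card ↥(D.group F) = Fintype.card F ^ (D.nroots / 2) * Nat.card ↥(D.diagonalSubgroup F) *
      ∑ j ∈ Finset.range counts.length, lget counts j 0 * Fintype.card F ^ j := by
  obtain ⟨tbl, hT⟩ := torusData_all D hD
  have hHN : D.diagonalSubgroup F ≤ D.monomialSubgroup F := le_sup_left
  have hNH := (Subgroup.normal_subgroupOf_iff_le_normalizer hHN).mp (Cfsg.Agent.S1038.result (F := F) D hD)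
  have hB := bnFacts_all D hD
  have hU := uiFacts_all D hD
  have hconj : ∀ i < D.rank, ∀ s < D.nroots, ConjGoal' F D i s :=
    fun i hi s hs => conjGoal_all D hD i s hi hs
  have hS : ∀ i < D.rank, ConjGoalS' F D i := fun i hi => conjGoalS_all D hD i hi
  have hTri := triOK_of_mem D hD
  have hNeg := negTriOK_of_mem D hD
  have hC := cellData_of_check D tbls R nxt hperm hchk
  have hq : Nat.card F = Fintype.card F := Nat.card_eq_fintype_card
  rw [group_card_cells D hD hB hU hT hTri hNeg hconj hS hNH tbls R hC, borel_card D hT hTri,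
    Cfsg.Agent.S1027.result D hD, hq,
    sum_pow_length_of_check (Fintype.card F) R counts hcnt]

end Cfsg.Agent.Helper18
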