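import Cfsg.Agent.Lib.Helper18.ChevBNPair

set_option autoImplicit false

namespace Cfsg.Agent.Helper18

open Cfsg.Lie Cfsg.Agent.S1043 Cfsg.Agent.Helper17
open scoped Pointwise

section

variable {F : Type*} [Field F] (D : ChevalleyDatum) (hD : Good D)

include hD in
/-- Statement S1044: `B ∪ B n_i B` is a subgroup. -/
theorem rank_one_parabolic (hB : BNFacts D) (hU : UiFacts D) {tbl : List ℕ} (hT : TorusData D tbl)
    (hconj : ∀ i < D.rank, ∀ s < D.nroots, ConjGoal' F D i s)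
    (hS : ∀ i < D.rank, ConjGoalS' F D i)
    (hNH : D.monomialSubgroup F ≤ Subgroup.normalizer (D.diagonalSubgroup F : Set (GL D.Idx F)))
    (i : ℕ) (hi : i < D.rank) (n : GL D.Idx F)
    (hn : (n : Matrix D.Idx D.Idx F) = D.nMat F (D.simple i) 1) :
    ∃ P : Subgroup (GL D.Idx F), (P : Set (GL D.Idx F)) =
      (D.borelSubgroup F : Set (GL D.Idx F)) ∪
        DoubleCoset.doubleCoset n (D.borelSubgroup F : Set (GL D.Idx F)) (D.borelSubgroup F) := by
  have hn' : n = nGL D hD i := Units.ext (hn.trans (nGL_val D hD i).symm)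
  subst hn'
  have hHB : D.diagonalSubgroup F ≤ D.borelSubgroup F := le_sup_right
  have hs := hB.hsimp i hi
  have hnN : nGL D hD i ∈ D.monomialSubgroup F := nGL_mem D hD i hs
  have hisq : (nGL D hD i)⁻¹ * (nGL D hD i)⁻¹ ∈ D.borelSubgroup F := by
    have h4 := nrGL_inv_sq_mem (F := F) D hD (D.simple i) hs
    rw [← nGL_eq_nrGL] at h4
    exact hHB h4
  have hsq : nGL D hD i * nGL D hD i ∈ D.borelSubgroup F := by
    have e4 : nGL (F := F) D hD i * nGL D hD i = ((nGL D hD i)⁻¹ * (nGL D hD i)⁻¹)⁻¹ := by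
      rw [mul_inv_rev, inv_inv]
    rw [e4]
    exact inv_mem hisq
  refine ⟨{ carrier := (D.borelSubgroup F : Set (GL D.Idx F)) ∪
              DoubleCoset.doubleCoset (nGL D hD i) (D.borelSubgroup F : Set (GL D.Idx F)) (D.borelSubgroup F)
            mul_mem' := ?_
            one_mem' := Or.inl (one_mem _)
            inv_mem' := ?_ }, rfl⟩
  · intro x y hx hy
    rcases hx with hx | hx
    · rcases hy with hy | hy
      · exact Or.inl (mul_mem hx hy)
      · right
        rw [DoubleCoset.mem_doubleCoset] at hy ⊢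
        obtain ⟨b₁, hb₁, b₂, hb₂, rfl⟩ := hy
        exact ⟨x * b₁, mul_mem hx hb₁, b₂, hb₂, by group⟩
    · rw [DoubleCoset.mem_doubleCoset] at hx
      obtain ⟨b₁, hb₁, b₂, hb₂, rfl⟩ := hx
      rcases hy with hy | hy
      · right
        rw [DoubleCoset.mem_doubleCoset]
        exact ⟨b₁, hb₁, b₂ * y, mul_mem hb₂ hy, by group⟩
      · rw [DoubleCoset.mem_doubleCoset] at hy
        obtain ⟨b₃, hb₃, b₄, hb₄, rfl⟩ := hy
        have e : b₁ * nGL D hD i * b₂ * (b₃ * nGL D hD i * b₄) =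
            b₁ * (nGL D hD i * (b₂ * b₃) * nGL D hD i) * b₄ := by group
        rw [e]
        rcases bn_mul_mem D hD hB hU hT hconj hS hNH i hi _ hnN _ (mul_mem hb₂ hb₃) with
          ⟨c₁, hc₁, c₂, hc₂, eq⟩ | ⟨c₁, hc₁, c₂, hc₂, eq⟩
        · left
          rw [eq]
          exact mul_mem (mul_mem hb₁ (mul_mem (mul_mem hc₁ hsq) hc₂)) hb₄
        · right
          rw [DoubleCoset.mem_doubleCoset, eq]
          exact ⟨b₁ * c₁, mul_mem hb₁ hc₁, c₂ * b₄, mul_mem hc₂ hb₄, by group⟩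
  · intro x hx
    rcases hx with hx | hx
    · exact Or.inl (inv_mem hx)
    · right
      rw [DoubleCoset.mem_doubleCoset] at hx ⊢
      obtain ⟨b₁, hb₁, b₂, hb₂, rfl⟩ := hx
      exact ⟨b₂⁻¹ * ((nGL D hD i)⁻¹ * (nGL D hD i)⁻¹), mul_mem (inv_mem hb₂) hisq, b₁⁻¹, inv_mem hb₁, by group⟩

end

end Cfsg.Agent.Helper18
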