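import Cfsg.Agent.Lib.Helper18.ChevLongest

set_option autoImplicit false

namespace Cfsg.Agent.Helper18

open Cfsg.Lie Cfsg.Agent.S1043

section

variable {F : Type*} [Field F] (D : ChevalleyDatum) (hD : Good D)

/-- The table facts needed for the description of the parabolic subgroups. -/
def paraCheck (tbls : List ℕ) (jt : List ℕ) : Bool :=
  ((List.range D.rank).all fun j =>
      decide (D.IsPosRoot (fSimple D j)) && decide (fNeg D (fSimple D j) < D.nroots) &&
        (List.range D.rank).all fun i =>
          (i == j) || ((D.coroot.getD (fNeg D (fSimple D j)) #[]).getD i 0 == 0)) &&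
    (List.range D.nroots).all fun r =>
      !(decide (D.IsNegRoot r)) ||
        (decide (lget jt r 0 < D.rank) && decide ((D.coroot.getD r #[]).getD (lget jt r 0) 0 ≠ 0) &&
          decide (r < dec8 (lget tbls (lget jt r 0) 0) r) &&
          decide (dec8 (lget tbls (lget jt r 0) 0) r < D.nroots) &&
          (List.range D.rank).all fun k =>
            (k == lget jt r 0) ||
              ((D.coroot.getD (dec8 (lget tbls (lget jt r 0) 0) r) #[]).getD k 0 ==
                (D.coroot.getD r #[]).getD k 0))

include hD in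
theorem parabolic_of_check (tbls jt : List ℕ)
    (hperm : ∀ i < D.rank, permCheck D i (lget tbls i 0) = true)
    (hconj : ∀ i < D.rank, ∀ s < D.nroots, ConjGoal' F D i s)
    (hpn : ∀ r < D.nroots, D.IsPosRoot r ∨ D.IsNegRoot r)
    (h : paraCheck D tbls jt = true) (J : Set ℕ) :
    D.parabolicSubgroup F J = D.diagonalSubgroup F ⊔
      Subgroup.closure {g : GL D.Idx F | ∃ (r : ℕ) (t : F), (D.IsPosRoot r ∨ D.InRootSub J r) ∧
        (g : Matrix D.Idx D.Idx F) = D.x F r t} := by
  simp only [paraCheck, Bool.and_eq_true, List.all_eq_true, List.mem_range, decide_eq_true_eq,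
    Bool.or_eq_true, Bool.not_eq_true', decide_eq_false_iff_not, beq_iff_eq, fSimple_eq, fNeg_eq] at h
  obtain ⟨h1, h2⟩ := h
  have hP : ∀ i < D.rank, ∀ s < D.nroots, dec8 (lget tbls i 0) s = D.reflectRoot i s := by
    intro i hi s hs
    have := hperm i hi
    rw [permCheck, List.all_eq_true] at this
    have := this s (List.mem_range.mpr hs)
    rwa [beq_iff_eq, fReflectRoot_eq] at this
  -- the generators `n_{p_j}`, `j ∈ J`, lie in `P_J`
  have hnP : ∀ j, j ∈ J → j < D.rank → nGL (F := F) D hD j ∈ D.parabolicSubgroup F J := by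
    intro j hjJ hj
    exact Subgroup.mem_sup_right (Subgroup.subset_closure ⟨j, hjJ, hj, nGL_val D hD j⟩)
  have hUP : ∀ r, D.IsPosRoot r → ∀ t : F, xU D hD r t ∈ D.parabolicSubgroup F J := by
    intro r hpos t
    exact Subgroup.mem_sup_left (Subgroup.mem_sup_left (Subgroup.subset_closure ⟨r, t, hpos, rfl⟩))
  have main : ∀ m, ∀ r < D.nroots, D.nroots - r ≤ m → D.InRootSub J r → ∀ t : F,
      xU D hD r t ∈ D.parabolicSubgroup F J := by
    intro m
    induction m with
    | zero => intro r hr hm; omega
    | succ m ih =>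
      intro r hr hm hJ t
      rcases hpn r hr with hpos | hneg
      · exact hUP r hpos t
      · rcases h2 r hr with hc | hc
        · exact absurd hneg hc
        · obtain ⟨⟨⟨⟨hj, hne⟩, hlt⟩, hw⟩, hk⟩ := hc
          set j := lget jt r 0 with hjdef
          have hjJ : j ∈ J := by
            by_contra hnot
            exact hne (hJ.2 j hj hnot)
          have hwe : dec8 (lget tbls j 0) r = D.reflectRoot j r := hP j hj r hr
          rw [hwe] at hlt hw hk
          have hJw : D.InRootSub J (D.reflectRoot j r) := by
            refine ⟨hw, fun k hkr hkJ => ?_⟩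
            rcases hk k hkr with e | e
            · exact absurd (e ▸ hjJ) hkJ
            · rw [e]; exact hJ.2 k hkr hkJ
          obtain ⟨η, _, hη⟩ := hconj j hj r hr
          have hmem := ih (D.reflectRoot j r) hw (by omega) hJw ((η : F) * t)
          have e : xU D hD r t =
              (nGL D hD j)⁻¹ * xU D hD (D.reflectRoot j r) ((η : F) * t) * nGL D hD j := by
            apply Units.ext
            rw [Units.val_mul, Units.val_mul, xU_val, xU_val, nGL_val, mul_assoc, ← hη t, ← mul_assoc,
              ← nGL_val D hD j, Units.inv_mul, one_mul]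
          rw [e]
          exact Subgroup.mul_mem _ (Subgroup.mul_mem _ (Subgroup.inv_mem _ (hnP j hjJ hj)) hmem)
            (hnP j hjJ hj)
  apply le_antisymm
  · -- `P_J ≤ Q_J`
    unfold ChevalleyDatum.parabolicSubgroup ChevalleyDatum.borelSubgroup
    apply sup_le
    · apply sup_le
      · unfold ChevalleyDatum.posUnipotent
        refine le_trans ?_ le_sup_right
        apply Subgroup.closure_mono
        rintro g ⟨r, t, hpos, hg⟩
        exact ⟨r, t, Or.inl hpos, hg⟩
      · exact le_sup_left
    · rw [Subgroup.closure_le]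
      rintro g ⟨j, hjJ, hj, hg⟩
      obtain ⟨⟨hpos, hnlt⟩, hco⟩ := h1 j hj
      have e := eq_of_nMat D hD g (D.simple j) 1 hg
      rw [SetLike.mem_coe, e]
      have hx : ∀ (r : ℕ) (t : F), (D.IsPosRoot r ∨ D.InRootSub J r) →
          xU D hD r t ∈ D.diagonalSubgroup F ⊔ Subgroup.closure {g : GL D.Idx F |
            ∃ (r : ℕ) (t : F), (D.IsPosRoot r ∨ D.InRootSub J r) ∧
              (g : Matrix D.Idx D.Idx F) = D.x F r t} := fun r t hr =>
        Subgroup.mem_sup_right (Subgroup.subset_closure ⟨r, t, hr, rfl⟩)
      refine Subgroup.mul_mem _ (Subgroup.mul_mem _ (hx _ _ (Or.inl hpos)) (hx _ _ (Or.inr ?_)))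
        (hx _ _ (Or.inl hpos))
      refine ⟨hnlt, fun i hi hiJ => ?_⟩
      rcases hco i hi with e' | e'
      · exact absurd (e' ▸ hjJ) hiJ
      · exact e'
  · -- `Q_J ≤ P_J`
    apply sup_le
    · exact le_trans (le_sup_right : D.diagonalSubgroup F ≤ D.borelSubgroup F) le_sup_left
    · rw [Subgroup.closure_le]
      rintro g ⟨r, t, hr, hg⟩
      have eg : g = xU D hD r t := Units.ext hg
      rw [SetLike.mem_coe, eg]
      rcases hr with hpos | hJ
      · exact hUP r hpos t
      · exact main (D.nroots - r) r hJ.1 le_rfl hJ t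

end

end Cfsg.Agent.Helper18
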