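import Cfsg.Agent.Lib.Helper18.ChevBNPair

set_option autoImplicit false

namespace Cfsg.Agent.Helper18

open Cfsg.Lie Cfsg.Agent.S1043 Cfsg.Agent.Helper17
open scoped commutatorElement

section

variable {F : Type*} [Field F] (D : ChevalleyDatum) (hD : Good D)

/-- The image in the general linear group of the commutator subgroup of the Chevalley group. -/
def commK : Subgroup (GL D.Idx F) := (commutator ↥(D.group F)).map (D.group F).subtype

theorem comm_mem_commK (a b : GL D.Idx F) (ha : a ∈ D.group F) (hb : b ∈ D.group F) :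
    a * b * a⁻¹ * b⁻¹ ∈ commK (F := F) D := by
  refine ⟨⁅(⟨a, ha⟩ : ↥(D.group F)), ⟨b, hb⟩⁆, ?_, ?_⟩
  · exact Subgroup.commutator_mem_commutator (Subgroup.mem_top _) (Subgroup.mem_top _)
  · rw [commutatorElement_def]
    rfl

theorem conj_mem_commK (g : GL D.Idx F) (hg : g ∈ D.group F) (k : GL D.Idx F) (hk : k ∈ commK (F := F) D) :
    g * k * g⁻¹ ∈ commK (F := F) D := by
  obtain ⟨y, hy, rfl⟩ := hk
  have hn : (commutator ↥(D.group F)).Normal := inferInstance
  exact ⟨(⟨g, hg⟩ : ↥(D.group F)) * y * (⟨g, hg⟩ : ↥(D.group F))⁻¹, hn.conj_mem y hy _, rfl⟩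

theorem commutator_eq_top_of (h : D.group F ≤ commK (F := F) D) : commutator ↥(D.group F) = ⊤ := by
  rw [eq_top_iff]
  intro g _
  obtain ⟨y, hy, e⟩ := h g.2
  have : y = g := Subtype.ext e
  rwa [this] at hy

/-- The root subgroup of `r` lies in the commutator subgroup. -/
def GoodRoot (r : ℕ) : Prop := r < D.nroots ∧ ∀ t : F, xU D hD r t ∈ commK (F := F) D

theorem nGL_mem_group' (i : ℕ) : nGL (F := F) D hD i ∈ D.group F :=
  mul_mem (mul_mem (xU_mem_group D hD _ _) (xU_mem_group D hD _ _)) (xU_mem_group D hD _ _)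

theorem goodRoot_reflect (hB : BNFacts D)
    (hconj : ∀ i < D.rank, ∀ s < D.nroots, ConjGoal' F D i s) (i : ℕ) (hi : i < D.rank) (r : ℕ)
    (hr : GoodRoot (F := F) D hD r) : GoodRoot (F := F) D hD (D.reflectRoot i r) := by
  obtain ⟨hr, hg⟩ := hr
  refine ⟨hB.hrefl i hi r hr, fun t => ?_⟩
  obtain ⟨η, hη, hc⟩ := hconj i hi r hr
  have e : xU D hD (D.reflectRoot i r) t = nGL D hD i * xU D hD r ((η : F) * t) * (nGL D hD i)⁻¹ := by
    apply Units.ext
    simp only [Units.val_mul, xU_val, nGL_val]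
    rw [hc, mul_assoc, ← nGL_val D hD i, Units.mul_inv, mul_one]
    congr 1
    rcases hη with rfl | rfl <;> simp
  rw [e]
  exact conj_mem_commK D _ (nGL_mem_group' D hD i) _ (hg _)

theorem goodRoot_permW (hB : BNFacts D)
    (hconj : ∀ i < D.rank, ∀ s < D.nroots, ConjGoal' F D i s) (l : List ℕ) (hl : ∀ i ∈ l, i < D.rank)
    (r : ℕ) (hr : GoodRoot (F := F) D hD r) : GoodRoot (F := F) D hD (permW D l r) := by
  induction l with
  | nil => exact hr
  | cons i l ih =>
    exact goodRoot_reflect D hD hB hconj i (hl i List.mem_cons_self) _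
      (ih fun j hj => hl j (List.mem_cons_of_mem _ hj))

/-- The commutator identity in the general linear group. -/
theorem comm_GL (hU : UiFacts D) (i : ℕ) (hi : i < D.rank) (s : ℕ) (hs : D.IsPosRoot s) (t u : F) :
    (xU D hD s u)⁻¹ * (xU D hD (D.simple i) t)⁻¹ * ((xU D hD s u)⁻¹)⁻¹ * ((xU D hD (D.simple i) t)⁻¹)⁻¹ =
      wordGL D hD (D.commWord F (D.simple i) s t u) := by
  have hc := comm_of_check (F := F) D (D.simple i) s (hU.hcomm i hi s hs) t u
  have e' : xU D hD s u * xU D hD (D.simple i) t =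
      xU D hD (D.simple i) t * xU D hD s u * wordGL D hD (D.commWord F (D.simple i) s t u) := by
    apply Units.ext
    simp only [Units.val_mul, xU_val, wordGL_val]
    exact hc
  rw [inv_inv, inv_inv, mul_assoc, mul_assoc, e']
  group

theorem wordGL_mem_commK (hU : UiFacts D) (i : ℕ) (hi : i < D.rank) (s : ℕ) (hs : D.IsPosRoot s) (t u : F) :
    wordGL D hD (D.commWord F (D.simple i) s t u) ∈ commK (F := F) D := by
  rw [← comm_GL D hD hU i hi s hs t u]
  exact comm_mem_commK D _ _ (inv_mem (xU_mem_group D hD _ _)) (inv_mem (xU_mem_group D hD _ _))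

theorem goodRoot_of_comm1 (hU : UiFacts D) (i : ℕ) (hi : i < D.rank) (s : ℕ) (hs : D.IsPosRoot s)
    (k : ℕ) (C : ℤ) (hterms : D.commTerms (D.simple i) s = [(k, C, 1, 1)]) (hC : C = 1 ∨ C = -1)
    (hk : k < D.nroots) : GoodRoot (F := F) D hD k := by
  refine ⟨hk, fun t' => ?_⟩
  have h := wordGL_mem_commK D hD hU i hi s hs (-(C : F) * t') 1
  have e : wordGL D hD (D.commWord F (D.simple i) s (-(C : F) * t') 1) = xU D hD k t' := by
    rw [ChevalleyDatum.commWord, hterms]
    simp only [List.map_cons, List.map_nil, wordGL, List.prod_cons, List.prod_nil, mul_one]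
    congr 1
    rcases hC with rfl | rfl <;> simp
  rwa [e] at h

theorem goodRoot_of_comm2 (hU : UiFacts D) (i : ℕ) (hi : i < D.rank) (s : ℕ) (hs : D.IsPosRoot s)
    (k₁ k₂ : ℕ) (C₁ C₂ : ℤ) (hterms : D.commTerms (D.simple i) s = [(k₁, C₁, 1, 1), (k₂, C₂, 2, 1)])
    (hC : C₂ = 1 ∨ C₂ = -1) (hk₁ : GoodRoot (F := F) D hD k₁) (hk : k₂ < D.nroots) :
    GoodRoot (F := F) D hD k₂ := by
  refine ⟨hk, fun t' => ?_⟩
  have h := wordGL_mem_commK D hD hU i hi s hs 1 ((C₂ : F) * t')
  have e : wordGL D hD (D.commWord F (D.simple i) s 1 ((C₂ : F) * t')) =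
      xU D hD k₁ ((C₁ : F) * (-1) ^ 1 * ((C₂ : F) * t') ^ 1) * xU D hD k₂ t' := by
    rw [ChevalleyDatum.commWord, hterms]
    simp only [List.map_cons, List.map_nil, wordGL, List.prod_cons, List.prod_nil, mul_one]
    congr 2
    rcases hC with rfl | rfl <;> simp
  rw [e] at h
  have h1 := hk₁.2 ((C₁ : F) * (-1) ^ 1 * ((C₂ : F) * t') ^ 1)
  have e2 : xU D hD k₂ t' = (xU D hD k₁ ((C₁ : F) * (-1) ^ 1 * ((C₂ : F) * t') ^ 1))⁻¹ *
      (xU D hD k₁ ((C₁ : F) * (-1) ^ 1 * ((C₂ : F) * t') ^ 1) * xU D hD k₂ t') := by group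
  rw [e2]
  exact mul_mem (inv_mem h1) h

theorem goodRoot_of_torus {tbl : List ℕ} (hT : TorusData D tbl) (hB : BNFacts D) (c : F) (hc0 : c ≠ 0)
    (hc1 : c ≠ 1) (i : ℕ) (hi : i < D.rank) (r : ℕ) (hr : r < D.nroots)
    (he : D.cartan i r = 1 ∨ D.cartan i r = -1) : GoodRoot (F := F) D hD r := by
  refine ⟨hr, fun t' => ?_⟩
  have hne : c ^ D.cartan i r - 1 ≠ 0 := by
    rcases he with h | h <;> rw [h]
    · simpa [sub_eq_zero] using hc1
    · rw [zpow_neg_one, sub_ne_zero]
      intro h'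
      exact hc1 (inv_eq_one.mp h')
  have hmul := hMat_simple_mul_x (F := F) D i _ (hT.simp i hi) (hT.conj i hi) r hr c hc0
  have hsi := hB.hsimp i hi
  have hconj : ∀ u : F, hGL D hD (D.simple i) c * xU D hD r u * (hGL D hD (D.simple i) c)⁻¹ =
      xU D hD r (c ^ D.cartan i r * u) := by
    intro u
    apply Units.ext
    simp only [Units.val_mul, xU_val, hGL_val]
    rw [hmul u, mul_assoc, ← hGL_val D hD, Units.mul_inv, mul_one]
  have hmem := comm_mem_commK (F := F) D (hGL D hD (D.simple i) c) (xU D hD r (t' / (c ^ D.cartan i r - 1)))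
    (diagonal_le D hD (hGL_mem D hD _ hsi c hc0)) (xU_mem_group D hD _ _)
  rw [hconj, xU_inv] at hmem
  have e : xU D hD r (c ^ D.cartan i r * (t' / (c ^ D.cartan i r - 1))) *
      xU D hD r (-(t' / (c ^ D.cartan i r - 1))) = xU D hD r t' := by
    apply Units.ext
    rw [Units.val_mul, xU_val, xU_val, xU_val, x_add D hD]
    congr 1
    field_simp
    ring
  rwa [e] at hmem

include hD in
theorem perfect_of_simple (hB : BNFacts D)
    (hconj : ∀ i < D.rank, ∀ s < D.nroots, ConjGoal' F D i s)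
    (hsimple : ∀ j < D.rank, GoodRoot (F := F) D hD (D.simple j)) : commutator ↥(D.group F) = ⊤ := by
  apply commutator_eq_top_of
  unfold ChevalleyDatum.group
  rw [Subgroup.closure_le]
  rintro g ⟨r, t, hg⟩
  obtain ⟨j, hj, l, hl, e⟩ := hB.horb r.val r.2
  have hgood := goodRoot_permW D hD hB hconj l hl _ (hsimple j hj)
  rw [e] at hgood
  have hgx : g = xU D hD r.val t := by
    apply Units.ext
    rw [hg, xU_val, ChevalleyDatum.x, dif_pos r.2]
  rw [SetLike.mem_coe, hgx]
  exact hgood.2 t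

end

end Cfsg.Agent.Helper18
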