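import Cfsg.Agent.Lib.Helper18.ChevCommGen
import Cfsg.Agent.S1043

set_option autoImplicit false

namespace Cfsg.Agent.Helper18

open Cfsg.Lie Cfsg.Agent.S1043

section

variable {F : Type*} [Field F] (D : ChevalleyDatum)

/-! ### A weight invariant for products of root elements -/

/-- The weight of a coordinate code, for a weight function `f` on the roots. -/
def wtCode (f : ℕ → ℤ) (k : ℕ) : ℤ := if k < D.rank then 0 else f (k - D.rank)

/-- The weight of a coordinate index. -/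
def wtIdx (f : ℕ → ℤ) (i : D.Idx) : ℤ := wtCode D f (code D i)

/-- The variable `t` as a Laurent polynomial. -/
def tVarLP : LP := [(1, 1, 0)]

/-- Table check: the off-diagonal entries of `x_s(t)` raise the weight by `f s`, `2 f s` or `3 f s`. -/
def wtCheck (f : ℕ → ℤ) (s : ℕ) : Bool :=
  (List.range (D.rank + D.nroots)).all fun k =>
    (xExtra D s tVarLP k).all fun e =>
      (wtCode D f e.1 - wtCode D f k == f s) || (wtCode D f e.1 - wtCode D f k == 2 * f s) ||
        (wtCode D f e.1 - wtCode D f k == 3 * f s)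

/-- The invariant: off-diagonal non-zero entries raise the weight by more than `2θ`, or by the weight
`f s > θ` of a positive root. -/
def QInv (f : ℕ → ℤ) (θ : ℤ) (M : Matrix D.Idx D.Idx F) : Prop :=
  ∀ a c, M a c ≠ 0 → a = c ∨ 2 * θ < wtIdx D f a - wtIdx D f c ∨
    (θ < wtIdx D f a - wtIdx D f c ∧
      ∃ s, D.nroots / 2 ≤ s ∧ s < D.nroots ∧ wtIdx D f a - wtIdx D f c = f s)

theorem qInv_one (f : ℕ → ℤ) (θ : ℤ) : QInv (F := F) D f θ 1 := by
  intro a c h
  left
  by_contra hne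
  exact h (Matrix.one_apply_ne hne)

theorem qInv_mul (f : ℕ → ℤ) (θ : ℤ) (hθ : 0 ≤ θ) (M N : Matrix D.Idx D.Idx F)
    (hM : QInv D f θ M) (hN : QInv D f θ N) : QInv D f θ (M * N) := by
  intro a c h
  rw [Matrix.mul_apply] at h
  obtain ⟨b, _, hb⟩ := Finset.exists_ne_zero_of_sum_ne_zero h
  have hMb : M a b ≠ 0 := left_ne_zero_of_mul hb
  have hNb : N b c ≠ 0 := right_ne_zero_of_mul hb
  rcases hM a b hMb with rfl | h1
  · exact hN a c hNb
  rcases hN b c hNb with rfl | h2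
  · exact Or.inr h1
  right; left
  have h1' : θ < wtIdx D f a - wtIdx D f b := by
    rcases h1 with h1 | h1
    · omega
    · exact h1.1
  have h2' : θ < wtIdx D f b - wtIdx D f c := by
    rcases h2 with h2 | h2
    · omega
    · exact h2.1
  omega

theorem coeff_ne_zero_exists (a b : Fˣ) (v : SV) (j : ℕ) (h : SV.coeff a b v j ≠ 0) :
    ∃ e ∈ v, e.1 = j := by
  induction v with
  | nil => simp at h
  | cons e v ih =>
    rw [SV.coeff_cons] at h
    by_cases he : e.1 = j
    · exact ⟨e, List.mem_cons_self, he⟩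
    · rw [if_neg he, zero_add] at h
      obtain ⟨e', he', h'⟩ := ih h
      exact ⟨e', List.mem_cons_of_mem _ he', h'⟩

theorem x_entry_exists (s : ℕ) (hs : s < D.nroots) (t : F) (row col : D.Idx) (hne : row ≠ col)
    (h : D.x F s t row col ≠ 0) : ∃ e ∈ xExtra D s tVarLP (code D col), e.1 = code D row := by
  by_cases ht : t = 0
  · rw [ht, x_zero, Matrix.one_apply_ne hne] at h
    exact absurd rfl h
  have hev : LP.eval (Units.mk0 t ht) (1 : Fˣ) tVarLP = t := by
    simp [LP.eval, LP.evalMono, tVarLP]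
  have h1 : D.x F s t row col =
      SV.coeff (Units.mk0 t ht) (1 : Fˣ) ((code D col, LP.ofInt 1) :: xExtra D s tVarLP (code D col))
        (code D row) := by
    rw [coeff_xExtra, ← xMat_col D (Units.mk0 t ht) (1 : Fˣ) ⟨s, hs⟩ tVarLP row col, hev,
      ChevalleyDatum.x, dif_pos hs]
  rw [h1, SV.coeff_cons] at h
  have hc : ¬ (code D col = code D row) := fun hc => hne (code_injective D hc).symm
  rw [if_neg hc, zero_add] at h
  exact coeff_ne_zero_exists _ _ _ _ h

theorem x_qInv (f : ℕ → ℤ) (θ : ℤ) (hθ : 0 ≤ θ) (s : ℕ) (hs1 : D.nroots / 2 ≤ s) (hs : s < D.nroots)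
    (hfs : θ < f s) (hchk : wtCheck D f s = true) (t : F) : QInv D f θ (D.x F s t) := by
  intro a c h
  by_cases hac : a = c
  · exact Or.inl hac
  right
  obtain ⟨e, he, hea⟩ := x_entry_exists D s hs t a c hac h
  rw [wtCheck, List.all_eq_true] at hchk
  have h1 := hchk (code D c) (List.mem_range.mpr (code_lt D c))
  rw [List.all_eq_true] at h1
  have h2 := h1 e he
  simp only [Bool.or_eq_true, beq_iff_eq] at h2
  rw [hea] at h2
  change (wtIdx D f a - wtIdx D f c = f s ∨ wtIdx D f a - wtIdx D f c = 2 * f s) ∨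
    wtIdx D f a - wtIdx D f c = 3 * f s at h2
  rcases h2 with (h2 | h2) | h2
  · right
    exact ⟨by omega, s, hs1, hs, h2⟩
  · left; omega
  · left; omega


/-! ### The subgroups generated by the root subgroups of index at least `k` -/

/-- Table facts used for the ordered product decomposition of `U`. -/
structure UProdData (D : ChevalleyDatum) (f : ℕ → ℤ) : Prop where
  hwt : ∀ s, D.nroots / 2 ≤ s → s < D.nroots → wtCheck D f s = true
  hmono : ∀ k s, D.nroots / 2 ≤ k → k < s → s < D.nroots → f k < f s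
  hpos0 : ∀ k, D.nroots / 2 ≤ k → k < D.nroots → 0 ≤ f k
  hneg : ∀ k, D.nroots / 2 ≤ k → k < D.nroots → D.neg k < D.nroots / 2 ∧ f (D.neg k) = - f k
  hdbl : ∀ k s, D.nroots / 2 ≤ k → k < D.nroots → D.nroots / 2 ≤ s → s < D.nroots → f s ≠ 2 * f k
  hord : ∀ k s, D.nroots / 2 ≤ k → k < s → s < D.nroots →
    ∀ c ∈ D.commTerms k s, s < c.1 ∧ c.1 < D.nroots
  hposiff : ∀ s, D.IsPosRoot s ↔ (D.nroots / 2 ≤ s ∧ s < D.nroots)
  hposRoots : D.posRoots = List.range' (D.nroots / 2) (D.nroots - D.nroots / 2)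

/-- The subgroup generated by the root subgroups `X_r` with `k ≤ r < nroots`. -/
def Uge (F : Type*) [Field F] (D : ChevalleyDatum) (k : ℕ) : Subgroup (GL D.Idx F) :=
  Subgroup.closure {g | ∃ (r : ℕ) (t : F), k ≤ r ∧ r < D.nroots ∧ (g : Matrix D.Idx D.Idx F) = D.x F r t}

variable (hD : Good D)

include hD

theorem xU_mem_Uge (k r : ℕ) (hkr : k ≤ r) (hr : r < D.nroots) (t : F) : xU D hD r t ∈ Uge F D k :=
  Subgroup.subset_closure ⟨r, t, hkr, hr, rfl⟩

omit hD in
theorem Uge_mono (k l : ℕ) (h : k ≤ l) : Uge F D l ≤ Uge F D k := by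
  apply Subgroup.closure_mono
  rintro g ⟨r, t, h1, h2, h3⟩
  exact ⟨r, t, le_trans h h1, h2, h3⟩

omit hD in
theorem Uge_top (k : ℕ) (h : D.nroots ≤ k) : Uge F D k = ⊥ := by
  rw [Uge, Subgroup.closure_eq_bot_iff]
  rintro g ⟨r, t, h1, h2, _⟩
  omega

omit hD in
theorem posUnipotent_eq_Uge {f : ℕ → ℤ} (hT : UProdData D f) :
    D.posUnipotent F = Uge F D (D.nroots / 2) := by
  unfold ChevalleyDatum.posUnipotent Uge
  congr 1
  ext g
  constructor
  · rintro ⟨r, t, hr, hg⟩
    exact ⟨r, t, ((hT.hposiff r).mp hr).1, ((hT.hposiff r).mp hr).2, hg⟩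
  · rintro ⟨r, t, h1, h2, hg⟩
    exact ⟨r, t, (hT.hposiff r).mpr ⟨h1, h2⟩, hg⟩

/-- Elements of `Uge (k+1)` satisfy the weight invariant for `θ = f k`. -/
theorem Uge_qInv {f : ℕ → ℤ} (hT : UProdData D f) (k : ℕ) (hk1 : D.nroots / 2 ≤ k) (hk : k < D.nroots)
    (g : GL D.Idx F) (hg : g ∈ Uge F D (k + 1)) :
    QInv D f (f k) (g : Matrix D.Idx D.Idx F) ∧
      QInv D f (f k) ((g⁻¹ : GL D.Idx F) : Matrix D.Idx D.Idx F) := by
  have hθ := hT.hpos0 k hk1 hk
  unfold Uge at hg
  induction hg using Subgroup.closure_induction with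
  | mem x hx =>
    obtain ⟨r, t, h1, h2, hx⟩ := hx
    have hxe : x = xU D hD r t := Units.ext hx
    have hfr : f k < f r := hT.hmono k r hk1 (by omega) h2
    have hr1 : D.nroots / 2 ≤ r := by omega
    rw [hxe]
    refine ⟨x_qInv D f _ hθ r hr1 h2 hfr (hT.hwt r hr1 h2) t, ?_⟩
    rw [xU_inv]
    exact x_qInv D f _ hθ r hr1 h2 hfr (hT.hwt r hr1 h2) (-t)
  | one =>
    rw [inv_one, Units.val_one]
    exact ⟨qInv_one D f _, qInv_one D f _⟩
  | mul a b _ _ ha hb =>
    rw [mul_inv_rev, Units.val_mul, Units.val_mul]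
    exact ⟨qInv_mul D f _ hθ _ _ ha.1 hb.1, qInv_mul D f _ hθ _ _ hb.2 ha.2⟩
  | inv a _ ha =>
    rw [inv_inv]
    exact ⟨ha.2, ha.1⟩

omit hD in
theorem x_entry_neg_uprod (k : ℕ) (hk : k < D.nroots) (hnk : D.neg k < D.nroots) (hne : D.neg k ≠ k) (a : F) :
    D.x F k a (Sum.inr ⟨k, hk⟩) (Sum.inr ⟨D.neg k, hnk⟩) = -(a ^ 2) := by
  rw [ChevalleyDatum.x, dif_pos hk]
  unfold ChevalleyDatum.xMat
  simp only [Matrix.of_apply]
  have h1 : ¬ ((⟨D.neg k, hnk⟩ : Fin D.nroots) = ⟨k, hk⟩) := fun h => hne (Fin.mk.inj_iff.mp h)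
  have h2 : D.neg k = D.negIdx.getD k 0 := rfl
  have h3 : ¬ ((⟨k, hk⟩ : Fin D.nroots) = ⟨D.neg k, hnk⟩) := fun h => hne (Fin.mk.inj_iff.mp h).symm
  simp only [h1, if_false, ← h2, if_true, h3]

/-- `X_k ∩ Uge (k+1) = 1`. -/
theorem xU_mem_Uge_succ {f : ℕ → ℤ} (hT : UProdData D f) (k : ℕ) (hk1 : D.nroots / 2 ≤ k)
    (hk : k < D.nroots) (a : F) (h : xU D hD k a ∈ Uge F D (k + 1)) : a = 0 := by
  obtain ⟨hnk, hfn⟩ := hT.hneg k hk1 hk
  have hnk' : D.neg k < D.nroots := by omega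
  have hne : D.neg k ≠ k := by omega
  have hq := (Uge_qInv D hD hT k hk1 hk _ h).1
  rw [xU_val] at hq
  have hentry := x_entry_neg_uprod (F := F) D k hk hnk' hne a
  by_contra ha
  have hne0 : D.x F k a (Sum.inr ⟨k, hk⟩) (Sum.inr ⟨D.neg k, hnk'⟩) ≠ 0 := by
    rw [hentry]
    exact neg_ne_zero.mpr (pow_ne_zero 2 ha)
  have hw1 : wtIdx D f (Sum.inr ⟨k, hk⟩ : D.Idx) = f k := by
    simp [wtIdx, wtCode, code]
  have hw2 : wtIdx D f (Sum.inr ⟨D.neg k, hnk'⟩ : D.Idx) = - f k := by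
    simp [wtIdx, wtCode, code, hfn]
  rcases hq _ _ hne0 with h1 | h1 | ⟨_, s, hs1, hs2, h1⟩
  · exact hne (Fin.mk.inj_iff.mp (Sum.inr.inj h1)).symm
  · rw [hw1, hw2] at h1; omega
  · rw [hw1, hw2] at h1
    exact hT.hdbl k s hk1 hk hs1 hs2 (by omega)


/-! ### Normalisation and the ordered product -/

theorem xU_add' (r : ℕ) (t u : F) : xU D hD r t * xU D hD r u = xU D hD r (t + u) := by
  apply Units.ext
  rw [Units.val_mul, xU_val, xU_val, xU_val, x_add D hD]

theorem wordMat_mem_Uge (k : ℕ) (w : List (ℕ × F)) (hw : ∀ p ∈ w, k ≤ p.1 ∧ p.1 < D.nroots) :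
    ∃ g ∈ Uge F D k, (g : Matrix D.Idx D.Idx F) = D.wordMat F w := by
  induction w with
  | nil => exact ⟨1, one_mem _, by rw [wordMat_nil]; rfl⟩
  | cons p w ih =>
    obtain ⟨g, hg, hgw⟩ := ih fun q hq => hw q (List.mem_cons_of_mem _ hq)
    obtain ⟨h1, h2⟩ := hw p List.mem_cons_self
    refine ⟨xU D hD p.1 p.2 * g, mul_mem (xU_mem_Uge D hD k p.1 h1 h2 p.2) hg, ?_⟩
    rw [Units.val_mul, xU_val, hgw, wordMat_cons]

/-- `X_k` normalises `Uge (k+1)`. -/
theorem conj_mem_Uge_succ {f : ℕ → ℤ} (hT : UProdData D f)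
    (hcomm : ∀ r < D.nroots, ∀ s < D.nroots, s ≠ r → s ≠ D.neg r → CommOK F D r s)
    (k : ℕ) (hk1 : D.nroots / 2 ≤ k) (hk : k < D.nroots) (a : F)
    (g : GL D.Idx F) (hg : g ∈ Uge F D (k + 1)) :
    (xU D hD k a)⁻¹ * g * xU D hD k a ∈ Uge F D (k + 1) := by
  unfold Uge at hg
  induction hg using Subgroup.closure_induction with
  | mem x hx =>
    obtain ⟨s, u, h1, h2, hx⟩ := hx
    have hxe : x = xU D hD s u := Units.ext hx
    subst hxe
    have hnk := (hT.hneg k hk1 hk).1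
    have H := hcomm k hk s h2 (by omega) (by omega) a u
    obtain ⟨W, hW, hWv⟩ := wordMat_mem_Uge D hD (k + 1) (D.commWord F k s a u) (by
      intro p hp
      simp only [ChevalleyDatum.commWord, List.mem_map] at hp
      obtain ⟨c, hc, rfl⟩ := hp
      have := hT.hord k s hk1 (by omega) h2 c hc
      exact ⟨by simp only; omega, this.2⟩)
    have hGL : xU D hD s u * xU D hD k a = xU D hD k a * xU D hD s u * W := by
      apply Units.ext
      rw [Units.val_mul, Units.val_mul, Units.val_mul, xU_val, xU_val, hWv]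
      exact H
    have : (xU D hD k a)⁻¹ * xU D hD s u * xU D hD k a = xU D hD s u * W := by
      rw [mul_assoc, hGL]
      group
    rw [this]
    exact mul_mem (xU_mem_Uge D hD (k + 1) s h1 h2 u) hW
  | one =>
    rw [mul_one, inv_mul_cancel]
    exact one_mem _
  | mul x y _ _ hx hy =>
    have : (xU D hD k a)⁻¹ * (x * y) * xU D hD k a =
        ((xU D hD k a)⁻¹ * x * xU D hD k a) * ((xU D hD k a)⁻¹ * y * xU D hD k a) := by group
    rw [this]
    exact mul_mem hx hy
  | inv x _ hx =>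
    have : (xU D hD k a)⁻¹ * x⁻¹ * xU D hD k a = ((xU D hD k a)⁻¹ * x * xU D hD k a)⁻¹ := by group
    rw [this]
    exact inv_mem hx

/-- `Uge k = X_k · Uge (k+1)`. -/
theorem Uge_decomp {f : ℕ → ℤ} (hT : UProdData D f)
    (hcomm : ∀ r < D.nroots, ∀ s < D.nroots, s ≠ r → s ≠ D.neg r → CommOK F D r s)
    (k : ℕ) (hk1 : D.nroots / 2 ≤ k) (hk : k < D.nroots)
    (g : GL D.Idx F) (hg : g ∈ Uge F D k) :
    ∃ a : F, ∃ v ∈ Uge F D (k + 1), g = xU D hD k a * v := by
  have step : ∀ (s : ℕ) (u : F), k ≤ s → s < D.nroots → ∀ (a : F) (v : GL D.Idx F),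
      v ∈ Uge F D (k + 1) → ∃ a' : F, ∃ v' ∈ Uge F D (k + 1),
        xU D hD s u * (xU D hD k a * v) = xU D hD k a' * v' := by
    intro s u h1 h2 a v hv
    by_cases hsk : s = k
    · subst hsk
      exact ⟨u + a, v, hv, by rw [← mul_assoc, xU_add']⟩
    · have hs' : xU D hD s u ∈ Uge F D (k + 1) := xU_mem_Uge D hD (k + 1) s (by omega) h2 u
      refine ⟨a, (xU D hD k a)⁻¹ * xU D hD s u * xU D hD k a * v,
        mul_mem (conj_mem_Uge_succ D hD hT hcomm k hk1 hk a _ hs') hv, ?_⟩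
      group
  unfold Uge at hg
  induction hg using Subgroup.closure_induction_left with
  | one => exact ⟨0, 1, one_mem _, by
      apply Units.ext
      rw [Units.val_mul, xU_val, x_zero, Units.val_one, mul_one]⟩
  | mul_left x hx y _ ih =>
    obtain ⟨a, v, hv, rfl⟩ := ih
    obtain ⟨s, u, h1, h2, hx⟩ := hx
    have hxe : x = xU D hD s u := Units.ext hx
    rw [hxe]
    obtain ⟨a', v', hv', e⟩ := step s u h1 h2 a v hv
    exact ⟨a', v', hv', e⟩
  | inv_mul_cancel x hx y _ ih =>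
    obtain ⟨a, v, hv, rfl⟩ := ih
    obtain ⟨s, u, h1, h2, hx⟩ := hx
    have hxe : x = xU D hD s u := Units.ext hx
    rw [hxe, xU_inv]
    obtain ⟨a', v', hv', e⟩ := step s (-u) h1 h2 a v hv
    exact ⟨a', v', hv', e⟩

/-- The ordered product of root elements over the roots `k, k+1, …, k+m-1`. -/
def ordWord (t : ℕ → F) (k m : ℕ) : List (ℕ × F) := (List.range' k m).map fun r => (r, t r)

omit hD in
theorem ordWord_succ (t : ℕ → F) (k m : ℕ) : ordWord t k (m + 1) = (k, t k) :: ordWord t (k + 1) m := by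
  simp [ordWord, List.range'_succ]

omit hD in
theorem ordWord_congr (t t' : ℕ → F) (k m : ℕ) (h : ∀ r, k ≤ r → r < k + m → t r = t' r) :
    ordWord t k m = ordWord t' k m := by
  unfold ordWord
  apply List.map_congr_left
  intro r hr
  rw [List.mem_range'_1] at hr
  rw [h r hr.1 hr.2]

/-- Existence of the ordered product expression. -/
theorem Uge_exists {f : ℕ → ℤ} (hT : UProdData D f)
    (hcomm : ∀ r < D.nroots, ∀ s < D.nroots, s ≠ r → s ≠ D.neg r → CommOK F D r s) :
    ∀ m k : ℕ, D.nroots / 2 ≤ k → k + m = D.nroots → ∀ g ∈ Uge F D k,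
      ∃ t : ℕ → F, (g : Matrix D.Idx D.Idx F) = D.wordMat F (ordWord t k m) := by
  intro m
  induction m with
  | zero =>
    intro k _ hkm g hg
    rw [Uge_top D k (by omega)] at hg
    rw [Subgroup.mem_bot] at hg
    exact ⟨fun _ => 0, by rw [hg]; simp [ordWord, wordMat_nil]⟩
  | succ m ih =>
    intro k hk1 hkm g hg
    obtain ⟨a, v, hv, rfl⟩ := Uge_decomp D hD hT hcomm k hk1 (by omega) g hg
    obtain ⟨t, ht⟩ := ih (k + 1) (by omega) (by omega) v hv
    refine ⟨Function.update t k a, ?_⟩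
    rw [ordWord_succ, wordMat_cons, Units.val_mul, xU_val, ht]
    simp only [Function.update_self]
    congr 2
    apply ordWord_congr
    intro r hr1 _
    rw [Function.update_of_ne (by omega)]

/-- Uniqueness of the ordered product expression. -/
theorem Uge_unique {f : ℕ → ℤ} (hT : UProdData D f) :
    ∀ m k : ℕ, D.nroots / 2 ≤ k → k + m = D.nroots → ∀ t t' : ℕ → F,
      D.wordMat F (ordWord t k m) = D.wordMat F (ordWord t' k m) →
      ∀ r, k ≤ r → r < D.nroots → t r = t' r := by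
  intro m
  induction m with
  | zero =>
    intro k _ hkm t t' _ r hr1 hr2
    omega
  | succ m ih =>
    intro k hk1 hkm t t' h r hr1 hr2
    have hk : k < D.nroots := by omega
    rw [ordWord_succ, ordWord_succ, wordMat_cons, wordMat_cons] at h
    have hmem : ∀ t'' : ℕ → F, ∀ p ∈ ordWord t'' (k + 1) m, k + 1 ≤ p.1 ∧ p.1 < D.nroots := by
      intro t'' p hp
      simp only [ordWord, List.mem_map, List.mem_range'_1] at hp
      obtain ⟨r', ⟨h1, h2⟩, rfl⟩ := hp
      exact ⟨h1, by simp only; omega⟩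
    obtain ⟨V, hV, hVv⟩ := wordMat_mem_Uge D hD (k + 1) (ordWord t (k + 1) m) (hmem t)
    obtain ⟨V', hV', hVv'⟩ := wordMat_mem_Uge D hD (k + 1) (ordWord t' (k + 1) m) (hmem t')
    have hGL : xU D hD k (t k) * V = xU D hD k (t' k) * V' := by
      apply Units.ext
      rw [Units.val_mul, Units.val_mul, xU_val, xU_val, hVv, hVv']
      exact h
    have h1 : xU D hD k (t k - t' k) = V' * V⁻¹ := by
      have : xU D hD k (t k - t' k) = (xU D hD k (t' k))⁻¹ * xU D hD k (t k) := by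
        rw [xU_inv, xU_add']
        congr 1
        ring
      rw [this]
      have h2 : xU D hD k (t k) = xU D hD k (t' k) * V' * V⁻¹ := by
        rw [← hGL]
        group
      rw [h2]
      group
    have h0 : t k - t' k = 0 := by
      apply xU_mem_Uge_succ D hD hT k hk1 hk
      rw [h1]
      exact mul_mem hV' (inv_mem hV)
    have hkk : t k = t' k := sub_eq_zero.mp h0
    by_cases hrk : r = k
    · rw [hrk]
      exact hkk
    · rw [hkk] at hGL
      have hVV : V = V' := mul_left_cancel hGL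
      have h' : D.wordMat F (ordWord t (k + 1) m) = D.wordMat F (ordWord t' (k + 1) m) := by
        rw [← hVv, ← hVv', hVV]
      exact ih (k + 1) (by omega) (by omega) t t' h' r (by omega) hr2

end

end Cfsg.Agent.Helper18
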