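import Cfsg.Agent.Lib.Helper18.ChevRootPair
import Cfsg.Agent.Lib.Helper18.ChevUProd

set_option autoImplicit false

namespace Cfsg.Agent.Helper18

open Cfsg.Lie Cfsg.Agent.S1043 Cfsg.Agent.Helper17
open scoped Pointwise

/-- The root subgroups `X_r` and `X_s` commute elementwise. -/
def Comm2 (F : Type*) [Field F] (D : ChevalleyDatum) (r s : ℕ) : Prop :=
  ∀ t u : F, D.x F r t * D.x F s u = D.x F s u * D.x F r t

section

variable {F : Type*} [Field F] (D : ChevalleyDatum) (hD : Good D)

include hD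

theorem comm2_iff (r s : ℕ) :
    Comm2 F D r s ↔ ∀ t u : F, xU D hD r t * xU D hD s u = xU D hD s u * xU D hD r t := by
  constructor
  · intro h t u
    apply Units.ext
    rw [Units.val_mul, Units.val_mul, xU_val, xU_val]
    exact h t u
  · intro h t u
    have := congrArg Units.val (h t u)
    rwa [Units.val_mul, Units.val_mul, xU_val, xU_val] at this

/-- Conjugation by a word in the `n_i`, on the level of units, with a sign `η = ±1`. -/
theorem nWordGL_conj_unit (hB : BNFacts D) (hconj : ∀ i < D.rank, ∀ s < D.nroots, ConjGoal' F D i s)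
    (l : List ℕ) (hl : ∀ i ∈ l, i < D.rank) (s : ℕ) (hs : s < D.nroots) :
    ∃ η : F, η * η = 1 ∧ ∀ t : F,
      nWordGL D hD l * xU D hD s t * (nWordGL D hD l)⁻¹ = xU D hD (permW D l s) (η * t) := by
  obtain ⟨_, η, hη, hc⟩ := nWordGL_conj D hD hB.hrefl hconj l hl s hs
  refine ⟨(η : F), ?_, fun t => ?_⟩
  · rcases hη with rfl | rfl <;> simp
  · apply Units.ext
    rw [Units.val_mul, Units.val_mul, xU_val, hc t, mul_assoc, Units.mul_inv, mul_one, xU_val]

/-- Commuting of root subgroups is invariant under the Weyl group. -/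
theorem comm2_conj (hB : BNFacts D) (hconj : ∀ i < D.rank, ∀ s < D.nroots, ConjGoal' F D i s)
    (l : List ℕ) (hl : ∀ i ∈ l, i < D.rank) (r s : ℕ) (hr : r < D.nroots) (hs : s < D.nroots) :
    Comm2 F D r s ↔ Comm2 F D (permW D l r) (permW D l s) := by
  obtain ⟨η₁, hη₁, h₁⟩ := nWordGL_conj_unit D hD hB hconj l hl r hr
  obtain ⟨η₂, hη₂, h₂⟩ := nWordGL_conj_unit D hD hB hconj l hl s hs
  rw [comm2_iff D hD, comm2_iff D hD]
  constructor
  · intro h t u
    have e1 : xU D hD (permW D l r) t = nWordGL D hD l * xU D hD r (η₁ * t) * (nWordGL D hD l)⁻¹ := by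
      rw [h₁, ← mul_assoc, hη₁, one_mul]
    have e2 : xU D hD (permW D l s) u = nWordGL D hD l * xU D hD s (η₂ * u) * (nWordGL D hD l)⁻¹ := by
      rw [h₂, ← mul_assoc, hη₂, one_mul]
    rw [e1, e2]
    have := h (η₁ * t) (η₂ * u)
    calc nWordGL D hD l * xU D hD r (η₁ * t) * (nWordGL D hD l)⁻¹ *
          (nWordGL D hD l * xU D hD s (η₂ * u) * (nWordGL D hD l)⁻¹)
        = nWordGL D hD l * (xU D hD r (η₁ * t) * xU D hD s (η₂ * u)) * (nWordGL D hD l)⁻¹ := by group
      _ = nWordGL D hD l * (xU D hD s (η₂ * u) * xU D hD r (η₁ * t)) * (nWordGL D hD l)⁻¹ := by rw [this]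
      _ = _ := by group
  · intro h t u
    have e1 : xU D hD r t = (nWordGL D hD l)⁻¹ * xU D hD (permW D l r) (η₁ * t) * nWordGL D hD l := by
      rw [← h₁]
      group
    have e2 : xU D hD s u = (nWordGL D hD l)⁻¹ * xU D hD (permW D l s) (η₂ * u) * nWordGL D hD l := by
      rw [← h₂]
      group
    rw [e1, e2]
    have := h (η₁ * t) (η₂ * u)
    calc (nWordGL D hD l)⁻¹ * xU D hD (permW D l r) (η₁ * t) * nWordGL D hD l *
          ((nWordGL D hD l)⁻¹ * xU D hD (permW D l s) (η₂ * u) * nWordGL D hD l)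
        = (nWordGL D hD l)⁻¹ * (xU D hD (permW D l r) (η₁ * t) * xU D hD (permW D l s) (η₂ * u)) *
            nWordGL D hD l := by group
      _ = (nWordGL D hD l)⁻¹ * (xU D hD (permW D l s) (η₂ * u) * xU D hD (permW D l r) (η₁ * t)) *
            nWordGL D hD l := by rw [this]
      _ = _ := by group

/-- A positive and a negative root are not sent to the same root by a Weyl group element. -/
theorem permW_ne_pos_neg (hB : BNFacts D) {tbl : List ℕ} (hT : TorusData D tbl) (hTri : TriOK D)
    (hNeg : NegTriOK D) (hconj : ∀ i < D.rank, ∀ s < D.nroots, ConjGoal' F D i s)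
    (l : List ℕ) (hl : ∀ i ∈ l, i < D.rank) (r s : ℕ) (hr : D.IsPosRoot r) (hs : D.IsNegRoot s)
    (hrn : r < D.nroots) (hsn : s < D.nroots) :
    permW D l r ≠ permW D l s := by
  intro e
  have h1 := map_rootSubgroup_nWordGL (F := F) D hD hB hconj l hl r hrn
  have h2 := map_rootSubgroup_nWordGL (F := F) D hD hB hconj l hl s hsn
  rw [e, ← h2] at h1
  have hinj : Function.Injective (MulAut.conj (nWordGL (F := F) D hD l)).toMonoidHom :=
    (MulAut.conj (nWordGL (F := F) D hD l)).injective
  have h3 := Subgroup.map_injective hinj h1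
  have hmem : xU D hD r (1 : F) ∈ D.rootSubgroup F s := by
    rw [← h3]
    exact xU_mem_rootSubgroup D hD r 1
  obtain ⟨c, hc⟩ := mem_rootSubgroup D hD s _ hmem
  have hU : xU D hD r (1 : F) ∈ D.borelSubgroup F :=
    (le_sup_left : D.posUnipotent F ≤ D.borelSubgroup F) (Subgroup.subset_closure ⟨r, 1, hr, rfl⟩)
  have hV : xU D hD r (1 : F) ∈ D.negUnipotent F := by
    rw [hc]
    exact Subgroup.subset_closure ⟨s, c, hs, rfl⟩
  have h0 : xU D hD r (1 : F) = 1 := by
    have hbot := (borel_inf_neg (F := F) D hT hTri hNeg).1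
    rw [← Subgroup.mem_bot, ← hbot]
    exact ⟨hU, hV⟩
  exact one_ne_zero (xU_eq_one D hD hB r hrn _ h0)

/-- The subgroup generated by the `n_j`, `j ∈ J`. -/
def nJ (F : Type*) [Field F] (D : ChevalleyDatum) (hD : Good D) (J : List ℕ) : Subgroup (GL D.Idx F) :=
  Subgroup.closure {g : GL D.Idx F | ∃ j ∈ J, g = nGL D hD j}

theorem nWordGL_mem_nJ (J : List ℕ) (l : List ℕ) (hl : ∀ i ∈ l, i ∈ J) :
    nWordGL (F := F) D hD l ∈ nJ F D hD J := by
  induction l with
  | nil => exact one_mem _
  | cons i l ih =>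
    rw [nWordGL_cons]
    exact mul_mem (Subgroup.subset_closure ⟨i, hl i List.mem_cons_self, rfl⟩)
      (ih fun k hk => hl k (List.mem_cons_of_mem _ hk))

/-- A word fixing the root `r0` (whose root subgroup is centralised by `U`) gives an element of
`H ⟨n_j : j ∈ J⟩`, `J` the fundamental roots orthogonal to `r0`. -/
theorem stab_word_mem (hB : BNFacts D) {tbl : List ℕ} (hT : TorusData D tbl) (hTri : TriOK D)
    (hNeg : NegTriOK D) (hconj : ∀ i < D.rank, ∀ s < D.nroots, ConjGoal' F D i s)
    (hS : ∀ i < D.rank, ConjGoalS' F D i)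
    (hNH : D.monomialSubgroup F ≤ Subgroup.normalizer (D.diagonalSubgroup F : Set (GL D.Idx F)))
    (r0 : ℕ) (hr0 : r0 < D.nroots) (hr0pos : D.IsPosRoot r0)
    (P : ℕ → ℕ → Prop)
    (hPconj : ∀ l : List ℕ, (∀ i ∈ l, i < D.rank) → ∀ r s, r < D.nroots → s < D.nroots →
      (P r s ↔ P (permW D l r) (permW D l s)))
    (hcent : ∀ s, D.IsPosRoot s → P r0 s)
    (J : List ℕ) (hJ : ∀ j ∈ J, j < D.rank)
    (hT2 : ∀ i < D.rank, ∀ ρ < D.nroots, ρ ≠ D.simple i → ρ ≠ D.neg (D.simple i) →
      P ρ (D.simple i) → P ρ (D.neg (D.simple i)) → D.reflectRoot i ρ = ρ)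
    (hT3 : ∀ s, D.IsPosRoot s → s ≠ r0 → P r0 (D.neg s) →
      ∃ lJ : List ℕ, (∀ i ∈ lJ, i ∈ J) ∧ ∃ j ∈ J, permW D lJ (D.simple j) = s) :
    ∀ k : ℕ, ∀ l : List ℕ, l.length ≤ k → (∀ i ∈ l, i < D.rank) → permW D l r0 = r0 →
      ∃ h ∈ D.diagonalSubgroup F, ∃ m ∈ nJ F D hD J, nWordGL D hD l = h * m := by
  intro k
  induction k with
  | zero =>
    intro l hlen _ _
    have : l = [] := List.length_eq_zero_iff.mp (Nat.le_zero.mp hlen)
    subst this
    exact ⟨1, one_mem _, 1, one_mem _, by rw [nWordGL_nil, mul_one]⟩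
  | succ k ih =>
    intro l hlen hl hfix
    by_cases hpos : ∀ s, D.IsPosRoot s → D.IsPosRoot (permW D l s)
    · exact ⟨nWordGL D hD l, nWordGL_mem_diag D hD hB hT hTri hNeg hconj hS hNH l.length l le_rfl hl hpos,
        1, one_mem _, (mul_one _).symm⟩
    · push Not at hpos
      obtain ⟨s0, hs0, hnp⟩ := hpos
      have hs0n : s0 < D.nroots := hs0.1
      have hws0 : permW D l s0 < D.nroots := permW_lt hB l hl s0 hs0n
      have hwneg : D.IsNegRoot (permW D l s0) := (hB.hpn _ hws0).resolve_left hnp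
      obtain ⟨hβpos, _⟩ := neg_facts D hD _ hws0 hwneg
      have hnegs0 : D.neg s0 < D.nroots := hB.hnv s0 hs0n
      have hnegs0neg : D.IsNegRoot (D.neg s0) :=
        (hB.hpn _ hnegs0).resolve_left (hB.hnegpos s0 hs0)
      have c1 : P r0 s0 := hcent s0 hs0
      have c2 : P r0 (D.neg s0) := by
        rw [hPconj l hl r0 (D.neg s0) hr0 hnegs0, hfix, permW_neg hB l hl s0 hs0n]
        exact hcent _ hβpos
      have hs0r0 : s0 ≠ r0 := by
        rintro rfl
        rw [hfix] at hnp
        exact hnp hr0pos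
      obtain ⟨a, i, b, rfl, hbi⟩ := deletion_point hB l hl s0 hs0 hnp
      have hi : i < D.rank := hl i (by simp)
      have ha : ∀ x ∈ a, x < D.rank := fun x hx => hl x (by simp [hx])
      have hb : ∀ x ∈ b, x < D.rank := fun x hx => hl x (by simp [hx])
      have hab : ∀ x ∈ a ++ b, x < D.rank := by
        intro x hx
        rcases List.mem_append.mp hx with hx | hx
        · exact ha x hx
        · exact hb x hx
      have hρ : permW D b r0 < D.nroots := permW_lt hB b hb r0 hr0
      have c3 : P (permW D b r0) (D.simple i) := by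
        rw [← hbi]
        exact (hPconj b hb r0 s0 hr0 hs0n).mp c1
      have c4 : P (permW D b r0) (D.neg (D.simple i)) := by
        rw [← hbi, ← permW_neg hB b hb s0 hs0n]
        exact (hPconj b hb r0 (D.neg s0) hr0 hnegs0).mp c2
      have hperm : ∀ x, permW D (a ++ i :: b) x = permW D a (D.reflectRoot i (permW D b x)) := by
        intro x
        rw [permW_append]
        rfl
      have n1 : permW D b r0 ≠ D.simple i := by
        intro e
        apply hnp
        rw [hperm, hbi, ← e, ← hperm, hfix]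
        exact hr0pos
      have n2 : permW D b r0 ≠ D.neg (D.simple i) := by
        rw [← hbi, ← permW_neg hB b hb s0 hs0n]
        exact permW_ne_pos_neg D hD hB hT hTri hNeg hconj b hb r0 (D.neg s0) hr0pos hnegs0neg hr0 hnegs0
      have hrefl := hT2 i hi _ hρ n1 n2 c3 c4
      have hfix' : permW D (a ++ b) r0 = r0 := by
        have h1 := hperm r0
        rw [hrefl, hfix] at h1
        rw [permW_append]
        exact h1.symm
      have hlen' : (a ++ b).length ≤ k := by
        simp only [List.length_append, List.length_cons] at hlen ⊢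
        omega
      obtain ⟨h, hh, m, hm, e⟩ := ih (a ++ b) hlen' hab hfix'
      obtain ⟨lJ, hlJ, j, hj, hs0J⟩ := hT3 s0 hs0 hs0r0 c2
      have hlJ' : ∀ i ∈ lJ, i < D.rank := fun i hi => hJ i (hlJ i hi)
      have hWJ : nWordGL (F := F) D hD lJ ∈ nJ F D hD J := nWordGL_mem_nJ D hD J lJ hlJ
      have hnj : nGL (F := F) D hD j ∈ nJ F D hD J := Subgroup.subset_closure ⟨j, hj, rfl⟩
      have hnr : nrGL (F := F) D hD s0 ∈ nJ F D hD J := by
        rcases nWordGL_conj_nrGL (F := F) D hD hB hS lJ hlJ' (D.simple j) (hB.hsimp j (hJ j hj))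
          with h' | h'
        · rw [hs0J, ← nGL_eq_nrGL] at h'
          rw [← h']
          exact mul_mem (mul_mem hWJ hnj) (inv_mem hWJ)
        · rw [hs0J, ← nGL_eq_nrGL] at h'
          have : (nrGL (F := F) D hD s0)⁻¹ ∈ nJ F D hD J := by
            rw [← h']
            exact mul_mem (mul_mem hWJ hnj) (inv_mem hWJ)
          exact (Subgroup.inv_mem_iff _).mp this
      have hm0 : (nWordGL (F := F) D hD b)⁻¹ * nGL D hD i * nWordGL D hD b ∈ nJ F D hD J := by
        rcases nWordGL_conj_nrGL (F := F) D hD hB hS b hb s0 hs0n with h' | h'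
        · rw [hbi, ← nGL_eq_nrGL] at h'
          have e1 : (nWordGL (F := F) D hD b)⁻¹ * nGL D hD i * nWordGL D hD b = nrGL D hD s0 := by
            rw [← h']
            group
          rw [e1]
          exact hnr
        · rw [hbi, ← nGL_eq_nrGL] at h'
          have e0 : nGL (F := F) D hD i = (nWordGL D hD b * nrGL D hD s0 * (nWordGL D hD b)⁻¹)⁻¹ := by
            rw [h', inv_inv]
          have e1 : (nWordGL (F := F) D hD b)⁻¹ * nGL D hD i * nWordGL D hD b = (nrGL D hD s0)⁻¹ := by
            rw [e0]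
            group
          rw [e1]
          exact inv_mem hnr
      refine ⟨h, hh, m * ((nWordGL (F := F) D hD b)⁻¹ * nGL D hD i * nWordGL D hD b),
        mul_mem hm hm0, ?_⟩
      rw [← mul_assoc, ← e, nWordGL_append, nWordGL_append, nWordGL_cons]
      group

omit hD in
theorem prod_range_single (n k : ℕ) (f : ℕ → F) (hk : k < n) (h : ∀ i < n, i ≠ k → f i = 1) :
    ((List.range n).map f).prod = f k := by
  induction n with
  | zero => omega
  | succ n ih =>
    rw [List.range_succ, List.map_append, List.prod_append, List.map_singleton, List.prod_singleton]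
    by_cases hkn : k = n
    · subst hkn
      have h1 : ((List.range k).map f).prod = 1 := by
        apply List.prod_eq_one
        intro x hx
        obtain ⟨i, hi, rfl⟩ := List.mem_map.mp hx
        rw [List.mem_range] at hi
        exact h i (by omega) (by omega)
      rw [h1, one_mul]
    · rw [ih (by omega) (fun i hi hik => h i (by omega) hik), h n (by omega) (fun e => hkn e.symm), mul_one]

omit hD in
theorem val_list_prod (l : List ℕ) (u : ℕ → GL D.Idx F) :
    (((l.map u).prod : GL D.Idx F) : Matrix D.Idx D.Idx F) =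
      (l.map fun i => ((u i : GL D.Idx F) : Matrix D.Idx D.Idx F)).prod := by
  induction l with
  | nil => simp
  | cons a l ih => rw [List.map_cons, List.prod_cons, Units.val_mul, ih, List.map_cons, List.prod_cons]

theorem xU_inj (hB : BNFacts D) (r : ℕ) (hr : r < D.nroots) (a b : F)
    (h : xU D hD r a = xU D hD r b) : a = b := by
  have h1 : xU D hD r (a - b) = 1 := by
    have e : xU D hD r (a - b) = xU D hD r a * (xU D hD r b)⁻¹ := by
      rw [xU_inv, xU_add', sub_eq_add_neg]
    rw [e, h, mul_inv_cancel]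
  exact sub_eq_zero.mp (xU_eq_one D hD hB r hr _ h1)

/-- The centraliser of the root element `x_{r0}(1)`, `r0` a positive root whose root subgroup is centralised by `U`;
`P` is a Weyl-invariant relation on the roots standing for "orthogonal or equal". -/
theorem rootCent_main (hB : BNFacts D) {tbl : List ℕ} (hT : TorusData D tbl) (hTri : TriOK D)
    (hNeg : NegTriOK D) (hconj : ∀ i < D.rank, ∀ s < D.nroots, ConjGoal' F D i s)
    (hS : ∀ i < D.rank, ConjGoalS' F D i)
    (hNH : D.monomialSubgroup F ≤ Subgroup.normalizer (D.diagonalSubgroup F : Set (GL D.Idx F)))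
    {f : ℕ → ℤ} (hUP : UProdData D f)
    (r0 : ℕ) (hr0' : r0 < D.nroots) (hr0pos : D.IsPosRoot r0)
    (hBr : ∀ g ∈ D.group F, ∃ b ∈ D.borelSubgroup F, ∃ n ∈ D.monomialSubgroup F,
      ∃ u ∈ D.posUnipotent F, g = b * n * u)
    (hcent : ∀ s, D.IsPosRoot s → Comm2 F D r0 s)
    (P : ℕ → ℕ → Prop)
    (hPconj : ∀ l : List ℕ, (∀ i ∈ l, i < D.rank) → ∀ r s, r < D.nroots → s < D.nroots →
      (P r s ↔ P (permW D l r) (permW D l s)))
    (hPcent : ∀ s, D.IsPosRoot s → P r0 s)
    (J : List ℕ) (hJ : ∀ j ∈ J, j < D.rank)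
    (hT2 : ∀ i < D.rank, ∀ ρ < D.nroots, ρ ≠ D.simple i → ρ ≠ D.neg (D.simple i) →
      P ρ (D.simple i) → P ρ (D.neg (D.simple i)) → D.reflectRoot i ρ = ρ)
    (hT3 : ∀ s, D.IsPosRoot s → s ≠ r0 → P r0 (D.neg s) →
      ∃ lJ : List ℕ, (∀ i ∈ lJ, i ∈ J) ∧ ∃ j ∈ J, permW D lJ (D.simple j) = s)
    (Jn : List ℕ) (hJn : ∀ j ∈ J, D.neg (D.simple j) ∈ Jn) (hJnC : ∀ s ∈ Jn, Comm2 F D r0 s)
    (k : ℕ) (hk : k < D.rank) (hkJ : ∀ i < D.rank, i ≠ k → i ∈ J)
    (hck : D.cartan k r0 = 1) (hcJ : ∀ i < D.rank, i ≠ k → D.cartan i r0 = 0)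
    (t : GL D.Idx F) (ht : (t : Matrix D.Idx D.Idx F) = D.x F r0 1) :
    D.group F ⊓ Subgroup.centralizer {t} =
      D.posUnipotent F ⊔ Subgroup.closure {g : GL D.Idx F | ∃ s ∈ Jn, ∃ c : F,
        (g : Matrix D.Idx D.Idx F) = D.x F s c} := by
  have htU : t = xU D hD r0 1 := Units.ext ht
  subst htU
  set R : Subgroup (GL D.Idx F) := D.posUnipotent F ⊔ Subgroup.closure {g : GL D.Idx F | ∃ s ∈ Jn, ∃ c : F,
        (g : Matrix D.Idx D.Idx F) = D.x F s c} with hR
  have hUR : D.posUnipotent F ≤ R := le_sup_left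
  have hJnR : ∀ s ∈ Jn, ∀ c : F, xU D hD s c ∈ R := fun s hs c =>
    (le_sup_right : _ ≤ R) (Subgroup.subset_closure ⟨s, hs, c, rfl⟩)
  -- `U` centralises `t`
  have hUc : ∀ y ∈ D.posUnipotent F, y * xU D hD r0 1 = xU D hD r0 1 * y := by
    intro y hy
    have hle : D.posUnipotent F ≤ Subgroup.centralizer {xU D hD r0 (1 : F)} := by
      conv_lhs => rw [ChevalleyDatum.posUnipotent]
      rw [Subgroup.closure_le]
      rintro x ⟨s, c, hs, hx⟩
      have hxe : x = xU D hD s c := Units.ext hx
      rw [SetLike.mem_coe, Subgroup.mem_centralizer_iff]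
      intro z hz
      rw [Set.mem_singleton_iff] at hz
      rw [hz, hxe]
      exact (comm2_iff D hD r0 s).mp (hcent s hs) 1 c
    have := Subgroup.mem_centralizer_iff.mp (hle hy) _ (Set.mem_singleton _)
    exact this.symm
  -- the `n_j`, `j ∈ J`
  have hnJ : ∀ m ∈ nJ F D hD J, m ∈ R ∧ m * xU D hD r0 1 = xU D hD r0 1 * m := by
    intro m hm
    have hle : nJ F D hD J ≤ R ⊓ Subgroup.centralizer {xU D hD r0 (1 : F)} := by
      rw [nJ, Subgroup.closure_le]
      rintro x ⟨j, hj, rfl⟩
      have hjr := hJ j hj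
      have h1 : ∀ c : F, xU D hD (D.simple j) c ∈ R ⊓ Subgroup.centralizer {xU D hD r0 (1 : F)} := by
        intro c
        have hU : xU D hD (D.simple j) c ∈ D.posUnipotent F :=
          Subgroup.subset_closure ⟨_, c, hB.hsimpPos j hjr, rfl⟩
        refine Subgroup.mem_inf.mpr ⟨hUR hU, Subgroup.mem_centralizer_iff.mpr fun z hz => ?_⟩
        rw [Set.mem_singleton_iff] at hz
        rw [hz]
        exact (hUc _ hU).symm
      have h2 : ∀ c : F, xU D hD (D.neg (D.simple j)) c ∈
          R ⊓ Subgroup.centralizer {xU D hD r0 (1 : F)} := by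
        intro c
        refine Subgroup.mem_inf.mpr ⟨hJnR _ (hJn j hj) c, Subgroup.mem_centralizer_iff.mpr fun z hz => ?_⟩
        rw [Set.mem_singleton_iff] at hz
        rw [hz]
        exact (comm2_iff D hD r0 _).mp (hJnC _ (hJn j hj)) 1 c
      rw [SetLike.mem_coe, nGL]
      exact mul_mem (mul_mem (h1 1) (h2 (-1))) (h1 1)
    obtain ⟨h1, h2⟩ := hle hm
    exact ⟨h1, (Subgroup.mem_centralizer_iff.mp h2 _ (Set.mem_singleton _)).symm⟩
  apply le_antisymm
  · rintro g ⟨hgG, hgC⟩
    have hgt : xU D hD r0 1 * g = g * xU D hD r0 1 :=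
      Subgroup.mem_centralizer_iff.mp hgC _ (Set.mem_singleton _)
    obtain ⟨b, hb, n, hn, u, hu, rfl⟩ := hBr g hgG
    have hBs : ((D.borelSubgroup F : Subgroup (GL D.Idx F)) : Set (GL D.Idx F)) =
        (D.posUnipotent F : Set (GL D.Idx F)) * (D.diagonalSubgroup F : Set (GL D.Idx F)) :=
      Subgroup.coe_mul_of_right_le_normalizer_left _ _ (diag_le_normalizer D hT)
    have hb' : b ∈ ((D.borelSubgroup F : Subgroup (GL D.Idx F)) : Set (GL D.Idx F)) := hb
    rw [hBs] at hb'
    obtain ⟨u1, hu1, h1, hh1, rfl⟩ := Set.mem_mul.mp hb'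
    obtain ⟨h2, hh2, l, hl, rfl⟩ := mem_monomial_decomp D hD hB hS hNH n hn
    have hhh : h1 * h2 ∈ D.diagonalSubgroup F := mul_mem hh1 hh2
    -- `h1 h2 n_w` commutes with `t`
    have hc1 : (h1 * h2 * nWordGL D hD l) * xU D hD r0 1 = xU D hD r0 1 * (h1 * h2 * nWordGL D hD l) := by
      have e : u1 * (xU D hD r0 1 * (h1 * h2 * nWordGL D hD l)) * u =
          u1 * ((h1 * h2 * nWordGL D hD l) * xU D hD r0 1) * u := by
        calc u1 * (xU D hD r0 1 * (h1 * h2 * nWordGL D hD l)) * u
            = (u1 * xU D hD r0 1) * (h1 * h2 * nWordGL D hD l) * u := by group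
          _ = (xU D hD r0 1 * u1) * (h1 * h2 * nWordGL D hD l) * u := by rw [hUc u1 hu1]
          _ = xU D hD r0 1 * (u1 * h1 * (h2 * nWordGL D hD l) * u) := by group
          _ = (u1 * h1 * (h2 * nWordGL D hD l) * u) * xU D hD r0 1 := hgt
          _ = u1 * (h1 * h2 * nWordGL D hD l) * (u * xU D hD r0 1) := by group
          _ = u1 * (h1 * h2 * nWordGL D hD l) * (xU D hD r0 1 * u) := by rw [hUc u hu]
          _ = u1 * ((h1 * h2 * nWordGL D hD l) * xU D hD r0 1) * u := by group
      exact (mul_left_cancel (mul_right_cancel e)).symm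
    have hconjt : (h1 * h2 * nWordGL D hD l) * xU D hD r0 1 * (h1 * h2 * nWordGL D hD l)⁻¹ =
        xU D hD r0 1 := by
      rw [hc1]
      group
    -- `w r0` is positive
    have hpos' : D.IsPosRoot (permW D l r0) := by
      apply pos_of_conj_mem_borel D hD hB hT hTri hNeg hconj (h1 * h2) hhh l hl r0 hr0'
      rw [hconjt]
      exact (le_sup_left : D.posUnipotent F ≤ D.borelSubgroup F)
        (Subgroup.subset_closure ⟨r0, 1, hr0pos, rfl⟩)
    -- the torus action
    have htor : ∀ hh ∈ D.diagonalSubgroup F, ∃ c : ℕ → F, (∀ i, c i ≠ 0) ∧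
        ((hh : GL D.Idx F) : Matrix D.Idx D.Idx F) = torMat D c ∧
        ∀ s < D.nroots, ∀ v : F, hh * xU D hD s v * hh⁻¹ = xU D hD s (chi D c s * v) := by
      intro hh hhm
      obtain ⟨c, hc, hhc⟩ := mem_diag_eq_torMat D hT hh hhm
      refine ⟨c, hc, hhc, fun s hs v => ?_⟩
      apply Units.ext
      rw [Units.val_mul, Units.val_mul, hhc, xU_val,
        torMat_mul_x D s (fun i hi => hT.addOK D i hi s hs) c hc v, mul_assoc, ← hhc,
        Units.mul_inv, mul_one]
      rfl
    obtain ⟨η, _, hcj⟩ := nWordGL_conj_unit D hD hB hconj l hl r0 hr0'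
    obtain ⟨c, _, _, hcc⟩ := htor (h1 * h2) hhh
    have hwlt : permW D l r0 < D.nroots := permW_lt hB l hl r0 hr0'
    have e5 : xU D hD (permW D l r0) (chi D c (permW D l r0) * (η * 1)) = xU D hD r0 1 := by
      calc xU D hD (permW D l r0) (chi D c (permW D l r0) * (η * 1))
          = (h1 * h2) * xU D hD (permW D l r0) (η * 1) * (h1 * h2)⁻¹ := (hcc _ hwlt _).symm
        _ = (h1 * h2) * (nWordGL D hD l * xU D hD r0 1 * (nWordGL D hD l)⁻¹) * (h1 * h2)⁻¹ := by
            rw [hcj]
        _ = (h1 * h2 * nWordGL D hD l) * xU D hD r0 1 * (h1 * h2 * nWordGL D hD l)⁻¹ := by group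
        _ = xU D hD r0 1 := hconjt
    -- `w r0 = r0`
    have hfix : permW D l r0 = r0 := by
      by_contra hne
      have hs1 := (hUP.hposiff _).mp hpos'
      have hs0 := (hUP.hposiff _).mp hr0pos
      rcases Nat.lt_or_gt_of_ne hne with hlt | hgt
      · have hmem : xU D hD (permW D l r0) (chi D c (permW D l r0) * (η * 1)) ∈
            Uge F D (permW D l r0 + 1) := by
          rw [e5]
          exact xU_mem_Uge D hD _ r0 (by omega) hr0' 1
        have ha := xU_mem_Uge_succ D hD hUP _ hs1.1 hs1.2 _ hmem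
        rw [ha] at e5
        have h0 : xU D hD r0 (1 : F) = 1 := by
          rw [← e5]
          apply Units.ext
          rw [xU_val, x_zero]
          rfl
        exact one_ne_zero (xU_eq_one D hD hB r0 hr0' _ h0)
      · have hmem : xU D hD r0 (1 : F) ∈ Uge F D (r0 + 1) := by
          rw [← e5]
          exact xU_mem_Uge D hD _ _ (by omega) hwlt _
        exact one_ne_zero (xU_mem_Uge_succ D hD hUP _ hs0.1 hs0.2 _ hmem)
    obtain ⟨h3, hh3, m, hm, em⟩ := stab_word_mem D hD hB hT hTri hNeg hconj hS hNH r0 hr0' hr0pos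
      P hPconj hPcent J hJ hT2 hT3 l.length l le_rfl hl hfix
    obtain ⟨hmR, hmc⟩ := hnJ m hm
    -- the torus part commutes with `t`
    have hhh' : h1 * h2 * h3 ∈ D.diagonalSubgroup F := mul_mem hhh hh3
    have hc2 : (h1 * h2 * h3) * xU D hD r0 1 * (h1 * h2 * h3)⁻¹ = xU D hD r0 1 := by
      have e1 : h1 * h2 * h3 = (h1 * h2 * nWordGL D hD l) * m⁻¹ := by
        rw [em]
        group
      rw [e1]
      calc (h1 * h2 * nWordGL D hD l) * m⁻¹ * xU D hD r0 1 * ((h1 * h2 * nWordGL D hD l) * m⁻¹)⁻¹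
          = (h1 * h2 * nWordGL D hD l) * (m⁻¹ * (xU D hD r0 1 * m)) * (h1 * h2 * nWordGL D hD l)⁻¹ := by
            group
        _ = (h1 * h2 * nWordGL D hD l) * (m⁻¹ * (m * xU D hD r0 1)) * (h1 * h2 * nWordGL D hD l)⁻¹ := by
            rw [hmc]
        _ = (h1 * h2 * nWordGL D hD l) * xU D hD r0 1 * (h1 * h2 * nWordGL D hD l)⁻¹ := by group
        _ = _ := hconjt
    obtain ⟨c', hc', hhc', hcc'⟩ := htor (h1 * h2 * h3) hhh'
    have hchi : chi D c' r0 = 1 := by
      have := hcc' r0 hr0' 1
      rw [hc2] at this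
      have := xU_inj D hD hB r0 hr0' _ _ this
      rw [mul_one] at this
      exact this.symm
    have hck' : c' k = 1 := by
      rw [chi, prod_range_single D.rank k _ hk (fun i hi hik => by rw [hcJ i hi hik, zpow_zero]), hck,
        zpow_one] at hchi
      exact hchi
    -- the torus part lies in `R`
    have hhR : h1 * h2 * h3 ∈ R := by
      let uu : ℕ → GL D.Idx F := fun i =>
        if i = k then 1 else wordGL D hD (D.hWord (D.simple i) (c' i))
      have huv : ∀ i ∈ List.range D.rank, ((uu i : GL D.Idx F) : Matrix D.Idx D.Idx F) =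
          diagMat D (fun s => D.cartan i s) (c' i) := by
        intro i hi
        rw [List.mem_range] at hi
        by_cases hik : i = k
        · simp only [uu, hik, if_true]
          rw [hck', diagMat, Units.val_one, ← Matrix.diagonal_one]
          congr 1
          funext x
          rcases x with x | x
          · rfl
          · simp
        · simp only [uu, hik, if_false]
          rw [wordGL_val]
          exact hMat_simple_of_check D i (hT.simp i hi) (c' i) (hc' i)
      have hprod : h1 * h2 * h3 = ((List.range D.rank).map uu).prod := by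
        apply Units.ext
        rw [hhc', torMat_eq_prod, val_list_prod]
        congr 1
        apply List.map_congr_left
        intro i hi
        exact (huv i hi).symm
      rw [hprod]
      apply Subgroup.list_prod_mem
      intro x hx
      obtain ⟨i, hi, rfl⟩ := List.mem_map.mp hx
      rw [List.mem_range] at hi
      by_cases hik : i = k
      · simp only [uu, hik, if_true]
        exact one_mem _
      · simp only [uu, hik, if_false]
        apply wordGL_mem
        intro p hp
        have hp' : p.1 = D.simple i ∨ p.1 = D.neg (D.simple i) := by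
          simp only [ChevalleyDatum.hWord, ChevalleyDatum.nWord, List.cons_append, List.nil_append,
            List.mem_cons, List.not_mem_nil, or_false] at hp
          rcases hp with rfl | rfl | rfl | rfl | rfl | rfl <;> simp
        rcases hp' with e | e
        · rw [e]
          exact hUR (Subgroup.subset_closure ⟨_, _, hB.hsimpPos i hi, rfl⟩)
        · rw [e]
          exact hJnR _ (hJn i (hkJ i hi hik)) _
    have eg : u1 * h1 * (h2 * nWordGL D hD l) * u = u1 * (h1 * h2 * h3) * m * u := by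
      rw [em]
      group
    rw [eg]
    exact mul_mem (mul_mem (mul_mem (hUR hu1) hhR) hmR) (hUR hu)
  · rw [hR]
    apply sup_le
    · intro y hy
      refine Subgroup.mem_inf.mpr ⟨borel_le D hD ((le_sup_left : D.posUnipotent F ≤ D.borelSubgroup F) hy),
        Subgroup.mem_centralizer_iff.mpr fun z hz => ?_⟩
      rw [Set.mem_singleton_iff] at hz
      rw [hz]
      exact (hUc y hy).symm
    · rw [Subgroup.closure_le]
      rintro x ⟨s, hs, c, hx⟩
      have hxe : x = xU D hD s c := Units.ext hx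
      rw [hxe]
      refine Subgroup.mem_inf.mpr ⟨xU_mem_group D hD s c, Subgroup.mem_centralizer_iff.mpr fun z hz => ?_⟩
      rw [Set.mem_singleton_iff] at hz
      rw [hz]
      exact (comm2_iff D hD r0 s).mp (hJnC s hs) 1 c

end

end Cfsg.Agent.Helper18
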