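import Cfsg.Agent.Lib.Helper18.ChevBruhatNF

set_option autoImplicit false

namespace Cfsg.Agent.Helper18

open Cfsg.Lie Cfsg.Agent.S1043 Cfsg.Agent.Helper17
open scoped Pointwise

section

variable {F : Type*} [Field F] (D : ChevalleyDatum) (hD : Good D)

theorem xU_mul_inv (r : ℕ) (t t' : F) : xU D hD r t * (xU D hD r t')⁻¹ = xU D hD r (t - t') := by
  rw [xU_inv]
  apply Units.ext
  rw [Units.val_mul, xU_val, xU_val, xU_val, x_add D hD, sub_eq_add_neg]

include hD in
/-- `U_{w' s_j}⁻` is in bijection with `U_{w'}⁻ × F` when `w'` keeps `p_j` positive. -/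
theorem Uw_card_step (hB : BNFacts D) (hU : UiFacts D) {tbl : List ℕ} (hT : TorusData D tbl)
    (hTri : TriOK D) (hNeg : NegTriOK D)
    (hconj : ∀ i < D.rank, ∀ s < D.nroots, ConjGoal' F D i s)
    (hS : ∀ i < D.rank, ConjGoalS' F D i)
    (hNH : D.monomialSubgroup F ≤ Subgroup.normalizer (D.diagonalSubgroup F : Set (GL D.Idx F)))
    (h : GL D.Idx F) (hh : h ∈ D.diagonalSubgroup F) (l₁ : List ℕ) (hl₁ : ∀ i ∈ l₁, i < D.rank)
    (j : ℕ) (hj : j < D.rank) (hpos : D.IsPosRoot (permW D l₁ (D.simple j))) :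
    Nat.card (Uw D (h * nWordGL D hD (l₁ ++ [j]))) =
      Nat.card (Uw D (h * nWordGL D hD l₁)) * Nat.card F := by
  have hsj := hB.hsimp j hj
  have hUB : D.posUnipotent F ≤ D.borelSubgroup F := le_sup_left
  have hbot := (borel_inf_neg (F := F) D hT hTri hNeg).1
  have hlj : ∀ i ∈ [j], i < D.rank := by
    intro i hi
    rw [List.mem_singleton] at hi
    rw [hi]
    exact hj
  let f : ↥(Uw D (h * nWordGL D hD l₁)) × F → ↥(Uw D (h * nWordGL D hD (l₁ ++ [j]))) :=
    fun p => ⟨(nGL D hD j)⁻¹ * (p.1 : GL D.Idx F) * nGL D hD j * xU D hD (D.simple j) p.2,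
      mul_mem (conj_Uw_step D hD hB hU hT hTri hNeg hconj h hh l₁ hl₁ j hj hpos p.1 p.1.2)
        (xU_simple_mem_Uw_step D hD hB hT hTri hNeg hconj h hh l₁ hl₁ j hj hpos p.2)⟩
  have hf : Function.Bijective f := by
    constructor
    · rintro ⟨⟨y, hy⟩, t⟩ ⟨⟨y', hy'⟩, t'⟩ e
      have e1 : (nGL D hD j)⁻¹ * y * nGL D hD j * xU D hD (D.simple j) t =
          (nGL D hD j)⁻¹ * y' * nGL D hD j * xU D hD (D.simple j) t' := congrArg Subtype.val e
      -- `y'⁻¹ y` is a conjugate of a root element
      have e2 : y'⁻¹ * y = nGL D hD j * (xU D hD (D.simple j) t' * (xU D hD (D.simple j) t)⁻¹) *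
          (nGL D hD j)⁻¹ := by
        have : xU D hD (D.simple j) t' = ((nGL D hD j)⁻¹ * y' * nGL D hD j)⁻¹ *
            ((nGL D hD j)⁻¹ * y * nGL D hD j * xU D hD (D.simple j) t) := by
          rw [e1]
          group
        rw [this]
        group
      rw [xU_mul_inv] at e2
      obtain ⟨c, _, hc⟩ := conj_N_xU D hD hB hT hconj 1 (one_mem _) [j] hlj (D.simple j) hsj
      have e3 := hc (t' - t)
      rw [one_mul, nWordGL_cons, nWordGL_nil, mul_one] at e3
      rw [e3] at e2
      have hnegr : D.IsNegRoot (permW D [j] (D.simple j)) := by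
        have e4 : permW D [j] (D.simple j) = D.neg (D.simple j) := reflect_simple D j
        rw [e4]
        exact (hB.hpn _ (hB.hnv _ hsj)).resolve_left (hB.hnegpos _ (hB.hsimpPos j hj))
      have h1 : y'⁻¹ * y ∈ D.negUnipotent F := by
        rw [e2]
        exact Subgroup.subset_closure ⟨_, _, hnegr, rfl⟩
      have h2 : y'⁻¹ * y ∈ D.borelSubgroup F :=
        hUB (Uw_le_pos D _ (mul_mem (inv_mem hy') hy))
      have h3 : y'⁻¹ * y = 1 := by
        rw [← Subgroup.mem_bot, ← hbot]
        exact ⟨h2, h1⟩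
      have hyy : y = y' := (inv_mul_eq_one.mp h3).symm
      subst hyy
      have e5 : xU D hD (D.simple j) t = xU D hD (D.simple j) t' := mul_left_cancel e1
      have e6 : xU D hD (D.simple j) (t - t') = 1 := by
        rw [← xU_mul_inv, e5, mul_inv_cancel]
      have e7 := xU_eq_one D hD hB _ hsj _ e6
      have htt : t = t' := sub_eq_zero.mp e7
      subst htt
      rfl
    · rintro ⟨u, hu⟩
      obtain ⟨u₁, hu₁, y₂, hy₂, t, e, hnu₁⟩ :=
        Uw_step_decomp D hD hB hU hT hTri hNeg hconj h hh l₁ hl₁ j hj hpos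
          (Uw_decomp D hD hB hU hT hTri hNeg hconj hS hNH l₁.length l₁ le_rfl hl₁ h hh)
          u (Uw_le_pos D _ hu)
      have hmem : (nGL D hD j)⁻¹ * y₂ * nGL D hD j * xU D hD (D.simple j) t ∈
          Uw D (h * nWordGL D hD (l₁ ++ [j])) :=
        mul_mem (conj_Uw_step D hD hB hU hT hTri hNeg hconj h hh l₁ hl₁ j hj hpos y₂ hy₂)
          (xU_simple_mem_Uw_step D hD hB hT hTri hNeg hconj h hh l₁ hl₁ j hj hpos t)
      have hu₁' : u₁ ∈ Uw D (h * nWordGL D hD (l₁ ++ [j])) := by
        have : u₁ = u * ((nGL D hD j)⁻¹ * y₂ * nGL D hD j * xU D hD (D.simple j) t)⁻¹ := by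
          rw [e]
          group
        rw [this]
        exact mul_mem hu (inv_mem hmem)
      have h1 := conj_Uw_mem_neg D _ u₁ hu₁'
      have h3 : (h * nWordGL D hD (l₁ ++ [j])) * u₁ * (h * nWordGL D hD (l₁ ++ [j]))⁻¹ = 1 := by
        rw [← Subgroup.mem_bot, ← hbot]
        exact ⟨hUB hnu₁, h1⟩
      have h4 : u₁ = 1 := by
        have : u₁ = (h * nWordGL D hD (l₁ ++ [j]))⁻¹ *
            ((h * nWordGL D hD (l₁ ++ [j])) * u₁ * (h * nWordGL D hD (l₁ ++ [j]))⁻¹) *
            (h * nWordGL D hD (l₁ ++ [j])) := by group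
        rw [this, h3]
        group
      refine ⟨⟨⟨y₂, hy₂⟩, t⟩, ?_⟩
      apply Subtype.ext
      change (nGL D hD j)⁻¹ * y₂ * nGL D hD j * xU D hD (D.simple j) t = u
      rw [e, h4, one_mul]
  rw [← Nat.card_prod]
  exact (Nat.card_congr (Equiv.ofBijective f hf)).symm

/-- The prefixes of the word `pre ++ rest` from `pre` on are length-increasing (packed tables). -/
def redAux (D : ChevalleyDatum) (tbls : List ℕ) : List ℕ → List ℕ → Bool
  | _, [] => true
  | pre, j :: rest =>
    decide (j < D.rank) && decide (D.IsPosRoot (pPermW tbls pre (fSimple D j))) &&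
      redAux D tbls (pre ++ [j]) rest

/-- The word sends every positive root to a non-positive one (packed tables). -/
def w0Check (D : ChevalleyDatum) (tbls : List ℕ) (l : List ℕ) : Bool :=
  (List.range D.nroots).all fun s =>
    !(decide (D.IsPosRoot s)) || !(decide (D.IsPosRoot (pPermW tbls l s)))

theorem pPermW_eq_permW (hB : BNFacts D) (tbls : List ℕ)
    (hperm : ∀ i < D.rank, permCheck D i (lget tbls i 0) = true) (l : List ℕ)
    (hl : ∀ i ∈ l, i < D.rank) (s : ℕ) (hs : s < D.nroots) : pPermW tbls l s = permW D l s := by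
  have hP : ∀ i < D.rank, ∀ s < D.nroots, dec8 (lget tbls i 0) s = D.reflectRoot i s := by
    intro i hi s hs
    have := hperm i hi
    rw [permCheck, List.all_eq_true] at this
    have := this s (List.mem_range.mpr hs)
    rwa [beq_iff_eq, fReflectRoot_eq] at this
  induction l with
  | nil => rfl
  | cons i l ih =>
    have hl' : ∀ j ∈ l, j < D.rank := fun j hj => hl j (List.mem_cons_of_mem _ hj)
    have e1 : pPermW tbls (i :: l) s = dec8 (lget tbls i 0) (pPermW tbls l s) := rfl
    have e2 : permW D (i :: l) s = D.reflectRoot i (permW D l s) := rfl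
    rw [e1, e2, ih hl', hP i (hl i List.mem_cons_self) _ (permW_lt hB l hl' s hs)]

include hD in
theorem Uw_card_word (hB : BNFacts D) (hU : UiFacts D) {tbl : List ℕ} (hT : TorusData D tbl)
    (hTri : TriOK D) (hNeg : NegTriOK D)
    (hconj : ∀ i < D.rank, ∀ s < D.nroots, ConjGoal' F D i s)
    (hS : ∀ i < D.rank, ConjGoalS' F D i)
    (hNH : D.monomialSubgroup F ≤ Subgroup.normalizer (D.diagonalSubgroup F : Set (GL D.Idx F)))
    (tbls : List ℕ) (hperm : ∀ i < D.rank, permCheck D i (lget tbls i 0) = true)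
    (h : GL D.Idx F) (hh : h ∈ D.diagonalSubgroup F) :
    ∀ (rest pre : List ℕ), (∀ i ∈ pre, i < D.rank) → redAux D tbls pre rest = true →
      Nat.card (Uw D (h * nWordGL D hD (pre ++ rest))) =
        Nat.card (Uw D (h * nWordGL D hD pre)) * Nat.card F ^ rest.length := by
  intro rest
  induction rest with
  | nil =>
    intro pre _ _
    rw [List.append_nil, List.length_nil, pow_zero, mul_one]
  | cons j rest ih =>
    intro pre hpre hred
    rw [redAux, Bool.and_eq_true, Bool.and_eq_true, decide_eq_true_eq, decide_eq_true_eq] at hred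
    obtain ⟨⟨hj, hpos⟩, hred'⟩ := hred
    have hpre' : ∀ i ∈ pre ++ [j], i < D.rank := by
      intro i hi
      rcases List.mem_append.mp hi with hi | hi
      · exact hpre i hi
      · rw [List.mem_singleton] at hi
        rw [hi]
        exact hj
    rw [fSimple_eq, pPermW_eq_permW D hB tbls hperm pre hpre _ (hB.hsimp j hj)] at hpos
    have e : pre ++ j :: rest = (pre ++ [j]) ++ rest := by simp
    rw [e, ih (pre ++ [j]) hpre' hred',
      Uw_card_step D hD hB hU hT hTri hNeg hconj hS hNH h hh pre hpre j hj hpos,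
      List.length_cons, pow_succ]
    ring

include hD in
/-- Statement S1027 for one datum, given a reduced word for the longest element. -/
theorem posUnipotent_card (hB : BNFacts D) (hU : UiFacts D) {tbl : List ℕ} (hT : TorusData D tbl)
    (hTri : TriOK D) (hNeg : NegTriOK D)
    (hconj : ∀ i < D.rank, ∀ s < D.nroots, ConjGoal' F D i s)
    (hS : ∀ i < D.rank, ConjGoalS' F D i)
    (hNH : D.monomialSubgroup F ≤ Subgroup.normalizer (D.diagonalSubgroup F : Set (GL D.Idx F)))
    (tbls : List ℕ) (hperm : ∀ i < D.rank, permCheck D i (lget tbls i 0) = true)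
    (l : List ℕ) (hred : redAux D tbls [] l = true) (hw0 : w0Check D tbls l = true) :
    Nat.card (D.posUnipotent F) = Nat.card F ^ l.length := by
  have hl : ∀ rest pre : List ℕ, redAux D tbls pre rest = true → ∀ i ∈ rest, i < D.rank := by
    intro rest
    induction rest with
    | nil => intro _ _ i hi; exact absurd hi List.not_mem_nil
    | cons j rest ih =>
      intro pre hred i hi
      rw [redAux, Bool.and_eq_true, Bool.and_eq_true, decide_eq_true_eq] at hred
      rcases List.mem_cons.mp hi with rfl | hi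
      · exact hred.1.1
      · exact ih _ hred.2 i hi
  have hl' := hl l [] hred
  have h1 := Uw_card_word D hD hB hU hT hTri hNeg hconj hS hNH tbls hperm 1 (one_mem _) l []
    (fun i hi => absurd hi List.not_mem_nil) hred
  rw [List.nil_append] at h1
  -- `U_1⁻` is trivial
  have h2 : Uw D ((1 : GL D.Idx F) * nWordGL D hD []) = ⊥ := by
    rw [eq_bot_iff]
    unfold Uw
    rw [Subgroup.closure_le]
    intro g hg
    obtain ⟨r, t, hr, hnp, _⟩ := UwSet_gen D hD hB hT hTri hNeg hconj 1 (one_mem _) []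
      (fun i hi => absurd hi List.not_mem_nil) g hg
    exact absurd hr hnp
  -- `U_{w₀}⁻ = U`
  have h3 : Uw D ((1 : GL D.Idx F) * nWordGL D hD l) = D.posUnipotent F := by
    apply le_antisymm (Uw_le_pos D _)
    conv_lhs => rw [ChevalleyDatum.posUnipotent]
    rw [Subgroup.closure_le]
    rintro g ⟨r, t, hr, hg⟩
    have hgx : g = xU D hD r t := Units.ext hg
    rw [hgx]
    apply xU_mem_Uw D hD hB hT hTri hNeg hconj 1 (one_mem _) l hl' r hr
    rw [w0Check, List.all_eq_true] at hw0
    have := hw0 r (List.mem_range.mpr hr.1)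
    rw [Bool.or_eq_true, Bool.not_eq_true', Bool.not_eq_true', decide_eq_false_iff_not,
      decide_eq_false_iff_not] at this
    rcases this with h' | h'
    · exact absurd hr h'
    · rwa [pPermW_eq_permW D hB tbls hperm l hl' r hr.1] at h'
  rw [h2, h3, Subgroup.card_bot, one_mul] at h1
  exact h1

end

end Cfsg.Agent.Helper18
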