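import Cfsg.Agent.Lib.Helper18.ChevRootPair
import Cfsg.Agent.Lib.Helper18.ChevUCard

set_option autoImplicit false

namespace Cfsg.Agent.Helper18

open Cfsg.Lie Cfsg.Agent.S1043

section

variable {F : Type*} [Field F] (D : ChevalleyDatum)

/-- Certificate check: for every root `s ≠ -r0` (`r0` the last root) the word `words[s]` makes `r0` and `s` positive. -/
def pairPosCheck (tbls : List ℕ) (words : List (List ℕ)) : Bool :=
  (List.range D.nroots).all fun s =>
    (s == fNeg D (D.nroots - 1)) ||
      ((lget words s []).all (fun i => decide (i < D.rank)) &&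
        decide (D.nroots / 2 ≤ pPermW tbls (lget words s []) (D.nroots - 1)) &&
        decide (pPermW tbls (lget words s []) (D.nroots - 1) < D.nroots) &&
        decide (D.nroots / 2 ≤ pPermW tbls (lget words s []) s) &&
        decide (pPermW tbls (lget words s []) s < D.nroots))

/-- Table check: the last root is positive, its negative is negative, and no sum of it with a positive root is a root. -/
def centCheck : Bool :=
  decide (fNeg D (D.nroots - 1) < D.nroots / 2) && decide (0 < D.nroots) &&
    (List.range' (D.nroots / 2) (D.nroots - D.nroots / 2)).all fun s =>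
      (s == D.nroots - 1) || (fCommTerms D (D.nroots - 1) s).isEmpty

theorem hwords_of_check (hB : BNFacts D) (tbls : List ℕ)
    (hperm : ∀ i < D.rank, permCheck D i (lget tbls i 0) = true)
    (hpos : ∀ s < D.nroots, D.nroots / 2 ≤ s → D.IsPosRoot s) (hn : 0 < D.nroots)
    (words : List (List ℕ)) (hchk : pairPosCheck D tbls words = true) :
    ∀ s < D.nroots, s ≠ D.neg (D.nroots - 1) → ∃ l : List ℕ, (∀ i ∈ l, i < D.rank) ∧
      D.IsPosRoot (permW D l (D.nroots - 1)) ∧ D.IsPosRoot (permW D l s) := by
  intro s hs hne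
  rw [pairPosCheck, List.all_eq_true] at hchk
  have h := hchk s (List.mem_range.mpr hs)
  simp only [Bool.or_eq_true, beq_iff_eq, fNeg_eq, Bool.and_eq_true, List.all_eq_true,
    decide_eq_true_eq] at h
  rcases h with h | ⟨⟨⟨⟨h1, h2⟩, h3⟩, h4⟩, h5⟩
  · exact absurd h hne
  · refine ⟨lget words s [], h1, ?_, ?_⟩
    · rw [← pPermW_eq_permW D hB tbls hperm _ h1 _ (by omega)]
      exact hpos _ h3 h2
    · rw [← pPermW_eq_permW D hB tbls hperm _ h1 _ hs]
      exact hpos _ h5 h4

theorem hcent_of_check (hD : Good D) (hchk : centCheck D = true)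
    (hposR : ∀ s, D.IsPosRoot s → D.nroots / 2 ≤ s ∧ s < D.nroots)
    (hcomm : ∀ r < D.nroots, ∀ s < D.nroots, s ≠ r → s ≠ D.neg r → CommOK F D r s) :
    ∀ s, D.IsPosRoot s → ∀ t u : F,
      D.x F s u * D.x F (D.nroots - 1) t = D.x F (D.nroots - 1) t * D.x F s u := by
  intro s hs t u
  rw [centCheck, Bool.and_eq_true, Bool.and_eq_true, decide_eq_true_eq, decide_eq_true_eq,
    List.all_eq_true] at hchk
  obtain ⟨⟨hneg, hn⟩, hall⟩ := hchk
  rw [fNeg_eq] at hneg
  obtain ⟨hs1, hs2⟩ := hposR s hs
  by_cases hsr : s = D.nroots - 1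
  · rw [hsr, x_add D hD, x_add D hD, add_comm]
  · have h := hall s (by rw [List.mem_range'_1]; omega)
    simp only [Bool.or_eq_true, beq_iff_eq, hsr, false_or, fCommTerms_eq, List.isEmpty_iff] at h
    have H := hcomm (D.nroots - 1) (by omega) s hs2 hsr (by omega) t u
    rw [ChevalleyDatum.commWord, h, List.map_nil, wordMat_nil, mul_one] at H
    exact H

end

end Cfsg.Agent.Helper18
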