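import Cfsg.Agent.Lib.Helper18.ChevRootCent
import Cfsg.Agent.Lib.Helper18.ChevRootPairChk

set_option autoImplicit false

namespace Cfsg.Agent.Helper18

open Cfsg.Lie Cfsg.Agent.S1043 Cfsg.Agent.Helper17

section

variable {F : Type*} [Field F] (D : ChevalleyDatum)

/-- The list of commutator terms is empty or a single term `(k, ±1, 1, 1)` with `k` a root index. -/
def slTerms (L : List (ℕ × ℤ × ℕ × ℕ)) : Bool :=
  decide (L.length ≤ 1) &&
    L.all fun c => decide (c.1 < D.nroots) && (c.2.1 == 1 || c.2.1 == -1) && c.2.2.1 == 1 && c.2.2.2 == 1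

/-- Commuting root subgroups have an empty list of commutator terms (single-term case). -/
theorem comm2_imp_nil (hD : Good D) (hB : BNFacts D) (r s : ℕ) (hcomm : CommOK F D r s)
    (hsl : slTerms D (fCommTerms D r s) = true) (h : Comm2 F D r s) : fCommTerms D r s = [] := by
  rw [slTerms, Bool.and_eq_true, decide_eq_true_eq, List.all_eq_true] at hsl
  obtain ⟨hlen, hall⟩ := hsl
  match hL : fCommTerms D r s with
  | [] => rfl
  | [c] =>
    exfalso
    have hc := hall c (by rw [hL]; exact List.mem_singleton_self c)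
    simp only [Bool.and_eq_true, decide_eq_true_eq, Bool.or_eq_true, beq_iff_eq] at hc
    obtain ⟨⟨⟨hk, hM⟩, h1⟩, h2⟩ := hc
    have hw : D.commWord F r s (1 : F) 1 = [(c.1, -(c.2.1 : F))] := by
      rw [ChevalleyDatum.commWord, ← fCommTerms_eq, hL, List.map_singleton, h1, h2]
      simp
    have e1 := hcomm 1 1
    rw [hw, wordMat_cons, wordMat_nil, mul_one, ← h 1 1] at e1
    have e2 : xU D hD r (1 : F) * xU D hD s 1 =
        xU D hD r 1 * xU D hD s 1 * xU D hD c.1 (-(c.2.1 : F)) := by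
      apply Units.ext
      rw [Units.val_mul, Units.val_mul, Units.val_mul, xU_val, xU_val, xU_val]
      exact e1
    have e3 : xU D hD c.1 (-(c.2.1 : F)) = 1 := by
      have := mul_left_cancel (a := xU D hD r (1 : F) * xU D hD s 1) (b := 1)
        (c := xU D hD c.1 (-(c.2.1 : F))) (by rw [mul_one]; exact e2)
      exact this.symm
    have e4 := xU_eq_one D hD hB c.1 hk _ e3
    rcases hM with hM | hM <;> rw [hM] at e4 <;> simp at e4
  | c :: c' :: L' =>
    exfalso
    rw [hL] at hlen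
    simp at hlen

/-- Table check for the implication "`X_ρ` commutes with `X_{±p_i}` ⟹ `w_i ρ = ρ`". -/
def t2Check (tbls : List ℕ) : Bool :=
  ((List.range D.nroots).all fun s => fNeg D (fNeg D s) == s) &&
  (List.range D.rank).all fun i => (List.range D.nroots).all fun ρ =>
    (ρ == fSimple D i) || (ρ == fNeg D (fSimple D i)) ||
    (slTerms D (fCommTerms D ρ (fSimple D i)) && slTerms D (fCommTerms D ρ (fNeg D (fSimple D i))) &&
      ((dec8 (lget tbls i 0) ρ == ρ) || !(fCommTerms D ρ (fSimple D i)).isEmpty ||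
        !(fCommTerms D ρ (fNeg D (fSimple D i))).isEmpty))

theorem negneg_of_t2Check (tbls : List ℕ) (hchk : t2Check D tbls = true) :
    ∀ s < D.nroots, D.neg (D.neg s) = s := by
  intro s hs
  rw [t2Check, Bool.and_eq_true, List.all_eq_true] at hchk
  have := hchk.1 s (List.mem_range.mpr hs)
  rwa [beq_iff_eq, fNeg_eq, fNeg_eq] at this

theorem hT2_of_check (hD : Good D) (hB : BNFacts D) (tbls : List ℕ)
    (hperm : ∀ i < D.rank, permCheck D i (lget tbls i 0) = true)
    (hcomm : ∀ r < D.nroots, ∀ s < D.nroots, s ≠ r → s ≠ D.neg r → CommOK F D r s)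
    (hchk : t2Check D tbls = true) :
    ∀ i < D.rank, ∀ ρ < D.nroots, ρ ≠ D.simple i → ρ ≠ D.neg (D.simple i) →
      Comm2 F D ρ (D.simple i) → Comm2 F D ρ (D.neg (D.simple i)) → D.reflectRoot i ρ = ρ := by
  intro i hi ρ hρ n1 n2 c1 c2
  have hnn := negneg_of_t2Check D tbls hchk
  rw [t2Check, Bool.and_eq_true] at hchk
  have h := hchk.2
  rw [List.all_eq_true] at h
  have h := h i (List.mem_range.mpr hi)
  rw [List.all_eq_true] at h
  have h := h ρ (List.mem_range.mpr hρ)
  simp only [Bool.or_eq_true, beq_iff_eq, fSimple_eq, fNeg_eq, Bool.and_eq_true, Bool.not_eq_true',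
    List.isEmpty_eq_false_iff] at h
  rcases h with (h | h) | h
  · exact absurd h n1
  · exact absurd h n2
  · obtain ⟨⟨hs1, hs2⟩, h3⟩ := h
    have hsi := hB.hsimp i hi
    have hnsi := hB.hnv _ hsi
    have m1 : D.simple i ≠ D.neg ρ := by
      intro e
      apply n2
      rw [e, hnn ρ hρ]
    have m2 : D.neg (D.simple i) ≠ D.neg ρ := by
      intro e
      apply n1
      rw [← hnn ρ hρ, ← e, hnn _ hsi]
    have k1 := comm2_imp_nil (F := F) D hD hB ρ (D.simple i)
      (hcomm ρ hρ _ hsi (Ne.symm n1) m1) hs1 c1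
    have k2 := comm2_imp_nil (F := F) D hD hB ρ (D.neg (D.simple i))
      (hcomm ρ hρ _ hnsi (Ne.symm n2) m2) hs2 c2
    rcases h3 with (h3 | h3) | h3
    · have hP := hperm i hi
      rw [permCheck, List.all_eq_true] at hP
      have := hP ρ (List.mem_range.mpr hρ)
      rw [beq_iff_eq, fReflectRoot_eq] at this
      rw [← this]
      exact h3
    · exact absurd k1 h3
    · exact absurd k2 h3

/-- Table check: every positive root `s ≠ r0` with `X_{-s}` commuting with `X_{r0}` (`r0` the last root) is conjugate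
under the reflections in `J` to a fundamental root in `J`. -/
def t3Check (tbls : List ℕ) (J : List ℕ) (cert : List (List ℕ × ℕ)) : Bool :=
  (List.range' (D.nroots / 2) (D.nroots - D.nroots / 2)).all fun s =>
    (s == D.nroots - 1) ||
    (slTerms D (fCommTerms D (D.nroots - 1) (fNeg D s)) &&
      (!(fCommTerms D (D.nroots - 1) (fNeg D s)).isEmpty ||
        ((lget cert s ([], 0)).1.all (fun i => J.contains i) && J.contains (lget cert s ([], 0)).2 &&
          pPermW tbls (lget cert s ([], 0)).1 (fSimple D (lget cert s ([], 0)).2) == s)))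

theorem hT3_of_check (hD : Good D) (hB : BNFacts D) (tbls : List ℕ)
    (hperm : ∀ i < D.rank, permCheck D i (lget tbls i 0) = true)
    (hcomm : ∀ r < D.nroots, ∀ s < D.nroots, s ≠ r → s ≠ D.neg r → CommOK F D r s)
    (hnn : ∀ s < D.nroots, D.neg (D.neg s) = s)
    (hposR : ∀ s, D.IsPosRoot s → D.nroots / 2 ≤ s ∧ s < D.nroots)
    (hr0pos : D.IsPosRoot (D.nroots - 1))
    (J : List ℕ) (hJ : ∀ j ∈ J, j < D.rank) (cert : List (List ℕ × ℕ))
    (hchk : t3Check D tbls J cert = true) :
    ∀ s, D.IsPosRoot s → s ≠ D.nroots - 1 → Comm2 F D (D.nroots - 1) (D.neg s) →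
      ∃ lJ : List ℕ, (∀ i ∈ lJ, i ∈ J) ∧ ∃ j ∈ J, permW D lJ (D.simple j) = s := by
  intro s hs hne hc
  obtain ⟨hs1, hs2⟩ := hposR s hs
  have hr0 : D.nroots - 1 < D.nroots := by omega
  rw [t3Check, List.all_eq_true] at hchk
  have h := hchk s (by rw [List.mem_range'_1]; omega)
  simp only [Bool.or_eq_true, beq_iff_eq, fSimple_eq, fNeg_eq, Bool.and_eq_true, Bool.not_eq_true',
    List.isEmpty_eq_false_iff, List.all_eq_true, List.contains_iff_mem] at h
  rcases h with h | ⟨hsl, h⟩
  · exact absurd h hne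
  · have m1 : D.neg s ≠ D.nroots - 1 := by
      intro e
      apply hB.hnegpos s hs
      rw [e]
      exact hr0pos
    have m2 : D.neg s ≠ D.neg (D.nroots - 1) := by
      intro e
      apply hne
      rw [← hnn s hs2, e, hnn _ hr0]
    have k1 := comm2_imp_nil (F := F) D hD hB (D.nroots - 1) (D.neg s)
      (hcomm _ hr0 _ (hB.hnv s hs2) m1 m2) hsl hc
    rcases h with h | ⟨⟨h1, h2⟩, h3⟩
    · exact absurd k1 h
    · refine ⟨_, h1, _, h2, ?_⟩
      rw [← pPermW_eq_permW D hB tbls hperm _ (fun i hi => hJ i (h1 i hi)) _ (hB.hsimp _ (hJ _ h2))]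
      exact h3

/-- Table check for the torus part and the generators `X_{-p_j}`, `j ∈ J`. -/
def chiCheck (J Jn : List ℕ) (k : ℕ) : Bool :=
  decide (k < D.rank) && fCartan D k (D.nroots - 1) == 1 &&
    ((List.range D.rank).all fun i => i == k || (J.contains i && fCartan D i (D.nroots - 1) == 0)) &&
    (J.all fun j => decide (j < D.rank) && Jn.contains (fNeg D (fSimple D j))) &&
    (Jn.all fun s => decide (s < D.nroots) && s != D.nroots - 1 && s != fNeg D (D.nroots - 1) &&
      (fCommTerms D (D.nroots - 1) s).isEmpty)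

theorem chi_of_check (hcomm : ∀ r < D.nroots, ∀ s < D.nroots, s ≠ r → s ≠ D.neg r → CommOK F D r s)
    (hn : 0 < D.nroots) (J Jn : List ℕ) (k : ℕ) (hchk : chiCheck D J Jn k = true) :
    k < D.rank ∧ D.cartan k (D.nroots - 1) = 1 ∧ (∀ i < D.rank, i ≠ k → i ∈ J) ∧
      (∀ i < D.rank, i ≠ k → D.cartan i (D.nroots - 1) = 0) ∧ (∀ j ∈ J, j < D.rank) ∧
      (∀ j ∈ J, D.neg (D.simple j) ∈ Jn) ∧ (∀ s ∈ Jn, Comm2 F D (D.nroots - 1) s) := by
  simp only [chiCheck, Bool.and_eq_true, decide_eq_true_eq, beq_iff_eq, List.all_eq_true,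
    List.mem_range, Bool.or_eq_true, List.contains_iff_mem, fCartan_eq, fNeg_eq, fSimple_eq,
    bne_iff_ne, ne_eq, List.isEmpty_iff] at hchk
  obtain ⟨⟨⟨⟨hk, hck⟩, hall⟩, hJ⟩, hJn⟩ := hchk
  refine ⟨hk, hck, ?_, ?_, fun j hj => (hJ j hj).1, fun j hj => (hJ j hj).2, ?_⟩
  · intro i hi hik
    rcases hall i hi with h | h
    · exact absurd h hik
    · exact h.1
  · intro i hi hik
    rcases hall i hi with h | h
    · exact absurd h hik
    · exact h.2
  · intro s hs t u
    obtain ⟨⟨⟨h1, h2⟩, h3⟩, h4⟩ := hJn s hs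
    have H := hcomm (D.nroots - 1) (by omega) s h1 h2 h3 t u
    rw [ChevalleyDatum.commWord, ← fCommTerms_eq, h4, List.map_nil, wordMat_nil, mul_one] at H
    exact H.symm

end

end Cfsg.Agent.Helper18
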