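import Cfsg.Agent.Lib.Helper18.ChevRootCentChk

set_option autoImplicit false

namespace Cfsg.Agent.Helper18

open Cfsg.Lie Cfsg.Agent.S1043 Cfsg.Agent.Helper17

section

variable {F : Type*} [Field F] (D : ChevalleyDatum)

/-- `s = r`, or `s ≠ -r` and all the commutator terms of `(r, s)` have even coefficients: in characteristic two the
root subgroups `X_r`, `X_s` commute. -/
def evenP (r s : ℕ) : Bool :=
  (s == r) || ((s != fNeg D r) && (fCommTerms D r s).all fun c => c.2.1 % 2 == 0)

theorem wordMat_zero (w : List (ℕ × F)) (h : ∀ p ∈ w, p.2 = 0) : D.wordMat F w = 1 := by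
  induction w with
  | nil => exact wordMat_nil D
  | cons p w ih =>
    rw [wordMat_cons, ih fun q hq => h q (List.mem_cons_of_mem _ hq), h p List.mem_cons_self, x_zero,
      mul_one]

theorem comm2_of_evenP [CharP F 2] (hD : Good D) (r s : ℕ)
    (hcomm : s ≠ r → s ≠ D.neg r → CommOK F D r s) (h : evenP D r s = true) : Comm2 F D r s := by
  intro t u
  rw [evenP, Bool.or_eq_true, beq_iff_eq, Bool.and_eq_true, bne_iff_ne, fNeg_eq, List.all_eq_true] at h
  rcases h with rfl | ⟨h1, h2⟩
  · rw [x_add D hD, x_add D hD, add_comm]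
  · by_cases hsr : s = r
    · subst hsr
      rw [x_add D hD, x_add D hD, add_comm]
    · have H := hcomm hsr h1 t u
      have hw : D.wordMat F (D.commWord F r s t u) = 1 := by
        apply wordMat_zero
        intro p hp
        rw [ChevalleyDatum.commWord, List.mem_map] at hp
        obtain ⟨c, hc, rfl⟩ := hp
        rw [← fCommTerms_eq] at hc
        have h3 := h2 c hc
        rw [beq_iff_eq] at h3
        have h4 : (c.2.1 : F) = 0 := by
          obtain ⟨m, hm⟩ := Int.dvd_of_emod_eq_zero h3
          rw [hm]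
          push_cast
          rw [CharTwo.two_eq_zero, zero_mul]
        change (c.2.1 : F) * (-t) ^ c.2.2.1 * u ^ c.2.2.2 = 0
        rw [h4, zero_mul, zero_mul]
      rw [hw, mul_one] at H
      exact H.symm

/-- Table check: `evenP` is invariant under the fundamental reflections. -/
def evenInvCheck (tbls : List ℕ) : Bool :=
  (List.range D.rank).all fun i => (List.range D.nroots).all fun r => (List.range D.nroots).all fun s =>
    evenP D r s == evenP D (dec8 (lget tbls i 0) r) (dec8 (lget tbls i 0) s)

theorem evenP_conj (hB : BNFacts D) (tbls : List ℕ)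
    (hperm : ∀ i < D.rank, permCheck D i (lget tbls i 0) = true)
    (hchk : evenInvCheck D tbls = true) :
    ∀ l : List ℕ, (∀ i ∈ l, i < D.rank) → ∀ r s, r < D.nroots → s < D.nroots →
      (evenP D r s = true ↔ evenP D (permW D l r) (permW D l s) = true) := by
  have hP : ∀ i < D.rank, ∀ s < D.nroots, dec8 (lget tbls i 0) s = D.reflectRoot i s := by
    intro i hi s hs
    have := hperm i hi
    rw [permCheck, List.all_eq_true] at this
    have := this s (List.mem_range.mpr hs)
    rwa [beq_iff_eq, fReflectRoot_eq] at this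
  intro l
  induction l with
  | nil => intro _ r s _ _; rfl
  | cons i l ih =>
    intro hl r s hr hs
    have hl' : ∀ j ∈ l, j < D.rank := fun j hj => hl j (List.mem_cons_of_mem _ hj)
    have hi : i < D.rank := hl i List.mem_cons_self
    have h1 := permW_lt hB l hl' r hr
    have h2 := permW_lt hB l hl' s hs
    rw [ih hl' r s hr hs]
    change _ ↔ evenP D (D.reflectRoot i (permW D l r)) (D.reflectRoot i (permW D l s)) = true
    rw [evenInvCheck, List.all_eq_true] at hchk
    have h := hchk i (List.mem_range.mpr hi)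
    rw [List.all_eq_true] at h
    have h := h _ (List.mem_range.mpr h1)
    rw [List.all_eq_true] at h
    have h := h _ (List.mem_range.mpr h2)
    rw [beq_iff_eq, hP i hi _ h1, hP i hi _ h2] at h
    rw [h]

/-- Table checks for the root `r0`: positivity, centralised by `U`, the implication `T2`, the certificates `T3`. -/
def evenCheck (tbls : List ℕ) (r0 : ℕ) (J : List ℕ) (cert : List (List ℕ × ℕ)) : Bool :=
  decide (D.nroots / 2 ≤ r0) && decide (r0 < D.nroots) &&
  ((List.range D.nroots).all fun s => fNeg D (fNeg D s) == s) &&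
  ((List.range' (D.nroots / 2) (D.nroots - D.nroots / 2)).all fun s => evenP D r0 s) &&
  ((List.range D.rank).all fun i => (List.range D.nroots).all fun ρ =>
    (ρ == fSimple D i) || (ρ == fNeg D (fSimple D i)) ||
      !(evenP D ρ (fSimple D i)) || !(evenP D ρ (fNeg D (fSimple D i))) || (dec8 (lget tbls i 0) ρ == ρ)) &&
  ((List.range' (D.nroots / 2) (D.nroots - D.nroots / 2)).all fun s =>
    (s == r0) || !(evenP D r0 (fNeg D s)) ||
      ((lget cert s ([], 0)).1.all (fun i => J.contains i) && J.contains (lget cert s ([], 0)).2 &&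
        pPermW tbls (lget cert s ([], 0)).1 (fSimple D (lget cert s ([], 0)).2) == s))

/-- Table check for the torus part and the generators `X_{-p_j}`, `j ∈ J`. -/
def evenChiCheck (r0 : ℕ) (J Jn : List ℕ) (k : ℕ) : Bool :=
  decide (k < D.rank) && fCartan D k r0 == 1 &&
    ((List.range D.rank).all fun i => i == k || (J.contains i && fCartan D i r0 == 0)) &&
    (J.all fun j => decide (j < D.rank) && Jn.contains (fNeg D (fSimple D j))) &&
    (Jn.all fun s => decide (s < D.nroots) && evenP D r0 s)

end

section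

variable {F : Type*} [Field F] [CharP F 2] (D : ChevalleyDatum) (hD : Good D)

include hD

/-- The centraliser of `x_{r0}(1)` in characteristic two, from the table checks. -/
theorem rootCentEven_of_checks (hB : BNFacts D) {tbl : List ℕ} (hT : TorusData D tbl) (hTri : TriOK D)
    (hNeg : NegTriOK D) (hconj : ∀ i < D.rank, ∀ s < D.nroots, ConjGoal' F D i s)
    (hS : ∀ i < D.rank, ConjGoalS' F D i)
    (hNH : D.monomialSubgroup F ≤ Subgroup.normalizer (D.diagonalSubgroup F : Set (GL D.Idx F)))
    {f : ℕ → ℤ} (hUP : UProdData D f)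
    (hBr : ∀ g ∈ D.group F, ∃ b ∈ D.borelSubgroup F, ∃ n ∈ D.monomialSubgroup F,
      ∃ u ∈ D.posUnipotent F, g = b * n * u)
    (hcomm : ∀ r < D.nroots, ∀ s < D.nroots, s ≠ r → s ≠ D.neg r → CommOK F D r s)
    (tbls : List ℕ) (hperm : ∀ i < D.rank, permCheck D i (lget tbls i 0) = true)
    (hinv : evenInvCheck D tbls = true)
    (r0 : ℕ) (J Jn : List ℕ) (cert : List (List ℕ × ℕ)) (k : ℕ)
    (hchk : evenCheck D tbls r0 J cert = true) (hchi : evenChiCheck D r0 J Jn k = true)
    (t : GL D.Idx F) (ht : (t : Matrix D.Idx D.Idx F) = D.x F r0 1) :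
    D.group F ⊓ Subgroup.centralizer {t} =
      D.posUnipotent F ⊔ Subgroup.closure {g : GL D.Idx F | ∃ s ∈ Jn, ∃ c : F,
        (g : Matrix D.Idx D.Idx F) = D.x F s c} := by
  simp only [evenCheck, Bool.and_eq_true, decide_eq_true_eq] at hchk
  obtain ⟨⟨⟨⟨⟨h1, hr0⟩, hnn⟩, hcent⟩, hT2⟩, hT3⟩ := hchk
  have hr0pos : D.IsPosRoot r0 := (hUP.hposiff r0).mpr ⟨h1, hr0⟩
  have hnn' : ∀ s < D.nroots, D.neg (D.neg s) = s := by
    intro s hs
    rw [List.all_eq_true] at hnn
    have := hnn s (List.mem_range.mpr hs)
    rwa [beq_iff_eq, fNeg_eq, fNeg_eq] at this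
  have hPcent : ∀ s, D.IsPosRoot s → evenP D r0 s = true := by
    intro s hs
    obtain ⟨hs1, hs2⟩ := (hUP.hposiff s).mp hs
    rw [List.all_eq_true] at hcent
    exact hcent s (by rw [List.mem_range'_1]; omega)
  have hcent' : ∀ s, D.IsPosRoot s → Comm2 F D r0 s := fun s hs =>
    comm2_of_evenP D hD r0 s (hcomm r0 hr0 s hs.1) (hPcent s hs)
  simp only [evenChiCheck, Bool.and_eq_true, decide_eq_true_eq, beq_iff_eq, List.all_eq_true,
    List.mem_range, Bool.or_eq_true, List.contains_iff_mem, fCartan_eq, fNeg_eq, fSimple_eq] at hchi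
  obtain ⟨⟨⟨⟨hk, hck⟩, hall⟩, hJ⟩, hJn⟩ := hchi
  have hJ' : ∀ j ∈ J, j < D.rank := fun j hj => (hJ j hj).1
  refine rootCent_main D hD hB hT hTri hNeg hconj hS hNH hUP r0 hr0 hr0pos hBr hcent'
    (fun r s => evenP D r s = true) (evenP_conj D hB tbls hperm hinv) hPcent J hJ' ?_ ?_ Jn
    (fun j hj => (hJ j hj).2) (fun s hs => comm2_of_evenP D hD r0 s (hcomm r0 hr0 s (hJn s hs).1) (hJn s hs).2)
    k hk ?_ hck ?_ t ht
  · intro i hi ρ hρ n1 n2 c1 c2
    rw [List.all_eq_true] at hT2
    have h := hT2 i (List.mem_range.mpr hi)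
    rw [List.all_eq_true] at h
    have h := h ρ (List.mem_range.mpr hρ)
    simp only [Bool.or_eq_true, beq_iff_eq, fSimple_eq, fNeg_eq, Bool.not_eq_true'] at h
    rcases h with (((h | h) | h) | h) | h
    · exact absurd h n1
    · exact absurd h n2
    · rw [c1] at h
      exact absurd h (by simp)
    · rw [c2] at h
      exact absurd h (by simp)
    · have hP := hperm i hi
      rw [permCheck, List.all_eq_true] at hP
      have := hP ρ (List.mem_range.mpr hρ)
      rw [beq_iff_eq, fReflectRoot_eq] at this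
      rw [← this]
      exact h
  · intro s hs hne hc
    obtain ⟨hs1, hs2⟩ := (hUP.hposiff s).mp hs
    rw [List.all_eq_true] at hT3
    have h := hT3 s (by rw [List.mem_range'_1]; omega)
    simp only [Bool.or_eq_true, beq_iff_eq, fSimple_eq, fNeg_eq, Bool.and_eq_true, Bool.not_eq_true',
      List.all_eq_true, List.contains_iff_mem] at h
    rcases h with (h | h) | ⟨⟨h1, h2⟩, h3⟩
    · exact absurd h hne
    · rw [hc] at h
      exact absurd h (by simp)
    · refine ⟨_, h1, _, h2, ?_⟩
      rw [← pPermW_eq_permW D hB tbls hperm _ (fun i hi => hJ' i (h1 i hi)) _ (hB.hsimp _ (hJ' _ h2))]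
      exact h3
  · intro i hi hik
    rcases hall i hi with h | h
    · exact absurd h hik
    · exact h.1
  · intro i hi hik
    rcases hall i hi with h | h
    · exact absurd h hik
    · exact h.2

end

end Cfsg.Agent.Helper18
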