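import Cfsg.Agent.Lib.Helper18.ChevBNPair
import Cfsg.Agent.Lib.Helper18.ChevCommGen

set_option autoImplicit false

namespace Cfsg.Agent.Helper18

open Cfsg.Lie Cfsg.Agent.S1043

section

variable {F : Type*} [Field F] (D : ChevalleyDatum) (hD : Good D)

include hD

/-- Conjugation by a word in the `n_i` maps the root subgroup `X_s` onto `X_{w s}`. -/
theorem map_rootSubgroup_nWordGL (hB : BNFacts D)
    (hconj : ∀ i < D.rank, ∀ s < D.nroots, ConjGoal' F D i s)
    (l : List ℕ) (hl : ∀ i ∈ l, i < D.rank) (s : ℕ) (hs : s < D.nroots) :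
    (D.rootSubgroup F s).map (MulAut.conj (nWordGL D hD l)).toMonoidHom =
      D.rootSubgroup F (permW D l s) := by
  obtain ⟨_, η, hη, hc⟩ := nWordGL_conj D hD hB.hrefl hconj l hl s hs
  have hconjU : ∀ t : F, nWordGL D hD l * xU D hD s t * (nWordGL D hD l)⁻¹ =
      xU D hD (permW D l s) ((η : F) * t) := by
    intro t
    apply Units.ext
    rw [Units.val_mul, Units.val_mul, xU_val, hc t, mul_assoc, Units.mul_inv, mul_one, xU_val]
  apply le_antisymm
  · rw [Subgroup.map_le_iff_le_comap]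
    conv_lhs => rw [ChevalleyDatum.rootSubgroup]
    rw [Subgroup.closure_le]
    rintro x ⟨t, hx⟩
    have hxe : x = xU D hD s t := Units.ext hx
    rw [SetLike.mem_coe, Subgroup.mem_comap, hxe]
    change nWordGL D hD l * xU D hD s t * (nWordGL D hD l)⁻¹ ∈ _
    rw [hconjU]
    exact xU_mem_rootSubgroup D hD _ _
  · conv_lhs => rw [ChevalleyDatum.rootSubgroup]
    rw [Subgroup.closure_le]
    rintro x ⟨t, hx⟩
    have hxe : x = xU D hD (permW D l s) t := Units.ext hx
    rw [SetLike.mem_coe, hxe]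
    refine ⟨xU D hD s ((η : F) * t), xU_mem_rootSubgroup D hD _ _, ?_⟩
    change nWordGL D hD l * xU D hD s ((η : F) * t) * (nWordGL D hD l)⁻¹ = _
    rw [hconjU, ← mul_assoc]
    congr 1
    rcases hη with rfl | rfl <;> simp

omit hD in
/-- The diagonal subgroup normalises every root subgroup. -/
theorem map_rootSubgroup_diag {tbl : List ℕ} (hT : TorusData D tbl) (h : GL D.Idx F)
    (hh : h ∈ D.diagonalSubgroup F) (s : ℕ) (hs : s < D.nroots) :
    (D.rootSubgroup F s).map (MulAut.conj h).toMonoidHom = D.rootSubgroup F s := by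
  have key : ∀ g ∈ D.diagonalSubgroup F,
      (D.rootSubgroup F s).map (MulAut.conj g).toMonoidHom ≤ D.rootSubgroup F s := by
    intro g hg
    obtain ⟨c, hc, hgc⟩ := mem_diag_eq_torMat D hT g hg
    rw [Subgroup.map_le_iff_le_comap]
    conv_lhs => rw [ChevalleyDatum.rootSubgroup]
    rw [Subgroup.closure_le]
    rintro x ⟨t, hx⟩
    rw [SetLike.mem_coe, Subgroup.mem_comap]
    change g * x * g⁻¹ ∈ D.rootSubgroup F s
    apply Subgroup.subset_closure
    refine ⟨chi D c s * t, ?_⟩
    rw [Units.val_mul, Units.val_mul, hx, hgc,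
      torMat_mul_x D s (fun i hi => hT.addOK D i hi s hs) c hc t, mul_assoc, ← hgc,
      Units.mul_inv, mul_one]
  apply le_antisymm (key h hh)
  have := key h⁻¹ (inv_mem hh)
  intro x hx
  refine ⟨h⁻¹ * x * h, ?_, ?_⟩
  · have h1 : h⁻¹ * x * h⁻¹⁻¹ ∈ D.rootSubgroup F s := this ⟨x, hx, rfl⟩
    rwa [inv_inv] at h1
  · change h * (h⁻¹ * x * h) * h⁻¹ = x
    group


omit hD in
theorem map_conj_mul' {G : Type*} [Group G] (K : Subgroup G) (a b : G) :
    K.map (MulAut.conj (a * b)).toMonoidHom =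
      (K.map (MulAut.conj b).toMonoidHom).map (MulAut.conj a).toMonoidHom := by
  rw [Subgroup.map_map]
  congr 1
  ext x
  simp [MulAut.conj_apply, mul_assoc]

omit hD in
theorem map_conj_eq_of_mem_normalizer {G : Type*} [Group G] (K : Subgroup G) (g : G)
    (hg : g ∈ Subgroup.normalizer (K : Set G)) : K.map (MulAut.conj g).toMonoidHom = K := by
  ext x
  rw [Subgroup.mem_map]
  constructor
  · rintro ⟨y, hy, rfl⟩
    exact (Subgroup.mem_normalizer_iff.mp hg y).mp hy
  · intro hx
    refine ⟨g⁻¹ * x * g, ?_, ?_⟩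
    · have := (Subgroup.mem_normalizer_iff.mp (inv_mem hg) x).mp hx
      rwa [inv_inv] at this
    · change g * (g⁻¹ * x * g) * g⁻¹ = x
      group

omit hD in
theorem mem_normalizer_of_map_conj_eq {G : Type*} [Group G] (K : Subgroup G) (g : G)
    (hg : K.map (MulAut.conj g).toMonoidHom = K) : g ∈ Subgroup.normalizer (K : Set G) := by
  rw [Subgroup.mem_normalizer_iff]
  intro y
  constructor
  · intro hy
    rw [← hg]
    exact ⟨y, hy, rfl⟩
  · intro hy
    rw [← hg] at hy
    obtain ⟨y', hy', e⟩ := hy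
    have e' : g * y' * g⁻¹ = g * y * g⁻¹ := e
    have : y' = y := by
      have := congrArg (fun z => g⁻¹ * z * g) e'
      simpa [mul_assoc] using this
    rw [← this]
    exact hy'

/-- Pairs of conjugates of a root subgroup `X_{r0}` normalised by `B`: they generate a `p`-group, or are conjugate to
`⟨X_{r0}, X_{-r0}⟩`. -/
theorem rootPair_main (hB : BNFacts D) {tbl : List ℕ} (hT : TorusData D tbl)
    (hconj : ∀ i < D.rank, ∀ s < D.nroots, ConjGoal' F D i s)
    (hS : ∀ i < D.rank, ConjGoalS' F D i)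
    (hNH : D.monomialSubgroup F ≤ Subgroup.normalizer (D.diagonalSubgroup F : Set (GL D.Idx F)))
    (r0 : ℕ) (hr0 : r0 < D.nroots)
    (hBr : ∀ g ∈ D.group F, ∃ b ∈ D.borelSubgroup F, ∃ n ∈ D.monomialSubgroup F,
      ∃ u ∈ D.posUnipotent F, g = b * n * u)
    (hcent : ∀ s, D.IsPosRoot s → ∀ t u : F, D.x F s u * D.x F r0 t = D.x F r0 t * D.x F s u)
    (hwords : ∀ s < D.nroots, s ≠ D.neg r0 → ∃ l : List ℕ, (∀ i ∈ l, i < D.rank) ∧
      D.IsPosRoot (permW D l r0) ∧ D.IsPosRoot (permW D l s))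
    (p : ℕ) (hUp : IsPGroup p (D.posUnipotent F))
    (g : GL D.Idx F) (hg : g ∈ D.group F) :
    IsPGroup p ↥(D.rootSubgroup F r0 ⊔ (D.rootSubgroup F r0).map (MulAut.conj g).toMonoidHom) ∨
      ∃ h ∈ D.group F, (D.rootSubgroup F r0 ⊔
        (D.rootSubgroup F r0).map (MulAut.conj g).toMonoidHom).map (MulAut.conj h).toMonoidHom =
          D.rootSubgroup F r0 ⊔ D.rootSubgroup F (D.neg r0) := by
  -- `U` and `H`, hence `B`, normalise `X_{r0}`
  have hUn : D.posUnipotent F ≤ Subgroup.normalizer (D.rootSubgroup F r0 : Set (GL D.Idx F)) := by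
    conv_lhs => rw [ChevalleyDatum.posUnipotent]
    rw [Subgroup.closure_le]
    rintro x ⟨s, u, hs, hx⟩
    have hxe : x = xU D hD s u := Units.ext hx
    rw [SetLike.mem_coe, hxe, Subgroup.mem_normalizer_iff]
    intro y
    have hy : ∀ y ∈ D.rootSubgroup F r0, xU D hD s u * y * (xU D hD s u)⁻¹ = y := by
      intro y hy
      obtain ⟨t, rfl⟩ := mem_rootSubgroup D hD r0 y hy
      have : xU D hD s u * xU D hD r0 t = xU D hD r0 t * xU D hD s u := by
        apply Units.ext
        rw [Units.val_mul, Units.val_mul, xU_val, xU_val]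
        exact hcent s hs t u
      rw [this]
      group
    constructor
    · intro h
      rw [hy y h]
      exact h
    · intro h
      have h2 := hy _ h
      have h3 : y = (xU D hD s u)⁻¹ * (xU D hD s u * y * (xU D hD s u)⁻¹) * xU D hD s u := by group
      have h4 : xU D hD s u * (xU D hD s u * y * (xU D hD s u)⁻¹) * (xU D hD s u)⁻¹ =
          xU D hD s u * y * (xU D hD s u)⁻¹ := h2
      have h5 : xU D hD s u * y * (xU D hD s u)⁻¹ = y := by
        have := congrArg (fun z => (xU D hD s u)⁻¹ * z * xU D hD s u) h4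
        simpa [mul_assoc] using this
      rw [← h5]
      exact h
  have hHn : D.diagonalSubgroup F ≤ Subgroup.normalizer (D.rootSubgroup F r0 : Set (GL D.Idx F)) := by
    intro h hh
    exact mem_normalizer_of_map_conj_eq _ _ (map_rootSubgroup_diag D hT h hh r0 hr0)
  have hBn : D.borelSubgroup F ≤ Subgroup.normalizer (D.rootSubgroup F r0 : Set (GL D.Idx F)) :=
    sup_le hUn hHn
  obtain ⟨b, hb, n, hn, u, hu, rfl⟩ := hBr g hg
  obtain ⟨h, hh, l, hl, rfl⟩ := mem_monomial_decomp D hD hB hS hNH n hn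
  have hs' : permW D l r0 < D.nroots := permW_lt hB l hl r0 hr0
  have e1 : (D.rootSubgroup F r0).map (MulAut.conj (b * (h * nWordGL D hD l) * u)).toMonoidHom =
      (D.rootSubgroup F (permW D l r0)).map (MulAut.conj b).toMonoidHom := by
    rw [map_conj_mul', map_conj_eq_of_mem_normalizer _ u (hUn hu), map_conj_mul', map_conj_mul',
      map_rootSubgroup_nWordGL D hD hB hconj l hl r0 hr0, map_rootSubgroup_diag D hT h hh _ hs']
  have e2 : D.rootSubgroup F r0 ⊔ (D.rootSubgroup F (permW D l r0)).map (MulAut.conj b).toMonoidHom =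
      (D.rootSubgroup F r0 ⊔ D.rootSubgroup F (permW D l r0)).map (MulAut.conj b).toMonoidHom := by
    rw [Subgroup.map_sup, map_conj_eq_of_mem_normalizer _ b (hBn hb)]
  rw [e1, e2]
  by_cases hcase : permW D l r0 = D.neg r0
  · right
    refine ⟨b⁻¹, inv_mem (borel_le D hD hb), ?_⟩
    rw [← map_conj_mul', inv_mul_cancel, hcase]
    ext x
    simp
  · left
    obtain ⟨l', hl', hp1, hp2⟩ := hwords _ hs' hcase
    set K₀ := D.rootSubgroup F r0 ⊔ D.rootSubgroup F (permW D l r0) with hK₀
    have hle : K₀.map (MulAut.conj (nWordGL D hD l')).toMonoidHom ≤ D.posUnipotent F := by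
      rw [hK₀, Subgroup.map_sup, map_rootSubgroup_nWordGL D hD hB hconj l' hl' r0 hr0,
        map_rootSubgroup_nWordGL D hD hB hconj l' hl' _ hs']
      apply sup_le
      · rw [ChevalleyDatum.rootSubgroup, Subgroup.closure_le]
        rintro x ⟨t, hx⟩
        exact Subgroup.subset_closure ⟨_, t, hp1, hx⟩
      · rw [ChevalleyDatum.rootSubgroup, Subgroup.closure_le]
        rintro x ⟨t, hx⟩
        exact Subgroup.subset_closure ⟨_, t, hp2, hx⟩
    have h1 : IsPGroup p (K₀.map (MulAut.conj (nWordGL D hD l')).toMonoidHom) := hUp.to_le hle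
    have h2 : IsPGroup p ((K₀.map (MulAut.conj (nWordGL D hD l')).toMonoidHom).map
        (MulAut.conj (b * (nWordGL D hD l')⁻¹)).toMonoidHom) := h1.map _
    rw [← map_conj_mul', mul_assoc, inv_mul_cancel, mul_one] at h2
    exact h2

end

end Cfsg.Agent.Helper18
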