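import Cfsg.Agent.Lib.Helper18.ChevBNPair2
import Cfsg.Agent.S0319

set_option autoImplicit false

namespace Cfsg.Agent.Helper18

open Cfsg.Lie Cfsg.Agent.S1043 Cfsg.Agent.Helper17

/-- The word `(s_i s_j)²` sends one of the two fundamental roots to a negative root. -/
def badPair (D : ChevalleyDatum) (i j : ℕ) : Bool :=
  !(decide (D.IsPosRoot (permW D [i, j, i, j] (D.simple i))) &&
    decide (D.IsPosRoot (permW D [i, j, i, j] (D.simple j))))

/-- A rooted spanning tree of the Dynkin diagram (root `0`), all of whose edges are bad pairs. -/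
def irrCheck (D : ChevalleyDatum) (par dep : List ℕ) : Bool :=
  (List.range D.rank).all fun j =>
    (j == 0) || (decide (lget par j 0 < D.rank) && decide (lget dep (lget par j 0) 0 < lget dep j 0) &&
      badPair D (lget par j 0) j)

theorem crossing_edge (D : ChevalleyDatum) (par dep : List ℕ) (h : irrCheck D par dep = true)
    (I : ℕ → Prop) (i₀ j₀ : ℕ) (hi₀ : i₀ < D.rank) (hj₀ : j₀ < D.rank) (h1 : I i₀) (h2 : ¬ I j₀) :
    ∃ a b, a < D.rank ∧ b < D.rank ∧ badPair D a b = true ∧ ((I a ∧ ¬ I b) ∨ (I b ∧ ¬ I a)) := by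
  simp only [irrCheck, List.all_eq_true, List.mem_range, Bool.or_eq_true, beq_iff_eq, Bool.and_eq_true,
    decide_eq_true_eq] at h
  by_contra hno
  have key : ∀ n : ℕ, ∀ j < D.rank, lget dep j 0 ≤ n → (I j ↔ I 0) := by
    intro n
    induction n with
    | zero =>
      intro j hj hd
      rcases h j hj with rfl | ⟨⟨_, hlt⟩, _⟩
      · exact Iff.rfl
      · omega
    | succ n ih =>
      intro j hj hd
      rcases h j hj with rfl | ⟨⟨hp, hlt⟩, hbad⟩
      · exact Iff.rfl
      · have hip := ih _ hp (by omega)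
        have hpj : I (lget par j 0) ↔ I j := by
          by_contra hne
          apply hno
          refine ⟨lget par j 0, j, hp, hj, hbad, ?_⟩
          by_cases hIj : I j
          · right
            exact ⟨hIj, fun hIp => hne ⟨fun _ => hIj, fun _ => hIp⟩⟩
          · left
            refine ⟨?_, hIj⟩
            by_contra hIp
            exact hne ⟨fun h' => absurd h' hIp, fun h' => absurd h' hIj⟩
        exact hpj.symm.trans hip
  have e1 := key _ i₀ hi₀ le_rfl
  have e2 := key _ j₀ hj₀ le_rfl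
  exact h2 (e2.mpr (e1.mp h1))

section

variable {F : Type*} [Field F] (D : ChevalleyDatum) (hD : Good D)

theorem comm_not_mem_borel (hB : BNFacts D) {tbl : List ℕ} (hT : TorusData D tbl)
    (hTri : TriOK D) (hNeg : NegTriOK D)
    (hconj : ∀ i < D.rank, ∀ s < D.nroots, ConjGoal' F D i s)
    (hNH : D.monomialSubgroup F ≤ Subgroup.normalizer (D.diagonalSubgroup F : Set (GL D.Idx F)))
    (i j : ℕ) (hi : i < D.rank) (hj : j < D.rank) (hbad : badPair D i j = true) :
    nGL D hD i * nGL D hD j * (nGL D hD i)⁻¹ * (nGL D hD j)⁻¹ ∉ D.borelSubgroup F := by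
  intro hc
  have hUB : D.posUnipotent F ≤ D.borelSubgroup F := le_sup_left
  have hHB : D.diagonalSubgroup F ≤ D.borelSubgroup F := le_sup_right
  have hsq : ∀ i < D.rank, nGL (F := F) D hD i * nGL D hD i ∈ D.diagonalSubgroup F := by
    intro i hi
    have h4 := nrGL_inv_sq_mem (F := F) D hD (D.simple i) (hB.hsimp i hi)
    rw [← nGL_eq_nrGL] at h4
    have e4 : nGL (F := F) D hD i * nGL D hD i = ((nGL D hD i)⁻¹ * (nGL D hD i)⁻¹)⁻¹ := by
      rw [mul_inv_rev, inv_inv]
    rw [e4]
    exact inv_mem h4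
  have hjN := hNH (nGL_mem (F := F) D hD j (hB.hsimp j hj))
  have hW : (1 : GL D.Idx F) * nWordGL D hD [i, j, i, j] ∈ D.borelSubgroup F := by
    have e : (1 : GL D.Idx F) * nWordGL D hD [i, j, i, j] =
        (nGL D hD i * nGL D hD j * (nGL D hD i)⁻¹ * (nGL D hD j)⁻¹) *
          (nGL D hD j * (nGL D hD i * nGL D hD i) * (nGL D hD j)⁻¹) * (nGL D hD j * nGL D hD j) := by
      rw [nWordGL_cons, nWordGL_cons, nWordGL_cons, nWordGL_cons, nWordGL_nil]
      group
    rw [e]
    exact mul_mem (mul_mem hc (hHB ((Subgroup.mem_normalizer_iff.mp hjN _).mp (hsq i hi))))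
      (hHB (hsq j hj))
  have hl : ∀ k ∈ [i, j, i, j], k < D.rank := by
    intro k hk
    simp only [List.mem_cons, List.not_mem_nil, or_false] at hk
    rcases hk with rfl | rfl | rfl | rfl <;> assumption
  have hp : ∀ s, D.IsPosRoot s → D.IsPosRoot (permW D [i, j, i, j] s) := by
    intro s hs
    exact pos_of_conj_mem_borel D hD hB hT hTri hNeg hconj 1 (one_mem _) _ hl s hs.1
      (mul_mem (mul_mem hW (hUB (Subgroup.subset_closure ⟨_, 1, hs, rfl⟩))) (inv_mem hW))
  simp only [badPair, Bool.not_eq_true', Bool.and_eq_false_iff, decide_eq_false_iff_not] at hbad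
  rcases hbad with h | h
  · exact h (hp _ (hB.hsimpPos i hi))
  · exact h (hp _ (hB.hsimpPos j hj))

include hD in
theorem chev_simple (hB : BNFacts D) (hU : UiFacts D) {tbl : List ℕ} (hT : TorusData D tbl)
    (hTri : TriOK D) (hNeg : NegTriOK D)
    (hconj : ∀ i < D.rank, ∀ s < D.nroots, ConjGoal' F D i s)
    (hS : ∀ i < D.rank, ConjGoalS' F D i)
    (hNH : D.monomialSubgroup F ≤ Subgroup.normalizer (D.diagonalSubgroup F : Set (GL D.Idx F)))
    (par dep : List ℕ) (hirr : irrCheck D par dep = true) (hrank : 0 < D.rank)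
    (hsolv : Group.IsSolvable ↥(D.borelSubgroup F))
    (hperf : commutator ↥(D.group F) = ⊤)
    (hcore : ((D.borelSubgroup F).subgroupOf (D.group F)).normalCore = ⊥) :
    IsSimpleGroup ↥(D.group F) ∧ ¬ IsMulCommutative ↥(D.group F) := by
  have hUB : D.posUnipotent F ≤ D.borelSubgroup F := le_sup_left
  have hBG : D.borelSubgroup F ≤ D.group F := borel_le D hD
  have hs0 := hB.hsimp 0 hrank
  -- a non-trivial element
  have hx1 : xU D hD (D.simple 0) (1 : F) ≠ 1 := by
    intro h
    exact one_ne_zero (xU_eq_one D hD hB _ hs0 _ h)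
  have : Nontrivial ↥(D.group F) :=
    ⟨⟨⟨xU D hD (D.simple 0) 1, xU_mem_group D hD _ _⟩, 1, fun h => hx1 (congrArg Subtype.val h)⟩⟩
  obtain ⟨P, hPB, hPN, hPS⟩ := bnPair_exists D hD hB hU hT hTri hNeg hconj hS hNH
  constructor
  · apply Cfsg.Agent.S0319.result P
    · -- irreducible
      intro J hJ hne hne'
      obtain ⟨s, hs⟩ := hne
      obtain ⟨s', hs'S, hs'J⟩ := hne'
      have hsS := hJ hs
      rw [hPS] at hsS hs'S
      obtain ⟨i₀, hi₀, e₀⟩ := (mem_bnS_iff D hD s).mp hsS
      obtain ⟨j₀, hj₀, e₀'⟩ := (mem_bnS_iff D hD s').mp hs'S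
      obtain ⟨a, b, ha, hb, hbad, hcross⟩ := crossing_edge D par dep hirr
        (fun i => ∃ x ∈ J, (x : GL D.Idx F) = nGL D hD i) i₀ j₀ hi₀ hj₀ ⟨s, hs, e₀⟩
        (by
          rintro ⟨x, hx, ex⟩
          have : x = s' := Subtype.ext (ex.trans e₀'.symm)
          exact hs'J (this ▸ hx))
      have hnb := comm_not_mem_borel D hD hB hT hTri hNeg hconj hNH a b ha hb hbad
      rcases hcross with ⟨⟨x, hx, ex⟩, hnI⟩ | ⟨⟨x, hx, ex⟩, hnI⟩
      · refine ⟨x, hx, ⟨nGL D hD b, nGL_mem_group D hD b⟩, ⟨?_, ?_⟩, ?_⟩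
        · rw [hPS]
          exact (mem_bnS_iff D hD _).mpr ⟨b, hb, rfl⟩
        · intro hmem
          exact hnI ⟨_, hmem, rfl⟩
        · rw [hPB, Subgroup.mem_subgroupOf]
          simp only [Subgroup.coe_mul, Subgroup.coe_inv, ex]
          exact hnb
      · refine ⟨x, hx, ⟨nGL D hD a, nGL_mem_group D hD a⟩, ⟨?_, ?_⟩, ?_⟩
        · rw [hPS]
          exact (mem_bnS_iff D hD _).mpr ⟨a, ha, rfl⟩
        · intro hmem
          exact hnI ⟨_, hmem, rfl⟩
        · rw [hPB, Subgroup.mem_subgroupOf]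
          simp only [Subgroup.coe_mul, Subgroup.coe_inv, ex]
          intro hmem
          apply hnb
          have e : nGL (F := F) D hD a * nGL D hD b * (nGL D hD a)⁻¹ * (nGL D hD b)⁻¹ =
              (nGL D hD b * nGL D hD a * (nGL D hD b)⁻¹ * (nGL D hD a)⁻¹)⁻¹ := by group
          rw [e]
          exact inv_mem hmem
    · -- solvable
      rw [hPB]
      exact Group.isSolvable_of_isSolvable_injective
        (f := (Subgroup.subgroupOfEquivOfLe hBG).toMonoidHom) (Subgroup.subgroupOfEquivOfLe hBG).injective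
    · exact hperf
    · rw [hPB]
      exact hcore
  · -- not commutative
    intro hcomm
    obtain ⟨η, hη, hcη⟩ := hconj 0 hrank (D.simple 0) hs0
    have e1 : nGL D hD 0 * xU D hD (D.simple 0) 1 * (nGL D hD 0)⁻¹ =
        xU D hD (D.neg (D.simple 0)) (η : F) := by
      apply Units.ext
      simp only [Units.val_mul, xU_val, nGL_val]
      rw [hcη, mul_assoc, ← nGL_val D hD 0, Units.mul_inv, mul_one, reflect_simple, mul_one]
    have hc := hcomm.is_comm.comm (⟨nGL D hD 0, nGL_mem_group D hD 0⟩ : ↥(D.group F))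
      ⟨xU D hD (D.simple 0) 1, xU_mem_group D hD _ _⟩
    have hc' : nGL D hD 0 * xU D hD (D.simple 0) (1 : F) = xU D hD (D.simple 0) 1 * nGL D hD 0 :=
      congrArg Subtype.val hc
    have e2 : xU D hD (D.simple 0) (1 : F) = xU D hD (D.neg (D.simple 0)) (η : F) := by
      rw [← e1, hc']
      group
    have hnegr : D.IsNegRoot (D.neg (D.simple 0)) := by
      rcases hB.hpn _ (hB.hnv _ hs0) with h | h
      · exact absurd h (hB.hnegpos _ (hB.hsimpPos 0 hrank))
      · exact h
    have h1 : xU D hD (D.simple 0) (1 : F) ∈ D.borelSubgroup F :=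
      hUB (Subgroup.subset_closure ⟨_, 1, hB.hsimpPos 0 hrank, rfl⟩)
    have h2 : xU D hD (D.simple 0) (1 : F) ∈ D.negUnipotent F := by
      rw [e2]
      exact Subgroup.subset_closure ⟨_, _, hnegr, rfl⟩
    have hbot := (borel_inf_neg (F := F) D hT hTri hNeg).1
    have h3 : xU D hD (D.simple 0) (1 : F) = 1 := by
      rw [← Subgroup.mem_bot, ← hbot]
      exact ⟨h1, h2⟩
    exact hx1 h3

end

end Cfsg.Agent.Helper18
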