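import Mathlib
import Cfsg.Prelude.Def_ChevStructure

set_option autoImplicit false

namespace Cfsg.Agent.Helper18

open Cfsg.Lie

/-! ## Laurent polynomials in two variables with integer coefficients -/

/-- A monomial: coefficient, exponent of the first variable, exponent of the second. -/
abbrev Mono := ℤ × ℤ × ℤ

/-- Laurent polynomials as lists of monomials. -/
abbrev LP := List Mono

namespace LP

variable {F : Type*} [Field F]

def evalMono (a b : Fˣ) (m : Mono) : F :=
  (m.1 : F) * (((a ^ m.2.1 * b ^ m.2.2 : Fˣ)) : F)

def eval (a b : Fˣ) (p : LP) : F := (p.map (evalMono a b)).sum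

def insert (m : Mono) : LP → LP
  | [] => [m]
  | n :: p => if n.2 = m.2 then (n.1 + m.1, n.2) :: p else n :: insert m p

def norm (p : LP) : LP := (p.foldr insert []).filter (fun m => decide (m.1 ≠ 0))

def add (p q : LP) : LP := norm (p ++ q)

def mul (p q : LP) : LP :=
  norm (p.flatMap fun x => q.map fun y => (x.1 * y.1, x.2.1 + y.2.1, x.2.2 + y.2.2))

def neg (p : LP) : LP := p.map fun x => (-x.1, x.2)

def ofInt (c : ℤ) : LP := [(c, 0, 0)]

def pow (p : LP) : ℕ → LP
  | 0 => ofInt 1
  | n + 1 => mul (pow p n) p

def isZero (p : LP) : Bool := (norm p).isEmpty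

@[simp] theorem eval_nil (a b : Fˣ) : eval a b ([] : LP) = 0 := rfl

@[simp] theorem eval_cons (a b : Fˣ) (m : Mono) (p : LP) :
    eval a b (m :: p) = evalMono a b m + eval a b p := by
  simp [eval]

@[simp] theorem eval_append (a b : Fˣ) (p q : LP) :
    eval a b (p ++ q) = eval a b p + eval a b q := by
  simp [eval]

theorem eval_insert (a b : Fˣ) (m : Mono) (p : LP) :
    eval a b (insert m p) = evalMono a b m + eval a b p := by
  induction p with
  | nil => simp [insert]
  | cons n p ih =>
    unfold insert
    split_ifs with h
    · rcases n with ⟨c, e⟩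
      rcases m with ⟨c', e'⟩
      simp only at h
      subst h
      simp only [eval_cons, evalMono, Int.cast_add]
      ring
    · simp only [eval_cons, ih]
      ring

theorem eval_foldr_insert (a b : Fˣ) (p : LP) :
    eval a b (p.foldr insert []) = eval a b p := by
  induction p with
  | nil => rfl
  | cons m p ih => simp [List.foldr_cons, eval_insert, ih]

theorem eval_filter_ne (a b : Fˣ) (p : LP) :
    eval a b (p.filter (fun m => decide (m.1 ≠ 0))) = eval a b p := by
  induction p with
  | nil => rfl
  | cons m p ih =>
    rw [List.filter_cons]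
    split_ifs with h
    · rw [eval_cons, eval_cons, ih]
    · have h0 : m.1 = 0 := by simpa using h
      rw [eval_cons, ih]
      simp [evalMono, h0]

@[simp] theorem eval_norm (a b : Fˣ) (p : LP) : eval a b (norm p) = eval a b p := by
  unfold norm
  rw [eval_filter_ne, eval_foldr_insert]

@[simp] theorem eval_add (a b : Fˣ) (p q : LP) : eval a b (add p q) = eval a b p + eval a b q := by
  simp [add]

theorem evalMono_mul (a b : Fˣ) (x y : Mono) :
    evalMono a b (x.1 * y.1, x.2.1 + y.2.1, x.2.2 + y.2.2) = evalMono a b x * evalMono a b y := by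
  simp only [evalMono, Int.cast_mul, zpow_add, Units.val_mul]
  ring

theorem eval_map_mul (a b : Fˣ) (x : Mono) (q : LP) :
    eval a b (q.map fun y => (x.1 * y.1, x.2.1 + y.2.1, x.2.2 + y.2.2)) = evalMono a b x * eval a b q := by
  induction q with
  | nil => simp
  | cons y q ihq =>
    simp only [List.map_cons, eval_cons, ihq, evalMono_mul, mul_add]

@[simp] theorem eval_mul (a b : Fˣ) (p q : LP) : eval a b (mul p q) = eval a b p * eval a b q := by
  unfold mul
  rw [eval_norm]
  induction p with
  | nil => simp
  | cons x p ih =>
    simp only [List.flatMap_cons, eval_append, ih, eval_cons, add_mul, eval_map_mul]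

@[simp] theorem eval_neg (a b : Fˣ) (p : LP) : eval a b (neg p) = - eval a b p := by
  induction p with
  | nil => simp [neg]
  | cons x p ih =>
    simp only [neg, List.map_cons, eval_cons] at ih ⊢
    rw [ih]
    simp [evalMono]
    ring

@[simp] theorem eval_ofInt (a b : Fˣ) (c : ℤ) : eval a b (ofInt c) = (c : F) := by
  simp [ofInt, evalMono]

@[simp] theorem eval_pow (a b : Fˣ) (p : LP) (n : ℕ) : eval a b (pow p n) = eval a b p ^ n := by
  induction n with
  | zero => simp [pow]
  | succ n ih => simp [pow, ih, pow_succ]

theorem eval_of_isZero (a b : Fˣ) (p : LP) (h : isZero p = true) : eval a b p = 0 := by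
  unfold isZero at h
  rw [← eval_norm]
  rw [List.isEmpty_iff] at h
  rw [h]
  rfl

end LP


/-! ## Sparse vectors -/

/-- Sparse vectors: lists of (index code, coefficient). -/
abbrev SV := List (ℕ × LP)

namespace SV

variable {F : Type*} [Field F]

def coeff (a b : Fˣ) : SV → ℕ → F
  | [], _ => 0
  | e :: v, k => (if e.1 = k then LP.eval a b e.2 else 0) + coeff a b v k

def insert (e : ℕ × LP) : SV → SV
  | [] => [e]
  | f :: v => if f.1 = e.1 then (f.1, LP.add f.2 e.2) :: v else f :: insert e v

def norm (v : SV) : SV := (v.foldr insert []).filter (fun e => !(LP.isZero e.2))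

def scale (c : LP) (v : SV) : SV := v.map fun e => (e.1, LP.mul e.2 c)

def neg (v : SV) : SV := v.map fun e => (e.1, LP.neg e.2)

@[simp] theorem coeff_nil (a b : Fˣ) (k : ℕ) : coeff a b [] k = 0 := rfl

@[simp] theorem coeff_cons (a b : Fˣ) (e : ℕ × LP) (v : SV) (k : ℕ) :
    coeff a b (e :: v) k = (if e.1 = k then LP.eval a b e.2 else 0) + coeff a b v k := rfl

@[simp] theorem coeff_append (a b : Fˣ) (v w : SV) (k : ℕ) :
    coeff a b (v ++ w) k = coeff a b v k + coeff a b w k := by
  induction v with
  | nil => simp
  | cons e v ih => simp [ih, add_assoc]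

theorem coeff_insert (a b : Fˣ) (e : ℕ × LP) (v : SV) (k : ℕ) :
    coeff a b (insert e v) k = (if e.1 = k then LP.eval a b e.2 else 0) + coeff a b v k := by
  induction v with
  | nil => simp [insert]
  | cons f v ih =>
    by_cases h : f.1 = e.1
    · have h1 : insert e (f :: v) = (f.1, LP.add f.2 e.2) :: v := by simp [insert, h]
      rw [h1]
      simp only [coeff_cons, LP.eval_add, h]
      split_ifs <;> ring
    · have h1 : insert e (f :: v) = f :: insert e v := by simp [insert, h]
      rw [h1, coeff_cons, coeff_cons, ih]
      ring

theorem coeff_foldr_insert (a b : Fˣ) (v : SV) (k : ℕ) :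
    coeff a b (v.foldr insert []) k = coeff a b v k := by
  induction v with
  | nil => rfl
  | cons e v ih => simp [List.foldr_cons, coeff_insert, ih]

theorem coeff_filter_nz (a b : Fˣ) (v : SV) (k : ℕ) :
    coeff a b (v.filter (fun e => !(LP.isZero e.2))) k = coeff a b v k := by
  induction v with
  | nil => rfl
  | cons e v ih =>
    rw [List.filter_cons]
    split_ifs with h
    · rw [coeff_cons, coeff_cons, ih]
    · have h0 : LP.isZero e.2 = true := by simpa using h
      rw [coeff_cons, ih, LP.eval_of_isZero a b e.2 h0]
      simp

@[simp] theorem coeff_norm (a b : Fˣ) (v : SV) (k : ℕ) : coeff a b (norm v) k = coeff a b v k := by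
  unfold norm
  rw [coeff_filter_nz, coeff_foldr_insert]

@[simp] theorem coeff_scale (a b : Fˣ) (c : LP) (v : SV) (k : ℕ) :
    coeff a b (scale c v) k = coeff a b v k * LP.eval a b c := by
  induction v with
  | nil => simp [scale]
  | cons e v ih =>
    simp only [scale, List.map_cons, coeff_cons] at ih ⊢
    rw [ih]
    split_ifs <;> simp <;> ring

@[simp] theorem coeff_neg (a b : Fˣ) (v : SV) (k : ℕ) :
    coeff a b (neg v) k = - coeff a b v k := by
  induction v with
  | nil => simp [neg]
  | cons e v ih =>
    simp only [neg, List.map_cons, coeff_cons] at ih ⊢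
    rw [ih]
    split_ifs <;> simp <;> ring

theorem coeff_flatMap {α : Type*} (a b : Fˣ) (l : List α) (f : α → SV) (k : ℕ) :
    coeff a b (l.flatMap f) k = (l.map fun x => coeff a b (f x) k).sum := by
  induction l with
  | nil => simp
  | cons x l ih => simp [List.flatMap_cons, ih]

theorem coeff_map {α : Type*} (a b : Fˣ) (l : List α) (f : α → ℕ × LP) (k : ℕ) :
    coeff a b (l.map f) k = (l.map fun x => if (f x).1 = k then LP.eval a b (f x).2 else 0).sum := by
  induction l with
  | nil => simp
  | cons x l ih => simp [ih]

/-- Equality check for sparse vectors. -/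
def vecEq (v w : SV) : Bool := (v == w) || (norm (v ++ neg w)).isEmpty

theorem coeff_eq_of_vecEq (a b : Fˣ) (v w : SV) (h : vecEq v w = true) (k : ℕ) :
    coeff a b v k = coeff a b w k := by
  unfold vecEq at h
  rw [Bool.or_eq_true] at h
  rcases h with h | h
  · rw [eq_of_beq h]
  · rw [List.isEmpty_iff] at h
    have := coeff_norm a b (v ++ neg w) k
    rw [h] at this
    simp at this
    linear_combination -this

end SV

/-! ## Columns of root elements -/

section Chev

variable {F : Type*} [Field F] (D : ChevalleyDatum)

/-- Numerical code of a coordinate index. -/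
def code : D.Idx → ℕ
  | .inl i => i.val
  | .inr s => D.rank + s.val

theorem code_lt (i : D.Idx) : code D i < D.rank + D.nroots := by
  rcases i with i | s
  · exact lt_of_lt_of_le i.2 (Nat.le_add_right _ _)
  · exact Nat.add_lt_add_left s.2 _

theorem code_injective : Function.Injective (code D) := by
  rintro (i | s) (j | u) h
  · simp only [code] at h
    rw [Fin.ext h]
  · simp only [code] at h
    have := i.2
    omega
  · simp only [code] at h
    have := j.2
    omega
  · simp only [code] at h
    congr 1
    apply Fin.ext
    omega

theorem exists_code_eq (k : ℕ) (hk : k < D.rank + D.nroots) : ∃ i : D.Idx, code D i = k := by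
  by_cases h : k < D.rank
  · exact ⟨.inl ⟨k, h⟩, rfl⟩
  · refine ⟨.inr ⟨k - D.rank, by omega⟩, ?_⟩
    simp only [code]
    omega

/-- The vector over `F` described by a sparse vector. -/
def toVec (a b : Fˣ) (v : SV) : D.Idx → F := fun i => SV.coeff a b v (code D i)

/-- The column with code `k` of `x_r(t)`, as a sparse vector. -/
def xColSpec (r : ℕ) (t : LP) (k : ℕ) : SV :=
  if k < D.rank then
    [(k, LP.ofInt 1), (D.rank + r, LP.mul (LP.ofInt (-((D.cartanSR.getD k #[]).getD r 0))) t)]
  else
    if k - D.rank = r then [(k, LP.ofInt 1)]
    else if k - D.rank = D.negIdx.getD r 0 then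
      ((List.range D.rank).map fun i => (i, LP.mul (LP.ofInt ((D.coroot.getD r #[]).getD i 0)) t)) ++
        [(k, LP.ofInt 1), (D.rank + r, LP.neg (LP.mul t t))]
    else
      (k, LP.ofInt 1) :: (((D.chain.getD r #[]).toList.filter (fun e => e.1 = k - D.rank)).flatMap fun e =>
        e.2.toList.zipIdx.map fun q => (D.rank + q.1.1, LP.mul (LP.ofInt q.1.2) (LP.pow t (q.2 + 1))))

theorem sum_range_ite (n : ℕ) (i : ℕ) (hi : i < n) (f : ℕ → F) :
    ((List.range n).map fun j => if j = i then f j else 0).sum = f i := by
  induction n with
  | zero => omega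
  | succ n ih =>
    rw [List.range_succ, List.map_append, List.sum_append]
    by_cases h : i < n
    · rw [ih h]
      have : n ≠ i := by omega
      simp [this]
    · have hn : i = n := by omega
      subst hn
      have : ((List.range i).map fun j => if j = i then f j else 0).sum = 0 := by
        apply List.sum_eq_zero
        intro x hx
        rw [List.mem_map] at hx
        obtain ⟨j, hj, rfl⟩ := hx
        rw [List.mem_range] at hj
        have : j ≠ i := by omega
        simp [this]
      rw [this]
      simp

theorem xMat_col (a b : Fˣ) (r : Fin D.nroots) (t : LP) (row col : D.Idx) :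
    D.xMat F r (LP.eval a b t) row col = SV.coeff a b (xColSpec D r.val t (code D col)) (code D row) := by
  rcases col with i | s
  · have hi : code D (Sum.inl i : D.Idx) < D.rank := i.2
    rw [xColSpec, if_pos hi]
    rcases row with i' | u
    · have h1 : ¬ (D.rank + r.val = i'.val) := by have := i'.2; omega
      simp only [ChevalleyDatum.xMat, Matrix.of_apply, code, SV.coeff_cons, SV.coeff_nil, if_neg h1,
        LP.eval_ofInt, Int.cast_one, add_zero]
      by_cases h : i' = i
      · subst h; simp
      · have : ¬ (i.val = i'.val) := fun h' => h (Fin.ext h'.symm)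
        simp [h, this]
    · have h1 : ¬ (i.val = D.rank + u.val) := by have := i.2; omega
      simp only [ChevalleyDatum.xMat, Matrix.of_apply, code, SV.coeff_cons, SV.coeff_nil, if_neg h1,
        LP.eval_mul, LP.eval_ofInt, add_zero, zero_add]
      by_cases h : u = r
      · subst h; simp
      · have : ¬ (D.rank + r.val = D.rank + u.val) := fun h' => h (Fin.ext (by omega))
        have hv : ¬ (r.val = u.val) := fun h' => h (Fin.ext h'.symm)
        simp [h, this, hv]
  · have hs : ¬ (code D (Sum.inr s : D.Idx) < D.rank) := by simp only [code]; omega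
    have hs' : code D (Sum.inr s : D.Idx) - D.rank = s.val := by simp only [code]; omega
    rw [xColSpec, if_neg hs, hs']
    by_cases hsr : s = r
    · subst hsr
      rw [if_pos rfl]
      rcases row with i' | u
      · have h1 : ¬ (D.rank + s.val = i'.val) := by have := i'.2; omega
        simp [ChevalleyDatum.xMat, code, h1]
      · by_cases h : u = s
        · subst h; simp [ChevalleyDatum.xMat, code]
        · have : ¬ (D.rank + s.val = D.rank + u.val) := fun h' => h (Fin.ext (by omega))
          have hv : ¬ (s.val = u.val) := fun h' => h (Fin.ext h'.symm)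
          simp [ChevalleyDatum.xMat, code, h, this, hv]
    · have hsr' : ¬ (s.val = r.val) := fun h => hsr (Fin.ext h)
      rw [if_neg hsr']
      by_cases hneg : s.val = D.negIdx.getD r.val 0
      · rw [if_pos hneg]
        rcases row with i' | u
        · have h1 : ¬ (D.rank + s.val = i'.val) := by have := i'.2; omega
          have h2 : ¬ (D.rank + r.val = i'.val) := by have := i'.2; omega
          simp only [ChevalleyDatum.xMat, Matrix.of_apply, if_neg hsr, if_pos hneg, code, SV.coeff_append,
            SV.coeff_cons, SV.coeff_nil, if_neg h1, if_neg h2, add_zero, SV.coeff_map, LP.eval_mul,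
            LP.eval_ofInt]
          rw [sum_range_ite D.rank i'.val i'.2 (fun j => (((D.coroot.getD r.val #[]).getD j 0 : ℤ) : F) * LP.eval a b t)]
        · have h3 : ∀ j ∈ List.range D.rank, ¬ (j = D.rank + u.val) := by
            intro j hj; rw [List.mem_range] at hj; omega
          have h4 : ((List.range D.rank).map fun j => if j = D.rank + u.val then
              (((D.coroot.getD r.val #[]).getD j 0 : ℤ) : F) * LP.eval a b t else 0).sum = 0 := by
            apply List.sum_eq_zero
            intro x hx
            rw [List.mem_map] at hx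
            obtain ⟨j, hj, rfl⟩ := hx
            rw [if_neg (h3 j hj)]
          simp only [ChevalleyDatum.xMat, Matrix.of_apply, if_neg hsr, if_pos hneg, code, SV.coeff_append,
            SV.coeff_cons, SV.coeff_nil, add_zero, SV.coeff_map, LP.eval_mul, LP.eval_neg,
            LP.eval_ofInt, h4, zero_add, Int.cast_one]
          by_cases h : u = s
          · subst h
            have : ¬ (D.rank + r.val = D.rank + u.val) := by omega
            have hv : ¬ (r.val = u.val) := fun h' => hsr' h'.symm
            simp [this, hv]
          · have h5 : ¬ (D.rank + s.val = D.rank + u.val) := fun h' => h (Fin.ext (by omega))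
            have hv5 : ¬ (s.val = u.val) := fun h' => h (Fin.ext h'.symm)
            by_cases h6 : u = r
            · subst h6; simp [h, h5, hv5, pow_two]
            · have : ¬ (D.rank + r.val = D.rank + u.val) := fun h' => h6 (Fin.ext (by omega))
              have hv6 : ¬ (r.val = u.val) := fun h' => h6 (Fin.ext h'.symm)
              simp [h, h5, h6, this, hv5, hv6]
      · rw [if_neg hneg]
        rcases row with i' | u
        · have h1 : ¬ (D.rank + s.val = i'.val) := by have := i'.2; omega
          simp only [ChevalleyDatum.xMat, Matrix.of_apply, if_neg hsr, if_neg hneg, code, SV.coeff_cons,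
            if_neg h1, zero_add, SV.coeff_flatMap, SV.coeff_map]
          symm
          apply List.sum_eq_zero
          intro x hx
          rw [List.mem_map] at hx
          obtain ⟨e, _, rfl⟩ := hx
          apply List.sum_eq_zero
          intro y hy
          rw [List.mem_map] at hy
          obtain ⟨q, _, rfl⟩ := hy
          have : ¬ (D.rank + q.1.1 = i'.val) := by have := i'.2; omega
          rw [if_neg this]
        · simp only [ChevalleyDatum.xMat, Matrix.of_apply, if_neg hsr, if_neg hneg, code, SV.coeff_cons,
            SV.coeff_flatMap, SV.coeff_map, LP.eval_ofInt, Int.cast_one, ChevalleyDatum.chainCoeff]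
          congr 1
          · by_cases h : u = s
            · subst h; simp
            · have h5 : ¬ (s.val = u.val) := fun h' => h (Fin.ext h'.symm)
              simp [h, h5]
          · generalize (D.chain.getD r.val #[]).toList.filter (fun e => decide (e.1 = s.val)) = L
            induction L with
            | nil => simp
            | cons e L ih =>
              rw [List.flatMap_cons, List.map_append, List.sum_append, List.map_cons, List.sum_cons, ih]
              congr 1
              generalize e.2.toList.zipIdx = Q
              induction Q with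
              | nil => simp
              | cons q Q ihq =>
                rw [List.filter_cons]
                by_cases hq : q.1.1 = u.val
                · have hq' : D.rank + q.1.1 = D.rank + u.val := by omega
                  simp only [hq, decide_true, if_true, List.map_cons, List.sum_cons, ihq, hq',
                    LP.eval_mul, LP.eval_ofInt, LP.eval_pow]
                · have hq' : ¬ (D.rank + q.1.1 = D.rank + u.val) := by omega
                  simp only [hq, decide_false, Bool.false_eq_true, if_false, List.map_cons, List.sum_cons,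
                    ihq, hq', zero_add]



/-- Kernel-friendly list access. -/
def lget {α : Type*} : List α → ℕ → α → α
  | [], _, d => d
  | x :: _, 0, _ => x
  | _ :: l, n + 1, d => lget l n d

theorem lget_eq_getD {α : Type*} (l : List α) (i : ℕ) (d : α) : lget l i d = l.getD i d := by
  induction l generalizing i with
  | nil => simp [lget]
  | cons x l ih =>
    cases i with
    | zero => simp [lget]
    | succ n => simp [lget, ih]

theorem array_getD_eq {α : Type*} (a : Array α) (i : ℕ) (d : α) : a.getD i d = lget a.toList i d := by
  rw [lget_eq_getD]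
  rcases a with ⟨l⟩
  simp only [Array.getD, List.getD]
  split_ifs with h
  · simp at h
    simp [h]
  · simp at h
    simp [h]

/-- The chain row of the root `r` as a list. -/
def rowOf (r : ℕ) : List (ℕ × Array (ℕ × ℤ)) := (lget D.chain.toList r #[]).toList

theorem lget_map_range {α : Type*} (n : ℕ) (f : ℕ → α) (j : ℕ) (hj : j < n) (d : α) :
    lget ((List.range n).map f) j d = f j := by
  rw [lget_eq_getD, List.getD_eq_getElem?_getD, List.getElem?_map, List.getElem?_range hj]
  rfl

/-- The chain row of the root `r`, split into 64 buckets in three levels (by the base-4 digits of the key). -/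
def buckets3 (r : ℕ) : List (List (List (List (ℕ × Array (ℕ × ℤ))))) :=
  (List.range 4).map fun a =>
    (List.range 4).map fun b =>
      (List.range 4).map fun c =>
        (((rowOf D r).filter (fun e => e.1 % 4 = a)).filter (fun e => e.1 / 4 % 4 = b)).filter
          (fun e => e.1 / 16 % 4 = c)

/-- The entries of the chain row of `r` with key `s` (kernel-friendly). -/
def rowFind (r s : ℕ) : List (ℕ × Array (ℕ × ℤ)) :=
  (lget (lget (lget (buckets3 D r) (s % 4) []) (s / 4 % 4) []) (s / 16 % 4) []).filter (fun e => e.1 = s)

theorem rowFind_eq (r s : ℕ) : rowFind D r s = (rowOf D r).filter (fun e => e.1 = s) := by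
  have h4 : ∀ x : ℕ, x % 4 < 4 := fun x => Nat.mod_lt _ (by norm_num)
  rw [rowFind, buckets3, lget_map_range 4 _ _ (h4 _), lget_map_range 4 _ _ (h4 _),
    lget_map_range 4 _ _ (h4 _)]
  simp only [List.filter_filter]
  apply List.filter_congr
  intro e _
  by_cases h : e.1 = s
  · simp [h]
  · simp [h]

theorem rowFind_eq' (r s : ℕ) :
    rowFind D r s = (D.chain.getD r #[]).toList.filter (fun e => e.1 = s) := by
  rw [rowFind_eq, rowOf, array_getD_eq]

/-- Bit mask of the keys of the chain row of `r`. -/
def keyMask (r : ℕ) : ℕ := (rowOf D r).foldr (fun e m => m ||| (1 <<< e.1)) 0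

theorem testBit_foldr_or (l : List (ℕ × Array (ℕ × ℤ))) (s : ℕ)
    (h : (l.foldr (fun e m => m ||| (1 <<< e.1)) 0).testBit s = false) :
    l.filter (fun e => e.1 = s) = [] := by
  induction l with
  | nil => rfl
  | cons e l ih =>
    rw [List.foldr_cons, Nat.testBit_or, Bool.or_eq_false_iff, Nat.one_shiftLeft,
      Nat.testBit_two_pow] at h
    have h2 : ¬ (e.1 = s) := by simpa using h.2
    rw [List.filter_cons, ih h.1]
    simp [h2]

/-- Bit mask of the columns on which `x_r(t)` may act non-trivially (among the root columns). -/
def colMask (r : ℕ) : ℕ := keyMask D r ||| (1 <<< r) ||| (1 <<< lget D.negIdx.toList r 0)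

/-- The column with code `k` of `x_r(t)` is the basis vector. -/
def trivialCol (r k : ℕ) : Bool := decide (D.rank ≤ k) && !(colMask D r).testBit (k - D.rank)

/-- The column with code `k` of `x_r(t)` minus the diagonal entry, as a sparse vector (kernel-friendly version). -/
def xExtra (r : ℕ) (t : LP) (k : ℕ) : SV :=
  if k < D.rank then
    [(D.rank + r, LP.mul (LP.ofInt (-(lget (lget D.cartanSR.toList k #[]).toList r 0))) t)]
  else
    if k - D.rank = r then []
    else if k - D.rank = lget D.negIdx.toList r 0 then
      ((List.range D.rank).map fun i => (i, LP.mul (LP.ofInt (lget (lget D.coroot.toList r #[]).toList i 0)) t)) ++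
        [(D.rank + r, LP.neg (LP.mul t t))]
    else
      (rowFind D r (k - D.rank)).flatMap fun e =>
        e.2.toList.zipIdx.map fun q => (D.rank + q.1.1, LP.mul (LP.ofInt q.1.2) (LP.pow t (q.2 + 1)))

theorem xExtra_of_trivialCol (r : ℕ) (t : LP) (k : ℕ) (h : trivialCol D r k = true) :
    xExtra D r t k = [] := by
  rw [trivialCol, Bool.and_eq_true, decide_eq_true_eq, Bool.not_eq_true', colMask, Nat.testBit_or,
    Nat.testBit_or, Bool.or_eq_false_iff, Bool.or_eq_false_iff, Nat.one_shiftLeft, Nat.one_shiftLeft,
    Nat.testBit_two_pow, Nat.testBit_two_pow] at h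
  obtain ⟨h1, ⟨h2, h3⟩, h4⟩ := h
  have h1' : ¬ (k < D.rank) := by omega
  have h3' : ¬ (k - D.rank = r) := by
    intro h'; rw [h'] at h3; simp at h3
  have h4' : ¬ (k - D.rank = lget D.negIdx.toList r 0) := by
    intro h'; rw [← h'] at h4; simp at h4
  rw [xExtra, if_neg h1', if_neg h3', if_neg h4', rowFind_eq, testBit_foldr_or _ _ h2]
  rfl

theorem coeff_xExtra (a b : Fˣ) (r : ℕ) (t : LP) (k j : ℕ) :
    SV.coeff a b ((k, LP.ofInt 1) :: xExtra D r t k) j = SV.coeff a b (xColSpec D r t k) j := by
  unfold xExtra xColSpec
  simp only [rowFind_eq', array_getD_eq]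
  split_ifs
  · rfl
  · rfl
  · simp only [SV.coeff_cons, SV.coeff_append, SV.coeff_nil]
    ring
  · rfl

/-- Apply `x_r(t)` to a sparse vector (specification). -/
def applyXSpec (r : ℕ) (t : LP) (v : SV) : SV :=
  v.flatMap fun e =>
    if e.1 < D.rank + D.nroots then e :: SV.scale e.2 (xExtra D r t e.1) else []

/-- Apply `x_r(t)` to a sparse vector. -/
def applyX (r : ℕ) (t : LP) (v : SV) : SV :=
  if r < D.nroots then
    v.foldr (fun e acc =>
      if e.1 < D.rank + D.nroots then
        (if trivialCol D r e.1 then SV.insert e acc
         else SV.insert e ((SV.scale e.2 (xExtra D r t e.1)).foldr SV.insert acc))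
      else acc) []
  else v

theorem coeff_foldr_insert_acc (a b : Fˣ) (l acc : SV) (j : ℕ) :
    SV.coeff a b (l.foldr SV.insert acc) j = SV.coeff a b l j + SV.coeff a b acc j := by
  induction l with
  | nil => simp
  | cons e l ih => simp [List.foldr_cons, SV.coeff_insert, ih, add_assoc]

theorem coeff_applyX (a b : Fˣ) (r : ℕ) (hr : r < D.nroots) (t : LP) (v : SV) (j : ℕ) :
    SV.coeff a b (applyX D r t v) j = SV.coeff a b (applyXSpec D r t v) j := by
  rw [applyX, if_pos hr, applyXSpec]
  induction v with
  | nil => rfl
  | cons e v ih =>
    rw [List.foldr_cons, List.flatMap_cons, SV.coeff_append, ← ih]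
    by_cases he : e.1 < D.rank + D.nroots
    · rw [if_pos he, if_pos he]
      by_cases htr : trivialCol D r e.1 = true
      · rw [if_pos htr, xExtra_of_trivialCol D r t e.1 htr, SV.coeff_insert]
        simp [SV.scale]
      · rw [if_neg htr, SV.coeff_insert, coeff_foldr_insert_acc]
        simp only [SV.coeff_cons, add_assoc]
    · rw [if_neg he, if_neg he]
      simp

theorem sum_mul_ite_code (f : D.Idx → F) (c : F) (k : ℕ) (col0 : D.Idx) (h0 : code D col0 = k) :
    ∑ col, f col * (if k = code D col then c else 0) = f col0 * c := by
  rw [Finset.sum_eq_single col0]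
  · rw [if_pos h0.symm]
  · intro col _ hne
    have : ¬ (k = code D col) := fun h => hne (code_injective D (h0.trans h).symm)
    rw [if_neg this, mul_zero]
  · intro h
    exact absurd (Finset.mem_univ _) h

theorem applyX_sound (a b : Fˣ) (r : ℕ) (t : LP) (v : SV) :
    Matrix.mulVec (D.x F r (LP.eval a b t)) (toVec D a b v) = toVec D a b (applyX D r t v) := by
  by_cases hr : r < D.nroots
  · rw [ChevalleyDatum.x, dif_pos hr]
    funext row
    simp only [toVec, coeff_applyX D a b r hr, applyXSpec, SV.coeff_flatMap, Matrix.mulVec, dotProduct]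
    induction v with
    | nil => simp
    | cons e v ih =>
      simp only [SV.coeff_cons, mul_add, Finset.sum_add_distrib, ih, List.map_cons, List.sum_cons]
      congr 1
      by_cases he : e.1 < D.rank + D.nroots
      · obtain ⟨col0, h0⟩ := exists_code_eq D e.1 he
        rw [sum_mul_ite_code D _ _ e.1 col0 h0, if_pos he, xMat_col D a b ⟨r, hr⟩ t row col0,
          ← coeff_xExtra, h0]
        simp only [SV.coeff_cons, SV.coeff_scale, LP.eval_ofInt, Int.cast_one]
        split_ifs <;> ring
      · rw [if_neg he]
        simp only [SV.coeff_nil]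
        apply Finset.sum_eq_zero
        intro col _
        have : ¬ (e.1 = code D col) := fun h => he (h ▸ code_lt D col)
        rw [if_neg this, mul_zero]
  · rw [ChevalleyDatum.x, dif_neg hr, applyX, if_neg hr, Matrix.one_mulVec]

/-- Apply a word in root elements to a sparse vector. -/
def applyWord (w : List (ℕ × LP)) (v : SV) : SV := w.foldr (fun p acc => applyX D p.1 p.2 acc) v

/-- Evaluate the parameters of a word. -/
def evalWord (a b : Fˣ) (w : List (ℕ × LP)) : List (ℕ × F) := w.map fun p => (p.1, LP.eval a b p.2)

theorem applyWord_sound (a b : Fˣ) (w : List (ℕ × LP)) (v : SV) :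
    Matrix.mulVec (D.wordMat F (evalWord a b w)) (toVec D a b v) = toVec D a b (applyWord D w v) := by
  induction w with
  | nil => simp [ChevalleyDatum.wordMat, evalWord, applyWord]
  | cons p w ih =>
    have h1 : D.wordMat F (evalWord a b (p :: w)) =
        D.x F p.1 (LP.eval a b p.2) * D.wordMat F (evalWord a b w) := by
      simp [ChevalleyDatum.wordMat, evalWord]
    rw [h1, ← Matrix.mulVec_mulVec, ih]
    exact applyX_sound D a b p.1 p.2 _

/-- The sparse basis vector with code `k`. -/
def basisVec (k : ℕ) : SV := [(k, LP.ofInt 1)]

theorem toVec_basisVec (a b : Fˣ) (col : D.Idx) :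
    toVec D a b (basisVec (code D col)) = Pi.single col (1 : F) := by
  funext row
  simp only [toVec, basisVec, SV.coeff_cons, SV.coeff_nil, LP.eval_ofInt, Int.cast_one, add_zero]
  by_cases h : row = col
  · subst h; simp
  · have : ¬ (code D col = code D row) := fun h' => h (code_injective D h').symm
    rw [if_neg this, Pi.single_eq_of_ne h]

theorem mat_eq_of_mulVec_single (M M' : Matrix D.Idx D.Idx F)
    (h : ∀ col, Matrix.mulVec M (Pi.single col 1) = Matrix.mulVec M' (Pi.single col 1)) : M = M' := by
  ext i j
  have := congr_fun (h j) i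
  simpa [Matrix.mulVec_single_one] using this

theorem toVec_eq_of_vecEq (a b : Fˣ) (v w : SV) (h : SV.vecEq v w = true) :
    toVec D a b v = toVec D a b w := by
  funext row
  exact SV.coeff_eq_of_vecEq a b v w h _

/-- Check that two words in root elements have the same matrix. -/
def wordEqCheck (w1 w2 : List (ℕ × LP)) : Bool :=
  (List.range (D.rank + D.nroots)).all fun k =>
    SV.vecEq (applyWord D w1 (basisVec k)) (applyWord D w2 (basisVec k))

theorem wordMat_eq_of_check (a b : Fˣ) (w1 w2 : List (ℕ × LP)) (h : wordEqCheck D w1 w2 = true) :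
    D.wordMat F (evalWord a b w1) = D.wordMat F (evalWord a b w2) := by
  apply mat_eq_of_mulVec_single
  intro col
  rw [← toVec_basisVec D a b col, applyWord_sound, applyWord_sound]
  apply toVec_eq_of_vecEq
  rw [wordEqCheck, List.all_eq_true] at h
  exact h _ (List.mem_range.mpr (code_lt D col))

end Chev

end Cfsg.Agent.Helper18
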