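import Cfsg.Agent.Lib.Helper18.ChevUProd

set_option autoImplicit false

namespace Cfsg.Agent.Helper18

open Cfsg.Lie Cfsg.Agent.S1043

/-- Every element of `U` is uniquely an ordered product of root elements over the positive roots (the conclusion of
statement S1026), from the table facts and the commutator formula. -/
theorem posUnipotent_unique_product {F : Type*} [Field F] (D : ChevalleyDatum) (hD : Good D) {f : ℕ → ℤ}
    (hT : UProdData D f)
    (hcomm : ∀ r < D.nroots, ∀ s < D.nroots, s ≠ r → s ≠ D.neg r → CommOK F D r s) :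
    (∀ g : GL D.Idx F, g ∈ D.posUnipotent F →
      ∃! t : ℕ → F, (∀ r, ¬ D.IsPosRoot r → t r = 0) ∧
        (g : Matrix D.Idx D.Idx F) = D.wordMat F (D.posRoots.map fun r => (r, t r))) ∧
    (∀ t : ℕ → F, ∃ g : GL D.Idx F, g ∈ D.posUnipotent F ∧
      (g : Matrix D.Idx D.Idx F) = D.wordMat F (D.posRoots.map fun r => (r, t r))) := by
  have hsum : D.nroots / 2 + (D.nroots - D.nroots / 2) = D.nroots := by omega
  have hword : ∀ t : ℕ → F, (D.posRoots.map fun r => (r, t r)) =
      ordWord t (D.nroots / 2) (D.nroots - D.nroots / 2) := by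
    intro t
    rw [hT.hposRoots]
    rfl
  constructor
  · intro g hg
    rw [posUnipotent_eq_Uge D hT] at hg
    obtain ⟨t, ht⟩ := Uge_exists D hD hT hcomm _ _ le_rfl hsum g hg
    have hcongr : ordWord (fun r => if D.IsPosRoot r then t r else 0) (D.nroots / 2)
        (D.nroots - D.nroots / 2) = ordWord t (D.nroots / 2) (D.nroots - D.nroots / 2) := by
      apply ordWord_congr
      intro r h1 h2
      have : D.IsPosRoot r := (hT.hposiff r).mpr ⟨h1, by omega⟩
      simp only [this, if_true]
    refine ⟨fun r => if D.IsPosRoot r then t r else 0, ⟨?_, ?_⟩, ?_⟩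
    · intro r hr
      simp only [hr, if_false]
    · rw [hword, hcongr]
      exact ht
    · rintro t₁ ⟨h1, h2⟩
      funext r
      by_cases hr : D.IsPosRoot r
      · simp only [hr, if_true]
        obtain ⟨hr1, hr2⟩ := (hT.hposiff r).mp hr
        rw [hword] at h2
        exact Uge_unique D hD hT _ _ le_rfl hsum t₁ t (h2.symm.trans ht) r hr1 hr2
      · simp only [hr, if_false]
        exact h1 r hr
  · intro t
    obtain ⟨g, hg, hgv⟩ := wordMat_mem_Uge D hD (D.nroots / 2)
      (ordWord t (D.nroots / 2) (D.nroots - D.nroots / 2)) (by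
        intro p hp
        simp only [ordWord, List.mem_map, List.mem_range'_1] at hp
        obtain ⟨r, ⟨h1, h2⟩, rfl⟩ := hp
        exact ⟨h1, by simp only; omega⟩)
    refine ⟨g, ?_, ?_⟩
    · rw [posUnipotent_eq_Uge D hT]
      exact hg
    · rw [hword]
      exact hgv

end Cfsg.Agent.Helper18
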