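import Cfsg.Agent.Lib.Helper18.ChevBruhatNF
import Cfsg.Agent.Lib.Helper18.ChevRootCent
import Cfsg.Agent.Lib.Helper18.ChevUCard
import Cfsg.Agent.Lib.Helper18.ChevUProdMain
import Cfsg.Agent.S1080

set_option autoImplicit false

namespace Cfsg.Agent.Helper18

open Cfsg.Lie Cfsg.Agent.S1043 Cfsg.Agent.Helper17
open scoped Pointwise

section

variable {F : Type*} [Field F] (D : ChevalleyDatum) (hD : Good D)

include hD

/-- An element of the group commuting with all `x_s(1)`, `s` positive, lies in `B`. -/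
theorem mem_borel_of_comm (hB : BNFacts D) (hU : UiFacts D) {tbl : List ℕ} (hT : TorusData D tbl)
    (hTri : TriOK D) (hNeg : NegTriOK D)
    (hconj : ∀ i < D.rank, ∀ s < D.nroots, ConjGoal' F D i s)
    (hS : ∀ i < D.rank, ConjGoalS' F D i)
    (hNH : D.monomialSubgroup F ≤ Subgroup.normalizer (D.diagonalSubgroup F : Set (GL D.Idx F)))
    (g : GL D.Idx F) (hg : g ∈ D.group F)
    (hc : ∀ s, D.IsPosRoot s → g * xU D hD s 1 = xU D hD s 1 * g) : g ∈ D.borelSubgroup F := by
  obtain ⟨b, hb, n, hn, u, hu, rfl⟩ := bruhat_nf_exists D hD hB hU hT hTri hNeg hconj hS hNH g hg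
  obtain ⟨h, hh, l, hl, rfl⟩ := mem_monomial_decomp D hD hB hS hNH n hn
  have hUB : D.posUnipotent F ≤ D.borelSubgroup F := le_sup_left
  have hpos : ∀ s, D.IsPosRoot s → D.IsPosRoot (permW D l s) := by
    intro s hs
    by_contra hnp
    have hx : xU D hD s (1 : F) ∈ Uw D (h * nWordGL D hD l) := by
      apply Subgroup.subset_closure
      exact ⟨s, 1, hs,
        (map_rootSubgroup_le_neg_iff D hD hB hT hTri hNeg hconj h hh l hl s hs.1).mpr hnp, rfl⟩
    have hxB : xU D hD s (1 : F) ∈ D.borelSubgroup F :=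
      hUB (Subgroup.subset_closure ⟨s, 1, hs, rfl⟩)
    have e : b * (h * nWordGL D hD l) * (u * xU D hD s 1) =
        (xU D hD s 1 * b) * (h * nWordGL D hD l) * u := by
      have := hc s hs
      calc b * (h * nWordGL D hD l) * (u * xU D hD s 1)
          = (b * (h * nWordGL D hD l) * u) * xU D hD s 1 := by group
        _ = xU D hD s 1 * (b * (h * nWordGL D hD l) * u) := this
        _ = _ := by group
    obtain ⟨_, h2⟩ := bruhat_nf_unique D hD hB hU hT hTri hNeg hconj hS hNH b (xU D hD s 1 * b)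
      _ _ (u * xU D hD s 1) u hb (mul_mem hxB hb) hn hn (mul_mem hu hx) hu e
    obtain ⟨hb', _⟩ := h2 rfl
    have h1 : xU D hD s (1 : F) = 1 := by
      have : (1 : GL D.Idx F) * b = xU D hD s 1 * b := by rw [one_mul]; exact hb'
      exact (mul_right_cancel this).symm
    exact one_ne_zero (xU_eq_one D hD hB s hs.1 _ h1)
  have hnH := nWordGL_mem_diag D hD hB hT hTri hNeg hconj hS hNH l.length l le_rfl hl hpos
  have hHB : D.diagonalSubgroup F ≤ D.borelSubgroup F := le_sup_right
  exact mul_mem (mul_mem hb (hHB (mul_mem hh hnH))) (hUB (Uw_le_pos D _ hu))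

/-- Table facts on the longest word `l`: it is an involution on the roots interchanging positive and negative roots. -/
def w0InvCheck (tbls : List ℕ) (l : List ℕ) : Bool :=
  (l.all fun i => decide (i < D.rank)) &&
    (List.range D.nroots).all fun s =>
      (pPermW tbls l (pPermW tbls l s) == s) &&
        (!(decide (D.IsPosRoot s)) || decide (D.IsNegRoot (pPermW tbls l s))) &&
        (!(decide (D.IsNegRoot s)) || decide (D.IsPosRoot (pPermW tbls l s)))

/-- An element of the group commuting with all the root elements `x_s(1)` is trivial. -/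
theorem cent_trivial (hB : BNFacts D) (hU : UiFacts D) {tbl : List ℕ} (hT : TorusData D tbl)
    (hTri : TriOK D) (hNeg : NegTriOK D)
    (hconj : ∀ i < D.rank, ∀ s < D.nroots, ConjGoal' F D i s)
    (hS : ∀ i < D.rank, ConjGoalS' F D i)
    (hNH : D.monomialSubgroup F ≤ Subgroup.normalizer (D.diagonalSubgroup F : Set (GL D.Idx F)))
    (tbls : List ℕ) (hperm : ∀ i < D.rank, permCheck D i (lget tbls i 0) = true)
    (w0 : List ℕ) (hw0 : w0InvCheck D tbls w0 = true)
    (g : GL D.Idx F) (hg : g ∈ D.group F)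
    (hc : ∀ s < D.nroots, g * xU D hD s 1 = xU D hD s 1 * g) : g = 1 := by
  simp only [w0InvCheck, Bool.and_eq_true, List.all_eq_true, decide_eq_true_eq, List.mem_range,
    beq_iff_eq, Bool.or_eq_true, Bool.not_eq_true', decide_eq_false_iff_not] at hw0
  obtain ⟨hl, hall⟩ := hw0
  have hP : ∀ s < D.nroots, pPermW tbls w0 s = permW D w0 s := fun s hs =>
    pPermW_eq_permW D hB tbls hperm w0 hl s hs
  have hlt : ∀ s < D.nroots, permW D w0 s < D.nroots := fun s hs => permW_lt hB w0 hl s hs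
  have hinv : ∀ s < D.nroots, permW D w0 (permW D w0 s) = s := by
    intro s hs
    have := (hall s hs).1.1
    rwa [hP s hs, hP _ (hlt s hs)] at this
  have hpn : ∀ s, D.IsPosRoot s → D.IsNegRoot (permW D w0 s) := by
    intro s hs
    have := (hall s hs.1).1.2
    rw [hP s hs.1] at this
    rcases this with h | h
    · exact absurd hs h
    · exact h
  have hnp : ∀ s, D.IsNegRoot s → D.IsPosRoot (permW D w0 s) := by
    intro s hs
    have := (hall s hs.1).2
    rw [hP s hs.1] at this
    rcases this with h | h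
    · exact absurd hs h
    · exact h
  -- `g ∈ B`
  have hgB := mem_borel_of_comm D hD hB hU hT hTri hNeg hconj hS hNH g hg (fun s hs => hc s hs.1)
  -- the conjugate by `n₀` commutes with all `x_s(1)` as well
  set n0 := nWordGL (F := F) D hD w0 with hn0
  have hn0G : n0 ∈ D.group F := monomial_le D hD (nWordGL_mem D hD w0 fun i hi => hB.hsimp i (hl i hi))
  have hc' : ∀ s < D.nroots, (n0 * g * n0⁻¹) * xU D hD s 1 = xU D hD s 1 * (n0 * g * n0⁻¹) := by
    intro s hs
    obtain ⟨η, hη, hcj⟩ := nWordGL_conj_unit D hD hB hconj w0 hl (permW D w0 s) (hlt s hs)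
    rw [hinv s hs] at hcj
    -- `x_s(1) = n₀ x_r(η) n₀⁻¹`, `r = w₀ s`
    have e1 : xU D hD s (1 : F) = n0 * xU D hD (permW D w0 s) η * n0⁻¹ := by
      rw [hcj η, hη]
    have hcη : g * xU D hD (permW D w0 s) η = xU D hD (permW D w0 s) η * g := by
      -- `η = ±1`
      have hη' : η = 1 ∨ η = -1 := by
        have : (η - 1) * (η + 1) = 0 := by ring_nf; rw [sq, hη]; ring
        rcases mul_eq_zero.mp this with h | h
        · left; exact sub_eq_zero.mp h
        · right; exact eq_neg_of_add_eq_zero_left h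
      rcases hη' with rfl | rfl
      · exact hc _ (hlt s hs)
      · have h1 := hc _ (hlt s hs)
        have e2 : xU D hD (permW D w0 s) (-1 : F) = (xU D hD (permW D w0 s) 1)⁻¹ := by
          rw [xU_inv]
        rw [e2]
        calc g * (xU D hD (permW D w0 s) 1)⁻¹
            = (xU D hD (permW D w0 s) 1)⁻¹ * (xU D hD (permW D w0 s) 1 * g) *
                (xU D hD (permW D w0 s) 1)⁻¹ := by group
          _ = (xU D hD (permW D w0 s) 1)⁻¹ * (g * xU D hD (permW D w0 s) 1) *
                (xU D hD (permW D w0 s) 1)⁻¹ := by rw [h1]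
          _ = _ := by group
    rw [e1]
    calc n0 * g * n0⁻¹ * (n0 * xU D hD (permW D w0 s) η * n0⁻¹)
        = n0 * (g * xU D hD (permW D w0 s) η) * n0⁻¹ := by group
      _ = n0 * (xU D hD (permW D w0 s) η * g) * n0⁻¹ := by rw [hcη]
      _ = _ := by group
  have hg'B := mem_borel_of_comm D hD hB hU hT hTri hNeg hconj hS hNH (n0 * g * n0⁻¹)
    (mul_mem (mul_mem hn0G hg) (inv_mem hn0G)) (fun s hs => hc' s hs.1)
  -- `n₀⁻¹ B n₀ ≤ V H`
  have hHn : ∀ h ∈ D.diagonalSubgroup F, n0⁻¹ * h * n0 ∈ D.diagonalSubgroup F := by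
    intro h hh
    have hn := hNH (inv_mem (nWordGL_mem (F := F) D hD w0 fun i hi => hB.hsimp i (hl i hi)))
    have := (Subgroup.mem_normalizer_iff.mp hn h).mp hh
    rwa [inv_inv] at this
  have hUn : ∀ y ∈ D.posUnipotent F, n0⁻¹ * y * n0 ∈ D.negUnipotent F := by
    intro y hy
    have key : D.posUnipotent F ≤ (D.negUnipotent F).comap (MulAut.conj n0⁻¹).toMonoidHom := by
      conv_lhs => rw [ChevalleyDatum.posUnipotent]
      rw [Subgroup.closure_le]
      rintro x ⟨s, t, hs, hx⟩
      have hxe : x = xU D hD s t := Units.ext hx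
      rw [SetLike.mem_coe, Subgroup.mem_comap]
      change n0⁻¹ * x * n0⁻¹⁻¹ ∈ D.negUnipotent F
      rw [inv_inv, hxe]
      obtain ⟨η, hη, hcj⟩ := nWordGL_conj_unit D hD hB hconj w0 hl (permW D w0 s) (hlt s hs.1)
      rw [hinv s hs.1] at hcj
      have e1 : n0⁻¹ * xU D hD s t * n0 = xU D hD (permW D w0 s) (η * t) := by
        have := hcj (η * t)
        rw [← mul_assoc, hη, one_mul] at this
        rw [← this, hn0]
        group
      rw [e1]
      exact Subgroup.subset_closure ⟨_, _, hpn s hs, rfl⟩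
    have := key hy
    rw [Subgroup.mem_comap] at this
    change n0⁻¹ * y * n0⁻¹⁻¹ ∈ D.negUnipotent F at this
    rwa [inv_inv] at this
  have hgVH : g ∈ D.negUnipotent F ⊔ D.diagonalSubgroup F := by
    have hBs : ((D.borelSubgroup F : Subgroup (GL D.Idx F)) : Set (GL D.Idx F)) =
        (D.posUnipotent F : Set (GL D.Idx F)) * (D.diagonalSubgroup F : Set (GL D.Idx F)) :=
      Subgroup.coe_mul_of_right_le_normalizer_left _ _ (diag_le_normalizer D hT)
    have hb' : n0 * g * n0⁻¹ ∈ ((D.borelSubgroup F : Subgroup (GL D.Idx F)) : Set (GL D.Idx F)) := hg'B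
    rw [hBs] at hb'
    obtain ⟨u1, hu1, h1, hh1, e⟩ := Set.mem_mul.mp hb'
    have e2 : g = (n0⁻¹ * u1 * n0) * (n0⁻¹ * h1 * n0) := by
      have : g = n0⁻¹ * (n0 * g * n0⁻¹) * n0 := by group
      rw [this, ← e]
      group
    rw [e2]
    exact mul_mem (Subgroup.mem_sup_left (hUn u1 hu1)) (Subgroup.mem_sup_right (hHn h1 hh1))
  have hgH : g ∈ D.diagonalSubgroup F := by
    rw [← (borel_inf_neg (F := F) D hT hTri hNeg).2]
    exact ⟨hgB, hgVH⟩
  -- a torus element commuting with all `x_s(1)` is trivial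
  obtain ⟨c, hc0, hgc⟩ := mem_diag_eq_torMat D hT g hgH
  have hchi : ∀ s < D.nroots, chi D c s = 1 := by
    intro s hs
    have h1 : g * xU D hD s 1 * g⁻¹ = xU D hD s (chi D c s * 1) := by
      apply Units.ext
      rw [Units.val_mul, Units.val_mul, hgc, xU_val,
        torMat_mul_x D s (fun i hi => hT.addOK D i hi s hs) c hc0 1, mul_assoc, ← hgc,
        Units.mul_inv, mul_one]
      rfl
    have h2 : g * xU D hD s 1 * g⁻¹ = xU D hD s 1 := by
      rw [hc s hs]
      group
    rw [h2, mul_one] at h1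
    exact (xU_inj D hD hB s hs _ _ h1).symm
  apply Units.ext
  rw [hgc, torMat, Units.val_one, ← Matrix.diagonal_one]
  congr 1
  funext x
  rcases x with x | x
  · rfl
  · exact hchi x.val x.2

end

section

variable {F : Type*} [Field F] (D : ChevalleyDatum) (hD : Good D) (f : F →+* F)

/-- Entrywise application of the ring endomorphism `f`. -/
noncomputable def sigGL : GL D.Idx F →* GL D.Idx F := Units.map (RingHom.mapMatrix f).toMonoidHom

theorem sigGL_val (g : GL D.Idx F) :
    ((sigGL D f g : GL D.Idx F) : Matrix D.Idx D.Idx F) = (g : Matrix D.Idx D.Idx F).map f := rfl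

/-- The subgroup generated by the root elements with parameter fixed by `f`. -/
def Lf : Subgroup (GL D.Idx F) :=
  Subgroup.closure {g : GL D.Idx F | ∃ (s : ℕ) (t : F), f t = t ∧ (g : Matrix D.Idx D.Idx F) = D.x F s t}

theorem wordMat_map (w : List (ℕ × F)) :
    (D.wordMat F w).map f = D.wordMat F (w.map fun p => (p.1, f p.2)) := by
  induction w with
  | nil =>
    rw [List.map_nil, wordMat_nil]
    exact Matrix.map_one f (map_zero f) (map_one f)
  | cons p w ih =>
    rw [List.map_cons, wordMat_cons, wordMat_cons, Matrix.map_mul, ih]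
    congr 1
    exact Cfsg.Agent.S1080.x_map D f p.1 p.2

include hD

theorem sigGL_xU (s : ℕ) (t : F) : sigGL D f (xU D hD s t) = xU D hD s (f t) := by
  apply Units.ext
  rw [sigGL_val, xU_val, xU_val]
  exact Cfsg.Agent.S1080.x_map D f s t

theorem xU_mem_Lf (s : ℕ) (t : F) (ht : f t = t) : xU D hD s t ∈ Lf D f :=
  Subgroup.subset_closure ⟨s, t, ht, rfl⟩

theorem sigGL_nGL (i : ℕ) : sigGL D f (nGL D hD i) = nGL D hD i := by
  rw [nGL, map_mul, map_mul, sigGL_xU, sigGL_xU, map_neg, map_one]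

theorem nGL_mem_Lf (i : ℕ) : nGL D hD i ∈ Lf D f := by
  rw [nGL]
  exact mul_mem (mul_mem (xU_mem_Lf D hD f _ _ (map_one f))
    (xU_mem_Lf D hD f _ _ (by rw [map_neg, map_one]))) (xU_mem_Lf D hD f _ _ (map_one f))

theorem sigGL_nWordGL (l : List ℕ) : sigGL D f (nWordGL D hD l) = nWordGL D hD l := by
  induction l with
  | nil => rw [nWordGL_nil, map_one]
  | cons i l ih => rw [nWordGL_cons, map_mul, ih, sigGL_nGL]

theorem nWordGL_mem_Lf (l : List ℕ) : nWordGL D hD l ∈ Lf D f := by
  induction l with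
  | nil => rw [nWordGL_nil]; exact one_mem _
  | cons i l ih => rw [nWordGL_cons]; exact mul_mem (nGL_mem_Lf D hD f i) ih

omit hD in
theorem sigGL_mem_pos (u : GL D.Idx F) (hu : u ∈ D.posUnipotent F) : sigGL D f u ∈ D.posUnipotent F := by
  have key : D.posUnipotent F ≤ (D.posUnipotent F).comap (sigGL D f) := by
    conv_lhs => rw [ChevalleyDatum.posUnipotent]
    rw [Subgroup.closure_le]
    rintro x ⟨s, t, hs, hx⟩
    rw [SetLike.mem_coe, Subgroup.mem_comap]
    apply Subgroup.subset_closure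
    refine ⟨s, f t, hs, ?_⟩
    rw [sigGL_val, hx]
    exact Cfsg.Agent.S1080.x_map D f s t
  exact key hu

omit hD in
theorem sigGL_mem_Uw (n u : GL D.Idx F) (hu : u ∈ Uw D n) : sigGL D f u ∈ Uw D n := by
  have key : Uw D n ≤ (Uw D n).comap (sigGL D f) := by
    conv_lhs => rw [Uw]
    rw [Subgroup.closure_le]
    rintro x ⟨s, t, hs, hle, hx⟩
    rw [SetLike.mem_coe, Subgroup.mem_comap]
    apply Subgroup.subset_closure
    refine ⟨s, f t, hs, hle, ?_⟩
    rw [sigGL_val, hx]
    exact Cfsg.Agent.S1080.x_map D f s t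
  exact key hu

omit hD in
theorem sigGL_mem_diag (h : GL D.Idx F) (hh : h ∈ D.diagonalSubgroup F) :
    sigGL D f h ∈ D.diagonalSubgroup F := by
  have key : D.diagonalSubgroup F ≤ (D.diagonalSubgroup F).comap (sigGL D f) := by
    conv_lhs => rw [ChevalleyDatum.diagonalSubgroup]
    rw [Subgroup.closure_le]
    rintro x ⟨r, t, hr, ht, hx⟩
    rw [SetLike.mem_coe, Subgroup.mem_comap]
    apply Subgroup.subset_closure
    refine ⟨r, f t, hr, (map_ne_zero f).mpr ht, ?_⟩
    rw [sigGL_val, hx, ChevalleyDatum.hMat, ChevalleyDatum.hMat, wordMat_map]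
    congr 1
    simp [ChevalleyDatum.hWord, ChevalleyDatum.nWord]
  exact key hh

omit hD in
theorem sigGL_mem_borel (b : GL D.Idx F) (hb : b ∈ D.borelSubgroup F) :
    sigGL D f b ∈ D.borelSubgroup F := by
  have key : D.borelSubgroup F ≤ (D.borelSubgroup F).comap (sigGL D f) := by
    conv_lhs => rw [ChevalleyDatum.borelSubgroup]
    apply sup_le
    · intro x hx
      exact Subgroup.mem_sup_left (sigGL_mem_pos D f x hx)
    · intro x hx
      exact Subgroup.mem_sup_right (sigGL_mem_diag D f x hx)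
  exact key hb

omit hD in
theorem sigGL_mem_group (g : GL D.Idx F) (hg : g ∈ D.group F) : sigGL D f g ∈ D.group F := by
  have key : D.group F ≤ (D.group F).comap (sigGL D f) := by
    conv_lhs => rw [ChevalleyDatum.group]
    rw [Subgroup.closure_le]
    rintro x ⟨s, t, hx⟩
    rw [SetLike.mem_coe, Subgroup.mem_comap]
    apply Subgroup.subset_closure
    refine ⟨s, f t, ?_⟩
    rw [sigGL_val, hx]
    exact Cfsg.Agent.S1080.xMat_map D f s t
  exact key hg

/-- A `σ`-fixed element of `U` is a product of root elements with `σ`-fixed parameters. -/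
theorem fixed_pos_mem_Lf {f' : ℕ → ℤ} (hUP : UProdData D f')
    (hcomm : ∀ r < D.nroots, ∀ s < D.nroots, s ≠ r → s ≠ D.neg r → CommOK F D r s)
    (u : GL D.Idx F) (hu : u ∈ D.posUnipotent F) (hfix : sigGL D f u = u) : u ∈ Lf D f := by
  obtain ⟨t, ⟨ht0, htu⟩, huniq⟩ := (posUnipotent_unique_product D hD hUP hcomm).1 u hu
  have h1 : (u : Matrix D.Idx D.Idx F) =
      D.wordMat F (D.posRoots.map fun r => (r, (fun r => f (t r)) r)) := by
    have := congrArg Units.val hfix
    rw [sigGL_val, htu, wordMat_map, List.map_map] at this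
    rw [htu]
    exact this.symm
  have h2 := huniq (fun r => f (t r)) ⟨fun r hr => by
    show f (t r) = 0
    rw [ht0 r hr, map_zero], h1⟩
  have h3 : ∀ r, f (t r) = t r := fun r => congrFun h2 r
  have e : u = wordGL D hD (D.posRoots.map fun r => (r, t r)) := by
    apply Units.ext
    rw [wordGL_val]
    exact htu
  rw [e]
  apply wordGL_mem
  intro p hp
  obtain ⟨r, _, rfl⟩ := List.mem_map.mp hp
  exact xU_mem_Lf D hD f r (t r) (h3 r)

/-- A `σ`-fixed element of `H` normalises `L`. -/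
theorem fixed_diag_conj_Lf {tbl : List ℕ} (hT : TorusData D tbl)
    (h : GL D.Idx F) (hh : h ∈ D.diagonalSubgroup F) (hfix : sigGL D f h = h)
    (y : GL D.Idx F) (hy : y ∈ Lf D f) : h * y * h⁻¹ ∈ Lf D f := by
  obtain ⟨c, hc, hhc⟩ := mem_diag_eq_torMat D hT h hh
  have hchi : ∀ s (hs : s < D.nroots), f (chi D c s) = chi D c s := by
    intro s hs
    have h1 := congrArg Units.val hfix
    rw [sigGL_val, hhc] at h1
    have h2 := congrFun (congrFun h1 (Sum.inr ⟨s, hs⟩)) (Sum.inr ⟨s, hs⟩)
    rw [Matrix.map_apply, torMat, Matrix.diagonal_apply_eq] at h2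
    exact h2
  have key : Lf D f ≤ (Lf D f).comap (MulAut.conj h).toMonoidHom := by
    conv_lhs => rw [Lf]
    rw [Subgroup.closure_le]
    rintro x ⟨s, t, ht, hx⟩
    have hxe : x = xU D hD s t := Units.ext hx
    rw [SetLike.mem_coe, Subgroup.mem_comap]
    change h * x * h⁻¹ ∈ Lf D f
    by_cases hs : s < D.nroots
    · have e1 : h * xU D hD s t * h⁻¹ = xU D hD s (chi D c s * t) := by
        apply Units.ext
        rw [Units.val_mul, Units.val_mul, hhc, xU_val,
          torMat_mul_x D s (fun i hi => hT.addOK D i hi s hs) c hc t, mul_assoc, ← hhc,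
          Units.mul_inv, mul_one]
        rfl
      rw [hxe, e1]
      exact xU_mem_Lf D hD f _ _ (by rw [map_mul, hchi s hs, ht])
    · have e1 : x = 1 := by
        apply Units.ext
        rw [hx, ChevalleyDatum.x, dif_neg hs]
        rfl
      rw [e1, mul_one, mul_inv_cancel]
      exact one_mem _
  exact key hy

/-- A `σ`-fixed element of the group is a product of an element of `L` and a `σ`-fixed element of `H`. -/
theorem fixed_decomp (hB : BNFacts D) (hU : UiFacts D) {tbl : List ℕ} (hT : TorusData D tbl)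
    (hTri : TriOK D) (hNeg : NegTriOK D)
    (hconj : ∀ i < D.rank, ∀ s < D.nroots, ConjGoal' F D i s)
    (hS : ∀ i < D.rank, ConjGoalS' F D i)
    (hNH : D.monomialSubgroup F ≤ Subgroup.normalizer (D.diagonalSubgroup F : Set (GL D.Idx F)))
    {f' : ℕ → ℤ} (hUP : UProdData D f')
    (hcomm : ∀ r < D.nroots, ∀ s < D.nroots, s ≠ r → s ≠ D.neg r → CommOK F D r s)
    (g : GL D.Idx F) (hg : g ∈ D.group F) (hfix : sigGL D f g = g) :
    ∃ y ∈ Lf D f, ∃ h ∈ D.diagonalSubgroup F, sigGL D f h = h ∧ g = y * h := by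
  obtain ⟨b, hb, n, hn, u, hu, rfl⟩ := bruhat_nf_exists D hD hB hU hT hTri hNeg hconj hS hNH g hg
  obtain ⟨h2, hh2, l, hl, rfl⟩ := mem_monomial_decomp D hD hB hS hNH n hn
  have hUB : D.posUnipotent F ≤ D.borelSubgroup F := le_sup_left
  have hHB : D.diagonalSubgroup F ≤ D.borelSubgroup F := le_sup_right
  -- `U_w⁻` does not depend on the torus part of `n`
  have hUw : Uw D (h2 * nWordGL D hD l) = Uw D (nWordGL (F := F) D hD l) := by
    unfold Uw
    congr 1
    ext x
    constructor
    · rintro ⟨r, t, hr, hle, hx⟩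
      refine ⟨r, t, hr, ?_, hx⟩
      have h1 := (map_rootSubgroup_le_neg_iff D hD hB hT hTri hNeg hconj h2 hh2 l hl r hr.1).mp hle
      have h3 := (map_rootSubgroup_le_neg_iff D hD hB hT hTri hNeg hconj 1 (one_mem _) l hl r hr.1).mpr h1
      rwa [one_mul] at h3
    · rintro ⟨r, t, hr, hle, hx⟩
      refine ⟨r, t, hr, ?_, hx⟩
      have h3 : (D.rootSubgroup F r).map (MulAut.conj (1 * nWordGL D hD l)).toMonoidHom ≤
          D.negUnipotent F := by rwa [one_mul]
      have h1 := (map_rootSubgroup_le_neg_iff D hD hB hT hTri hNeg hconj 1 (one_mem _) l hl r hr.1).mp h3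
      exact (map_rootSubgroup_le_neg_iff D hD hB hT hTri hNeg hconj h2 hh2 l hl r hr.1).mpr h1
  rw [hUw] at hu
  have hnW : nWordGL (F := F) D hD l ∈ D.monomialSubgroup F :=
    nWordGL_mem D hD l fun i hi => hB.hsimp i (hl i hi)
  have hb' : b * h2 ∈ D.borelSubgroup F := mul_mem hb (hHB hh2)
  have e : (b * h2) * nWordGL D hD l * u =
      sigGL D f (b * h2) * nWordGL D hD l * sigGL D f u := by
    have h1 : sigGL D f (b * (h2 * nWordGL D hD l) * u) =
        sigGL D f (b * h2) * nWordGL D hD l * sigGL D f u := by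
      rw [map_mul, map_mul, map_mul, map_mul, sigGL_nWordGL]
      group
    rw [← h1, hfix]
    group
  obtain ⟨_, hq⟩ := bruhat_nf_unique D hD hB hU hT hTri hNeg hconj hS hNH (b * h2)
    (sigGL D f (b * h2)) _ _ u (sigGL D f u) hb' (sigGL_mem_borel D f _ hb') hnW hnW hu
    (sigGL_mem_Uw D f _ u hu) e
  obtain ⟨hbfix, hufix⟩ := hq rfl
  -- split `b h2 = u1 h`
  have hBs : ((D.borelSubgroup F : Subgroup (GL D.Idx F)) : Set (GL D.Idx F)) =
      (D.posUnipotent F : Set (GL D.Idx F)) * (D.diagonalSubgroup F : Set (GL D.Idx F)) :=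
    Subgroup.coe_mul_of_right_le_normalizer_left _ _ (diag_le_normalizer D hT)
  have hb'' : b * h2 ∈ ((D.borelSubgroup F : Subgroup (GL D.Idx F)) : Set (GL D.Idx F)) := hb'
  rw [hBs] at hb''
  obtain ⟨u1, hu1, h, hh, ebh⟩ := Set.mem_mul.mp hb''
  have hu1' : u1 ∈ D.posUnipotent F := hu1
  have hh' : h ∈ D.diagonalSubgroup F := hh
  have hz : u1⁻¹ * sigGL D f u1 = h * (sigGL D f h)⁻¹ := by
    have h1 : u1 * h = sigGL D f u1 * sigGL D f h := by
      rw [← map_mul, ebh]
      exact hbfix
    calc u1⁻¹ * sigGL D f u1 = u1⁻¹ * (sigGL D f u1 * sigGL D f h) * (sigGL D f h)⁻¹ := by group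
      _ = u1⁻¹ * (u1 * h) * (sigGL D f h)⁻¹ := by rw [h1]
      _ = _ := by group
  have hz1 : u1⁻¹ * sigGL D f u1 = 1 := by
    have hbot := pos_inf_diag (F := F) D hT hTri
    rw [← Subgroup.mem_bot, ← hbot]
    refine Subgroup.mem_inf.mpr ⟨mul_mem (inv_mem hu1') (sigGL_mem_pos D f u1 hu1'), ?_⟩
    rw [hz]
    exact mul_mem hh' (inv_mem (sigGL_mem_diag D f h hh'))
  have hu1fix : sigGL D f u1 = u1 := by
    have := congrArg (fun z => u1 * z) hz1
    simpa [mul_assoc] using this
  have hhfix : sigGL D f h = h := by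
    rw [hz1] at hz
    have := congrArg (fun z => z * sigGL D f h) hz
    simpa [mul_assoc] using this
  have hu1L := fixed_pos_mem_Lf D hD f hUP hcomm u1 hu1' hu1fix
  have huL := fixed_pos_mem_Lf D hD f hUP hcomm u (Uw_le_pos D _ hu) hufix.symm
  have hnL := nWordGL_mem_Lf D hD f l
  refine ⟨u1 * (h * (nWordGL D hD l * u) * h⁻¹),
    mul_mem hu1L (fixed_diag_conj_Lf D hD f hT h hh' hhfix _ (mul_mem hnL huL)), h, hh', hhfix, ?_⟩
  calc b * (h2 * nWordGL D hD l) * u = (b * h2) * nWordGL D hD l * u := by group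
    _ = (u1 * h) * nWordGL D hD l * u := by rw [ebh]
    _ = _ := by group

/-- Subgroups `K` between `L = ⟨x_s(t) : σ t = t⟩` and the `σ`-fixed points of the group: the centraliser is trivial and
the normaliser consists of the `σ`-fixed points. -/
theorem subfield_main (hB : BNFacts D) (hU : UiFacts D) {tbl : List ℕ} (hT : TorusData D tbl)
    (hTri : TriOK D) (hNeg : NegTriOK D)
    (hconj : ∀ i < D.rank, ∀ s < D.nroots, ConjGoal' F D i s)
    (hS : ∀ i < D.rank, ConjGoalS' F D i)
    (hNH : D.monomialSubgroup F ≤ Subgroup.normalizer (D.diagonalSubgroup F : Set (GL D.Idx F)))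
    {f' : ℕ → ℤ} (hUP : UProdData D f')
    (hcomm : ∀ r < D.nroots, ∀ s < D.nroots, s ≠ r → s ≠ D.neg r → CommOK F D r s)
    (tbls : List ℕ) (hperm : ∀ i < D.rank, permCheck D i (lget tbls i 0) = true)
    (w0 : List ℕ) (hw0 : w0InvCheck D tbls w0 = true)
    (K : Subgroup (GL D.Idx F)) (hKG : K ≤ D.group F) (hLK : Lf D f ≤ K)
    (hKfix : ∀ g ∈ K, sigGL D f g = g) :
    D.group F ⊓ Subgroup.centralizer (K : Set (GL D.Idx F)) = ⊥ ∧
      ∀ g ∈ D.group F, (g ∈ Subgroup.normalizer (K : Set (GL D.Idx F)) ↔ sigGL D f g = g) := by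
  have hxK : ∀ s, xU D hD s (1 : F) ∈ K := fun s => hLK (xU_mem_Lf D hD f s 1 (map_one f))
  have hxfix : ∀ s, sigGL D f (xU D hD s (1 : F)) = xU D hD s 1 := fun s => by
    rw [sigGL_xU, map_one]
  have forward : ∀ g ∈ D.group F, sigGL D f g = g → ∀ k ∈ K, g * k * g⁻¹ ∈ K := by
    intro g hg hfix k hk
    obtain ⟨y, hy, h, hh, hhfix, rfl⟩ := fixed_decomp D hD f hB hU hT hTri hNeg hconj hS hNH hUP hcomm
      g hg hfix
    obtain ⟨y', hy', h', hh', _, rfl⟩ := fixed_decomp D hD f hB hU hT hTri hNeg hconj hS hNH hUP hcomm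
      k (hKG hk) (hKfix k hk)
    have hh'K : h' ∈ K := by
      have : h' = y'⁻¹ * (y' * h') := by group
      rw [this]
      exact mul_mem (inv_mem (hLK hy')) hk
    have e : y * h * (y' * h') * (y * h)⁻¹ = y * (h * y' * h⁻¹) * h' * y⁻¹ := by
      calc y * h * (y' * h') * (y * h)⁻¹ = y * (h * y' * h⁻¹) * (h * h') * h⁻¹ * y⁻¹ := by group
        _ = y * (h * y' * h⁻¹) * (h' * h) * h⁻¹ * y⁻¹ := by rw [diag_comm D hT h h' hh hh']
        _ = _ := by group
    rw [e]
    exact mul_mem (mul_mem (mul_mem (hLK hy) (hLK (fixed_diag_conj_Lf D hD f hT h hh hhfix y' hy')))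
      hh'K) (inv_mem (hLK hy))
  constructor
  · rw [eq_bot_iff]
    rintro g ⟨hgG, hgC⟩
    rw [Subgroup.mem_bot]
    apply cent_trivial D hD hB hU hT hTri hNeg hconj hS hNH tbls hperm w0 hw0 g hgG
    intro s _
    exact (Subgroup.mem_centralizer_iff.mp hgC _ (hxK s)).symm
  · intro g hg
    constructor
    · intro hgN
      have hz : g⁻¹ * sigGL D f g = 1 := by
        apply cent_trivial D hD hB hU hT hTri hNeg hconj hS hNH tbls hperm w0 hw0 _
          (mul_mem (inv_mem hg) (sigGL_mem_group D f g hg))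
        intro s _
        have h1 : g * xU D hD s 1 * g⁻¹ ∈ K := (Subgroup.mem_normalizer_iff.mp hgN _).mp (hxK s)
        have h2 := hKfix _ h1
        rw [map_mul, map_mul, map_inv, hxfix] at h2
        calc g⁻¹ * sigGL D f g * xU D hD s 1
            = g⁻¹ * (sigGL D f g * xU D hD s 1 * (sigGL D f g)⁻¹) * sigGL D f g := by group
          _ = g⁻¹ * (g * xU D hD s 1 * g⁻¹) * sigGL D f g := by rw [h2]
          _ = _ := by group
      have := congrArg (fun z => g * z) hz
      simpa [mul_assoc] using this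
    · intro hfix
      rw [Subgroup.mem_normalizer_iff]
      intro k
      constructor
      · exact forward g hg hfix k
      · intro hk
        have hfix' : sigGL D f g⁻¹ = g⁻¹ := by rw [map_inv, hfix]
        have := forward g⁻¹ (inv_mem hg) hfix' _ hk
        have e : g⁻¹ * (g * k * g⁻¹) * g⁻¹⁻¹ = k := by group
        rwa [e] at this

end

end Cfsg.Agent.Helper18
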