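import Cfsg.Agent.Lib.Helper18.ChevTorus
import Cfsg.Agent.Lib.Helper18.ChevMonoNormal

set_option autoImplicit false

namespace Cfsg.Agent.Helper18

open Cfsg.Lie Cfsg.Agent.S1043

section Mono

variable {G : Type*} [CommGroup G] {n m k : ℕ}

theorem zpow_finsum {ι : Type*} (s : Finset ι) (a : G) (f : ι → ℤ) :
    a ^ (∑ i ∈ s, f i) = ∏ i ∈ s, a ^ f i := by
  classical
  induction s using Finset.induction_on with
  | empty => simp
  | insert x s hx ih => rw [Finset.sum_insert hx, Finset.prod_insert hx, zpow_add, ih]

/-- The monomial map of an integer matrix on tuples of elements of a commutative group. -/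
def monoHom (B : Matrix (Fin n) (Fin m) ℤ) : (Fin n → G) →* (Fin m → G) where
  toFun c j := ∏ i, c i ^ B i j
  map_one' := by
    funext j
    simp
  map_mul' c c' := by
    funext j
    simp [mul_zpow, Finset.prod_mul_distrib]

theorem monoHom_apply (B : Matrix (Fin n) (Fin m) ℤ) (c : Fin n → G) (j : Fin m) :
    monoHom B c j = ∏ i, c i ^ B i j := rfl

theorem monoHom_mul (B : Matrix (Fin n) (Fin m) ℤ) (C : Matrix (Fin m) (Fin k) ℤ) (c : Fin n → G) :
    monoHom (B * C) c = monoHom C (monoHom B c) := by
  funext l
  simp only [monoHom_apply, Matrix.mul_apply]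
  have h1 : ∀ i : Fin n, c i ^ (∑ j, B i j * C j l) = ∏ j, (c i ^ B i j) ^ C j l := by
    intro i
    rw [zpow_finsum]
    apply Finset.prod_congr rfl
    intro j _
    rw [zpow_mul]
  rw [Finset.prod_congr rfl fun i _ => h1 i, Finset.prod_comm]
  apply Finset.prod_congr rfl
  intro j _
  rw [Finset.prod_zpow]

theorem monoHom_one (c : Fin n → G) : monoHom (1 : Matrix (Fin n) (Fin n) ℤ) c = c := by
  funext j
  rw [monoHom_apply, Finset.prod_eq_single j]
  · simp
  · intro i _ hij
    simp [Matrix.one_apply_ne hij]
  · intro h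
    exact absurd (Finset.mem_univ j) h

/-- Transfer of the kernel along a diagonalisation `P * A * Q = S` with `P`, `Q` invertible. -/
theorem card_ker_of_smith (A P P' Q Q' S : Matrix (Fin n) (Fin n) ℤ)
    (h : P * A * Q = S) (hP : P * P' = 1) (hQ : Q * Q' = 1) :
    Nat.card (monoHom (G := G) A).ker = Nat.card (monoHom (G := G) S).ker := by
  have hP' : P' * P = 1 := mul_eq_one_comm.mp hP
  have hS : ∀ c : Fin n → G, monoHom S c = monoHom Q (monoHom A (monoHom P c)) := by
    intro c
    rw [← h, monoHom_mul, monoHom_mul]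
  have hPP' : ∀ c : Fin n → G, monoHom P (monoHom P' c) = c := by
    intro c
    rw [← monoHom_mul, hP', monoHom_one]
  have hP'P : ∀ c : Fin n → G, monoHom P' (monoHom P c) = c := by
    intro c
    rw [← monoHom_mul, hP, monoHom_one]
  have hQQ' : ∀ c : Fin n → G, monoHom Q' (monoHom Q c) = c := by
    intro c
    rw [← monoHom_mul, hQ, monoHom_one]
  refine Nat.card_congr
    { toFun := fun c => ⟨monoHom P' c.1, ?_⟩
      invFun := fun c => ⟨monoHom P c.1, ?_⟩
      left_inv := fun c => Subtype.ext (hPP' c.1)
      right_inv := fun c => Subtype.ext (hP'P c.1) }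
  · have hc := c.2
    rw [MonoidHom.mem_ker] at hc ⊢
    rw [hS, hPP', hc, map_one]
  · have hc := c.2
    rw [MonoidHom.mem_ker] at hc ⊢
    rw [← hQQ' (monoHom A (monoHom P c.1)), ← hS, hc, map_one]

theorem card_ker_monoHom_diag [Finite G] [IsCyclic G] (d : Fin n → ℕ) :
    Nat.card (monoHom (G := G) (Matrix.diagonal fun i => (d i : ℤ))).ker =
      ∏ i, (Nat.card G).gcd (d i) := by
  have h1 : ∀ i, Nat.card (powMonoidHom (d i) : G →* G).ker = (Nat.card G).gcd (d i) :=
    fun i => IsCyclic.card_powMonoidHom_ker G (d i)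
  rw [← Finset.prod_congr rfl fun i _ => h1 i, ← Nat.card_pi]
  refine Nat.card_congr
    { toFun := fun c => fun i => ⟨c.1 i, ?_⟩
      invFun := fun c => ⟨fun i => (c i).1, ?_⟩
      left_inv := fun c => rfl
      right_inv := fun c => rfl }
  · have hc := c.2
    rw [MonoidHom.mem_ker] at hc ⊢
    have := congrFun hc i
    rw [monoHom_apply, Finset.prod_eq_single i] at this
    · simpa using this
    · intro j _ hji
      simp [Matrix.diagonal_apply_ne _ hji]
    · intro h
      exact absurd (Finset.mem_univ i) h
  · rw [MonoidHom.mem_ker]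
    funext i
    rw [monoHom_apply, Finset.prod_eq_single i]
    · have := (c i).2
      rw [MonoidHom.mem_ker] at this
      simpa using this
    · intro j _ hji
      simp [Matrix.diagonal_apply_ne _ hji]
    · intro h
      exact absurd (Finset.mem_univ i) h

end Mono

section Torus

variable {F : Type*} [Field F] (D : ChevalleyDatum)

theorem list_range_prod {M : Type*} [CommMonoid M] (n : ℕ) (f : ℕ → M) :
    ((List.range n).map f).prod = ∏ i : Fin n, f i := by
  rw [← Finset.prod_range]
  induction n with
  | zero => simp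
  | succ n ih => rw [List.range_succ, List.map_append, List.prod_append, ih, Finset.prod_range_succ]; simp

/-- Extension of a tuple of units to a function on the natural numbers. -/
def extC (c : Fin D.rank → Fˣ) : ℕ → F := fun i => if h : i < D.rank then ((c ⟨i, h⟩ : Fˣ) : F) else 1

theorem extC_ne (c : Fin D.rank → Fˣ) (i : ℕ) : extC D c i ≠ 0 := by
  unfold extC
  split_ifs <;> simp

theorem extC_mul (c c' : Fin D.rank → Fˣ) :
    (fun i => extC D c i * extC D c' i) = extC D (c * c') := by
  funext i
  unfold extC
  split_ifs <;> simp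

theorem extC_one : extC D (1 : Fin D.rank → Fˣ) = fun _ => (1 : F) := by
  funext i
  unfold extC
  split_ifs <;> simp

/-- The torus homomorphism. -/
noncomputable def torHom : (Fin D.rank → Fˣ) →* GL D.Idx F where
  toFun c := ⟨torMat D (extC D c), torMat D (extC D c⁻¹),
    by rw [torMat_mul, extC_mul, mul_inv_cancel, extC_one, torMat_one],
    by rw [torMat_mul, extC_mul, inv_mul_cancel, extC_one, torMat_one]⟩
  map_one' := by
    apply Units.ext
    change torMat D (extC D 1) = 1
    rw [extC_one, torMat_one]
  map_mul' c c' := by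
    apply Units.ext
    change torMat D (extC D (c * c')) = torMat D (extC D c) * torMat D (extC D c')
    rw [torMat_mul, extC_mul]

theorem torHom_val (c : Fin D.rank → Fˣ) :
    ((torHom D c : GL D.Idx F) : Matrix D.Idx D.Idx F) = torMat D (extC D c) := rfl

/-- The matrix of Cartan integers of all the roots. -/
def cartanR : Matrix (Fin D.rank) (Fin D.nroots) ℤ := Matrix.of fun i s => D.cartan i.val s.val

/-- The Cartan matrix. -/
def cartanA : Matrix (Fin D.rank) (Fin D.rank) ℤ := Matrix.of fun i j => D.cartan i.val (D.simple j.val)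

theorem chi_extC (c : Fin D.rank → Fˣ) (s : Fin D.nroots) :
    chi D (extC D c) s.val = ((monoHom (cartanR D) c s : Fˣ) : F) := by
  rw [chi, list_range_prod, monoHom_apply, Units.coe_prod]
  apply Finset.prod_congr rfl
  intro i _
  rw [Units.val_zpow_eq_zpow_val]
  unfold extC
  rw [dif_pos i.2]
  rfl

theorem torHom_ker : (torHom (F := F) D).ker = (monoHom (G := Fˣ) (cartanR D)).ker := by
  ext c
  rw [MonoidHom.mem_ker, MonoidHom.mem_ker]
  constructor
  · intro h
    funext s
    have h1 := congrArg (fun g : GL D.Idx F => (g : Matrix D.Idx D.Idx F) (Sum.inr s) (Sum.inr s)) h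
    simp only [torHom_val, torMat, Matrix.diagonal_apply_eq, Sum.elim_inr, Units.val_one,
      Matrix.one_apply_eq] at h1
    apply Units.ext
    rw [← chi_extC]
    exact h1
  · intro h
    apply Units.ext
    rw [torHom_val, torMat, Units.val_one, ← Matrix.diagonal_one]
    congr 1
    funext i
    rcases i with i | s
    · rfl
    · simp only [Sum.elim_inr]
      have := chi_extC D c s
      rw [chi] at this
      rw [this, h]
      rfl

theorem torHom_range (hD : Good D) {tbl : List ℕ} (hT : TorusData D tbl)
    (hsimp : ∀ i < D.rank, D.simple i < D.nroots) :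
    (torHom (F := F) D).range = D.diagonalSubgroup F := by
  apply le_antisymm
  · rintro g ⟨c, rfl⟩
    apply mem_diag_of_prod D hD ((List.range D.rank).map fun j => (D.simple j, extC D c j))
    · intro p hp
      simp only [List.mem_map, List.mem_range] at hp
      obtain ⟨j, hj, rfl⟩ := hp
      exact ⟨hsimp j hj, extC_ne D c j⟩
    · rw [torHom_val, ← torMat_eq_wordMat D hT.simp (extC D c) (fun j _ => extC_ne D c j),
        wordMat_flatMap, List.map_map]
      rfl
  · intro g hg
    obtain ⟨c, hc, hgc⟩ := mem_diag_eq_torMat D hT g hg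
    refine ⟨fun i => Units.mk0 (c i.val) (hc i.val), ?_⟩
    apply Units.ext
    rw [torHom_val, hgc, torMat, torMat]
    congr 1
    funext i
    rcases i with i | s
    · rfl
    · simp only [Sum.elim_inr]
      congr 1
      apply List.map_congr_left
      intro j hj
      rw [List.mem_range] at hj
      unfold extC
      rw [dif_pos hj]
      rfl

end Torus

section Card

variable (D : ChevalleyDatum)

/-- A matrix from a table. -/
def matOfTbl (n m : ℕ) (tbl : List (List ℤ)) : Matrix (Fin n) (Fin m) ℤ :=
  Matrix.of fun i j => lget (lget tbl i.val []) j.val 0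

/-- Kernel-checked certificate: a diagonalisation of the Cartan matrix and the coordinates of the roots. -/
structure SmithData (P P' Q Q' : List (List ℤ)) (d : List ℕ) (Mco : List (List ℤ)) : Prop where
  hsimp : ∀ i < D.rank, D.simple i < D.nroots
  smith : matOfTbl D.rank D.rank P * cartanA D * matOfTbl D.rank D.rank Q =
    Matrix.diagonal fun i : Fin D.rank => ((lget d i.val 0 : ℕ) : ℤ)
  hP : matOfTbl D.rank D.rank P * matOfTbl D.rank D.rank P' = 1
  hQ : matOfTbl D.rank D.rank Q * matOfTbl D.rank D.rank Q' = 1
  hco : cartanR D = cartanA D * matOfTbl D.rank D.nroots Mco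

variable {D}

theorem ker_cartanR_eq {G : Type*} [CommGroup G] {P P' Q Q' : List (List ℤ)} {d : List ℕ}
    {Mco : List (List ℤ)} (hS : SmithData D P P' Q Q' d Mco) :
    (monoHom (G := G) (cartanR D)).ker = (monoHom (G := G) (cartanA D)).ker := by
  ext c
  rw [MonoidHom.mem_ker, MonoidHom.mem_ker]
  constructor
  · intro h
    funext j
    have := congrFun h ⟨D.simple j.val, hS.hsimp j.val j.2⟩
    rw [monoHom_apply] at this ⊢
    exact this
  · intro h
    rw [hS.hco, monoHom_mul, h, map_one]

theorem card_diag {F : Type*} [Field F] [Fintype F] (hD : Good D) {tbl : List ℕ} (hT : TorusData D tbl)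
    {P P' Q Q' : List (List ℤ)} {d : List ℕ} {Mco : List (List ℤ)}
    (hS : SmithData D P P' Q Q' d Mco) :
    (∏ i : Fin D.rank, (Fintype.card F - 1).gcd (lget d i.val 0)) * Nat.card (D.diagonalSubgroup F) =
      (Fintype.card F - 1) ^ D.rank := by
  have hu : Nat.card Fˣ = Fintype.card F - 1 := by
    rw [Nat.card_units, Nat.card_eq_fintype_card]
  have h1 : Nat.card (torHom (F := F) D).ker = ∏ i : Fin D.rank, (Fintype.card F - 1).gcd (lget d i.val 0) := by
    rw [torHom_ker, ker_cartanR_eq hS, card_ker_of_smith _ _ _ _ _ _ hS.smith hS.hP hS.hQ,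
      card_ker_monoHom_diag, hu]
  have h2 : Nat.card (Fin D.rank → Fˣ) = (Fintype.card F - 1) ^ D.rank := by
    rw [Nat.card_fun, hu, Nat.card_fin]
  rw [← h1, ← torHom_range D hD hT hS.hsimp, ← h2, ← Subgroup.index_ker, Subgroup.card_mul_index]

end Card

end Cfsg.Agent.Helper18
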