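import Cfsg.Agent.Lib.Helper18.ChevUProd

set_option autoImplicit false

namespace Cfsg.Agent.Helper18

open Cfsg.Lie

/-- A weight function read off a packed table (32 bits per entry, offset `2^31`). -/
def fwOf (tab : ℕ) (s : ℕ) : ℤ := (((tab >>> (32 * s)) &&& 4294967295 : ℕ) : ℤ) - 2147483648

variable (D : ChevalleyDatum)

/-- The positive half of the index range. -/
def posIdx : List ℕ := List.range' (D.nroots / 2) (D.nroots - D.nroots / 2)

theorem mem_posIdx (s : ℕ) : s ∈ posIdx D ↔ D.nroots / 2 ≤ s ∧ s < D.nroots := by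
  rw [posIdx, List.mem_range'_1]
  constructor
  · rintro ⟨h1, h2⟩; exact ⟨h1, by omega⟩
  · rintro ⟨h1, h2⟩; exact ⟨h1, by omega⟩

/-- The weight check for a range of roots. -/
def wtRangeCheck (f : ℕ → ℤ) (lo hi : ℕ) : Bool :=
  (List.range' lo (hi - lo)).all fun s => wtCheck D f s

/-- The arithmetic conditions on the weight function. -/
def arithCheck (f : ℕ → ℤ) : Bool :=
  (posIdx D).all fun k =>
    decide (0 ≤ f k) && decide (fNeg D k < D.nroots / 2) && (f (fNeg D k) == - f k) &&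
      ((posIdx D).all fun s => (f s != 2 * f k) && (decide (s ≤ k) || decide (f k < f s)))

/-- The commutator terms of `(k, s)`, `k < s`, lie above `s`. -/
def ordCheck (k : ℕ) : Bool :=
  (List.range' (k + 1) (D.nroots - (k + 1))).all fun s =>
    (fCommTerms D k s).all fun c => decide (s < c.1) && decide (c.1 < D.nroots)

theorem uProdData_of_checks (f : ℕ → ℤ)
    (h1 : ∀ s, D.nroots / 2 ≤ s → s < D.nroots → wtCheck D f s = true)
    (h2 : arithCheck D f = true)
    (h3 : ∀ k, D.nroots / 2 ≤ k → k < D.nroots → ordCheck D k = true)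
    (h4 : ∀ s, D.IsPosRoot s ↔ (D.nroots / 2 ≤ s ∧ s < D.nroots))
    (h5 : D.posRoots = List.range' (D.nroots / 2) (D.nroots - D.nroots / 2)) : UProdData D f := by
  rw [arithCheck, List.all_eq_true] at h2
  have h2' : ∀ k, D.nroots / 2 ≤ k → k < D.nroots →
      (0 ≤ f k ∧ D.neg k < D.nroots / 2 ∧ f (D.neg k) = - f k) ∧
        ∀ s, D.nroots / 2 ≤ s → s < D.nroots → f s ≠ 2 * f k ∧ (s ≤ k ∨ f k < f s) := by
    intro k hk1 hk2
    have := h2 k ((mem_posIdx D k).mpr ⟨hk1, hk2⟩)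
    simp only [Bool.and_eq_true, decide_eq_true_eq, beq_iff_eq, List.all_eq_true, bne_iff_ne, ne_eq,
      Bool.or_eq_true, fNeg_eq] at this
    obtain ⟨⟨⟨ha, hb⟩, hc⟩, hd⟩ := this
    exact ⟨⟨ha, hb, hc⟩, fun s hs1 hs2 => hd s ((mem_posIdx D s).mpr ⟨hs1, hs2⟩)⟩
  refine ⟨h1, ?_, ?_, ?_, ?_, ?_, h4, h5⟩
  · intro k s hk1 hks hs
    rcases ((h2' k hk1 (by omega)).2 s (by omega) hs).2 with h | h
    · omega
    · exact h
  · intro k hk1 hk2
    exact (h2' k hk1 hk2).1.1
  · intro k hk1 hk2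
    exact ⟨(h2' k hk1 hk2).1.2.1, (h2' k hk1 hk2).1.2.2⟩
  · intro k s hk1 hk2 hs1 hs2
    exact ((h2' k hk1 hk2).2 s hs1 hs2).1
  · intro k s hk1 hks hs c hc
    have := h3 k hk1 (by omega)
    rw [ordCheck, List.all_eq_true] at this
    have h' := this s (by rw [List.mem_range'_1]; omega)
    rw [fCommTerms_eq, List.all_eq_true] at h'
    have := h' c hc
    simpa using this

end Cfsg.Agent.Helper18
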