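import Cfsg.Agent.Lib.Helper18.ChevBN
import Cfsg.Agent.Lib.Helper18.ChevComm

set_option autoImplicit false

namespace Cfsg.Agent.Helper18

open Cfsg.Lie Cfsg.Agent.S1043 Cfsg.Agent.Helper17
open scoped Pointwise

/-- Further table facts, for the subgroups `U_i`. -/
structure UiFacts (D : ChevalleyDatum) : Prop where
  hinvol : ∀ i < D.rank, ∀ s < D.nroots, D.reflectRoot i (D.reflectRoot i s) = s
  hcommRoots : ∀ i < D.rank, ∀ s, D.IsPosRoot s → s ≠ D.simple i →
    ∀ c ∈ D.commTerms (D.simple i) s, D.IsPosRoot c.1 ∧ c.1 ≠ D.simple i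
  hcomm : ∀ i < D.rank, ∀ s, D.IsPosRoot s → commCheck D (D.simple i) s = true

section

variable {F : Type*} [Field F] (D : ChevalleyDatum) (hD : Good D)

/-- The generators of `U_i`. -/
def UiSet (i : ℕ) : Set (GL D.Idx F) :=
  {g | ∃ (s : ℕ) (t : F), D.IsPosRoot s ∧ s ≠ D.simple i ∧ (g : Matrix D.Idx D.Idx F) = D.x F s t}

/-- The subgroup `U_i` generated by the positive root subgroups other than that of the `i`-th fundamental root. -/
def Ui (i : ℕ) : Subgroup (GL D.Idx F) := Subgroup.closure (UiSet D i)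

theorem Ui_le_pos (i : ℕ) : Ui (F := F) D i ≤ D.posUnipotent F := by
  unfold Ui ChevalleyDatum.posUnipotent
  apply Subgroup.closure_mono
  rintro g ⟨s, t, hs, _, hg⟩
  exact ⟨s, t, hs, hg⟩

theorem xU_mem_Ui (i s : ℕ) (t : F) (hs : D.IsPosRoot s) (hne : s ≠ D.simple i) :
    xU D hD s t ∈ Ui D i :=
  Subgroup.subset_closure ⟨s, t, hs, hne, rfl⟩

/-- The element of the general linear group of a word in root elements. -/
noncomputable def wordGL (w : List (ℕ × F)) : GL D.Idx F := (w.map fun p => xU D hD p.1 p.2).prod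

theorem wordGL_val (w : List (ℕ × F)) :
    ((wordGL D hD w : GL D.Idx F) : Matrix D.Idx D.Idx F) = D.wordMat F w := by
  induction w with
  | nil => simp [wordGL, ChevalleyDatum.wordMat]
  | cons p w ih =>
    have e : wordGL D hD (p :: w) = xU D hD p.1 p.2 * wordGL D hD w := by
      simp [wordGL]
    rw [e, Units.val_mul, ih, xU_val]
    simp [ChevalleyDatum.wordMat]

theorem wordGL_mem (K : Subgroup (GL D.Idx F)) (w : List (ℕ × F))
    (h : ∀ p ∈ w, xU D hD p.1 p.2 ∈ K) : wordGL D hD w ∈ K := by
  induction w with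
  | nil => exact one_mem _
  | cons p w ih =>
    have e : wordGL D hD (p :: w) = xU D hD p.1 p.2 * wordGL D hD w := by
      simp [wordGL]
    rw [e]
    exact mul_mem (h p List.mem_cons_self) (ih fun q hq => h q (List.mem_cons_of_mem _ hq))

/-- Membership in a normalizer from the two inclusions on generators. -/
theorem mem_normalizer_closure {G : Type*} [Group G] (S : Set G) (a : G)
    (h1 : ∀ g ∈ S, a * g * a⁻¹ ∈ Subgroup.closure S)
    (h2 : ∀ g ∈ S, a⁻¹ * g * a ∈ Subgroup.closure S) :
    a ∈ Subgroup.normalizer (Subgroup.closure S : Set G) := by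
  have k1 : Subgroup.closure S ≤ (Subgroup.closure S).comap (MulAut.conj a).toMonoidHom := by
    rw [Subgroup.closure_le]
    intro g hg
    exact h1 g hg
  have k2 : Subgroup.closure S ≤ (Subgroup.closure S).comap (MulAut.conj a⁻¹).toMonoidHom := by
    rw [Subgroup.closure_le]
    intro g hg
    have := h2 g hg
    rw [SetLike.mem_coe, Subgroup.mem_comap]
    simpa using this
  rw [Subgroup.mem_normalizer_iff]
  intro h
  constructor
  · intro hh
    exact k1 hh
  · intro hh
    have := k2 hh
    rw [Subgroup.mem_comap] at this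
    simpa [mul_assoc] using this

theorem xU_simple_mem_normalizer (hU : UiFacts D) (i : ℕ) (hi : i < D.rank) (t : F) :
    xU D hD (D.simple i) t ∈ Subgroup.normalizer (Ui (F := F) D i : Set (GL D.Idx F)) := by
  have key : ∀ (t : F) (g : GL D.Idx F), g ∈ UiSet D i →
      (xU D hD (D.simple i) t)⁻¹ * g * xU D hD (D.simple i) t ∈ Ui D i := by
    intro t g hg
    obtain ⟨s, u, hs, hne, hg⟩ := hg
    have hgs : g = xU D hD s u := Units.ext hg
    have hc := comm_of_check (F := F) D (D.simple i) s (hU.hcomm i hi s hs) t u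
    have e : (xU D hD (D.simple i) t)⁻¹ * g * xU D hD (D.simple i) t =
        xU D hD s u * wordGL D hD (D.commWord F (D.simple i) s t u) := by
      have e' : xU D hD s u * xU D hD (D.simple i) t =
          xU D hD (D.simple i) t * xU D hD s u * wordGL D hD (D.commWord F (D.simple i) s t u) := by
        apply Units.ext
        simp only [Units.val_mul, xU_val, wordGL_val]
        exact hc
      rw [hgs, mul_assoc, e']
      group
    rw [e]
    apply mul_mem (xU_mem_Ui D hD i s u hs hne)
    apply wordGL_mem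
    intro p hp
    simp only [ChevalleyDatum.commWord, List.mem_map] at hp
    obtain ⟨c, hc, rfl⟩ := hp
    obtain ⟨h1, h2⟩ := hU.hcommRoots i hi s hs hne c hc
    exact xU_mem_Ui D hD i _ _ h1 h2
  apply mem_normalizer_closure
  · intro g hg
    have := key (-t) g hg
    rwa [xU_inv, neg_neg, ← xU_inv] at this
  · intro g hg
    exact key t g hg

include hD in
theorem diag_le_normalizer_Ui {tbl : List ℕ} (hT : TorusData D tbl) (i : ℕ) :
    D.diagonalSubgroup F ≤ Subgroup.normalizer (Ui (F := F) D i : Set (GL D.Idx F)) := by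
  have key : ∀ h ∈ D.diagonalSubgroup F, ∀ g ∈ UiSet (F := F) D i, h * g * h⁻¹ ∈ Ui D i := by
    intro h hh g hg
    obtain ⟨s, u, hs, hne, hg⟩ := hg
    obtain ⟨c, hc, hhc⟩ := mem_diag_eq_torMat D hT h hh
    have e : h * g * h⁻¹ = xU D hD s (chi D c s * u) := by
      apply Units.ext
      rw [Units.val_mul, Units.val_mul, hg, hhc,
        torMat_mul_x D s (fun j hj => hT.addOK D j hj s hs.1) c hc u, mul_assoc, ← hhc,
        Units.mul_inv, mul_one, xU_val]
    rw [e]
    exact xU_mem_Ui D hD i s _ hs hne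
  intro h hh
  apply mem_normalizer_closure
  · exact key h hh
  · intro g hg
    have := key h⁻¹ (inv_mem hh) g hg
    rwa [inv_inv] at this

theorem reflect_simple (i : ℕ) : D.reflectRoot i (D.simple i) = D.neg (D.simple i) := by
  unfold ChevalleyDatum.reflectRoot
  simp

theorem reflect_neg_simple (i : ℕ) (hne : D.neg (D.simple i) ≠ D.simple i) :
    D.reflectRoot i (D.neg (D.simple i)) = D.simple i := by
  unfold ChevalleyDatum.reflectRoot
  simp [hne]

theorem nGL_conj_Ui (hB : BNFacts D) (hU : UiFacts D)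
    (hconj : ∀ i < D.rank, ∀ s < D.nroots, ConjGoal' F D i s) (i : ℕ) (hi : i < D.rank)
    (g : GL D.Idx F) (hg : g ∈ Ui D i) : nGL D hD i * g * (nGL D hD i)⁻¹ ∈ Ui (F := F) D i := by
  have k1 : Ui (F := F) D i ≤ (Ui (F := F) D i).comap (MulAut.conj (nGL D hD i)).toMonoidHom := by
    conv_lhs => rw [Ui]
    rw [Subgroup.closure_le]
    rintro g ⟨s, u, hs, hne, hg⟩
    rw [SetLike.mem_coe, Subgroup.mem_comap]
    change nGL D hD i * g * (nGL D hD i)⁻¹ ∈ Ui D i
    obtain ⟨η, _, hc⟩ := hconj i hi s hs.1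
    have e : nGL D hD i * g * (nGL D hD i)⁻¹ = xU D hD (D.reflectRoot i s) ((η : F) * u) := by
      apply Units.ext
      rw [Units.val_mul, Units.val_mul, hg, nGL_val, hc u, mul_assoc, ← nGL_val D hD i, Units.mul_inv,
        mul_one, xU_val]
    rw [e]
    apply xU_mem_Ui D hD i _ _ (hB.hreflPos i hi s hs hne)
    intro h'
    have := hU.hinvol i hi s hs.1
    rw [h', reflect_simple] at this
    have hp := hB.hnegpos _ (hB.hsimpPos i hi)
    rw [this] at hp
    exact hp hs
  exact k1 hg

end

end Cfsg.Agent.Helper18
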