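import Cfsg.Agent.Lib.Helper18.CommCertData

set_option autoImplicit false
set_option maxRecDepth 100000
set_option Elab.async false

namespace Cfsg.Agent.Helper18

open Cfsg.Lie

theorem rowOKE6_0 : rowOK chevE6 etaTabE6 certE6 0 = true := by
  decide +kernel

theorem rowOKE6_1 : rowOK chevE6 etaTabE6 certE6 1 = true := by
  decide +kernel

theorem rowOKE6_2 : rowOK chevE6 etaTabE6 certE6 2 = true := by
  decide +kernel

theorem rowOKE6_3 : rowOK chevE6 etaTabE6 certE6 3 = true := by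
  decide +kernel

theorem rowOKE6_4 : rowOK chevE6 etaTabE6 certE6 4 = true := by
  decide +kernel

theorem rowOKE6_5 : rowOK chevE6 etaTabE6 certE6 5 = true := by
  decide +kernel

theorem rowOKE6_6 : rowOK chevE6 etaTabE6 certE6 6 = true := by
  decide +kernel

theorem rowOKE6_7 : rowOK chevE6 etaTabE6 certE6 7 = true := by
  decide +kernel

theorem rowOKE6_8 : rowOK chevE6 etaTabE6 certE6 8 = true := by
  decide +kernel

theorem rowOKE6_9 : rowOK chevE6 etaTabE6 certE6 9 = true := by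
  decide +kernel

theorem rowOKE6_10 : rowOK chevE6 etaTabE6 certE6 10 = true := by
  decide +kernel

theorem rowOKE6_11 : rowOK chevE6 etaTabE6 certE6 11 = true := by
  decide +kernel

theorem rowOKE6_12 : rowOK chevE6 etaTabE6 certE6 12 = true := by
  decide +kernel

theorem rowOKE6_13 : rowOK chevE6 etaTabE6 certE6 13 = true := by
  decide +kernel

theorem rowOKE6_14 : rowOK chevE6 etaTabE6 certE6 14 = true := by
  decide +kernel

theorem rowOKE6_15 : rowOK chevE6 etaTabE6 certE6 15 = true := by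
  decide +kernel

theorem rowOKE6_16 : rowOK chevE6 etaTabE6 certE6 16 = true := by
  decide +kernel

theorem rowOKE6_17 : rowOK chevE6 etaTabE6 certE6 17 = true := by
  decide +kernel

theorem rowOKE6_18 : rowOK chevE6 etaTabE6 certE6 18 = true := by
  decide +kernel

theorem rowOKE6_19 : rowOK chevE6 etaTabE6 certE6 19 = true := by
  decide +kernel

theorem rowOKE6_20 : rowOK chevE6 etaTabE6 certE6 20 = true := by
  decide +kernel

theorem rowOKE6_21 : rowOK chevE6 etaTabE6 certE6 21 = true := by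
  decide +kernel

theorem rowOKE6_22 : rowOK chevE6 etaTabE6 certE6 22 = true := by
  decide +kernel

theorem rowOKE6_23 : rowOK chevE6 etaTabE6 certE6 23 = true := by
  decide +kernel

theorem rowOKE6_24 : rowOK chevE6 etaTabE6 certE6 24 = true := by
  decide +kernel

theorem rowOKE6_25 : rowOK chevE6 etaTabE6 certE6 25 = true := by
  decide +kernel

theorem rowOKE6_26 : rowOK chevE6 etaTabE6 certE6 26 = true := by
  decide +kernel

theorem rowOKE6_27 : rowOK chevE6 etaTabE6 certE6 27 = true := by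
  decide +kernel

theorem rowOKE6_28 : rowOK chevE6 etaTabE6 certE6 28 = true := by
  decide +kernel

theorem rowOKE6_29 : rowOK chevE6 etaTabE6 certE6 29 = true := by
  decide +kernel

theorem rowOKE6_30 : rowOK chevE6 etaTabE6 certE6 30 = true := by
  decide +kernel

theorem rowOKE6_31 : rowOK chevE6 etaTabE6 certE6 31 = true := by
  decide +kernel

theorem rowOKE6_32 : rowOK chevE6 etaTabE6 certE6 32 = true := by
  decide +kernel

theorem rowOKE6_33 : rowOK chevE6 etaTabE6 certE6 33 = true := by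
  decide +kernel

theorem rowOKE6_34 : rowOK chevE6 etaTabE6 certE6 34 = true := by
  decide +kernel

theorem rowOKE6_35 : rowOK chevE6 etaTabE6 certE6 35 = true := by
  decide +kernel

theorem rowOKE6_from0 (r : ℕ) (h1 : 0 ≤ r) (h2 : r < 36) : rowOK chevE6 etaTabE6 certE6 r = true := by
  have h : r = 0 ∨ r = 1 ∨ r = 2 ∨ r = 3 ∨ r = 4 ∨ r = 5 ∨ r = 6 ∨ r = 7 ∨ r = 8 ∨ r = 9 ∨ r = 10 ∨ r = 11 ∨ r = 12 ∨ r = 13 ∨ r = 14 ∨ r = 15 ∨ r = 16 ∨ r = 17 ∨ r = 18 ∨ r = 19 ∨ r = 20 ∨ r = 21 ∨ r = 22 ∨ r = 23 ∨ r = 24 ∨ r = 25 ∨ r = 26 ∨ r = 27 ∨ r = 28 ∨ r = 29 ∨ r = 30 ∨ r = 31 ∨ r = 32 ∨ r = 33 ∨ r = 34 ∨ r = 35 := by omega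
  rcases h with rfl | rfl | rfl | rfl | rfl | rfl | rfl | rfl | rfl | rfl | rfl | rfl | rfl | rfl | rfl | rfl | rfl | rfl | rfl | rfl | rfl | rfl | rfl | rfl | rfl | rfl | rfl | rfl | rfl | rfl | rfl | rfl | rfl | rfl | rfl | rfl
  exacts [rowOKE6_0, rowOKE6_1, rowOKE6_2, rowOKE6_3, rowOKE6_4, rowOKE6_5, rowOKE6_6, rowOKE6_7, rowOKE6_8, rowOKE6_9, rowOKE6_10, rowOKE6_11, rowOKE6_12, rowOKE6_13, rowOKE6_14, rowOKE6_15, rowOKE6_16, rowOKE6_17, rowOKE6_18, rowOKE6_19, rowOKE6_20, rowOKE6_21, rowOKE6_22, rowOKE6_23, rowOKE6_24, rowOKE6_25, rowOKE6_26, rowOKE6_27, rowOKE6_28, rowOKE6_29, rowOKE6_30, rowOKE6_31, rowOKE6_32, rowOKE6_33, rowOKE6_34, rowOKE6_35]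

end Cfsg.Agent.Helper18
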