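import Cfsg.Agent.Lib.Helper18.CommCertData

set_option autoImplicit false
set_option maxRecDepth 100000
set_option Elab.async false

namespace Cfsg.Agent.Helper18

open Cfsg.Lie

theorem rowOKE6_36 : rowOK chevE6 etaTabE6 certE6 36 = true := by
  decide +kernel

theorem rowOKE6_37 : rowOK chevE6 etaTabE6 certE6 37 = true := by
  decide +kernel

theorem rowOKE6_38 : rowOK chevE6 etaTabE6 certE6 38 = true := by
  decide +kernel

theorem rowOKE6_39 : rowOK chevE6 etaTabE6 certE6 39 = true := by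
  decide +kernel

theorem rowOKE6_40 : rowOK chevE6 etaTabE6 certE6 40 = true := by
  decide +kernel

theorem rowOKE6_41 : rowOK chevE6 etaTabE6 certE6 41 = true := by
  decide +kernel

theorem rowOKE6_42 : rowOK chevE6 etaTabE6 certE6 42 = true := by
  decide +kernel

theorem rowOKE6_43 : rowOK chevE6 etaTabE6 certE6 43 = true := by
  decide +kernel

theorem rowOKE6_44 : rowOK chevE6 etaTabE6 certE6 44 = true := by
  decide +kernel

theorem rowOKE6_45 : rowOK chevE6 etaTabE6 certE6 45 = true := by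
  decide +kernel

theorem rowOKE6_46 : rowOK chevE6 etaTabE6 certE6 46 = true := by
  decide +kernel

theorem rowOKE6_47 : rowOK chevE6 etaTabE6 certE6 47 = true := by
  decide +kernel

theorem rowOKE6_48 : rowOK chevE6 etaTabE6 certE6 48 = true := by
  decide +kernel

theorem rowOKE6_49 : rowOK chevE6 etaTabE6 certE6 49 = true := by
  decide +kernel

theorem rowOKE6_50 : rowOK chevE6 etaTabE6 certE6 50 = true := by
  decide +kernel

theorem rowOKE6_51 : rowOK chevE6 etaTabE6 certE6 51 = true := by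
  decide +kernel

theorem rowOKE6_52 : rowOK chevE6 etaTabE6 certE6 52 = true := by
  decide +kernel

theorem rowOKE6_53 : rowOK chevE6 etaTabE6 certE6 53 = true := by
  decide +kernel

theorem rowOKE6_54 : rowOK chevE6 etaTabE6 certE6 54 = true := by
  decide +kernel

theorem rowOKE6_55 : rowOK chevE6 etaTabE6 certE6 55 = true := by
  decide +kernel

theorem rowOKE6_56 : rowOK chevE6 etaTabE6 certE6 56 = true := by
  decide +kernel

theorem rowOKE6_57 : rowOK chevE6 etaTabE6 certE6 57 = true := by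
  decide +kernel

theorem rowOKE6_58 : rowOK chevE6 etaTabE6 certE6 58 = true := by
  decide +kernel

theorem rowOKE6_59 : rowOK chevE6 etaTabE6 certE6 59 = true := by
  decide +kernel

theorem rowOKE6_60 : rowOK chevE6 etaTabE6 certE6 60 = true := by
  decide +kernel

theorem rowOKE6_61 : rowOK chevE6 etaTabE6 certE6 61 = true := by
  decide +kernel

theorem rowOKE6_62 : rowOK chevE6 etaTabE6 certE6 62 = true := by
  decide +kernel

theorem rowOKE6_63 : rowOK chevE6 etaTabE6 certE6 63 = true := by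
  decide +kernel

theorem rowOKE6_64 : rowOK chevE6 etaTabE6 certE6 64 = true := by
  decide +kernel

theorem rowOKE6_65 : rowOK chevE6 etaTabE6 certE6 65 = true := by
  decide +kernel

theorem rowOKE6_66 : rowOK chevE6 etaTabE6 certE6 66 = true := by
  decide +kernel

theorem rowOKE6_67 : rowOK chevE6 etaTabE6 certE6 67 = true := by
  decide +kernel

theorem rowOKE6_68 : rowOK chevE6 etaTabE6 certE6 68 = true := by
  decide +kernel

theorem rowOKE6_69 : rowOK chevE6 etaTabE6 certE6 69 = true := by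
  decide +kernel

theorem rowOKE6_70 : rowOK chevE6 etaTabE6 certE6 70 = true := by
  decide +kernel

theorem rowOKE6_71 : rowOK chevE6 etaTabE6 certE6 71 = true := by
  decide +kernel

theorem rowOKE6_from36 (r : ℕ) (h1 : 36 ≤ r) (h2 : r < 72) : rowOK chevE6 etaTabE6 certE6 r = true := by
  have h : r = 36 ∨ r = 37 ∨ r = 38 ∨ r = 39 ∨ r = 40 ∨ r = 41 ∨ r = 42 ∨ r = 43 ∨ r = 44 ∨ r = 45 ∨ r = 46 ∨ r = 47 ∨ r = 48 ∨ r = 49 ∨ r = 50 ∨ r = 51 ∨ r = 52 ∨ r = 53 ∨ r = 54 ∨ r = 55 ∨ r = 56 ∨ r = 57 ∨ r = 58 ∨ r = 59 ∨ r = 60 ∨ r = 61 ∨ r = 62 ∨ r = 63 ∨ r = 64 ∨ r = 65 ∨ r = 66 ∨ r = 67 ∨ r = 68 ∨ r = 69 ∨ r = 70 ∨ r = 71 := by omega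
  rcases h with rfl | rfl | rfl | rfl | rfl | rfl | rfl | rfl | rfl | rfl | rfl | rfl | rfl | rfl | rfl | rfl | rfl | rfl | rfl | rfl | rfl | rfl | rfl | rfl | rfl | rfl | rfl | rfl | rfl | rfl | rfl | rfl | rfl | rfl | rfl | rfl
  exacts [rowOKE6_36, rowOKE6_37, rowOKE6_38, rowOKE6_39, rowOKE6_40, rowOKE6_41, rowOKE6_42, rowOKE6_43, rowOKE6_44, rowOKE6_45, rowOKE6_46, rowOKE6_47, rowOKE6_48, rowOKE6_49, rowOKE6_50, rowOKE6_51, rowOKE6_52, rowOKE6_53, rowOKE6_54, rowOKE6_55, rowOKE6_56, rowOKE6_57, rowOKE6_58, rowOKE6_59, rowOKE6_60, rowOKE6_61, rowOKE6_62, rowOKE6_63, rowOKE6_64, rowOKE6_65, rowOKE6_66, rowOKE6_67, rowOKE6_68, rowOKE6_69, rowOKE6_70, rowOKE6_71]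

end Cfsg.Agent.Helper18
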