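import Cfsg.Agent.Lib.Helper18.CommCertData

set_option autoImplicit false
set_option maxRecDepth 100000
set_option Elab.async false

namespace Cfsg.Agent.Helper18

open Cfsg.Lie

theorem rowOKE7_0 : rowOK chevE7 etaTabE7 certE7 0 = true := by
  decide +kernel

theorem rowOKE7_1 : rowOK chevE7 etaTabE7 certE7 1 = true := by
  decide +kernel

theorem rowOKE7_2 : rowOK chevE7 etaTabE7 certE7 2 = true := by
  decide +kernel

theorem rowOKE7_3 : rowOK chevE7 etaTabE7 certE7 3 = true := by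
  decide +kernel

theorem rowOKE7_4 : rowOK chevE7 etaTabE7 certE7 4 = true := by
  decide +kernel

theorem rowOKE7_5 : rowOK chevE7 etaTabE7 certE7 5 = true := by
  decide +kernel

theorem rowOKE7_6 : rowOK chevE7 etaTabE7 certE7 6 = true := by
  decide +kernel

theorem rowOKE7_7 : rowOK chevE7 etaTabE7 certE7 7 = true := by
  decide +kernel

theorem rowOKE7_8 : rowOK chevE7 etaTabE7 certE7 8 = true := by
  decide +kernel

theorem rowOKE7_9 : rowOK chevE7 etaTabE7 certE7 9 = true := by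
  decide +kernel

theorem rowOKE7_10 : rowOK chevE7 etaTabE7 certE7 10 = true := by
  decide +kernel

theorem rowOKE7_11 : rowOK chevE7 etaTabE7 certE7 11 = true := by
  decide +kernel

theorem rowOKE7_12 : rowOK chevE7 etaTabE7 certE7 12 = true := by
  decide +kernel

theorem rowOKE7_13 : rowOK chevE7 etaTabE7 certE7 13 = true := by
  decide +kernel

theorem rowOKE7_14 : rowOK chevE7 etaTabE7 certE7 14 = true := by
  decide +kernel

theorem rowOKE7_15 : rowOK chevE7 etaTabE7 certE7 15 = true := by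
  decide +kernel

theorem rowOKE7_16 : rowOK chevE7 etaTabE7 certE7 16 = true := by
  decide +kernel

theorem rowOKE7_17 : rowOK chevE7 etaTabE7 certE7 17 = true := by
  decide +kernel

theorem rowOKE7_18 : rowOK chevE7 etaTabE7 certE7 18 = true := by
  decide +kernel

theorem rowOKE7_19 : rowOK chevE7 etaTabE7 certE7 19 = true := by
  decide +kernel

theorem rowOKE7_20 : rowOK chevE7 etaTabE7 certE7 20 = true := by
  decide +kernel

theorem rowOKE7_21 : rowOK chevE7 etaTabE7 certE7 21 = true := by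
  decide +kernel

theorem rowOKE7_22 : rowOK chevE7 etaTabE7 certE7 22 = true := by
  decide +kernel

theorem rowOKE7_23 : rowOK chevE7 etaTabE7 certE7 23 = true := by
  decide +kernel

theorem rowOKE7_24 : rowOK chevE7 etaTabE7 certE7 24 = true := by
  decide +kernel

theorem rowOKE7_25 : rowOK chevE7 etaTabE7 certE7 25 = true := by
  decide +kernel

theorem rowOKE7_26 : rowOK chevE7 etaTabE7 certE7 26 = true := by
  decide +kernel

theorem rowOKE7_27 : rowOK chevE7 etaTabE7 certE7 27 = true := by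
  decide +kernel

theorem rowOKE7_28 : rowOK chevE7 etaTabE7 certE7 28 = true := by
  decide +kernel

theorem rowOKE7_29 : rowOK chevE7 etaTabE7 certE7 29 = true := by
  decide +kernel

theorem rowOKE7_30 : rowOK chevE7 etaTabE7 certE7 30 = true := by
  decide +kernel

theorem rowOKE7_31 : rowOK chevE7 etaTabE7 certE7 31 = true := by
  decide +kernel

theorem rowOKE7_32 : rowOK chevE7 etaTabE7 certE7 32 = true := by
  decide +kernel

theorem rowOKE7_33 : rowOK chevE7 etaTabE7 certE7 33 = true := by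
  decide +kernel

theorem rowOKE7_34 : rowOK chevE7 etaTabE7 certE7 34 = true := by
  decide +kernel

theorem rowOKE7_35 : rowOK chevE7 etaTabE7 certE7 35 = true := by
  decide +kernel

theorem rowOKE7_36 : rowOK chevE7 etaTabE7 certE7 36 = true := by
  decide +kernel

theorem rowOKE7_37 : rowOK chevE7 etaTabE7 certE7 37 = true := by
  decide +kernel

theorem rowOKE7_38 : rowOK chevE7 etaTabE7 certE7 38 = true := by
  decide +kernel

theorem rowOKE7_39 : rowOK chevE7 etaTabE7 certE7 39 = true := by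
  decide +kernel

theorem rowOKE7_40 : rowOK chevE7 etaTabE7 certE7 40 = true := by
  decide +kernel

theorem rowOKE7_41 : rowOK chevE7 etaTabE7 certE7 41 = true := by
  decide +kernel

theorem rowOKE7_from0 (r : ℕ) (h1 : 0 ≤ r) (h2 : r < 42) : rowOK chevE7 etaTabE7 certE7 r = true := by
  have h : r = 0 ∨ r = 1 ∨ r = 2 ∨ r = 3 ∨ r = 4 ∨ r = 5 ∨ r = 6 ∨ r = 7 ∨ r = 8 ∨ r = 9 ∨ r = 10 ∨ r = 11 ∨ r = 12 ∨ r = 13 ∨ r = 14 ∨ r = 15 ∨ r = 16 ∨ r = 17 ∨ r = 18 ∨ r = 19 ∨ r = 20 ∨ r = 21 ∨ r = 22 ∨ r = 23 ∨ r = 24 ∨ r = 25 ∨ r = 26 ∨ r = 27 ∨ r = 28 ∨ r = 29 ∨ r = 30 ∨ r = 31 ∨ r = 32 ∨ r = 33 ∨ r = 34 ∨ r = 35 ∨ r = 36 ∨ r = 37 ∨ r = 38 ∨ r = 39 ∨ r = 40 ∨ r = 41 := by omega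
  rcases h with rfl | rfl | rfl | rfl | rfl | rfl | rfl | rfl | rfl | rfl | rfl | rfl | rfl | rfl | rfl | rfl | rfl | rfl | rfl | rfl | rfl | rfl | rfl | rfl | rfl | rfl | rfl | rfl | rfl | rfl | rfl | rfl | rfl | rfl | rfl | rfl | rfl | rfl | rfl | rfl | rfl | rfl
  exacts [rowOKE7_0, rowOKE7_1, rowOKE7_2, rowOKE7_3, rowOKE7_4, rowOKE7_5, rowOKE7_6, rowOKE7_7, rowOKE7_8, rowOKE7_9, rowOKE7_10, rowOKE7_11, rowOKE7_12, rowOKE7_13, rowOKE7_14, rowOKE7_15, rowOKE7_16, rowOKE7_17, rowOKE7_18, rowOKE7_19, rowOKE7_20, rowOKE7_21, rowOKE7_22, rowOKE7_23, rowOKE7_24, rowOKE7_25, rowOKE7_26, rowOKE7_27, rowOKE7_28, rowOKE7_29, rowOKE7_30, rowOKE7_31, rowOKE7_32, rowOKE7_33, rowOKE7_34, rowOKE7_35, rowOKE7_36, rowOKE7_37, rowOKE7_38, rowOKE7_39, rowOKE7_40, rowOKE7_41]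

end Cfsg.Agent.Helper18
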