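import Cfsg.Agent.Lib.Helper18.CommCertData

set_option autoImplicit false
set_option maxRecDepth 100000
set_option Elab.async false

namespace Cfsg.Agent.Helper18

open Cfsg.Lie

theorem rowOKE7_42 : rowOK chevE7 etaTabE7 certE7 42 = true := by
  decide +kernel

theorem rowOKE7_43 : rowOK chevE7 etaTabE7 certE7 43 = true := by
  decide +kernel

theorem rowOKE7_44 : rowOK chevE7 etaTabE7 certE7 44 = true := by
  decide +kernel

theorem rowOKE7_45 : rowOK chevE7 etaTabE7 certE7 45 = true := by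
  decide +kernel

theorem rowOKE7_46 : rowOK chevE7 etaTabE7 certE7 46 = true := by
  decide +kernel

theorem rowOKE7_47 : rowOK chevE7 etaTabE7 certE7 47 = true := by
  decide +kernel

theorem rowOKE7_48 : rowOK chevE7 etaTabE7 certE7 48 = true := by
  decide +kernel

theorem rowOKE7_49 : rowOK chevE7 etaTabE7 certE7 49 = true := by
  decide +kernel

theorem rowOKE7_50 : rowOK chevE7 etaTabE7 certE7 50 = true := by
  decide +kernel

theorem rowOKE7_51 : rowOK chevE7 etaTabE7 certE7 51 = true := by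
  decide +kernel

theorem rowOKE7_52 : rowOK chevE7 etaTabE7 certE7 52 = true := by
  decide +kernel

theorem rowOKE7_53 : rowOK chevE7 etaTabE7 certE7 53 = true := by
  decide +kernel

theorem rowOKE7_54 : rowOK chevE7 etaTabE7 certE7 54 = true := by
  decide +kernel

theorem rowOKE7_55 : rowOK chevE7 etaTabE7 certE7 55 = true := by
  decide +kernel

theorem rowOKE7_56 : rowOK chevE7 etaTabE7 certE7 56 = true := by
  decide +kernel

theorem rowOKE7_57 : rowOK chevE7 etaTabE7 certE7 57 = true := by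
  decide +kernel

theorem rowOKE7_58 : rowOK chevE7 etaTabE7 certE7 58 = true := by
  decide +kernel

theorem rowOKE7_59 : rowOK chevE7 etaTabE7 certE7 59 = true := by
  decide +kernel

theorem rowOKE7_60 : rowOK chevE7 etaTabE7 certE7 60 = true := by
  decide +kernel

theorem rowOKE7_61 : rowOK chevE7 etaTabE7 certE7 61 = true := by
  decide +kernel

theorem rowOKE7_62 : rowOK chevE7 etaTabE7 certE7 62 = true := by
  decide +kernel

theorem rowOKE7_63 : rowOK chevE7 etaTabE7 certE7 63 = true := by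
  decide +kernel

theorem rowOKE7_64 : rowOK chevE7 etaTabE7 certE7 64 = true := by
  decide +kernel

theorem rowOKE7_65 : rowOK chevE7 etaTabE7 certE7 65 = true := by
  decide +kernel

theorem rowOKE7_66 : rowOK chevE7 etaTabE7 certE7 66 = true := by
  decide +kernel

theorem rowOKE7_67 : rowOK chevE7 etaTabE7 certE7 67 = true := by
  decide +kernel

theorem rowOKE7_68 : rowOK chevE7 etaTabE7 certE7 68 = true := by
  decide +kernel

theorem rowOKE7_69 : rowOK chevE7 etaTabE7 certE7 69 = true := by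
  decide +kernel

theorem rowOKE7_70 : rowOK chevE7 etaTabE7 certE7 70 = true := by
  decide +kernel

theorem rowOKE7_71 : rowOK chevE7 etaTabE7 certE7 71 = true := by
  decide +kernel

theorem rowOKE7_72 : rowOK chevE7 etaTabE7 certE7 72 = true := by
  decide +kernel

theorem rowOKE7_73 : rowOK chevE7 etaTabE7 certE7 73 = true := by
  decide +kernel

theorem rowOKE7_74 : rowOK chevE7 etaTabE7 certE7 74 = true := by
  decide +kernel

theorem rowOKE7_75 : rowOK chevE7 etaTabE7 certE7 75 = true := by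
  decide +kernel

theorem rowOKE7_76 : rowOK chevE7 etaTabE7 certE7 76 = true := by
  decide +kernel

theorem rowOKE7_77 : rowOK chevE7 etaTabE7 certE7 77 = true := by
  decide +kernel

theorem rowOKE7_78 : rowOK chevE7 etaTabE7 certE7 78 = true := by
  decide +kernel

theorem rowOKE7_79 : rowOK chevE7 etaTabE7 certE7 79 = true := by
  decide +kernel

theorem rowOKE7_80 : rowOK chevE7 etaTabE7 certE7 80 = true := by
  decide +kernel

theorem rowOKE7_81 : rowOK chevE7 etaTabE7 certE7 81 = true := by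
  decide +kernel

theorem rowOKE7_82 : rowOK chevE7 etaTabE7 certE7 82 = true := by
  decide +kernel

theorem rowOKE7_83 : rowOK chevE7 etaTabE7 certE7 83 = true := by
  decide +kernel

theorem rowOKE7_from42 (r : ℕ) (h1 : 42 ≤ r) (h2 : r < 84) : rowOK chevE7 etaTabE7 certE7 r = true := by
  have h : r = 42 ∨ r = 43 ∨ r = 44 ∨ r = 45 ∨ r = 46 ∨ r = 47 ∨ r = 48 ∨ r = 49 ∨ r = 50 ∨ r = 51 ∨ r = 52 ∨ r = 53 ∨ r = 54 ∨ r = 55 ∨ r = 56 ∨ r = 57 ∨ r = 58 ∨ r = 59 ∨ r = 60 ∨ r = 61 ∨ r = 62 ∨ r = 63 ∨ r = 64 ∨ r = 65 ∨ r = 66 ∨ r = 67 ∨ r = 68 ∨ r = 69 ∨ r = 70 ∨ r = 71 ∨ r = 72 ∨ r = 73 ∨ r = 74 ∨ r = 75 ∨ r = 76 ∨ r = 77 ∨ r = 78 ∨ r = 79 ∨ r = 80 ∨ r = 81 ∨ r = 82 ∨ r = 83 := by omega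
  rcases h with rfl | rfl | rfl | rfl | rfl | rfl | rfl | rfl | rfl | rfl | rfl | rfl | rfl | rfl | rfl | rfl | rfl | rfl | rfl | rfl | rfl | rfl | rfl | rfl | rfl | rfl | rfl | rfl | rfl | rfl | rfl | rfl | rfl | rfl | rfl | rfl | rfl | rfl | rfl | rfl | rfl | rfl
  exacts [rowOKE7_42, rowOKE7_43, rowOKE7_44, rowOKE7_45, rowOKE7_46, rowOKE7_47, rowOKE7_48, rowOKE7_49, rowOKE7_50, rowOKE7_51, rowOKE7_52, rowOKE7_53, rowOKE7_54, rowOKE7_55, rowOKE7_56, rowOKE7_57, rowOKE7_58, rowOKE7_59, rowOKE7_60, rowOKE7_61, rowOKE7_62, rowOKE7_63, rowOKE7_64, rowOKE7_65, rowOKE7_66, rowOKE7_67, rowOKE7_68, rowOKE7_69, rowOKE7_70, rowOKE7_71, rowOKE7_72, rowOKE7_73, rowOKE7_74, rowOKE7_75, rowOKE7_76, rowOKE7_77, rowOKE7_78, rowOKE7_79, rowOKE7_80, rowOKE7_81, rowOKE7_82, rowOKE7_83]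

end Cfsg.Agent.Helper18
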