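import Cfsg.Agent.Lib.Helper18.CommCertData

set_option autoImplicit false
set_option maxRecDepth 100000
set_option Elab.async false

namespace Cfsg.Agent.Helper18

open Cfsg.Lie

theorem rowOKE7_84 : rowOK chevE7 etaTabE7 certE7 84 = true := by
  decide +kernel

theorem rowOKE7_85 : rowOK chevE7 etaTabE7 certE7 85 = true := by
  decide +kernel

theorem rowOKE7_86 : rowOK chevE7 etaTabE7 certE7 86 = true := by
  decide +kernel

theorem rowOKE7_87 : rowOK chevE7 etaTabE7 certE7 87 = true := by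
  decide +kernel

theorem rowOKE7_88 : rowOK chevE7 etaTabE7 certE7 88 = true := by
  decide +kernel

theorem rowOKE7_89 : rowOK chevE7 etaTabE7 certE7 89 = true := by
  decide +kernel

theorem rowOKE7_90 : rowOK chevE7 etaTabE7 certE7 90 = true := by
  decide +kernel

theorem rowOKE7_91 : rowOK chevE7 etaTabE7 certE7 91 = true := by
  decide +kernel

theorem rowOKE7_92 : rowOK chevE7 etaTabE7 certE7 92 = true := by
  decide +kernel

theorem rowOKE7_93 : rowOK chevE7 etaTabE7 certE7 93 = true := by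
  decide +kernel

theorem rowOKE7_94 : rowOK chevE7 etaTabE7 certE7 94 = true := by
  decide +kernel

theorem rowOKE7_95 : rowOK chevE7 etaTabE7 certE7 95 = true := by
  decide +kernel

theorem rowOKE7_96 : rowOK chevE7 etaTabE7 certE7 96 = true := by
  decide +kernel

theorem rowOKE7_97 : rowOK chevE7 etaTabE7 certE7 97 = true := by
  decide +kernel

theorem rowOKE7_98 : rowOK chevE7 etaTabE7 certE7 98 = true := by
  decide +kernel

theorem rowOKE7_99 : rowOK chevE7 etaTabE7 certE7 99 = true := by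
  decide +kernel

theorem rowOKE7_100 : rowOK chevE7 etaTabE7 certE7 100 = true := by
  decide +kernel

theorem rowOKE7_101 : rowOK chevE7 etaTabE7 certE7 101 = true := by
  decide +kernel

theorem rowOKE7_102 : rowOK chevE7 etaTabE7 certE7 102 = true := by
  decide +kernel

theorem rowOKE7_103 : rowOK chevE7 etaTabE7 certE7 103 = true := by
  decide +kernel

theorem rowOKE7_104 : rowOK chevE7 etaTabE7 certE7 104 = true := by
  decide +kernel

theorem rowOKE7_105 : rowOK chevE7 etaTabE7 certE7 105 = true := by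
  decide +kernel

theorem rowOKE7_106 : rowOK chevE7 etaTabE7 certE7 106 = true := by
  decide +kernel

theorem rowOKE7_107 : rowOK chevE7 etaTabE7 certE7 107 = true := by
  decide +kernel

theorem rowOKE7_108 : rowOK chevE7 etaTabE7 certE7 108 = true := by
  decide +kernel

theorem rowOKE7_109 : rowOK chevE7 etaTabE7 certE7 109 = true := by
  decide +kernel

theorem rowOKE7_110 : rowOK chevE7 etaTabE7 certE7 110 = true := by
  decide +kernel

theorem rowOKE7_111 : rowOK chevE7 etaTabE7 certE7 111 = true := by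
  decide +kernel

theorem rowOKE7_112 : rowOK chevE7 etaTabE7 certE7 112 = true := by
  decide +kernel

theorem rowOKE7_113 : rowOK chevE7 etaTabE7 certE7 113 = true := by
  decide +kernel

theorem rowOKE7_114 : rowOK chevE7 etaTabE7 certE7 114 = true := by
  decide +kernel

theorem rowOKE7_115 : rowOK chevE7 etaTabE7 certE7 115 = true := by
  decide +kernel

theorem rowOKE7_116 : rowOK chevE7 etaTabE7 certE7 116 = true := by
  decide +kernel

theorem rowOKE7_117 : rowOK chevE7 etaTabE7 certE7 117 = true := by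
  decide +kernel

theorem rowOKE7_118 : rowOK chevE7 etaTabE7 certE7 118 = true := by
  decide +kernel

theorem rowOKE7_119 : rowOK chevE7 etaTabE7 certE7 119 = true := by
  decide +kernel

theorem rowOKE7_120 : rowOK chevE7 etaTabE7 certE7 120 = true := by
  decide +kernel

theorem rowOKE7_121 : rowOK chevE7 etaTabE7 certE7 121 = true := by
  decide +kernel

theorem rowOKE7_122 : rowOK chevE7 etaTabE7 certE7 122 = true := by
  decide +kernel

theorem rowOKE7_123 : rowOK chevE7 etaTabE7 certE7 123 = true := by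
  decide +kernel

theorem rowOKE7_124 : rowOK chevE7 etaTabE7 certE7 124 = true := by
  decide +kernel

theorem rowOKE7_125 : rowOK chevE7 etaTabE7 certE7 125 = true := by
  decide +kernel

theorem rowOKE7_from84 (r : ℕ) (h1 : 84 ≤ r) (h2 : r < 126) : rowOK chevE7 etaTabE7 certE7 r = true := by
  have h : r = 84 ∨ r = 85 ∨ r = 86 ∨ r = 87 ∨ r = 88 ∨ r = 89 ∨ r = 90 ∨ r = 91 ∨ r = 92 ∨ r = 93 ∨ r = 94 ∨ r = 95 ∨ r = 96 ∨ r = 97 ∨ r = 98 ∨ r = 99 ∨ r = 100 ∨ r = 101 ∨ r = 102 ∨ r = 103 ∨ r = 104 ∨ r = 105 ∨ r = 106 ∨ r = 107 ∨ r = 108 ∨ r = 109 ∨ r = 110 ∨ r = 111 ∨ r = 112 ∨ r = 113 ∨ r = 114 ∨ r = 115 ∨ r = 116 ∨ r = 117 ∨ r = 118 ∨ r = 119 ∨ r = 120 ∨ r = 121 ∨ r = 122 ∨ r = 123 ∨ r = 124 ∨ r = 125 := by omega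
  rcases h with rfl | rfl | rfl | rfl | rfl | rfl | rfl | rfl | rfl | rfl | rfl | rfl | rfl | rfl | rfl | rfl | rfl | rfl | rfl | rfl | rfl | rfl | rfl | rfl | rfl | rfl | rfl | rfl | rfl | rfl | rfl | rfl | rfl | rfl | rfl | rfl | rfl | rfl | rfl | rfl | rfl | rfl
  exacts [rowOKE7_84, rowOKE7_85, rowOKE7_86, rowOKE7_87, rowOKE7_88, rowOKE7_89, rowOKE7_90, rowOKE7_91, rowOKE7_92, rowOKE7_93, rowOKE7_94, rowOKE7_95, rowOKE7_96, rowOKE7_97, rowOKE7_98, rowOKE7_99, rowOKE7_100, rowOKE7_101, rowOKE7_102, rowOKE7_103, rowOKE7_104, rowOKE7_105, rowOKE7_106, rowOKE7_107, rowOKE7_108, rowOKE7_109, rowOKE7_110, rowOKE7_111, rowOKE7_112, rowOKE7_113, rowOKE7_114, rowOKE7_115, rowOKE7_116, rowOKE7_117, rowOKE7_118, rowOKE7_119, rowOKE7_120, rowOKE7_121, rowOKE7_122, rowOKE7_123, rowOKE7_124, rowOKE7_125]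

end Cfsg.Agent.Helper18
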