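import Cfsg.Agent.Lib.Helper18.CommCertData

set_option autoImplicit false
set_option maxRecDepth 100000
set_option Elab.async false

namespace Cfsg.Agent.Helper18

open Cfsg.Lie

theorem rowOKE8_0 : rowOK chevE8 etaTabE8 certE8 0 = true := by
  decide +kernel

theorem rowOKE8_1 : rowOK chevE8 etaTabE8 certE8 1 = true := by
  decide +kernel

theorem rowOKE8_2 : rowOK chevE8 etaTabE8 certE8 2 = true := by
  decide +kernel

theorem rowOKE8_3 : rowOK chevE8 etaTabE8 certE8 3 = true := by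
  decide +kernel

theorem rowOKE8_4 : rowOK chevE8 etaTabE8 certE8 4 = true := by
  decide +kernel

theorem rowOKE8_5 : rowOK chevE8 etaTabE8 certE8 5 = true := by
  decide +kernel

theorem rowOKE8_6 : rowOK chevE8 etaTabE8 certE8 6 = true := by
  decide +kernel

theorem rowOKE8_7 : rowOK chevE8 etaTabE8 certE8 7 = true := by
  decide +kernel

theorem rowOKE8_8 : rowOK chevE8 etaTabE8 certE8 8 = true := by
  decide +kernel

theorem rowOKE8_9 : rowOK chevE8 etaTabE8 certE8 9 = true := by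
  decide +kernel

theorem rowOKE8_10 : rowOK chevE8 etaTabE8 certE8 10 = true := by
  decide +kernel

theorem rowOKE8_11 : rowOK chevE8 etaTabE8 certE8 11 = true := by
  decide +kernel

theorem rowOKE8_12 : rowOK chevE8 etaTabE8 certE8 12 = true := by
  decide +kernel

theorem rowOKE8_13 : rowOK chevE8 etaTabE8 certE8 13 = true := by
  decide +kernel

theorem rowOKE8_14 : rowOK chevE8 etaTabE8 certE8 14 = true := by
  decide +kernel

theorem rowOKE8_from0 (r : ℕ) (h1 : 0 ≤ r) (h2 : r < 15) : rowOK chevE8 etaTabE8 certE8 r = true := by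
  have h : r = 0 ∨ r = 1 ∨ r = 2 ∨ r = 3 ∨ r = 4 ∨ r = 5 ∨ r = 6 ∨ r = 7 ∨ r = 8 ∨ r = 9 ∨ r = 10 ∨ r = 11 ∨ r = 12 ∨ r = 13 ∨ r = 14 := by omega
  rcases h with rfl | rfl | rfl | rfl | rfl | rfl | rfl | rfl | rfl | rfl | rfl | rfl | rfl | rfl | rfl
  exacts [rowOKE8_0, rowOKE8_1, rowOKE8_2, rowOKE8_3, rowOKE8_4, rowOKE8_5, rowOKE8_6, rowOKE8_7, rowOKE8_8, rowOKE8_9, rowOKE8_10, rowOKE8_11, rowOKE8_12, rowOKE8_13, rowOKE8_14]

end Cfsg.Agent.Helper18
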