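import Cfsg.Agent.Lib.Helper18.CommCertData

set_option autoImplicit false
set_option maxRecDepth 100000
set_option Elab.async false

namespace Cfsg.Agent.Helper18

open Cfsg.Lie

theorem rowOKE8_15 : rowOK chevE8 etaTabE8 certE8 15 = true := by
  decide +kernel

theorem rowOKE8_16 : rowOK chevE8 etaTabE8 certE8 16 = true := by
  decide +kernel

theorem rowOKE8_17 : rowOK chevE8 etaTabE8 certE8 17 = true := by
  decide +kernel

theorem rowOKE8_18 : rowOK chevE8 etaTabE8 certE8 18 = true := by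
  decide +kernel

theorem rowOKE8_19 : rowOK chevE8 etaTabE8 certE8 19 = true := by
  decide +kernel

theorem rowOKE8_20 : rowOK chevE8 etaTabE8 certE8 20 = true := by
  decide +kernel

theorem rowOKE8_21 : rowOK chevE8 etaTabE8 certE8 21 = true := by
  decide +kernel

theorem rowOKE8_22 : rowOK chevE8 etaTabE8 certE8 22 = true := by
  decide +kernel

theorem rowOKE8_23 : rowOK chevE8 etaTabE8 certE8 23 = true := by
  decide +kernel

theorem rowOKE8_24 : rowOK chevE8 etaTabE8 certE8 24 = true := by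
  decide +kernel

theorem rowOKE8_25 : rowOK chevE8 etaTabE8 certE8 25 = true := by
  decide +kernel

theorem rowOKE8_26 : rowOK chevE8 etaTabE8 certE8 26 = true := by
  decide +kernel

theorem rowOKE8_27 : rowOK chevE8 etaTabE8 certE8 27 = true := by
  decide +kernel

theorem rowOKE8_28 : rowOK chevE8 etaTabE8 certE8 28 = true := by
  decide +kernel

theorem rowOKE8_29 : rowOK chevE8 etaTabE8 certE8 29 = true := by
  decide +kernel

theorem rowOKE8_from15 (r : ℕ) (h1 : 15 ≤ r) (h2 : r < 30) : rowOK chevE8 etaTabE8 certE8 r = true := by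
  have h : r = 15 ∨ r = 16 ∨ r = 17 ∨ r = 18 ∨ r = 19 ∨ r = 20 ∨ r = 21 ∨ r = 22 ∨ r = 23 ∨ r = 24 ∨ r = 25 ∨ r = 26 ∨ r = 27 ∨ r = 28 ∨ r = 29 := by omega
  rcases h with rfl | rfl | rfl | rfl | rfl | rfl | rfl | rfl | rfl | rfl | rfl | rfl | rfl | rfl | rfl
  exacts [rowOKE8_15, rowOKE8_16, rowOKE8_17, rowOKE8_18, rowOKE8_19, rowOKE8_20, rowOKE8_21, rowOKE8_22, rowOKE8_23, rowOKE8_24, rowOKE8_25, rowOKE8_26, rowOKE8_27, rowOKE8_28, rowOKE8_29]

end Cfsg.Agent.Helper18
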