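import Cfsg.Agent.Lib.Helper18.CommCertData

set_option autoImplicit false
set_option maxRecDepth 100000
set_option Elab.async false

namespace Cfsg.Agent.Helper18

open Cfsg.Lie

theorem rowOKE8_150 : rowOK chevE8 etaTabE8 certE8 150 = true := by
  decide +kernel

theorem rowOKE8_151 : rowOK chevE8 etaTabE8 certE8 151 = true := by
  decide +kernel

theorem rowOKE8_152 : rowOK chevE8 etaTabE8 certE8 152 = true := by
  decide +kernel

theorem rowOKE8_153 : rowOK chevE8 etaTabE8 certE8 153 = true := by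
  decide +kernel

theorem rowOKE8_154 : rowOK chevE8 etaTabE8 certE8 154 = true := by
  decide +kernel

theorem rowOKE8_155 : rowOK chevE8 etaTabE8 certE8 155 = true := by
  decide +kernel

theorem rowOKE8_156 : rowOK chevE8 etaTabE8 certE8 156 = true := by
  decide +kernel

theorem rowOKE8_157 : rowOK chevE8 etaTabE8 certE8 157 = true := by
  decide +kernel

theorem rowOKE8_158 : rowOK chevE8 etaTabE8 certE8 158 = true := by
  decide +kernel

theorem rowOKE8_159 : rowOK chevE8 etaTabE8 certE8 159 = true := by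
  decide +kernel

theorem rowOKE8_160 : rowOK chevE8 etaTabE8 certE8 160 = true := by
  decide +kernel

theorem rowOKE8_161 : rowOK chevE8 etaTabE8 certE8 161 = true := by
  decide +kernel

theorem rowOKE8_162 : rowOK chevE8 etaTabE8 certE8 162 = true := by
  decide +kernel

theorem rowOKE8_163 : rowOK chevE8 etaTabE8 certE8 163 = true := by
  decide +kernel

theorem rowOKE8_164 : rowOK chevE8 etaTabE8 certE8 164 = true := by
  decide +kernel

theorem rowOKE8_from150 (r : ℕ) (h1 : 150 ≤ r) (h2 : r < 165) : rowOK chevE8 etaTabE8 certE8 r = true := by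
  have h : r = 150 ∨ r = 151 ∨ r = 152 ∨ r = 153 ∨ r = 154 ∨ r = 155 ∨ r = 156 ∨ r = 157 ∨ r = 158 ∨ r = 159 ∨ r = 160 ∨ r = 161 ∨ r = 162 ∨ r = 163 ∨ r = 164 := by omega
  rcases h with rfl | rfl | rfl | rfl | rfl | rfl | rfl | rfl | rfl | rfl | rfl | rfl | rfl | rfl | rfl
  exacts [rowOKE8_150, rowOKE8_151, rowOKE8_152, rowOKE8_153, rowOKE8_154, rowOKE8_155, rowOKE8_156, rowOKE8_157, rowOKE8_158, rowOKE8_159, rowOKE8_160, rowOKE8_161, rowOKE8_162, rowOKE8_163, rowOKE8_164]

end Cfsg.Agent.Helper18
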