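import Cfsg.Agent.Lib.Helper18.CommCertData

set_option autoImplicit false
set_option maxRecDepth 100000
set_option Elab.async false

namespace Cfsg.Agent.Helper18

open Cfsg.Lie

theorem rowOKE8_165 : rowOK chevE8 etaTabE8 certE8 165 = true := by
  decide +kernel

theorem rowOKE8_166 : rowOK chevE8 etaTabE8 certE8 166 = true := by
  decide +kernel

theorem rowOKE8_167 : rowOK chevE8 etaTabE8 certE8 167 = true := by
  decide +kernel

theorem rowOKE8_168 : rowOK chevE8 etaTabE8 certE8 168 = true := by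
  decide +kernel

theorem rowOKE8_169 : rowOK chevE8 etaTabE8 certE8 169 = true := by
  decide +kernel

theorem rowOKE8_170 : rowOK chevE8 etaTabE8 certE8 170 = true := by
  decide +kernel

theorem rowOKE8_171 : rowOK chevE8 etaTabE8 certE8 171 = true := by
  decide +kernel

theorem rowOKE8_172 : rowOK chevE8 etaTabE8 certE8 172 = true := by
  decide +kernel

theorem rowOKE8_173 : rowOK chevE8 etaTabE8 certE8 173 = true := by
  decide +kernel

theorem rowOKE8_174 : rowOK chevE8 etaTabE8 certE8 174 = true := by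
  decide +kernel

theorem rowOKE8_175 : rowOK chevE8 etaTabE8 certE8 175 = true := by
  decide +kernel

theorem rowOKE8_176 : rowOK chevE8 etaTabE8 certE8 176 = true := by
  decide +kernel

theorem rowOKE8_177 : rowOK chevE8 etaTabE8 certE8 177 = true := by
  decide +kernel

theorem rowOKE8_178 : rowOK chevE8 etaTabE8 certE8 178 = true := by
  decide +kernel

theorem rowOKE8_179 : rowOK chevE8 etaTabE8 certE8 179 = true := by
  decide +kernel

theorem rowOKE8_from165 (r : ℕ) (h1 : 165 ≤ r) (h2 : r < 180) : rowOK chevE8 etaTabE8 certE8 r = true := by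
  have h : r = 165 ∨ r = 166 ∨ r = 167 ∨ r = 168 ∨ r = 169 ∨ r = 170 ∨ r = 171 ∨ r = 172 ∨ r = 173 ∨ r = 174 ∨ r = 175 ∨ r = 176 ∨ r = 177 ∨ r = 178 ∨ r = 179 := by omega
  rcases h with rfl | rfl | rfl | rfl | rfl | rfl | rfl | rfl | rfl | rfl | rfl | rfl | rfl | rfl | rfl
  exacts [rowOKE8_165, rowOKE8_166, rowOKE8_167, rowOKE8_168, rowOKE8_169, rowOKE8_170, rowOKE8_171, rowOKE8_172, rowOKE8_173, rowOKE8_174, rowOKE8_175, rowOKE8_176, rowOKE8_177, rowOKE8_178, rowOKE8_179]

end Cfsg.Agent.Helper18
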