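import Cfsg.Agent.Lib.Helper18.CommCertData

set_option autoImplicit false
set_option maxRecDepth 100000
set_option Elab.async false

namespace Cfsg.Agent.Helper18

open Cfsg.Lie

theorem rowOKE8_180 : rowOK chevE8 etaTabE8 certE8 180 = true := by
  decide +kernel

theorem rowOKE8_181 : rowOK chevE8 etaTabE8 certE8 181 = true := by
  decide +kernel

theorem rowOKE8_182 : rowOK chevE8 etaTabE8 certE8 182 = true := by
  decide +kernel

theorem rowOKE8_183 : rowOK chevE8 etaTabE8 certE8 183 = true := by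
  decide +kernel

theorem rowOKE8_184 : rowOK chevE8 etaTabE8 certE8 184 = true := by
  decide +kernel

theorem rowOKE8_185 : rowOK chevE8 etaTabE8 certE8 185 = true := by
  decide +kernel

theorem rowOKE8_186 : rowOK chevE8 etaTabE8 certE8 186 = true := by
  decide +kernel

theorem rowOKE8_187 : rowOK chevE8 etaTabE8 certE8 187 = true := by
  decide +kernel

theorem rowOKE8_188 : rowOK chevE8 etaTabE8 certE8 188 = true := by
  decide +kernel

theorem rowOKE8_189 : rowOK chevE8 etaTabE8 certE8 189 = true := by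
  decide +kernel

theorem rowOKE8_190 : rowOK chevE8 etaTabE8 certE8 190 = true := by
  decide +kernel

theorem rowOKE8_191 : rowOK chevE8 etaTabE8 certE8 191 = true := by
  decide +kernel

theorem rowOKE8_192 : rowOK chevE8 etaTabE8 certE8 192 = true := by
  decide +kernel

theorem rowOKE8_193 : rowOK chevE8 etaTabE8 certE8 193 = true := by
  decide +kernel

theorem rowOKE8_194 : rowOK chevE8 etaTabE8 certE8 194 = true := by
  decide +kernel

theorem rowOKE8_from180 (r : ℕ) (h1 : 180 ≤ r) (h2 : r < 195) : rowOK chevE8 etaTabE8 certE8 r = true := by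
  have h : r = 180 ∨ r = 181 ∨ r = 182 ∨ r = 183 ∨ r = 184 ∨ r = 185 ∨ r = 186 ∨ r = 187 ∨ r = 188 ∨ r = 189 ∨ r = 190 ∨ r = 191 ∨ r = 192 ∨ r = 193 ∨ r = 194 := by omega
  rcases h with rfl | rfl | rfl | rfl | rfl | rfl | rfl | rfl | rfl | rfl | rfl | rfl | rfl | rfl | rfl
  exacts [rowOKE8_180, rowOKE8_181, rowOKE8_182, rowOKE8_183, rowOKE8_184, rowOKE8_185, rowOKE8_186, rowOKE8_187, rowOKE8_188, rowOKE8_189, rowOKE8_190, rowOKE8_191, rowOKE8_192, rowOKE8_193, rowOKE8_194]

end Cfsg.Agent.Helper18
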