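import Cfsg.Agent.Lib.Helper18.CommCertData

set_option autoImplicit false
set_option maxRecDepth 100000
set_option Elab.async false

namespace Cfsg.Agent.Helper18

open Cfsg.Lie

theorem rowOKE8_195 : rowOK chevE8 etaTabE8 certE8 195 = true := by
  decide +kernel

theorem rowOKE8_196 : rowOK chevE8 etaTabE8 certE8 196 = true := by
  decide +kernel

theorem rowOKE8_197 : rowOK chevE8 etaTabE8 certE8 197 = true := by
  decide +kernel

theorem rowOKE8_198 : rowOK chevE8 etaTabE8 certE8 198 = true := by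
  decide +kernel

theorem rowOKE8_199 : rowOK chevE8 etaTabE8 certE8 199 = true := by
  decide +kernel

theorem rowOKE8_200 : rowOK chevE8 etaTabE8 certE8 200 = true := by
  decide +kernel

theorem rowOKE8_201 : rowOK chevE8 etaTabE8 certE8 201 = true := by
  decide +kernel

theorem rowOKE8_202 : rowOK chevE8 etaTabE8 certE8 202 = true := by
  decide +kernel

theorem rowOKE8_203 : rowOK chevE8 etaTabE8 certE8 203 = true := by
  decide +kernel

theorem rowOKE8_204 : rowOK chevE8 etaTabE8 certE8 204 = true := by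
  decide +kernel

theorem rowOKE8_205 : rowOK chevE8 etaTabE8 certE8 205 = true := by
  decide +kernel

theorem rowOKE8_206 : rowOK chevE8 etaTabE8 certE8 206 = true := by
  decide +kernel

theorem rowOKE8_207 : rowOK chevE8 etaTabE8 certE8 207 = true := by
  decide +kernel

theorem rowOKE8_208 : rowOK chevE8 etaTabE8 certE8 208 = true := by
  decide +kernel

theorem rowOKE8_209 : rowOK chevE8 etaTabE8 certE8 209 = true := by
  decide +kernel

theorem rowOKE8_from195 (r : ℕ) (h1 : 195 ≤ r) (h2 : r < 210) : rowOK chevE8 etaTabE8 certE8 r = true := by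
  have h : r = 195 ∨ r = 196 ∨ r = 197 ∨ r = 198 ∨ r = 199 ∨ r = 200 ∨ r = 201 ∨ r = 202 ∨ r = 203 ∨ r = 204 ∨ r = 205 ∨ r = 206 ∨ r = 207 ∨ r = 208 ∨ r = 209 := by omega
  rcases h with rfl | rfl | rfl | rfl | rfl | rfl | rfl | rfl | rfl | rfl | rfl | rfl | rfl | rfl | rfl
  exacts [rowOKE8_195, rowOKE8_196, rowOKE8_197, rowOKE8_198, rowOKE8_199, rowOKE8_200, rowOKE8_201, rowOKE8_202, rowOKE8_203, rowOKE8_204, rowOKE8_205, rowOKE8_206, rowOKE8_207, rowOKE8_208, rowOKE8_209]

end Cfsg.Agent.Helper18
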