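import Cfsg.Agent.Lib.Helper18.CommCertData

set_option autoImplicit false
set_option maxRecDepth 100000
set_option Elab.async false

namespace Cfsg.Agent.Helper18

open Cfsg.Lie

theorem rowOKE8_210 : rowOK chevE8 etaTabE8 certE8 210 = true := by
  decide +kernel

theorem rowOKE8_211 : rowOK chevE8 etaTabE8 certE8 211 = true := by
  decide +kernel

theorem rowOKE8_212 : rowOK chevE8 etaTabE8 certE8 212 = true := by
  decide +kernel

theorem rowOKE8_213 : rowOK chevE8 etaTabE8 certE8 213 = true := by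
  decide +kernel

theorem rowOKE8_214 : rowOK chevE8 etaTabE8 certE8 214 = true := by
  decide +kernel

theorem rowOKE8_215 : rowOK chevE8 etaTabE8 certE8 215 = true := by
  decide +kernel

theorem rowOKE8_216 : rowOK chevE8 etaTabE8 certE8 216 = true := by
  decide +kernel

theorem rowOKE8_217 : rowOK chevE8 etaTabE8 certE8 217 = true := by
  decide +kernel

theorem rowOKE8_218 : rowOK chevE8 etaTabE8 certE8 218 = true := by
  decide +kernel

theorem rowOKE8_219 : rowOK chevE8 etaTabE8 certE8 219 = true := by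
  decide +kernel

theorem rowOKE8_220 : rowOK chevE8 etaTabE8 certE8 220 = true := by
  decide +kernel

theorem rowOKE8_221 : rowOK chevE8 etaTabE8 certE8 221 = true := by
  decide +kernel

theorem rowOKE8_222 : rowOK chevE8 etaTabE8 certE8 222 = true := by
  decide +kernel

theorem rowOKE8_223 : rowOK chevE8 etaTabE8 certE8 223 = true := by
  decide +kernel

theorem rowOKE8_224 : rowOK chevE8 etaTabE8 certE8 224 = true := by
  decide +kernel

theorem rowOKE8_from210 (r : ℕ) (h1 : 210 ≤ r) (h2 : r < 225) : rowOK chevE8 etaTabE8 certE8 r = true := by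
  have h : r = 210 ∨ r = 211 ∨ r = 212 ∨ r = 213 ∨ r = 214 ∨ r = 215 ∨ r = 216 ∨ r = 217 ∨ r = 218 ∨ r = 219 ∨ r = 220 ∨ r = 221 ∨ r = 222 ∨ r = 223 ∨ r = 224 := by omega
  rcases h with rfl | rfl | rfl | rfl | rfl | rfl | rfl | rfl | rfl | rfl | rfl | rfl | rfl | rfl | rfl
  exacts [rowOKE8_210, rowOKE8_211, rowOKE8_212, rowOKE8_213, rowOKE8_214, rowOKE8_215, rowOKE8_216, rowOKE8_217, rowOKE8_218, rowOKE8_219, rowOKE8_220, rowOKE8_221, rowOKE8_222, rowOKE8_223, rowOKE8_224]

end Cfsg.Agent.Helper18
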