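import Cfsg.Agent.Lib.Helper18.CommCertData

set_option autoImplicit false
set_option maxRecDepth 100000
set_option Elab.async false

namespace Cfsg.Agent.Helper18

open Cfsg.Lie

theorem rowOKE8_225 : rowOK chevE8 etaTabE8 certE8 225 = true := by
  decide +kernel

theorem rowOKE8_226 : rowOK chevE8 etaTabE8 certE8 226 = true := by
  decide +kernel

theorem rowOKE8_227 : rowOK chevE8 etaTabE8 certE8 227 = true := by
  decide +kernel

theorem rowOKE8_228 : rowOK chevE8 etaTabE8 certE8 228 = true := by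
  decide +kernel

theorem rowOKE8_229 : rowOK chevE8 etaTabE8 certE8 229 = true := by
  decide +kernel

theorem rowOKE8_230 : rowOK chevE8 etaTabE8 certE8 230 = true := by
  decide +kernel

theorem rowOKE8_231 : rowOK chevE8 etaTabE8 certE8 231 = true := by
  decide +kernel

theorem rowOKE8_232 : rowOK chevE8 etaTabE8 certE8 232 = true := by
  decide +kernel

theorem rowOKE8_233 : rowOK chevE8 etaTabE8 certE8 233 = true := by
  decide +kernel

theorem rowOKE8_234 : rowOK chevE8 etaTabE8 certE8 234 = true := by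
  decide +kernel

theorem rowOKE8_235 : rowOK chevE8 etaTabE8 certE8 235 = true := by
  decide +kernel

theorem rowOKE8_236 : rowOK chevE8 etaTabE8 certE8 236 = true := by
  decide +kernel

theorem rowOKE8_237 : rowOK chevE8 etaTabE8 certE8 237 = true := by
  decide +kernel

theorem rowOKE8_238 : rowOK chevE8 etaTabE8 certE8 238 = true := by
  decide +kernel

theorem rowOKE8_239 : rowOK chevE8 etaTabE8 certE8 239 = true := by
  decide +kernel

theorem rowOKE8_from225 (r : ℕ) (h1 : 225 ≤ r) (h2 : r < 240) : rowOK chevE8 etaTabE8 certE8 r = true := by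
  have h : r = 225 ∨ r = 226 ∨ r = 227 ∨ r = 228 ∨ r = 229 ∨ r = 230 ∨ r = 231 ∨ r = 232 ∨ r = 233 ∨ r = 234 ∨ r = 235 ∨ r = 236 ∨ r = 237 ∨ r = 238 ∨ r = 239 := by omega
  rcases h with rfl | rfl | rfl | rfl | rfl | rfl | rfl | rfl | rfl | rfl | rfl | rfl | rfl | rfl | rfl
  exacts [rowOKE8_225, rowOKE8_226, rowOKE8_227, rowOKE8_228, rowOKE8_229, rowOKE8_230, rowOKE8_231, rowOKE8_232, rowOKE8_233, rowOKE8_234, rowOKE8_235, rowOKE8_236, rowOKE8_237, rowOKE8_238, rowOKE8_239]

end Cfsg.Agent.Helper18
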