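import Cfsg.Agent.Lib.Helper18.CommCertData

set_option autoImplicit false
set_option maxRecDepth 100000
set_option Elab.async false

namespace Cfsg.Agent.Helper18

open Cfsg.Lie

theorem rowOKE8_30 : rowOK chevE8 etaTabE8 certE8 30 = true := by
  decide +kernel

theorem rowOKE8_31 : rowOK chevE8 etaTabE8 certE8 31 = true := by
  decide +kernel

theorem rowOKE8_32 : rowOK chevE8 etaTabE8 certE8 32 = true := by
  decide +kernel

theorem rowOKE8_33 : rowOK chevE8 etaTabE8 certE8 33 = true := by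
  decide +kernel

theorem rowOKE8_34 : rowOK chevE8 etaTabE8 certE8 34 = true := by
  decide +kernel

theorem rowOKE8_35 : rowOK chevE8 etaTabE8 certE8 35 = true := by
  decide +kernel

theorem rowOKE8_36 : rowOK chevE8 etaTabE8 certE8 36 = true := by
  decide +kernel

theorem rowOKE8_37 : rowOK chevE8 etaTabE8 certE8 37 = true := by
  decide +kernel

theorem rowOKE8_38 : rowOK chevE8 etaTabE8 certE8 38 = true := by
  decide +kernel

theorem rowOKE8_39 : rowOK chevE8 etaTabE8 certE8 39 = true := by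
  decide +kernel

theorem rowOKE8_40 : rowOK chevE8 etaTabE8 certE8 40 = true := by
  decide +kernel

theorem rowOKE8_41 : rowOK chevE8 etaTabE8 certE8 41 = true := by
  decide +kernel

theorem rowOKE8_42 : rowOK chevE8 etaTabE8 certE8 42 = true := by
  decide +kernel

theorem rowOKE8_43 : rowOK chevE8 etaTabE8 certE8 43 = true := by
  decide +kernel

theorem rowOKE8_44 : rowOK chevE8 etaTabE8 certE8 44 = true := by
  decide +kernel

theorem rowOKE8_from30 (r : ℕ) (h1 : 30 ≤ r) (h2 : r < 45) : rowOK chevE8 etaTabE8 certE8 r = true := by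
  have h : r = 30 ∨ r = 31 ∨ r = 32 ∨ r = 33 ∨ r = 34 ∨ r = 35 ∨ r = 36 ∨ r = 37 ∨ r = 38 ∨ r = 39 ∨ r = 40 ∨ r = 41 ∨ r = 42 ∨ r = 43 ∨ r = 44 := by omega
  rcases h with rfl | rfl | rfl | rfl | rfl | rfl | rfl | rfl | rfl | rfl | rfl | rfl | rfl | rfl | rfl
  exacts [rowOKE8_30, rowOKE8_31, rowOKE8_32, rowOKE8_33, rowOKE8_34, rowOKE8_35, rowOKE8_36, rowOKE8_37, rowOKE8_38, rowOKE8_39, rowOKE8_40, rowOKE8_41, rowOKE8_42, rowOKE8_43, rowOKE8_44]

end Cfsg.Agent.Helper18
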