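import Cfsg.Agent.Lib.Helper18.CommCertData

set_option autoImplicit false
set_option maxRecDepth 100000
set_option Elab.async false

namespace Cfsg.Agent.Helper18

open Cfsg.Lie

theorem rowOKE8_45 : rowOK chevE8 etaTabE8 certE8 45 = true := by
  decide +kernel

theorem rowOKE8_46 : rowOK chevE8 etaTabE8 certE8 46 = true := by
  decide +kernel

theorem rowOKE8_47 : rowOK chevE8 etaTabE8 certE8 47 = true := by
  decide +kernel

theorem rowOKE8_48 : rowOK chevE8 etaTabE8 certE8 48 = true := by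
  decide +kernel

theorem rowOKE8_49 : rowOK chevE8 etaTabE8 certE8 49 = true := by
  decide +kernel

theorem rowOKE8_50 : rowOK chevE8 etaTabE8 certE8 50 = true := by
  decide +kernel

theorem rowOKE8_51 : rowOK chevE8 etaTabE8 certE8 51 = true := by
  decide +kernel

theorem rowOKE8_52 : rowOK chevE8 etaTabE8 certE8 52 = true := by
  decide +kernel

theorem rowOKE8_53 : rowOK chevE8 etaTabE8 certE8 53 = true := by
  decide +kernel

theorem rowOKE8_54 : rowOK chevE8 etaTabE8 certE8 54 = true := by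
  decide +kernel

theorem rowOKE8_55 : rowOK chevE8 etaTabE8 certE8 55 = true := by
  decide +kernel

theorem rowOKE8_56 : rowOK chevE8 etaTabE8 certE8 56 = true := by
  decide +kernel

theorem rowOKE8_57 : rowOK chevE8 etaTabE8 certE8 57 = true := by
  decide +kernel

theorem rowOKE8_58 : rowOK chevE8 etaTabE8 certE8 58 = true := by
  decide +kernel

theorem rowOKE8_59 : rowOK chevE8 etaTabE8 certE8 59 = true := by
  decide +kernel

theorem rowOKE8_from45 (r : ℕ) (h1 : 45 ≤ r) (h2 : r < 60) : rowOK chevE8 etaTabE8 certE8 r = true := by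
  have h : r = 45 ∨ r = 46 ∨ r = 47 ∨ r = 48 ∨ r = 49 ∨ r = 50 ∨ r = 51 ∨ r = 52 ∨ r = 53 ∨ r = 54 ∨ r = 55 ∨ r = 56 ∨ r = 57 ∨ r = 58 ∨ r = 59 := by omega
  rcases h with rfl | rfl | rfl | rfl | rfl | rfl | rfl | rfl | rfl | rfl | rfl | rfl | rfl | rfl | rfl
  exacts [rowOKE8_45, rowOKE8_46, rowOKE8_47, rowOKE8_48, rowOKE8_49, rowOKE8_50, rowOKE8_51, rowOKE8_52, rowOKE8_53, rowOKE8_54, rowOKE8_55, rowOKE8_56, rowOKE8_57, rowOKE8_58, rowOKE8_59]

end Cfsg.Agent.Helper18
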