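import Cfsg.Agent.Lib.Helper18.CommCertData

set_option autoImplicit false
set_option maxRecDepth 100000
set_option Elab.async false

namespace Cfsg.Agent.Helper18

open Cfsg.Lie

theorem rowOKE8_60 : rowOK chevE8 etaTabE8 certE8 60 = true := by
  decide +kernel

theorem rowOKE8_61 : rowOK chevE8 etaTabE8 certE8 61 = true := by
  decide +kernel

theorem rowOKE8_62 : rowOK chevE8 etaTabE8 certE8 62 = true := by
  decide +kernel

theorem rowOKE8_63 : rowOK chevE8 etaTabE8 certE8 63 = true := by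
  decide +kernel

theorem rowOKE8_64 : rowOK chevE8 etaTabE8 certE8 64 = true := by
  decide +kernel

theorem rowOKE8_65 : rowOK chevE8 etaTabE8 certE8 65 = true := by
  decide +kernel

theorem rowOKE8_66 : rowOK chevE8 etaTabE8 certE8 66 = true := by
  decide +kernel

theorem rowOKE8_67 : rowOK chevE8 etaTabE8 certE8 67 = true := by
  decide +kernel

theorem rowOKE8_68 : rowOK chevE8 etaTabE8 certE8 68 = true := by
  decide +kernel

theorem rowOKE8_69 : rowOK chevE8 etaTabE8 certE8 69 = true := by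
  decide +kernel

theorem rowOKE8_70 : rowOK chevE8 etaTabE8 certE8 70 = true := by
  decide +kernel

theorem rowOKE8_71 : rowOK chevE8 etaTabE8 certE8 71 = true := by
  decide +kernel

theorem rowOKE8_72 : rowOK chevE8 etaTabE8 certE8 72 = true := by
  decide +kernel

theorem rowOKE8_73 : rowOK chevE8 etaTabE8 certE8 73 = true := by
  decide +kernel

theorem rowOKE8_74 : rowOK chevE8 etaTabE8 certE8 74 = true := by
  decide +kernel

theorem rowOKE8_from60 (r : ℕ) (h1 : 60 ≤ r) (h2 : r < 75) : rowOK chevE8 etaTabE8 certE8 r = true := by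
  have h : r = 60 ∨ r = 61 ∨ r = 62 ∨ r = 63 ∨ r = 64 ∨ r = 65 ∨ r = 66 ∨ r = 67 ∨ r = 68 ∨ r = 69 ∨ r = 70 ∨ r = 71 ∨ r = 72 ∨ r = 73 ∨ r = 74 := by omega
  rcases h with rfl | rfl | rfl | rfl | rfl | rfl | rfl | rfl | rfl | rfl | rfl | rfl | rfl | rfl | rfl
  exacts [rowOKE8_60, rowOKE8_61, rowOKE8_62, rowOKE8_63, rowOKE8_64, rowOKE8_65, rowOKE8_66, rowOKE8_67, rowOKE8_68, rowOKE8_69, rowOKE8_70, rowOKE8_71, rowOKE8_72, rowOKE8_73, rowOKE8_74]

end Cfsg.Agent.Helper18
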