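import Cfsg.Agent.Lib.Helper18.CommCertData

set_option autoImplicit false
set_option maxRecDepth 100000
set_option Elab.async false

namespace Cfsg.Agent.Helper18

open Cfsg.Lie

theorem rowOKE8_75 : rowOK chevE8 etaTabE8 certE8 75 = true := by
  decide +kernel

theorem rowOKE8_76 : rowOK chevE8 etaTabE8 certE8 76 = true := by
  decide +kernel

theorem rowOKE8_77 : rowOK chevE8 etaTabE8 certE8 77 = true := by
  decide +kernel

theorem rowOKE8_78 : rowOK chevE8 etaTabE8 certE8 78 = true := by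
  decide +kernel

theorem rowOKE8_79 : rowOK chevE8 etaTabE8 certE8 79 = true := by
  decide +kernel

theorem rowOKE8_80 : rowOK chevE8 etaTabE8 certE8 80 = true := by
  decide +kernel

theorem rowOKE8_81 : rowOK chevE8 etaTabE8 certE8 81 = true := by
  decide +kernel

theorem rowOKE8_82 : rowOK chevE8 etaTabE8 certE8 82 = true := by
  decide +kernel

theorem rowOKE8_83 : rowOK chevE8 etaTabE8 certE8 83 = true := by
  decide +kernel

theorem rowOKE8_84 : rowOK chevE8 etaTabE8 certE8 84 = true := by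
  decide +kernel

theorem rowOKE8_85 : rowOK chevE8 etaTabE8 certE8 85 = true := by
  decide +kernel

theorem rowOKE8_86 : rowOK chevE8 etaTabE8 certE8 86 = true := by
  decide +kernel

theorem rowOKE8_87 : rowOK chevE8 etaTabE8 certE8 87 = true := by
  decide +kernel

theorem rowOKE8_88 : rowOK chevE8 etaTabE8 certE8 88 = true := by
  decide +kernel

theorem rowOKE8_89 : rowOK chevE8 etaTabE8 certE8 89 = true := by
  decide +kernel

theorem rowOKE8_from75 (r : ℕ) (h1 : 75 ≤ r) (h2 : r < 90) : rowOK chevE8 etaTabE8 certE8 r = true := by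
  have h : r = 75 ∨ r = 76 ∨ r = 77 ∨ r = 78 ∨ r = 79 ∨ r = 80 ∨ r = 81 ∨ r = 82 ∨ r = 83 ∨ r = 84 ∨ r = 85 ∨ r = 86 ∨ r = 87 ∨ r = 88 ∨ r = 89 := by omega
  rcases h with rfl | rfl | rfl | rfl | rfl | rfl | rfl | rfl | rfl | rfl | rfl | rfl | rfl | rfl | rfl
  exacts [rowOKE8_75, rowOKE8_76, rowOKE8_77, rowOKE8_78, rowOKE8_79, rowOKE8_80, rowOKE8_81, rowOKE8_82, rowOKE8_83, rowOKE8_84, rowOKE8_85, rowOKE8_86, rowOKE8_87, rowOKE8_88, rowOKE8_89]

end Cfsg.Agent.Helper18
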