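import Cfsg.Agent.Lib.Helper18.CommCertData

set_option autoImplicit false
set_option maxRecDepth 100000
set_option Elab.async false

namespace Cfsg.Agent.Helper18

open Cfsg.Lie

theorem rowOKE8_90 : rowOK chevE8 etaTabE8 certE8 90 = true := by
  decide +kernel

theorem rowOKE8_91 : rowOK chevE8 etaTabE8 certE8 91 = true := by
  decide +kernel

theorem rowOKE8_92 : rowOK chevE8 etaTabE8 certE8 92 = true := by
  decide +kernel

theorem rowOKE8_93 : rowOK chevE8 etaTabE8 certE8 93 = true := by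
  decide +kernel

theorem rowOKE8_94 : rowOK chevE8 etaTabE8 certE8 94 = true := by
  decide +kernel

theorem rowOKE8_95 : rowOK chevE8 etaTabE8 certE8 95 = true := by
  decide +kernel

theorem rowOKE8_96 : rowOK chevE8 etaTabE8 certE8 96 = true := by
  decide +kernel

theorem rowOKE8_97 : rowOK chevE8 etaTabE8 certE8 97 = true := by
  decide +kernel

theorem rowOKE8_98 : rowOK chevE8 etaTabE8 certE8 98 = true := by
  decide +kernel

theorem rowOKE8_99 : rowOK chevE8 etaTabE8 certE8 99 = true := by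
  decide +kernel

theorem rowOKE8_100 : rowOK chevE8 etaTabE8 certE8 100 = true := by
  decide +kernel

theorem rowOKE8_101 : rowOK chevE8 etaTabE8 certE8 101 = true := by
  decide +kernel

theorem rowOKE8_102 : rowOK chevE8 etaTabE8 certE8 102 = true := by
  decide +kernel

theorem rowOKE8_103 : rowOK chevE8 etaTabE8 certE8 103 = true := by
  decide +kernel

theorem rowOKE8_104 : rowOK chevE8 etaTabE8 certE8 104 = true := by
  decide +kernel

theorem rowOKE8_from90 (r : ℕ) (h1 : 90 ≤ r) (h2 : r < 105) : rowOK chevE8 etaTabE8 certE8 r = true := by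
  have h : r = 90 ∨ r = 91 ∨ r = 92 ∨ r = 93 ∨ r = 94 ∨ r = 95 ∨ r = 96 ∨ r = 97 ∨ r = 98 ∨ r = 99 ∨ r = 100 ∨ r = 101 ∨ r = 102 ∨ r = 103 ∨ r = 104 := by omega
  rcases h with rfl | rfl | rfl | rfl | rfl | rfl | rfl | rfl | rfl | rfl | rfl | rfl | rfl | rfl | rfl
  exacts [rowOKE8_90, rowOKE8_91, rowOKE8_92, rowOKE8_93, rowOKE8_94, rowOKE8_95, rowOKE8_96, rowOKE8_97, rowOKE8_98, rowOKE8_99, rowOKE8_100, rowOKE8_101, rowOKE8_102, rowOKE8_103, rowOKE8_104]

end Cfsg.Agent.Helper18
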