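import Cfsg.Agent.Lib.Helper18.CommCertData

set_option autoImplicit false
set_option maxRecDepth 100000
set_option Elab.async false

namespace Cfsg.Agent.Helper18

open Cfsg.Lie

theorem rowOKE8_105 : rowOK chevE8 etaTabE8 certE8 105 = true := by
  decide +kernel

theorem rowOKE8_106 : rowOK chevE8 etaTabE8 certE8 106 = true := by
  decide +kernel

theorem rowOKE8_107 : rowOK chevE8 etaTabE8 certE8 107 = true := by
  decide +kernel

theorem rowOKE8_108 : rowOK chevE8 etaTabE8 certE8 108 = true := by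
  decide +kernel

theorem rowOKE8_109 : rowOK chevE8 etaTabE8 certE8 109 = true := by
  decide +kernel

theorem rowOKE8_110 : rowOK chevE8 etaTabE8 certE8 110 = true := by
  decide +kernel

theorem rowOKE8_111 : rowOK chevE8 etaTabE8 certE8 111 = true := by
  decide +kernel

theorem rowOKE8_112 : rowOK chevE8 etaTabE8 certE8 112 = true := by
  decide +kernel

theorem rowOKE8_113 : rowOK chevE8 etaTabE8 certE8 113 = true := by
  decide +kernel

theorem rowOKE8_114 : rowOK chevE8 etaTabE8 certE8 114 = true := by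
  decide +kernel

theorem rowOKE8_115 : rowOK chevE8 etaTabE8 certE8 115 = true := by
  decide +kernel

theorem rowOKE8_116 : rowOK chevE8 etaTabE8 certE8 116 = true := by
  decide +kernel

theorem rowOKE8_117 : rowOK chevE8 etaTabE8 certE8 117 = true := by
  decide +kernel

theorem rowOKE8_118 : rowOK chevE8 etaTabE8 certE8 118 = true := by
  decide +kernel

theorem rowOKE8_119 : rowOK chevE8 etaTabE8 certE8 119 = true := by
  decide +kernel

theorem rowOKE8_from105 (r : ℕ) (h1 : 105 ≤ r) (h2 : r < 120) : rowOK chevE8 etaTabE8 certE8 r = true := by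
  have h : r = 105 ∨ r = 106 ∨ r = 107 ∨ r = 108 ∨ r = 109 ∨ r = 110 ∨ r = 111 ∨ r = 112 ∨ r = 113 ∨ r = 114 ∨ r = 115 ∨ r = 116 ∨ r = 117 ∨ r = 118 ∨ r = 119 := by omega
  rcases h with rfl | rfl | rfl | rfl | rfl | rfl | rfl | rfl | rfl | rfl | rfl | rfl | rfl | rfl | rfl
  exacts [rowOKE8_105, rowOKE8_106, rowOKE8_107, rowOKE8_108, rowOKE8_109, rowOKE8_110, rowOKE8_111, rowOKE8_112, rowOKE8_113, rowOKE8_114, rowOKE8_115, rowOKE8_116, rowOKE8_117, rowOKE8_118, rowOKE8_119]

end Cfsg.Agent.Helper18
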