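import Cfsg.Agent.Lib.Helper18.CommCertData

set_option autoImplicit false
set_option maxRecDepth 100000
set_option Elab.async false

namespace Cfsg.Agent.Helper18

open Cfsg.Lie

theorem rowOKE8_120 : rowOK chevE8 etaTabE8 certE8 120 = true := by
  decide +kernel

theorem rowOKE8_121 : rowOK chevE8 etaTabE8 certE8 121 = true := by
  decide +kernel

theorem rowOKE8_122 : rowOK chevE8 etaTabE8 certE8 122 = true := by
  decide +kernel

theorem rowOKE8_123 : rowOK chevE8 etaTabE8 certE8 123 = true := by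
  decide +kernel

theorem rowOKE8_124 : rowOK chevE8 etaTabE8 certE8 124 = true := by
  decide +kernel

theorem rowOKE8_125 : rowOK chevE8 etaTabE8 certE8 125 = true := by
  decide +kernel

theorem rowOKE8_126 : rowOK chevE8 etaTabE8 certE8 126 = true := by
  decide +kernel

theorem rowOKE8_127 : rowOK chevE8 etaTabE8 certE8 127 = true := by
  decide +kernel

theorem rowOKE8_128 : rowOK chevE8 etaTabE8 certE8 128 = true := by
  decide +kernel

theorem rowOKE8_129 : rowOK chevE8 etaTabE8 certE8 129 = true := by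
  decide +kernel

theorem rowOKE8_130 : rowOK chevE8 etaTabE8 certE8 130 = true := by
  decide +kernel

theorem rowOKE8_131 : rowOK chevE8 etaTabE8 certE8 131 = true := by
  decide +kernel

theorem rowOKE8_132 : rowOK chevE8 etaTabE8 certE8 132 = true := by
  decide +kernel

theorem rowOKE8_133 : rowOK chevE8 etaTabE8 certE8 133 = true := by
  decide +kernel

theorem rowOKE8_134 : rowOK chevE8 etaTabE8 certE8 134 = true := by
  decide +kernel

theorem rowOKE8_from120 (r : ℕ) (h1 : 120 ≤ r) (h2 : r < 135) : rowOK chevE8 etaTabE8 certE8 r = true := by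
  have h : r = 120 ∨ r = 121 ∨ r = 122 ∨ r = 123 ∨ r = 124 ∨ r = 125 ∨ r = 126 ∨ r = 127 ∨ r = 128 ∨ r = 129 ∨ r = 130 ∨ r = 131 ∨ r = 132 ∨ r = 133 ∨ r = 134 := by omega
  rcases h with rfl | rfl | rfl | rfl | rfl | rfl | rfl | rfl | rfl | rfl | rfl | rfl | rfl | rfl | rfl
  exacts [rowOKE8_120, rowOKE8_121, rowOKE8_122, rowOKE8_123, rowOKE8_124, rowOKE8_125, rowOKE8_126, rowOKE8_127, rowOKE8_128, rowOKE8_129, rowOKE8_130, rowOKE8_131, rowOKE8_132, rowOKE8_133, rowOKE8_134]

end Cfsg.Agent.Helper18
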