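import Cfsg.Agent.Lib.Helper18.CommCertData

set_option autoImplicit false
set_option maxRecDepth 100000
set_option Elab.async false

namespace Cfsg.Agent.Helper18

open Cfsg.Lie

theorem rowOKE8_135 : rowOK chevE8 etaTabE8 certE8 135 = true := by
  decide +kernel

theorem rowOKE8_136 : rowOK chevE8 etaTabE8 certE8 136 = true := by
  decide +kernel

theorem rowOKE8_137 : rowOK chevE8 etaTabE8 certE8 137 = true := by
  decide +kernel

theorem rowOKE8_138 : rowOK chevE8 etaTabE8 certE8 138 = true := by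
  decide +kernel

theorem rowOKE8_139 : rowOK chevE8 etaTabE8 certE8 139 = true := by
  decide +kernel

theorem rowOKE8_140 : rowOK chevE8 etaTabE8 certE8 140 = true := by
  decide +kernel

theorem rowOKE8_141 : rowOK chevE8 etaTabE8 certE8 141 = true := by
  decide +kernel

theorem rowOKE8_142 : rowOK chevE8 etaTabE8 certE8 142 = true := by
  decide +kernel

theorem rowOKE8_143 : rowOK chevE8 etaTabE8 certE8 143 = true := by
  decide +kernel

theorem rowOKE8_144 : rowOK chevE8 etaTabE8 certE8 144 = true := by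
  decide +kernel

theorem rowOKE8_145 : rowOK chevE8 etaTabE8 certE8 145 = true := by
  decide +kernel

theorem rowOKE8_146 : rowOK chevE8 etaTabE8 certE8 146 = true := by
  decide +kernel

theorem rowOKE8_147 : rowOK chevE8 etaTabE8 certE8 147 = true := by
  decide +kernel

theorem rowOKE8_148 : rowOK chevE8 etaTabE8 certE8 148 = true := by
  decide +kernel

theorem rowOKE8_149 : rowOK chevE8 etaTabE8 certE8 149 = true := by
  decide +kernel

theorem rowOKE8_from135 (r : ℕ) (h1 : 135 ≤ r) (h2 : r < 150) : rowOK chevE8 etaTabE8 certE8 r = true := by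
  have h : r = 135 ∨ r = 136 ∨ r = 137 ∨ r = 138 ∨ r = 139 ∨ r = 140 ∨ r = 141 ∨ r = 142 ∨ r = 143 ∨ r = 144 ∨ r = 145 ∨ r = 146 ∨ r = 147 ∨ r = 148 ∨ r = 149 := by omega
  rcases h with rfl | rfl | rfl | rfl | rfl | rfl | rfl | rfl | rfl | rfl | rfl | rfl | rfl | rfl | rfl
  exacts [rowOKE8_135, rowOKE8_136, rowOKE8_137, rowOKE8_138, rowOKE8_139, rowOKE8_140, rowOKE8_141, rowOKE8_142, rowOKE8_143, rowOKE8_144, rowOKE8_145, rowOKE8_146, rowOKE8_147, rowOKE8_148, rowOKE8_149]

end Cfsg.Agent.Helper18
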