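import Cfsg.Agent.Lib.Helper18.CommCertData

set_option autoImplicit false
set_option maxRecDepth 100000
set_option Elab.async false

namespace Cfsg.Agent.Helper18

open Cfsg.Lie

theorem rowOKG2_0 : rowOK chevG2 etaTabG2 certG2 0 = true := by
  decide +kernel

theorem rowOKG2_1 : rowOK chevG2 etaTabG2 certG2 1 = true := by
  decide +kernel

theorem rowOKG2_2 : rowOK chevG2 etaTabG2 certG2 2 = true := by
  decide +kernel

theorem rowOKG2_3 : rowOK chevG2 etaTabG2 certG2 3 = true := by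
  decide +kernel

theorem rowOKG2_4 : rowOK chevG2 etaTabG2 certG2 4 = true := by
  decide +kernel

theorem rowOKG2_5 : rowOK chevG2 etaTabG2 certG2 5 = true := by
  decide +kernel

theorem rowOKG2_6 : rowOK chevG2 etaTabG2 certG2 6 = true := by
  decide +kernel

theorem rowOKG2_7 : rowOK chevG2 etaTabG2 certG2 7 = true := by
  decide +kernel

theorem rowOKG2_8 : rowOK chevG2 etaTabG2 certG2 8 = true := by
  decide +kernel

theorem rowOKG2_9 : rowOK chevG2 etaTabG2 certG2 9 = true := by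
  decide +kernel

theorem rowOKG2_10 : rowOK chevG2 etaTabG2 certG2 10 = true := by
  decide +kernel

theorem rowOKG2_11 : rowOK chevG2 etaTabG2 certG2 11 = true := by
  decide +kernel

theorem rowOKG2_from0 (r : ℕ) (h1 : 0 ≤ r) (h2 : r < 12) : rowOK chevG2 etaTabG2 certG2 r = true := by
  have h : r = 0 ∨ r = 1 ∨ r = 2 ∨ r = 3 ∨ r = 4 ∨ r = 5 ∨ r = 6 ∨ r = 7 ∨ r = 8 ∨ r = 9 ∨ r = 10 ∨ r = 11 := by omega
  rcases h with rfl | rfl | rfl | rfl | rfl | rfl | rfl | rfl | rfl | rfl | rfl | rfl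
  exacts [rowOKG2_0, rowOKG2_1, rowOKG2_2, rowOKG2_3, rowOKG2_4, rowOKG2_5, rowOKG2_6, rowOKG2_7, rowOKG2_8, rowOKG2_9, rowOKG2_10, rowOKG2_11]

theorem rowOKB2_0 : rowOK chevB2 etaTabB2 certB2 0 = true := by
  decide +kernel

theorem rowOKB2_1 : rowOK chevB2 etaTabB2 certB2 1 = true := by
  decide +kernel

theorem rowOKB2_2 : rowOK chevB2 etaTabB2 certB2 2 = true := by
  decide +kernel

theorem rowOKB2_3 : rowOK chevB2 etaTabB2 certB2 3 = true := by
  decide +kernel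

theorem rowOKB2_4 : rowOK chevB2 etaTabB2 certB2 4 = true := by
  decide +kernel

theorem rowOKB2_5 : rowOK chevB2 etaTabB2 certB2 5 = true := by
  decide +kernel

theorem rowOKB2_6 : rowOK chevB2 etaTabB2 certB2 6 = true := by
  decide +kernel

theorem rowOKB2_7 : rowOK chevB2 etaTabB2 certB2 7 = true := by
  decide +kernel

theorem rowOKB2_from0 (r : ℕ) (h1 : 0 ≤ r) (h2 : r < 8) : rowOK chevB2 etaTabB2 certB2 r = true := by
  have h : r = 0 ∨ r = 1 ∨ r = 2 ∨ r = 3 ∨ r = 4 ∨ r = 5 ∨ r = 6 ∨ r = 7 := by omega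
  rcases h with rfl | rfl | rfl | rfl | rfl | rfl | rfl | rfl
  exacts [rowOKB2_0, rowOKB2_1, rowOKB2_2, rowOKB2_3, rowOKB2_4, rowOKB2_5, rowOKB2_6, rowOKB2_7]

theorem rowOKD4_0 : rowOK chevD4 etaTabD4 certD4 0 = true := by
  decide +kernel

theorem rowOKD4_1 : rowOK chevD4 etaTabD4 certD4 1 = true := by
  decide +kernel

theorem rowOKD4_2 : rowOK chevD4 etaTabD4 certD4 2 = true := by
  decide +kernel

theorem rowOKD4_3 : rowOK chevD4 etaTabD4 certD4 3 = true := by
  decide +kernel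

theorem rowOKD4_4 : rowOK chevD4 etaTabD4 certD4 4 = true := by
  decide +kernel

theorem rowOKD4_5 : rowOK chevD4 etaTabD4 certD4 5 = true := by
  decide +kernel

theorem rowOKD4_6 : rowOK chevD4 etaTabD4 certD4 6 = true := by
  decide +kernel

theorem rowOKD4_7 : rowOK chevD4 etaTabD4 certD4 7 = true := by
  decide +kernel

theorem rowOKD4_8 : rowOK chevD4 etaTabD4 certD4 8 = true := by
  decide +kernel

theorem rowOKD4_9 : rowOK chevD4 etaTabD4 certD4 9 = true := by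
  decide +kernel

theorem rowOKD4_10 : rowOK chevD4 etaTabD4 certD4 10 = true := by
  decide +kernel

theorem rowOKD4_11 : rowOK chevD4 etaTabD4 certD4 11 = true := by
  decide +kernel

theorem rowOKD4_12 : rowOK chevD4 etaTabD4 certD4 12 = true := by
  decide +kernel

theorem rowOKD4_13 : rowOK chevD4 etaTabD4 certD4 13 = true := by
  decide +kernel

theorem rowOKD4_14 : rowOK chevD4 etaTabD4 certD4 14 = true := by
  decide +kernel

theorem rowOKD4_15 : rowOK chevD4 etaTabD4 certD4 15 = true := by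
  decide +kernel

theorem rowOKD4_16 : rowOK chevD4 etaTabD4 certD4 16 = true := by
  decide +kernel

theorem rowOKD4_17 : rowOK chevD4 etaTabD4 certD4 17 = true := by
  decide +kernel

theorem rowOKD4_18 : rowOK chevD4 etaTabD4 certD4 18 = true := by
  decide +kernel

theorem rowOKD4_19 : rowOK chevD4 etaTabD4 certD4 19 = true := by
  decide +kernel

theorem rowOKD4_20 : rowOK chevD4 etaTabD4 certD4 20 = true := by
  decide +kernel

theorem rowOKD4_21 : rowOK chevD4 etaTabD4 certD4 21 = true := by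
  decide +kernel

theorem rowOKD4_22 : rowOK chevD4 etaTabD4 certD4 22 = true := by
  decide +kernel

theorem rowOKD4_23 : rowOK chevD4 etaTabD4 certD4 23 = true := by
  decide +kernel

theorem rowOKD4_from0 (r : ℕ) (h1 : 0 ≤ r) (h2 : r < 24) : rowOK chevD4 etaTabD4 certD4 r = true := by
  have h : r = 0 ∨ r = 1 ∨ r = 2 ∨ r = 3 ∨ r = 4 ∨ r = 5 ∨ r = 6 ∨ r = 7 ∨ r = 8 ∨ r = 9 ∨ r = 10 ∨ r = 11 ∨ r = 12 ∨ r = 13 ∨ r = 14 ∨ r = 15 ∨ r = 16 ∨ r = 17 ∨ r = 18 ∨ r = 19 ∨ r = 20 ∨ r = 21 ∨ r = 22 ∨ r = 23 := by omega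
  rcases h with rfl | rfl | rfl | rfl | rfl | rfl | rfl | rfl | rfl | rfl | rfl | rfl | rfl | rfl | rfl | rfl | rfl | rfl | rfl | rfl | rfl | rfl | rfl | rfl
  exacts [rowOKD4_0, rowOKD4_1, rowOKD4_2, rowOKD4_3, rowOKD4_4, rowOKD4_5, rowOKD4_6, rowOKD4_7, rowOKD4_8, rowOKD4_9, rowOKD4_10, rowOKD4_11, rowOKD4_12, rowOKD4_13, rowOKD4_14, rowOKD4_15, rowOKD4_16, rowOKD4_17, rowOKD4_18, rowOKD4_19, rowOKD4_20, rowOKD4_21, rowOKD4_22, rowOKD4_23]

theorem rowOKF4_0 : rowOK chevF4 etaTabF4 certF4 0 = true := by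
  decide +kernel

theorem rowOKF4_1 : rowOK chevF4 etaTabF4 certF4 1 = true := by
  decide +kernel

theorem rowOKF4_2 : rowOK chevF4 etaTabF4 certF4 2 = true := by
  decide +kernel

theorem rowOKF4_3 : rowOK chevF4 etaTabF4 certF4 3 = true := by
  decide +kernel

theorem rowOKF4_4 : rowOK chevF4 etaTabF4 certF4 4 = true := by
  decide +kernel

theorem rowOKF4_5 : rowOK chevF4 etaTabF4 certF4 5 = true := by
  decide +kernel

theorem rowOKF4_6 : rowOK chevF4 etaTabF4 certF4 6 = true := by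
  decide +kernel

theorem rowOKF4_7 : rowOK chevF4 etaTabF4 certF4 7 = true := by
  decide +kernel

theorem rowOKF4_8 : rowOK chevF4 etaTabF4 certF4 8 = true := by
  decide +kernel

theorem rowOKF4_9 : rowOK chevF4 etaTabF4 certF4 9 = true := by
  decide +kernel

theorem rowOKF4_10 : rowOK chevF4 etaTabF4 certF4 10 = true := by
  decide +kernel

theorem rowOKF4_11 : rowOK chevF4 etaTabF4 certF4 11 = true := by
  decide +kernel

theorem rowOKF4_12 : rowOK chevF4 etaTabF4 certF4 12 = true := by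
  decide +kernel

theorem rowOKF4_13 : rowOK chevF4 etaTabF4 certF4 13 = true := by
  decide +kernel

theorem rowOKF4_14 : rowOK chevF4 etaTabF4 certF4 14 = true := by
  decide +kernel

theorem rowOKF4_15 : rowOK chevF4 etaTabF4 certF4 15 = true := by
  decide +kernel

theorem rowOKF4_16 : rowOK chevF4 etaTabF4 certF4 16 = true := by
  decide +kernel

theorem rowOKF4_17 : rowOK chevF4 etaTabF4 certF4 17 = true := by
  decide +kernel

theorem rowOKF4_18 : rowOK chevF4 etaTabF4 certF4 18 = true := by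
  decide +kernel

theorem rowOKF4_19 : rowOK chevF4 etaTabF4 certF4 19 = true := by
  decide +kernel

theorem rowOKF4_20 : rowOK chevF4 etaTabF4 certF4 20 = true := by
  decide +kernel

theorem rowOKF4_21 : rowOK chevF4 etaTabF4 certF4 21 = true := by
  decide +kernel

theorem rowOKF4_22 : rowOK chevF4 etaTabF4 certF4 22 = true := by
  decide +kernel

theorem rowOKF4_23 : rowOK chevF4 etaTabF4 certF4 23 = true := by
  decide +kernel

theorem rowOKF4_24 : rowOK chevF4 etaTabF4 certF4 24 = true := by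
  decide +kernel

theorem rowOKF4_25 : rowOK chevF4 etaTabF4 certF4 25 = true := by
  decide +kernel

theorem rowOKF4_26 : rowOK chevF4 etaTabF4 certF4 26 = true := by
  decide +kernel

theorem rowOKF4_27 : rowOK chevF4 etaTabF4 certF4 27 = true := by
  decide +kernel

theorem rowOKF4_28 : rowOK chevF4 etaTabF4 certF4 28 = true := by
  decide +kernel

theorem rowOKF4_29 : rowOK chevF4 etaTabF4 certF4 29 = true := by
  decide +kernel

theorem rowOKF4_30 : rowOK chevF4 etaTabF4 certF4 30 = true := by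
  decide +kernel

theorem rowOKF4_31 : rowOK chevF4 etaTabF4 certF4 31 = true := by
  decide +kernel

theorem rowOKF4_32 : rowOK chevF4 etaTabF4 certF4 32 = true := by
  decide +kernel

theorem rowOKF4_33 : rowOK chevF4 etaTabF4 certF4 33 = true := by
  decide +kernel

theorem rowOKF4_34 : rowOK chevF4 etaTabF4 certF4 34 = true := by
  decide +kernel

theorem rowOKF4_35 : rowOK chevF4 etaTabF4 certF4 35 = true := by
  decide +kernel

theorem rowOKF4_36 : rowOK chevF4 etaTabF4 certF4 36 = true := by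
  decide +kernel

theorem rowOKF4_37 : rowOK chevF4 etaTabF4 certF4 37 = true := by
  decide +kernel

theorem rowOKF4_38 : rowOK chevF4 etaTabF4 certF4 38 = true := by
  decide +kernel

theorem rowOKF4_39 : rowOK chevF4 etaTabF4 certF4 39 = true := by
  decide +kernel

theorem rowOKF4_40 : rowOK chevF4 etaTabF4 certF4 40 = true := by
  decide +kernel

theorem rowOKF4_41 : rowOK chevF4 etaTabF4 certF4 41 = true := by
  decide +kernel

theorem rowOKF4_42 : rowOK chevF4 etaTabF4 certF4 42 = true := by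
  decide +kernel

theorem rowOKF4_43 : rowOK chevF4 etaTabF4 certF4 43 = true := by
  decide +kernel

theorem rowOKF4_44 : rowOK chevF4 etaTabF4 certF4 44 = true := by
  decide +kernel

theorem rowOKF4_45 : rowOK chevF4 etaTabF4 certF4 45 = true := by
  decide +kernel

theorem rowOKF4_46 : rowOK chevF4 etaTabF4 certF4 46 = true := by
  decide +kernel

theorem rowOKF4_47 : rowOK chevF4 etaTabF4 certF4 47 = true := by
  decide +kernel

theorem rowOKF4_from0 (r : ℕ) (h1 : 0 ≤ r) (h2 : r < 48) : rowOK chevF4 etaTabF4 certF4 r = true := by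
  have h : r = 0 ∨ r = 1 ∨ r = 2 ∨ r = 3 ∨ r = 4 ∨ r = 5 ∨ r = 6 ∨ r = 7 ∨ r = 8 ∨ r = 9 ∨ r = 10 ∨ r = 11 ∨ r = 12 ∨ r = 13 ∨ r = 14 ∨ r = 15 ∨ r = 16 ∨ r = 17 ∨ r = 18 ∨ r = 19 ∨ r = 20 ∨ r = 21 ∨ r = 22 ∨ r = 23 ∨ r = 24 ∨ r = 25 ∨ r = 26 ∨ r = 27 ∨ r = 28 ∨ r = 29 ∨ r = 30 ∨ r = 31 ∨ r = 32 ∨ r = 33 ∨ r = 34 ∨ r = 35 ∨ r = 36 ∨ r = 37 ∨ r = 38 ∨ r = 39 ∨ r = 40 ∨ r = 41 ∨ r = 42 ∨ r = 43 ∨ r = 44 ∨ r = 45 ∨ r = 46 ∨ r = 47 := by omega
  rcases h with rfl | rfl | rfl | rfl | rfl | rfl | rfl | rfl | rfl | rfl | rfl | rfl | rfl | rfl | rfl | rfl | rfl | rfl | rfl | rfl | rfl | rfl | rfl | rfl | rfl | rfl | rfl | rfl | rfl | rfl | rfl | rfl | rfl | rfl | rfl | rfl | rfl | rfl | rfl | rfl | rfl | rfl | rfl | rfl | rfl | rfl | rfl | rfl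
  exacts [rowOKF4_0, rowOKF4_1, rowOKF4_2, rowOKF4_3, rowOKF4_4, rowOKF4_5, rowOKF4_6, rowOKF4_7, rowOKF4_8, rowOKF4_9, rowOKF4_10, rowOKF4_11, rowOKF4_12, rowOKF4_13, rowOKF4_14, rowOKF4_15, rowOKF4_16, rowOKF4_17, rowOKF4_18, rowOKF4_19, rowOKF4_20, rowOKF4_21, rowOKF4_22, rowOKF4_23, rowOKF4_24, rowOKF4_25, rowOKF4_26, rowOKF4_27, rowOKF4_28, rowOKF4_29, rowOKF4_30, rowOKF4_31, rowOKF4_32, rowOKF4_33, rowOKF4_34, rowOKF4_35, rowOKF4_36, rowOKF4_37, rowOKF4_38, rowOKF4_39, rowOKF4_40, rowOKF4_41, rowOKF4_42, rowOKF4_43, rowOKF4_44, rowOKF4_45, rowOKF4_46, rowOKF4_47]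

end Cfsg.Agent.Helper18
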