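import Cfsg.Agent.Lib.Helper18.ChevComm
import Cfsg.Prelude.Def_LieTypes
import Cfsg.Prelude.Def_ChevB2

set_option autoImplicit false
set_option maxRecDepth 100000
set_option Elab.async false

namespace Cfsg.Agent.Helper18

open Cfsg.Lie

theorem commE8_1_120 : commCheck chevE8 141 120 = true := by
  decide +kernel

theorem commE8_1_121 : commCheck chevE8 141 121 = true := by
  decide +kernel

theorem commE8_1_122 : commCheck chevE8 141 122 = true := by
  decide +kernel

theorem commE8_1_123 : commCheck chevE8 141 123 = true := by
  decide +kernel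

theorem commE8_1_124 : commCheck chevE8 141 124 = true := by
  decide +kernel

theorem commE8_1_125 : commCheck chevE8 141 125 = true := by
  decide +kernel

theorem commE8_1_126 : commCheck chevE8 141 126 = true := by
  decide +kernel

theorem commE8_1_127 : commCheck chevE8 141 127 = true := by
  decide +kernel

theorem commE8_1_128 : commCheck chevE8 141 128 = true := by
  decide +kernel

theorem commE8_1_129 : commCheck chevE8 141 129 = true := by
  decide +kernel

theorem commE8_1_130 : commCheck chevE8 141 130 = true := by
  decide +kernel

theorem commE8_1_131 : commCheck chevE8 141 131 = true := by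
  decide +kernel

theorem commE8_1_132 : commCheck chevE8 141 132 = true := by
  decide +kernel

theorem commE8_1_133 : commCheck chevE8 141 133 = true := by
  decide +kernel

theorem commE8_1_134 : commCheck chevE8 141 134 = true := by
  decide +kernel

theorem commE8_1_135 : commCheck chevE8 141 135 = true := by
  decide +kernel

theorem commE8_1_136 : commCheck chevE8 141 136 = true := by
  decide +kernel

theorem commE8_1_137 : commCheck chevE8 141 137 = true := by
  decide +kernel

theorem commE8_1_138 : commCheck chevE8 141 138 = true := by
  decide +kernel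

theorem commE8_1_139 : commCheck chevE8 141 139 = true := by
  decide +kernel

theorem commE8_1_140 : commCheck chevE8 141 140 = true := by
  decide +kernel

theorem commE8_1_141 : commCheck chevE8 141 141 = true := by
  decide +kernel

theorem commE8_1_142 : commCheck chevE8 141 142 = true := by
  decide +kernel

theorem commE8_1_143 : commCheck chevE8 141 143 = true := by
  decide +kernel

theorem commE8_1_144 : commCheck chevE8 141 144 = true := by
  decide +kernel

theorem commE8_1_145 : commCheck chevE8 141 145 = true := by
  decide +kernel

theorem commE8_1_146 : commCheck chevE8 141 146 = true := by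
  decide +kernel

theorem commE8_1_147 : commCheck chevE8 141 147 = true := by
  decide +kernel

theorem commE8_1_148 : commCheck chevE8 141 148 = true := by
  decide +kernel

theorem commE8_1_149 : commCheck chevE8 141 149 = true := by
  decide +kernel

theorem commE8_1_from120 (s : ℕ) (h1 : 120 ≤ s) (h2 : s < 150) : commCheck chevE8 141 s = true := by
  have h : s = 120 ∨ s = 121 ∨ s = 122 ∨ s = 123 ∨ s = 124 ∨ s = 125 ∨ s = 126 ∨ s = 127 ∨ s = 128 ∨ s = 129 ∨ s = 130 ∨ s = 131 ∨ s = 132 ∨ s = 133 ∨ s = 134 ∨ s = 135 ∨ s = 136 ∨ s = 137 ∨ s = 138 ∨ s = 139 ∨ s = 140 ∨ s = 141 ∨ s = 142 ∨ s = 143 ∨ s = 144 ∨ s = 145 ∨ s = 146 ∨ s = 147 ∨ s = 148 ∨ s = 149 := by omega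
  rcases h with rfl | rfl | rfl | rfl | rfl | rfl | rfl | rfl | rfl | rfl | rfl | rfl | rfl | rfl | rfl | rfl | rfl | rfl | rfl | rfl | rfl | rfl | rfl | rfl | rfl | rfl | rfl | rfl | rfl | rfl
  exacts [commE8_1_120, commE8_1_121, commE8_1_122, commE8_1_123, commE8_1_124, commE8_1_125, commE8_1_126, commE8_1_127, commE8_1_128, commE8_1_129, commE8_1_130, commE8_1_131, commE8_1_132, commE8_1_133, commE8_1_134, commE8_1_135, commE8_1_136, commE8_1_137, commE8_1_138, commE8_1_139, commE8_1_140, commE8_1_141, commE8_1_142, commE8_1_143, commE8_1_144, commE8_1_145, commE8_1_146, commE8_1_147, commE8_1_148, commE8_1_149]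

theorem commE8_1_150 : commCheck chevE8 141 150 = true := by
  decide +kernel

theorem commE8_1_151 : commCheck chevE8 141 151 = true := by
  decide +kernel

theorem commE8_1_152 : commCheck chevE8 141 152 = true := by
  decide +kernel

theorem commE8_1_153 : commCheck chevE8 141 153 = true := by
  decide +kernel

theorem commE8_1_154 : commCheck chevE8 141 154 = true := by
  decide +kernel

theorem commE8_1_155 : commCheck chevE8 141 155 = true := by
  decide +kernel

theorem commE8_1_156 : commCheck chevE8 141 156 = true := by
  decide +kernel

theorem commE8_1_157 : commCheck chevE8 141 157 = true := by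
  decide +kernel

theorem commE8_1_158 : commCheck chevE8 141 158 = true := by
  decide +kernel

theorem commE8_1_159 : commCheck chevE8 141 159 = true := by
  decide +kernel

theorem commE8_1_160 : commCheck chevE8 141 160 = true := by
  decide +kernel

theorem commE8_1_161 : commCheck chevE8 141 161 = true := by
  decide +kernel

theorem commE8_1_162 : commCheck chevE8 141 162 = true := by
  decide +kernel

theorem commE8_1_163 : commCheck chevE8 141 163 = true := by
  decide +kernel

theorem commE8_1_164 : commCheck chevE8 141 164 = true := by
  decide +kernel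

theorem commE8_1_165 : commCheck chevE8 141 165 = true := by
  decide +kernel

theorem commE8_1_166 : commCheck chevE8 141 166 = true := by
  decide +kernel

theorem commE8_1_167 : commCheck chevE8 141 167 = true := by
  decide +kernel

theorem commE8_1_168 : commCheck chevE8 141 168 = true := by
  decide +kernel

theorem commE8_1_169 : commCheck chevE8 141 169 = true := by
  decide +kernel

theorem commE8_1_170 : commCheck chevE8 141 170 = true := by
  decide +kernel

theorem commE8_1_171 : commCheck chevE8 141 171 = true := by
  decide +kernel

theorem commE8_1_172 : commCheck chevE8 141 172 = true := by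
  decide +kernel

theorem commE8_1_173 : commCheck chevE8 141 173 = true := by
  decide +kernel

theorem commE8_1_174 : commCheck chevE8 141 174 = true := by
  decide +kernel

theorem commE8_1_175 : commCheck chevE8 141 175 = true := by
  decide +kernel

theorem commE8_1_176 : commCheck chevE8 141 176 = true := by
  decide +kernel

theorem commE8_1_177 : commCheck chevE8 141 177 = true := by
  decide +kernel

theorem commE8_1_178 : commCheck chevE8 141 178 = true := by
  decide +kernel

theorem commE8_1_179 : commCheck chevE8 141 179 = true := by
  decide +kernel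

theorem commE8_1_from150 (s : ℕ) (h1 : 150 ≤ s) (h2 : s < 180) : commCheck chevE8 141 s = true := by
  have h : s = 150 ∨ s = 151 ∨ s = 152 ∨ s = 153 ∨ s = 154 ∨ s = 155 ∨ s = 156 ∨ s = 157 ∨ s = 158 ∨ s = 159 ∨ s = 160 ∨ s = 161 ∨ s = 162 ∨ s = 163 ∨ s = 164 ∨ s = 165 ∨ s = 166 ∨ s = 167 ∨ s = 168 ∨ s = 169 ∨ s = 170 ∨ s = 171 ∨ s = 172 ∨ s = 173 ∨ s = 174 ∨ s = 175 ∨ s = 176 ∨ s = 177 ∨ s = 178 ∨ s = 179 := by omega
  rcases h with rfl | rfl | rfl | rfl | rfl | rfl | rfl | rfl | rfl | rfl | rfl | rfl | rfl | rfl | rfl | rfl | rfl | rfl | rfl | rfl | rfl | rfl | rfl | rfl | rfl | rfl | rfl | rfl | rfl | rfl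
  exacts [commE8_1_150, commE8_1_151, commE8_1_152, commE8_1_153, commE8_1_154, commE8_1_155, commE8_1_156, commE8_1_157, commE8_1_158, commE8_1_159, commE8_1_160, commE8_1_161, commE8_1_162, commE8_1_163, commE8_1_164, commE8_1_165, commE8_1_166, commE8_1_167, commE8_1_168, commE8_1_169, commE8_1_170, commE8_1_171, commE8_1_172, commE8_1_173, commE8_1_174, commE8_1_175, commE8_1_176, commE8_1_177, commE8_1_178, commE8_1_179]

end Cfsg.Agent.Helper18
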