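import Cfsg.Agent.Lib.Helper18.ChevComm
import Cfsg.Prelude.Def_LieTypes
import Cfsg.Prelude.Def_ChevB2

set_option autoImplicit false
set_option maxRecDepth 100000
set_option Elab.async false

namespace Cfsg.Agent.Helper18

open Cfsg.Lie

theorem commE8_7_180 : commCheck chevE8 120 180 = true := by
  decide +kernel

theorem commE8_7_181 : commCheck chevE8 120 181 = true := by
  decide +kernel

theorem commE8_7_182 : commCheck chevE8 120 182 = true := by
  decide +kernel

theorem commE8_7_183 : commCheck chevE8 120 183 = true := by
  decide +kernel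

theorem commE8_7_184 : commCheck chevE8 120 184 = true := by
  decide +kernel

theorem commE8_7_185 : commCheck chevE8 120 185 = true := by
  decide +kernel

theorem commE8_7_186 : commCheck chevE8 120 186 = true := by
  decide +kernel

theorem commE8_7_187 : commCheck chevE8 120 187 = true := by
  decide +kernel

theorem commE8_7_188 : commCheck chevE8 120 188 = true := by
  decide +kernel

theorem commE8_7_189 : commCheck chevE8 120 189 = true := by
  decide +kernel

theorem commE8_7_190 : commCheck chevE8 120 190 = true := by
  decide +kernel

theorem commE8_7_191 : commCheck chevE8 120 191 = true := by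
  decide +kernel

theorem commE8_7_192 : commCheck chevE8 120 192 = true := by
  decide +kernel

theorem commE8_7_193 : commCheck chevE8 120 193 = true := by
  decide +kernel

theorem commE8_7_194 : commCheck chevE8 120 194 = true := by
  decide +kernel

theorem commE8_7_195 : commCheck chevE8 120 195 = true := by
  decide +kernel

theorem commE8_7_196 : commCheck chevE8 120 196 = true := by
  decide +kernel

theorem commE8_7_197 : commCheck chevE8 120 197 = true := by
  decide +kernel

theorem commE8_7_198 : commCheck chevE8 120 198 = true := by
  decide +kernel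

theorem commE8_7_199 : commCheck chevE8 120 199 = true := by
  decide +kernel

theorem commE8_7_200 : commCheck chevE8 120 200 = true := by
  decide +kernel

theorem commE8_7_201 : commCheck chevE8 120 201 = true := by
  decide +kernel

theorem commE8_7_202 : commCheck chevE8 120 202 = true := by
  decide +kernel

theorem commE8_7_203 : commCheck chevE8 120 203 = true := by
  decide +kernel

theorem commE8_7_204 : commCheck chevE8 120 204 = true := by
  decide +kernel

theorem commE8_7_205 : commCheck chevE8 120 205 = true := by
  decide +kernel

theorem commE8_7_206 : commCheck chevE8 120 206 = true := by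
  decide +kernel

theorem commE8_7_207 : commCheck chevE8 120 207 = true := by
  decide +kernel

theorem commE8_7_208 : commCheck chevE8 120 208 = true := by
  decide +kernel

theorem commE8_7_209 : commCheck chevE8 120 209 = true := by
  decide +kernel

theorem commE8_7_from180 (s : ℕ) (h1 : 180 ≤ s) (h2 : s < 210) : commCheck chevE8 120 s = true := by
  have h : s = 180 ∨ s = 181 ∨ s = 182 ∨ s = 183 ∨ s = 184 ∨ s = 185 ∨ s = 186 ∨ s = 187 ∨ s = 188 ∨ s = 189 ∨ s = 190 ∨ s = 191 ∨ s = 192 ∨ s = 193 ∨ s = 194 ∨ s = 195 ∨ s = 196 ∨ s = 197 ∨ s = 198 ∨ s = 199 ∨ s = 200 ∨ s = 201 ∨ s = 202 ∨ s = 203 ∨ s = 204 ∨ s = 205 ∨ s = 206 ∨ s = 207 ∨ s = 208 ∨ s = 209 := by omega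
  rcases h with rfl | rfl | rfl | rfl | rfl | rfl | rfl | rfl | rfl | rfl | rfl | rfl | rfl | rfl | rfl | rfl | rfl | rfl | rfl | rfl | rfl | rfl | rfl | rfl | rfl | rfl | rfl | rfl | rfl | rfl
  exacts [commE8_7_180, commE8_7_181, commE8_7_182, commE8_7_183, commE8_7_184, commE8_7_185, commE8_7_186, commE8_7_187, commE8_7_188, commE8_7_189, commE8_7_190, commE8_7_191, commE8_7_192, commE8_7_193, commE8_7_194, commE8_7_195, commE8_7_196, commE8_7_197, commE8_7_198, commE8_7_199, commE8_7_200, commE8_7_201, commE8_7_202, commE8_7_203, commE8_7_204, commE8_7_205, commE8_7_206, commE8_7_207, commE8_7_208, commE8_7_209]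

theorem commE8_7_210 : commCheck chevE8 120 210 = true := by
  decide +kernel

theorem commE8_7_211 : commCheck chevE8 120 211 = true := by
  decide +kernel

theorem commE8_7_212 : commCheck chevE8 120 212 = true := by
  decide +kernel

theorem commE8_7_213 : commCheck chevE8 120 213 = true := by
  decide +kernel

theorem commE8_7_214 : commCheck chevE8 120 214 = true := by
  decide +kernel

theorem commE8_7_215 : commCheck chevE8 120 215 = true := by
  decide +kernel

theorem commE8_7_216 : commCheck chevE8 120 216 = true := by
  decide +kernel

theorem commE8_7_217 : commCheck chevE8 120 217 = true := by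
  decide +kernel

theorem commE8_7_218 : commCheck chevE8 120 218 = true := by
  decide +kernel

theorem commE8_7_219 : commCheck chevE8 120 219 = true := by
  decide +kernel

theorem commE8_7_220 : commCheck chevE8 120 220 = true := by
  decide +kernel

theorem commE8_7_221 : commCheck chevE8 120 221 = true := by
  decide +kernel

theorem commE8_7_222 : commCheck chevE8 120 222 = true := by
  decide +kernel

theorem commE8_7_223 : commCheck chevE8 120 223 = true := by
  decide +kernel

theorem commE8_7_224 : commCheck chevE8 120 224 = true := by
  decide +kernel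

theorem commE8_7_225 : commCheck chevE8 120 225 = true := by
  decide +kernel

theorem commE8_7_226 : commCheck chevE8 120 226 = true := by
  decide +kernel

theorem commE8_7_227 : commCheck chevE8 120 227 = true := by
  decide +kernel

theorem commE8_7_228 : commCheck chevE8 120 228 = true := by
  decide +kernel

theorem commE8_7_229 : commCheck chevE8 120 229 = true := by
  decide +kernel

theorem commE8_7_230 : commCheck chevE8 120 230 = true := by
  decide +kernel

theorem commE8_7_231 : commCheck chevE8 120 231 = true := by
  decide +kernel

theorem commE8_7_232 : commCheck chevE8 120 232 = true := by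
  decide +kernel

theorem commE8_7_233 : commCheck chevE8 120 233 = true := by
  decide +kernel

theorem commE8_7_234 : commCheck chevE8 120 234 = true := by
  decide +kernel

theorem commE8_7_235 : commCheck chevE8 120 235 = true := by
  decide +kernel

theorem commE8_7_236 : commCheck chevE8 120 236 = true := by
  decide +kernel

theorem commE8_7_237 : commCheck chevE8 120 237 = true := by
  decide +kernel

theorem commE8_7_238 : commCheck chevE8 120 238 = true := by
  decide +kernel

theorem commE8_7_239 : commCheck chevE8 120 239 = true := by
  decide +kernel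

theorem commE8_7_from210 (s : ℕ) (h1 : 210 ≤ s) (h2 : s < 240) : commCheck chevE8 120 s = true := by
  have h : s = 210 ∨ s = 211 ∨ s = 212 ∨ s = 213 ∨ s = 214 ∨ s = 215 ∨ s = 216 ∨ s = 217 ∨ s = 218 ∨ s = 219 ∨ s = 220 ∨ s = 221 ∨ s = 222 ∨ s = 223 ∨ s = 224 ∨ s = 225 ∨ s = 226 ∨ s = 227 ∨ s = 228 ∨ s = 229 ∨ s = 230 ∨ s = 231 ∨ s = 232 ∨ s = 233 ∨ s = 234 ∨ s = 235 ∨ s = 236 ∨ s = 237 ∨ s = 238 ∨ s = 239 := by omega
  rcases h with rfl | rfl | rfl | rfl | rfl | rfl | rfl | rfl | rfl | rfl | rfl | rfl | rfl | rfl | rfl | rfl | rfl | rfl | rfl | rfl | rfl | rfl | rfl | rfl | rfl | rfl | rfl | rfl | rfl | rfl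
  exacts [commE8_7_210, commE8_7_211, commE8_7_212, commE8_7_213, commE8_7_214, commE8_7_215, commE8_7_216, commE8_7_217, commE8_7_218, commE8_7_219, commE8_7_220, commE8_7_221, commE8_7_222, commE8_7_223, commE8_7_224, commE8_7_225, commE8_7_226, commE8_7_227, commE8_7_228, commE8_7_229, commE8_7_230, commE8_7_231, commE8_7_232, commE8_7_233, commE8_7_234, commE8_7_235, commE8_7_236, commE8_7_237, commE8_7_238, commE8_7_239]

end Cfsg.Agent.Helper18
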