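import Cfsg.Agent.Lib.Helper18.CommCertSmall
import Cfsg.Agent.Lib.Helper18.CommCertE6_0
import Cfsg.Agent.Lib.Helper18.CommCertE6_1
import Cfsg.Agent.Lib.Helper18.CommCertE7_0
import Cfsg.Agent.Lib.Helper18.CommCertE7_1
import Cfsg.Agent.Lib.Helper18.CommCertE7_2
import Cfsg.Agent.Lib.Helper18.CommCertE8_0
import Cfsg.Agent.Lib.Helper18.CommCertE8_1
import Cfsg.Agent.Lib.Helper18.CommCertE8_2
import Cfsg.Agent.Lib.Helper18.CommCertE8_3
import Cfsg.Agent.Lib.Helper18.CommCertE8_4
import Cfsg.Agent.Lib.Helper18.CommCertE8_5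
import Cfsg.Agent.Lib.Helper18.CommCertE8_6
import Cfsg.Agent.Lib.Helper18.CommCertE8_7
import Cfsg.Agent.Lib.Helper18.CommCertE8_8
import Cfsg.Agent.Lib.Helper18.CommCertE8_9
import Cfsg.Agent.Lib.Helper18.CommCertE8_10
import Cfsg.Agent.Lib.Helper18.CommCertE8_11
import Cfsg.Agent.Lib.Helper18.CommCertE8_12
import Cfsg.Agent.Lib.Helper18.CommCertE8_13
import Cfsg.Agent.Lib.Helper18.CommCertE8_14
import Cfsg.Agent.Lib.Helper18.CommCertE8_15
import Cfsg.Agent.Lib.Helper18.CommAll
import Cfsg.Agent.Lib.Helper18.ChevLongest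

set_option autoImplicit false

namespace Cfsg.Agent.Helper18

open Cfsg.Lie Cfsg.Agent.S1043

theorem rowOKAllG2 (r : ℕ) (hr : r < 12) : rowOK chevG2 etaTabG2 certG2 r = true := by
  exact rowOKG2_from0 r (by omega) hr

theorem posOfRangeG2 : ∀ s < chevG2.nroots, chevG2.nroots / 2 ≤ s → chevG2.IsPosRoot s := by
  decide +kernel

theorem commOKG2 {F : Type*} [Field F] : ∀ r < chevG2.nroots, ∀ s < chevG2.nroots, s ≠ r → s ≠ chevG2.neg r → CommOK F chevG2 r s := by
  have hD : Good chevG2 := by simp [Good]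
  refine commOK_of_cert chevG2 etaTabG2 certG2 etaTabG2_cases (fun i _ => ⟨nGL chevG2 hD i, nGL_val chevG2 hD i⟩)
    (fun i hi s hs t => conjExplG2 i hi s hs t) posOfRangeG2 (fun i hi s hs => commAllG2 i hi s hs) ?_
  intro r hr s hs h1 h2
  exact pairOK_of_rowOK chevG2 etaTabG2 certG2 r (rowOKAllG2 r hr) s hs h1 h2

theorem rowOKAllB2 (r : ℕ) (hr : r < 8) : rowOK chevB2 etaTabB2 certB2 r = true := by
  exact rowOKB2_from0 r (by omega) hr

theorem posOfRangeB2 : ∀ s < chevB2.nroots, chevB2.nroots / 2 ≤ s → chevB2.IsPosRoot s := by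
  decide +kernel

theorem commOKB2 {F : Type*} [Field F] : ∀ r < chevB2.nroots, ∀ s < chevB2.nroots, s ≠ r → s ≠ chevB2.neg r → CommOK F chevB2 r s := by
  have hD : Good chevB2 := by simp [Good]
  refine commOK_of_cert chevB2 etaTabB2 certB2 etaTabB2_cases (fun i _ => ⟨nGL chevB2 hD i, nGL_val chevB2 hD i⟩)
    (fun i hi s hs t => conjExplB2 i hi s hs t) posOfRangeB2 (fun i hi s hs => commAllB2 i hi s hs) ?_
  intro r hr s hs h1 h2
  exact pairOK_of_rowOK chevB2 etaTabB2 certB2 r (rowOKAllB2 r hr) s hs h1 h2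

theorem rowOKAllD4 (r : ℕ) (hr : r < 24) : rowOK chevD4 etaTabD4 certD4 r = true := by
  exact rowOKD4_from0 r (by omega) hr

theorem posOfRangeD4 : ∀ s < chevD4.nroots, chevD4.nroots / 2 ≤ s → chevD4.IsPosRoot s := by
  decide +kernel

theorem commOKD4 {F : Type*} [Field F] : ∀ r < chevD4.nroots, ∀ s < chevD4.nroots, s ≠ r → s ≠ chevD4.neg r → CommOK F chevD4 r s := by
  have hD : Good chevD4 := by simp [Good]
  refine commOK_of_cert chevD4 etaTabD4 certD4 etaTabD4_cases (fun i _ => ⟨nGL chevD4 hD i, nGL_val chevD4 hD i⟩)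
    (fun i hi s hs t => conjExplD4 i hi s hs t) posOfRangeD4 (fun i hi s hs => commAllD4 i hi s hs) ?_
  intro r hr s hs h1 h2
  exact pairOK_of_rowOK chevD4 etaTabD4 certD4 r (rowOKAllD4 r hr) s hs h1 h2

theorem rowOKAllF4 (r : ℕ) (hr : r < 48) : rowOK chevF4 etaTabF4 certF4 r = true := by
  exact rowOKF4_from0 r (by omega) hr

theorem posOfRangeF4 : ∀ s < chevF4.nroots, chevF4.nroots / 2 ≤ s → chevF4.IsPosRoot s := by
  decide +kernel

theorem commOKF4 {F : Type*} [Field F] : ∀ r < chevF4.nroots, ∀ s < chevF4.nroots, s ≠ r → s ≠ chevF4.neg r → CommOK F chevF4 r s := by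
  have hD : Good chevF4 := by simp [Good]
  refine commOK_of_cert chevF4 etaTabF4 certF4 etaTabF4_cases (fun i _ => ⟨nGL chevF4 hD i, nGL_val chevF4 hD i⟩)
    (fun i hi s hs t => conjExplF4 i hi s hs t) posOfRangeF4 (fun i hi s hs => commAllF4 i hi s hs) ?_
  intro r hr s hs h1 h2
  exact pairOK_of_rowOK chevF4 etaTabF4 certF4 r (rowOKAllF4 r hr) s hs h1 h2

theorem rowOKAllE6 (r : ℕ) (hr : r < 72) : rowOK chevE6 etaTabE6 certE6 r = true := by
  by_cases h36 : r < 36
  · exact rowOKE6_from0 r (by omega) h36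
  exact rowOKE6_from36 r (by omega) hr

theorem posOfRangeE6 : ∀ s < chevE6.nroots, chevE6.nroots / 2 ≤ s → chevE6.IsPosRoot s := by
  decide +kernel

theorem commOKE6 {F : Type*} [Field F] : ∀ r < chevE6.nroots, ∀ s < chevE6.nroots, s ≠ r → s ≠ chevE6.neg r → CommOK F chevE6 r s := by
  have hD : Good chevE6 := by simp [Good]
  refine commOK_of_cert chevE6 etaTabE6 certE6 etaTabE6_cases (fun i _ => ⟨nGL chevE6 hD i, nGL_val chevE6 hD i⟩)
    (fun i hi s hs t => conjExplE6 i hi s hs t) posOfRangeE6 (fun i hi s hs => commAllE6 i hi s hs) ?_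
  intro r hr s hs h1 h2
  exact pairOK_of_rowOK chevE6 etaTabE6 certE6 r (rowOKAllE6 r hr) s hs h1 h2

theorem rowOKAllE7 (r : ℕ) (hr : r < 126) : rowOK chevE7 etaTabE7 certE7 r = true := by
  by_cases h42 : r < 42
  · exact rowOKE7_from0 r (by omega) h42
  by_cases h84 : r < 84
  · exact rowOKE7_from42 r (by omega) h84
  exact rowOKE7_from84 r (by omega) hr

theorem posOfRangeE7 : ∀ s < chevE7.nroots, chevE7.nroots / 2 ≤ s → chevE7.IsPosRoot s := by
  decide +kernel

theorem commOKE7 {F : Type*} [Field F] : ∀ r < chevE7.nroots, ∀ s < chevE7.nroots, s ≠ r → s ≠ chevE7.neg r → CommOK F chevE7 r s := by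
  have hD : Good chevE7 := by simp [Good]
  refine commOK_of_cert chevE7 etaTabE7 certE7 etaTabE7_cases (fun i _ => ⟨nGL chevE7 hD i, nGL_val chevE7 hD i⟩)
    (fun i hi s hs t => conjExplE7 i hi s hs t) posOfRangeE7 (fun i hi s hs => commAllE7 i hi s hs) ?_
  intro r hr s hs h1 h2
  exact pairOK_of_rowOK chevE7 etaTabE7 certE7 r (rowOKAllE7 r hr) s hs h1 h2

theorem rowOKAllE8 (r : ℕ) (hr : r < 240) : rowOK chevE8 etaTabE8 certE8 r = true := by
  by_cases h15 : r < 15
  · exact rowOKE8_from0 r (by omega) h15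
  by_cases h30 : r < 30
  · exact rowOKE8_from15 r (by omega) h30
  by_cases h45 : r < 45
  · exact rowOKE8_from30 r (by omega) h45
  by_cases h60 : r < 60
  · exact rowOKE8_from45 r (by omega) h60
  by_cases h75 : r < 75
  · exact rowOKE8_from60 r (by omega) h75
  by_cases h90 : r < 90
  · exact rowOKE8_from75 r (by omega) h90
  by_cases h105 : r < 105
  · exact rowOKE8_from90 r (by omega) h105
  by_cases h120 : r < 120
  · exact rowOKE8_from105 r (by omega) h120
  by_cases h135 : r < 135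
  · exact rowOKE8_from120 r (by omega) h135
  by_cases h150 : r < 150
  · exact rowOKE8_from135 r (by omega) h150
  by_cases h165 : r < 165
  · exact rowOKE8_from150 r (by omega) h165
  by_cases h180 : r < 180
  · exact rowOKE8_from165 r (by omega) h180
  by_cases h195 : r < 195
  · exact rowOKE8_from180 r (by omega) h195
  by_cases h210 : r < 210
  · exact rowOKE8_from195 r (by omega) h210
  by_cases h225 : r < 225
  · exact rowOKE8_from210 r (by omega) h225
  exact rowOKE8_from225 r (by omega) hr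

theorem posOfRangeE8 : ∀ s < chevE8.nroots, chevE8.nroots / 2 ≤ s → chevE8.IsPosRoot s := by
  decide +kernel

theorem commOKE8 {F : Type*} [Field F] : ∀ r < chevE8.nroots, ∀ s < chevE8.nroots, s ≠ r → s ≠ chevE8.neg r → CommOK F chevE8 r s := by
  have hD : Good chevE8 := by simp [Good]
  refine commOK_of_cert chevE8 etaTabE8 certE8 etaTabE8_cases (fun i _ => ⟨nGL chevE8 hD i, nGL_val chevE8 hD i⟩)
    (fun i hi s hs t => conjExplE8 i hi s hs t) posOfRangeE8 (fun i hi s hs => commAllE8 i hi s hs) ?_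
  intro r hr s hs h1 h2
  exact pairOK_of_rowOK chevE8 etaTabE8 certE8 r (rowOKAllE8 r hr) s hs h1 h2

/-- The commutator formula for all pairs of roots `s ≠ ±r` of the seven tabulated data. -/
theorem commOK_all {F : Type*} [Field F] (D : ChevalleyDatum) (hD : Good D) :
    ∀ r < D.nroots, ∀ s < D.nroots, s ≠ r → s ≠ D.neg r → CommOK F D r s := by
  simp only [Good, List.mem_cons, List.not_mem_nil, or_false] at hD
  rcases hD with rfl | rfl | rfl | rfl | rfl | rfl | rfl
  · exact commOKG2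
  · exact commOKB2
  · exact commOKD4
  · exact commOKF4
  · exact commOKE6
  · exact commOKE7
  · exact commOKE8

end Cfsg.Agent.Helper18
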