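import Cfsg.Agent.Lib.Helper18.ChevComm
import Cfsg.Prelude.Def_LieTypes
import Cfsg.Prelude.Def_ChevB2

set_option autoImplicit false
set_option maxRecDepth 100000
set_option Elab.async false

namespace Cfsg.Agent.Helper18

open Cfsg.Lie

theorem commG2_0_6 : commCheck chevG2 7 6 = true := by
  decide +kernel

theorem commG2_0_7 : commCheck chevG2 7 7 = true := by
  decide +kernel

theorem commG2_0_8 : commCheck chevG2 7 8 = true := by
  decide +kernel

theorem commG2_0_9 : commCheck chevG2 7 9 = true := by
  decide +kernel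

theorem commG2_0_10 : commCheck chevG2 7 10 = true := by
  decide +kernel

theorem commG2_0_11 : commCheck chevG2 7 11 = true := by
  decide +kernel

theorem commG2_0_from6 (s : ℕ) (h1 : 6 ≤ s) (h2 : s < 12) : commCheck chevG2 7 s = true := by
  have h : s = 6 ∨ s = 7 ∨ s = 8 ∨ s = 9 ∨ s = 10 ∨ s = 11 := by omega
  rcases h with rfl | rfl | rfl | rfl | rfl | rfl
  exacts [commG2_0_6, commG2_0_7, commG2_0_8, commG2_0_9, commG2_0_10, commG2_0_11]

theorem commG2_1_6 : commCheck chevG2 6 6 = true := by
  decide +kernel

theorem commG2_1_7 : commCheck chevG2 6 7 = true := by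
  decide +kernel

theorem commG2_1_8 : commCheck chevG2 6 8 = true := by
  decide +kernel

theorem commG2_1_9 : commCheck chevG2 6 9 = true := by
  decide +kernel

theorem commG2_1_10 : commCheck chevG2 6 10 = true := by
  decide +kernel

theorem commG2_1_11 : commCheck chevG2 6 11 = true := by
  decide +kernel

theorem commG2_1_from6 (s : ℕ) (h1 : 6 ≤ s) (h2 : s < 12) : commCheck chevG2 6 s = true := by
  have h : s = 6 ∨ s = 7 ∨ s = 8 ∨ s = 9 ∨ s = 10 ∨ s = 11 := by omega
  rcases h with rfl | rfl | rfl | rfl | rfl | rfl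
  exacts [commG2_1_6, commG2_1_7, commG2_1_8, commG2_1_9, commG2_1_10, commG2_1_11]

theorem commB2_0_4 : commCheck chevB2 5 4 = true := by
  decide +kernel

theorem commB2_0_5 : commCheck chevB2 5 5 = true := by
  decide +kernel

theorem commB2_0_6 : commCheck chevB2 5 6 = true := by
  decide +kernel

theorem commB2_0_7 : commCheck chevB2 5 7 = true := by
  decide +kernel

theorem commB2_0_from4 (s : ℕ) (h1 : 4 ≤ s) (h2 : s < 8) : commCheck chevB2 5 s = true := by
  have h : s = 4 ∨ s = 5 ∨ s = 6 ∨ s = 7 := by omega
  rcases h with rfl | rfl | rfl | rfl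
  exacts [commB2_0_4, commB2_0_5, commB2_0_6, commB2_0_7]

theorem commB2_1_4 : commCheck chevB2 4 4 = true := by
  decide +kernel

theorem commB2_1_5 : commCheck chevB2 4 5 = true := by
  decide +kernel

theorem commB2_1_6 : commCheck chevB2 4 6 = true := by
  decide +kernel

theorem commB2_1_7 : commCheck chevB2 4 7 = true := by
  decide +kernel

theorem commB2_1_from4 (s : ℕ) (h1 : 4 ≤ s) (h2 : s < 8) : commCheck chevB2 4 s = true := by
  have h : s = 4 ∨ s = 5 ∨ s = 6 ∨ s = 7 := by omega
  rcases h with rfl | rfl | rfl | rfl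
  exacts [commB2_1_4, commB2_1_5, commB2_1_6, commB2_1_7]

theorem commD4_0_12 : commCheck chevD4 18 12 = true := by
  decide +kernel

theorem commD4_0_13 : commCheck chevD4 18 13 = true := by
  decide +kernel

theorem commD4_0_14 : commCheck chevD4 18 14 = true := by
  decide +kernel

theorem commD4_0_15 : commCheck chevD4 18 15 = true := by
  decide +kernel

theorem commD4_0_16 : commCheck chevD4 18 16 = true := by
  decide +kernel

theorem commD4_0_17 : commCheck chevD4 18 17 = true := by
  decide +kernel

theorem commD4_0_18 : commCheck chevD4 18 18 = true := by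
  decide +kernel

theorem commD4_0_19 : commCheck chevD4 18 19 = true := by
  decide +kernel

theorem commD4_0_20 : commCheck chevD4 18 20 = true := by
  decide +kernel

theorem commD4_0_21 : commCheck chevD4 18 21 = true := by
  decide +kernel

theorem commD4_0_22 : commCheck chevD4 18 22 = true := by
  decide +kernel

theorem commD4_0_23 : commCheck chevD4 18 23 = true := by
  decide +kernel

theorem commD4_0_from12 (s : ℕ) (h1 : 12 ≤ s) (h2 : s < 24) : commCheck chevD4 18 s = true := by
  have h : s = 12 ∨ s = 13 ∨ s = 14 ∨ s = 15 ∨ s = 16 ∨ s = 17 ∨ s = 18 ∨ s = 19 ∨ s = 20 ∨ s = 21 ∨ s = 22 ∨ s = 23 := by omega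
  rcases h with rfl | rfl | rfl | rfl | rfl | rfl | rfl | rfl | rfl | rfl | rfl | rfl
  exacts [commD4_0_12, commD4_0_13, commD4_0_14, commD4_0_15, commD4_0_16, commD4_0_17, commD4_0_18, commD4_0_19, commD4_0_20, commD4_0_21, commD4_0_22, commD4_0_23]

theorem commD4_1_12 : commCheck chevD4 14 12 = true := by
  decide +kernel

theorem commD4_1_13 : commCheck chevD4 14 13 = true := by
  decide +kernel

theorem commD4_1_14 : commCheck chevD4 14 14 = true := by
  decide +kernel

theorem commD4_1_15 : commCheck chevD4 14 15 = true := by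
  decide +kernel

theorem commD4_1_16 : commCheck chevD4 14 16 = true := by
  decide +kernel

theorem commD4_1_17 : commCheck chevD4 14 17 = true := by
  decide +kernel

theorem commD4_1_18 : commCheck chevD4 14 18 = true := by
  decide +kernel

theorem commD4_1_19 : commCheck chevD4 14 19 = true := by
  decide +kernel

theorem commD4_1_20 : commCheck chevD4 14 20 = true := by
  decide +kernel

theorem commD4_1_21 : commCheck chevD4 14 21 = true := by
  decide +kernel

theorem commD4_1_22 : commCheck chevD4 14 22 = true := by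
  decide +kernel

theorem commD4_1_23 : commCheck chevD4 14 23 = true := by
  decide +kernel

theorem commD4_1_from12 (s : ℕ) (h1 : 12 ≤ s) (h2 : s < 24) : commCheck chevD4 14 s = true := by
  have h : s = 12 ∨ s = 13 ∨ s = 14 ∨ s = 15 ∨ s = 16 ∨ s = 17 ∨ s = 18 ∨ s = 19 ∨ s = 20 ∨ s = 21 ∨ s = 22 ∨ s = 23 := by omega
  rcases h with rfl | rfl | rfl | rfl | rfl | rfl | rfl | rfl | rfl | rfl | rfl | rfl
  exacts [commD4_1_12, commD4_1_13, commD4_1_14, commD4_1_15, commD4_1_16, commD4_1_17, commD4_1_18, commD4_1_19, commD4_1_20, commD4_1_21, commD4_1_22, commD4_1_23]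

theorem commD4_2_12 : commCheck chevD4 13 12 = true := by
  decide +kernel

theorem commD4_2_13 : commCheck chevD4 13 13 = true := by
  decide +kernel

theorem commD4_2_14 : commCheck chevD4 13 14 = true := by
  decide +kernel

theorem commD4_2_15 : commCheck chevD4 13 15 = true := by
  decide +kernel

theorem commD4_2_16 : commCheck chevD4 13 16 = true := by
  decide +kernel

theorem commD4_2_17 : commCheck chevD4 13 17 = true := by
  decide +kernel

theorem commD4_2_18 : commCheck chevD4 13 18 = true := by
  decide +kernel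

theorem commD4_2_19 : commCheck chevD4 13 19 = true := by
  decide +kernel

theorem commD4_2_20 : commCheck chevD4 13 20 = true := by
  decide +kernel

theorem commD4_2_21 : commCheck chevD4 13 21 = true := by
  decide +kernel

theorem commD4_2_22 : commCheck chevD4 13 22 = true := by
  decide +kernel

theorem commD4_2_23 : commCheck chevD4 13 23 = true := by
  decide +kernel

theorem commD4_2_from12 (s : ℕ) (h1 : 12 ≤ s) (h2 : s < 24) : commCheck chevD4 13 s = true := by
  have h : s = 12 ∨ s = 13 ∨ s = 14 ∨ s = 15 ∨ s = 16 ∨ s = 17 ∨ s = 18 ∨ s = 19 ∨ s = 20 ∨ s = 21 ∨ s = 22 ∨ s = 23 := by omega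
  rcases h with rfl | rfl | rfl | rfl | rfl | rfl | rfl | rfl | rfl | rfl | rfl | rfl
  exacts [commD4_2_12, commD4_2_13, commD4_2_14, commD4_2_15, commD4_2_16, commD4_2_17, commD4_2_18, commD4_2_19, commD4_2_20, commD4_2_21, commD4_2_22, commD4_2_23]

theorem commD4_3_12 : commCheck chevD4 12 12 = true := by
  decide +kernel

theorem commD4_3_13 : commCheck chevD4 12 13 = true := by
  decide +kernel

theorem commD4_3_14 : commCheck chevD4 12 14 = true := by
  decide +kernel

theorem commD4_3_15 : commCheck chevD4 12 15 = true := by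
  decide +kernel

theorem commD4_3_16 : commCheck chevD4 12 16 = true := by
  decide +kernel

theorem commD4_3_17 : commCheck chevD4 12 17 = true := by
  decide +kernel

theorem commD4_3_18 : commCheck chevD4 12 18 = true := by
  decide +kernel

theorem commD4_3_19 : commCheck chevD4 12 19 = true := by
  decide +kernel

theorem commD4_3_20 : commCheck chevD4 12 20 = true := by
  decide +kernel

theorem commD4_3_21 : commCheck chevD4 12 21 = true := by
  decide +kernel

theorem commD4_3_22 : commCheck chevD4 12 22 = true := by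
  decide +kernel

theorem commD4_3_23 : commCheck chevD4 12 23 = true := by
  decide +kernel

theorem commD4_3_from12 (s : ℕ) (h1 : 12 ≤ s) (h2 : s < 24) : commCheck chevD4 12 s = true := by
  have h : s = 12 ∨ s = 13 ∨ s = 14 ∨ s = 15 ∨ s = 16 ∨ s = 17 ∨ s = 18 ∨ s = 19 ∨ s = 20 ∨ s = 21 ∨ s = 22 ∨ s = 23 := by omega
  rcases h with rfl | rfl | rfl | rfl | rfl | rfl | rfl | rfl | rfl | rfl | rfl | rfl
  exacts [commD4_3_12, commD4_3_13, commD4_3_14, commD4_3_15, commD4_3_16, commD4_3_17, commD4_3_18, commD4_3_19, commD4_3_20, commD4_3_21, commD4_3_22, commD4_3_23]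

theorem commF4_0_24 : commCheck chevF4 33 24 = true := by
  decide +kernel

theorem commF4_0_25 : commCheck chevF4 33 25 = true := by
  decide +kernel

theorem commF4_0_26 : commCheck chevF4 33 26 = true := by
  decide +kernel

theorem commF4_0_27 : commCheck chevF4 33 27 = true := by
  decide +kernel

theorem commF4_0_28 : commCheck chevF4 33 28 = true := by
  decide +kernel

theorem commF4_0_29 : commCheck chevF4 33 29 = true := by
  decide +kernel

theorem commF4_0_30 : commCheck chevF4 33 30 = true := by
  decide +kernel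

theorem commF4_0_31 : commCheck chevF4 33 31 = true := by
  decide +kernel

theorem commF4_0_32 : commCheck chevF4 33 32 = true := by
  decide +kernel

theorem commF4_0_33 : commCheck chevF4 33 33 = true := by
  decide +kernel

theorem commF4_0_34 : commCheck chevF4 33 34 = true := by
  decide +kernel

theorem commF4_0_35 : commCheck chevF4 33 35 = true := by
  decide +kernel

theorem commF4_0_36 : commCheck chevF4 33 36 = true := by
  decide +kernel

theorem commF4_0_37 : commCheck chevF4 33 37 = true := by
  decide +kernel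

theorem commF4_0_38 : commCheck chevF4 33 38 = true := by
  decide +kernel

theorem commF4_0_39 : commCheck chevF4 33 39 = true := by
  decide +kernel

theorem commF4_0_40 : commCheck chevF4 33 40 = true := by
  decide +kernel

theorem commF4_0_41 : commCheck chevF4 33 41 = true := by
  decide +kernel

theorem commF4_0_42 : commCheck chevF4 33 42 = true := by
  decide +kernel

theorem commF4_0_43 : commCheck chevF4 33 43 = true := by
  decide +kernel

theorem commF4_0_44 : commCheck chevF4 33 44 = true := by
  decide +kernel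

theorem commF4_0_45 : commCheck chevF4 33 45 = true := by
  decide +kernel

theorem commF4_0_46 : commCheck chevF4 33 46 = true := by
  decide +kernel

theorem commF4_0_47 : commCheck chevF4 33 47 = true := by
  decide +kernel

theorem commF4_0_from24 (s : ℕ) (h1 : 24 ≤ s) (h2 : s < 48) : commCheck chevF4 33 s = true := by
  have h : s = 24 ∨ s = 25 ∨ s = 26 ∨ s = 27 ∨ s = 28 ∨ s = 29 ∨ s = 30 ∨ s = 31 ∨ s = 32 ∨ s = 33 ∨ s = 34 ∨ s = 35 ∨ s = 36 ∨ s = 37 ∨ s = 38 ∨ s = 39 ∨ s = 40 ∨ s = 41 ∨ s = 42 ∨ s = 43 ∨ s = 44 ∨ s = 45 ∨ s = 46 ∨ s = 47 := by omega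
  rcases h with rfl | rfl | rfl | rfl | rfl | rfl | rfl | rfl | rfl | rfl | rfl | rfl | rfl | rfl | rfl | rfl | rfl | rfl | rfl | rfl | rfl | rfl | rfl | rfl
  exacts [commF4_0_24, commF4_0_25, commF4_0_26, commF4_0_27, commF4_0_28, commF4_0_29, commF4_0_30, commF4_0_31, commF4_0_32, commF4_0_33, commF4_0_34, commF4_0_35, commF4_0_36, commF4_0_37, commF4_0_38, commF4_0_39, commF4_0_40, commF4_0_41, commF4_0_42, commF4_0_43, commF4_0_44, commF4_0_45, commF4_0_46, commF4_0_47]

theorem commF4_1_24 : commCheck chevF4 27 24 = true := by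
  decide +kernel

theorem commF4_1_25 : commCheck chevF4 27 25 = true := by
  decide +kernel

theorem commF4_1_26 : commCheck chevF4 27 26 = true := by
  decide +kernel

theorem commF4_1_27 : commCheck chevF4 27 27 = true := by
  decide +kernel

theorem commF4_1_28 : commCheck chevF4 27 28 = true := by
  decide +kernel

theorem commF4_1_29 : commCheck chevF4 27 29 = true := by
  decide +kernel

theorem commF4_1_30 : commCheck chevF4 27 30 = true := by
  decide +kernel

theorem commF4_1_31 : commCheck chevF4 27 31 = true := by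
  decide +kernel

theorem commF4_1_32 : commCheck chevF4 27 32 = true := by
  decide +kernel

theorem commF4_1_33 : commCheck chevF4 27 33 = true := by
  decide +kernel

theorem commF4_1_34 : commCheck chevF4 27 34 = true := by
  decide +kernel

theorem commF4_1_35 : commCheck chevF4 27 35 = true := by
  decide +kernel

theorem commF4_1_36 : commCheck chevF4 27 36 = true := by
  decide +kernel

theorem commF4_1_37 : commCheck chevF4 27 37 = true := by
  decide +kernel

theorem commF4_1_38 : commCheck chevF4 27 38 = true := by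
  decide +kernel

theorem commF4_1_39 : commCheck chevF4 27 39 = true := by
  decide +kernel

theorem commF4_1_40 : commCheck chevF4 27 40 = true := by
  decide +kernel

theorem commF4_1_41 : commCheck chevF4 27 41 = true := by
  decide +kernel

theorem commF4_1_42 : commCheck chevF4 27 42 = true := by
  decide +kernel

theorem commF4_1_43 : commCheck chevF4 27 43 = true := by
  decide +kernel

theorem commF4_1_44 : commCheck chevF4 27 44 = true := by
  decide +kernel

theorem commF4_1_45 : commCheck chevF4 27 45 = true := by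
  decide +kernel

theorem commF4_1_46 : commCheck chevF4 27 46 = true := by
  decide +kernel

theorem commF4_1_47 : commCheck chevF4 27 47 = true := by
  decide +kernel

theorem commF4_1_from24 (s : ℕ) (h1 : 24 ≤ s) (h2 : s < 48) : commCheck chevF4 27 s = true := by
  have h : s = 24 ∨ s = 25 ∨ s = 26 ∨ s = 27 ∨ s = 28 ∨ s = 29 ∨ s = 30 ∨ s = 31 ∨ s = 32 ∨ s = 33 ∨ s = 34 ∨ s = 35 ∨ s = 36 ∨ s = 37 ∨ s = 38 ∨ s = 39 ∨ s = 40 ∨ s = 41 ∨ s = 42 ∨ s = 43 ∨ s = 44 ∨ s = 45 ∨ s = 46 ∨ s = 47 := by omega
  rcases h with rfl | rfl | rfl | rfl | rfl | rfl | rfl | rfl | rfl | rfl | rfl | rfl | rfl | rfl | rfl | rfl | rfl | rfl | rfl | rfl | rfl | rfl | rfl | rfl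
  exacts [commF4_1_24, commF4_1_25, commF4_1_26, commF4_1_27, commF4_1_28, commF4_1_29, commF4_1_30, commF4_1_31, commF4_1_32, commF4_1_33, commF4_1_34, commF4_1_35, commF4_1_36, commF4_1_37, commF4_1_38, commF4_1_39, commF4_1_40, commF4_1_41, commF4_1_42, commF4_1_43, commF4_1_44, commF4_1_45, commF4_1_46, commF4_1_47]

theorem commF4_2_24 : commCheck chevF4 25 24 = true := by
  decide +kernel

theorem commF4_2_25 : commCheck chevF4 25 25 = true := by
  decide +kernel

theorem commF4_2_26 : commCheck chevF4 25 26 = true := by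
  decide +kernel

theorem commF4_2_27 : commCheck chevF4 25 27 = true := by
  decide +kernel

theorem commF4_2_28 : commCheck chevF4 25 28 = true := by
  decide +kernel

theorem commF4_2_29 : commCheck chevF4 25 29 = true := by
  decide +kernel

theorem commF4_2_30 : commCheck chevF4 25 30 = true := by
  decide +kernel

theorem commF4_2_31 : commCheck chevF4 25 31 = true := by
  decide +kernel

theorem commF4_2_32 : commCheck chevF4 25 32 = true := by
  decide +kernel

theorem commF4_2_33 : commCheck chevF4 25 33 = true := by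
  decide +kernel

theorem commF4_2_34 : commCheck chevF4 25 34 = true := by
  decide +kernel

theorem commF4_2_35 : commCheck chevF4 25 35 = true := by
  decide +kernel

theorem commF4_2_36 : commCheck chevF4 25 36 = true := by
  decide +kernel

theorem commF4_2_37 : commCheck chevF4 25 37 = true := by
  decide +kernel

theorem commF4_2_38 : commCheck chevF4 25 38 = true := by
  decide +kernel

theorem commF4_2_39 : commCheck chevF4 25 39 = true := by
  decide +kernel

theorem commF4_2_40 : commCheck chevF4 25 40 = true := by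
  decide +kernel

theorem commF4_2_41 : commCheck chevF4 25 41 = true := by
  decide +kernel

theorem commF4_2_42 : commCheck chevF4 25 42 = true := by
  decide +kernel

theorem commF4_2_43 : commCheck chevF4 25 43 = true := by
  decide +kernel

theorem commF4_2_44 : commCheck chevF4 25 44 = true := by
  decide +kernel

theorem commF4_2_45 : commCheck chevF4 25 45 = true := by
  decide +kernel

theorem commF4_2_46 : commCheck chevF4 25 46 = true := by
  decide +kernel

theorem commF4_2_47 : commCheck chevF4 25 47 = true := by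
  decide +kernel

theorem commF4_2_from24 (s : ℕ) (h1 : 24 ≤ s) (h2 : s < 48) : commCheck chevF4 25 s = true := by
  have h : s = 24 ∨ s = 25 ∨ s = 26 ∨ s = 27 ∨ s = 28 ∨ s = 29 ∨ s = 30 ∨ s = 31 ∨ s = 32 ∨ s = 33 ∨ s = 34 ∨ s = 35 ∨ s = 36 ∨ s = 37 ∨ s = 38 ∨ s = 39 ∨ s = 40 ∨ s = 41 ∨ s = 42 ∨ s = 43 ∨ s = 44 ∨ s = 45 ∨ s = 46 ∨ s = 47 := by omega
  rcases h with rfl | rfl | rfl | rfl | rfl | rfl | rfl | rfl | rfl | rfl | rfl | rfl | rfl | rfl | rfl | rfl | rfl | rfl | rfl | rfl | rfl | rfl | rfl | rfl
  exacts [commF4_2_24, commF4_2_25, commF4_2_26, commF4_2_27, commF4_2_28, commF4_2_29, commF4_2_30, commF4_2_31, commF4_2_32, commF4_2_33, commF4_2_34, commF4_2_35, commF4_2_36, commF4_2_37, commF4_2_38, commF4_2_39, commF4_2_40, commF4_2_41, commF4_2_42, commF4_2_43, commF4_2_44, commF4_2_45, commF4_2_46, commF4_2_47]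

theorem commF4_3_24 : commCheck chevF4 24 24 = true := by
  decide +kernel

theorem commF4_3_25 : commCheck chevF4 24 25 = true := by
  decide +kernel

theorem commF4_3_26 : commCheck chevF4 24 26 = true := by
  decide +kernel

theorem commF4_3_27 : commCheck chevF4 24 27 = true := by
  decide +kernel

theorem commF4_3_28 : commCheck chevF4 24 28 = true := by
  decide +kernel

theorem commF4_3_29 : commCheck chevF4 24 29 = true := by
  decide +kernel

theorem commF4_3_30 : commCheck chevF4 24 30 = true := by
  decide +kernel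

theorem commF4_3_31 : commCheck chevF4 24 31 = true := by
  decide +kernel

theorem commF4_3_32 : commCheck chevF4 24 32 = true := by
  decide +kernel

theorem commF4_3_33 : commCheck chevF4 24 33 = true := by
  decide +kernel

theorem commF4_3_34 : commCheck chevF4 24 34 = true := by
  decide +kernel

theorem commF4_3_35 : commCheck chevF4 24 35 = true := by
  decide +kernel

theorem commF4_3_36 : commCheck chevF4 24 36 = true := by
  decide +kernel

theorem commF4_3_37 : commCheck chevF4 24 37 = true := by
  decide +kernel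

theorem commF4_3_38 : commCheck chevF4 24 38 = true := by
  decide +kernel

theorem commF4_3_39 : commCheck chevF4 24 39 = true := by
  decide +kernel

theorem commF4_3_40 : commCheck chevF4 24 40 = true := by
  decide +kernel

theorem commF4_3_41 : commCheck chevF4 24 41 = true := by
  decide +kernel

theorem commF4_3_42 : commCheck chevF4 24 42 = true := by
  decide +kernel

theorem commF4_3_43 : commCheck chevF4 24 43 = true := by
  decide +kernel

theorem commF4_3_44 : commCheck chevF4 24 44 = true := by
  decide +kernel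

theorem commF4_3_45 : commCheck chevF4 24 45 = true := by
  decide +kernel

theorem commF4_3_46 : commCheck chevF4 24 46 = true := by
  decide +kernel

theorem commF4_3_47 : commCheck chevF4 24 47 = true := by
  decide +kernel

theorem commF4_3_from24 (s : ℕ) (h1 : 24 ≤ s) (h2 : s < 48) : commCheck chevF4 24 s = true := by
  have h : s = 24 ∨ s = 25 ∨ s = 26 ∨ s = 27 ∨ s = 28 ∨ s = 29 ∨ s = 30 ∨ s = 31 ∨ s = 32 ∨ s = 33 ∨ s = 34 ∨ s = 35 ∨ s = 36 ∨ s = 37 ∨ s = 38 ∨ s = 39 ∨ s = 40 ∨ s = 41 ∨ s = 42 ∨ s = 43 ∨ s = 44 ∨ s = 45 ∨ s = 46 ∨ s = 47 := by omega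
  rcases h with rfl | rfl | rfl | rfl | rfl | rfl | rfl | rfl | rfl | rfl | rfl | rfl | rfl | rfl | rfl | rfl | rfl | rfl | rfl | rfl | rfl | rfl | rfl | rfl
  exacts [commF4_3_24, commF4_3_25, commF4_3_26, commF4_3_27, commF4_3_28, commF4_3_29, commF4_3_30, commF4_3_31, commF4_3_32, commF4_3_33, commF4_3_34, commF4_3_35, commF4_3_36, commF4_3_37, commF4_3_38, commF4_3_39, commF4_3_40, commF4_3_41, commF4_3_42, commF4_3_43, commF4_3_44, commF4_3_45, commF4_3_46, commF4_3_47]

end Cfsg.Agent.Helper18
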