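import Cfsg.Agent.Lib.Helper18.ConjData

set_option autoImplicit false
set_option maxRecDepth 100000

namespace Cfsg.Agent.Helper18

open Cfsg.Lie

theorem conjE8_0_60 : conjCheck chevE8 (pMonoCol chevE8 0 permE8_0 etaE8_0) 60 (dec8 permE8_0 60) (etaOf etaE8_0 60) = true := by
  decide +kernel

theorem conjE8_0_61 : conjCheck chevE8 (pMonoCol chevE8 0 permE8_0 etaE8_0) 61 (dec8 permE8_0 61) (etaOf etaE8_0 61) = true := by
  decide +kernel

theorem conjE8_0_62 : conjCheck chevE8 (pMonoCol chevE8 0 permE8_0 etaE8_0) 62 (dec8 permE8_0 62) (etaOf etaE8_0 62) = true := by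
  decide +kernel

theorem conjE8_0_63 : conjCheck chevE8 (pMonoCol chevE8 0 permE8_0 etaE8_0) 63 (dec8 permE8_0 63) (etaOf etaE8_0 63) = true := by
  decide +kernel

theorem conjE8_0_64 : conjCheck chevE8 (pMonoCol chevE8 0 permE8_0 etaE8_0) 64 (dec8 permE8_0 64) (etaOf etaE8_0 64) = true := by
  decide +kernel

theorem conjE8_0_65 : conjCheck chevE8 (pMonoCol chevE8 0 permE8_0 etaE8_0) 65 (dec8 permE8_0 65) (etaOf etaE8_0 65) = true := by
  decide +kernel

theorem conjE8_0_66 : conjCheck chevE8 (pMonoCol chevE8 0 permE8_0 etaE8_0) 66 (dec8 permE8_0 66) (etaOf etaE8_0 66) = true := by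
  decide +kernel

theorem conjE8_0_67 : conjCheck chevE8 (pMonoCol chevE8 0 permE8_0 etaE8_0) 67 (dec8 permE8_0 67) (etaOf etaE8_0 67) = true := by
  decide +kernel

theorem conjE8_0_68 : conjCheck chevE8 (pMonoCol chevE8 0 permE8_0 etaE8_0) 68 (dec8 permE8_0 68) (etaOf etaE8_0 68) = true := by
  decide +kernel

theorem conjE8_0_69 : conjCheck chevE8 (pMonoCol chevE8 0 permE8_0 etaE8_0) 69 (dec8 permE8_0 69) (etaOf etaE8_0 69) = true := by
  decide +kernel

theorem conjE8_0_70 : conjCheck chevE8 (pMonoCol chevE8 0 permE8_0 etaE8_0) 70 (dec8 permE8_0 70) (etaOf etaE8_0 70) = true := by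
  decide +kernel

theorem conjE8_0_71 : conjCheck chevE8 (pMonoCol chevE8 0 permE8_0 etaE8_0) 71 (dec8 permE8_0 71) (etaOf etaE8_0 71) = true := by
  decide +kernel

theorem conjE8_0_72 : conjCheck chevE8 (pMonoCol chevE8 0 permE8_0 etaE8_0) 72 (dec8 permE8_0 72) (etaOf etaE8_0 72) = true := by
  decide +kernel

theorem conjE8_0_73 : conjCheck chevE8 (pMonoCol chevE8 0 permE8_0 etaE8_0) 73 (dec8 permE8_0 73) (etaOf etaE8_0 73) = true := by
  decide +kernel

theorem conjE8_0_74 : conjCheck chevE8 (pMonoCol chevE8 0 permE8_0 etaE8_0) 74 (dec8 permE8_0 74) (etaOf etaE8_0 74) = true := by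
  decide +kernel

theorem conjE8_0_75 : conjCheck chevE8 (pMonoCol chevE8 0 permE8_0 etaE8_0) 75 (dec8 permE8_0 75) (etaOf etaE8_0 75) = true := by
  decide +kernel

theorem conjE8_0_76 : conjCheck chevE8 (pMonoCol chevE8 0 permE8_0 etaE8_0) 76 (dec8 permE8_0 76) (etaOf etaE8_0 76) = true := by
  decide +kernel

theorem conjE8_0_77 : conjCheck chevE8 (pMonoCol chevE8 0 permE8_0 etaE8_0) 77 (dec8 permE8_0 77) (etaOf etaE8_0 77) = true := by
  decide +kernel

theorem conjE8_0_78 : conjCheck chevE8 (pMonoCol chevE8 0 permE8_0 etaE8_0) 78 (dec8 permE8_0 78) (etaOf etaE8_0 78) = true := by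
  decide +kernel

theorem conjE8_0_79 : conjCheck chevE8 (pMonoCol chevE8 0 permE8_0 etaE8_0) 79 (dec8 permE8_0 79) (etaOf etaE8_0 79) = true := by
  decide +kernel

theorem conjE8_0_80 : conjCheck chevE8 (pMonoCol chevE8 0 permE8_0 etaE8_0) 80 (dec8 permE8_0 80) (etaOf etaE8_0 80) = true := by
  decide +kernel

theorem conjE8_0_81 : conjCheck chevE8 (pMonoCol chevE8 0 permE8_0 etaE8_0) 81 (dec8 permE8_0 81) (etaOf etaE8_0 81) = true := by
  decide +kernel

theorem conjE8_0_82 : conjCheck chevE8 (pMonoCol chevE8 0 permE8_0 etaE8_0) 82 (dec8 permE8_0 82) (etaOf etaE8_0 82) = true := by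
  decide +kernel

theorem conjE8_0_83 : conjCheck chevE8 (pMonoCol chevE8 0 permE8_0 etaE8_0) 83 (dec8 permE8_0 83) (etaOf etaE8_0 83) = true := by
  decide +kernel

theorem conjE8_0_84 : conjCheck chevE8 (pMonoCol chevE8 0 permE8_0 etaE8_0) 84 (dec8 permE8_0 84) (etaOf etaE8_0 84) = true := by
  decide +kernel

theorem conjE8_0_85 : conjCheck chevE8 (pMonoCol chevE8 0 permE8_0 etaE8_0) 85 (dec8 permE8_0 85) (etaOf etaE8_0 85) = true := by
  decide +kernel

theorem conjE8_0_86 : conjCheck chevE8 (pMonoCol chevE8 0 permE8_0 etaE8_0) 86 (dec8 permE8_0 86) (etaOf etaE8_0 86) = true := by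
  decide +kernel

theorem conjE8_0_87 : conjCheck chevE8 (pMonoCol chevE8 0 permE8_0 etaE8_0) 87 (dec8 permE8_0 87) (etaOf etaE8_0 87) = true := by
  decide +kernel

theorem conjE8_0_88 : conjCheck chevE8 (pMonoCol chevE8 0 permE8_0 etaE8_0) 88 (dec8 permE8_0 88) (etaOf etaE8_0 88) = true := by
  decide +kernel

theorem conjE8_0_89 : conjCheck chevE8 (pMonoCol chevE8 0 permE8_0 etaE8_0) 89 (dec8 permE8_0 89) (etaOf etaE8_0 89) = true := by
  decide +kernel

theorem conjE8_0_from60 (s : ℕ) (h1 : 60 ≤ s) (h2 : s < 90) : conjCheck chevE8 (pMonoCol chevE8 0 permE8_0 etaE8_0) s (dec8 permE8_0 s) (etaOf etaE8_0 s) = true := by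
  have h : s = 60 ∨ s = 61 ∨ s = 62 ∨ s = 63 ∨ s = 64 ∨ s = 65 ∨ s = 66 ∨ s = 67 ∨ s = 68 ∨ s = 69 ∨ s = 70 ∨ s = 71 ∨ s = 72 ∨ s = 73 ∨ s = 74 ∨ s = 75 ∨ s = 76 ∨ s = 77 ∨ s = 78 ∨ s = 79 ∨ s = 80 ∨ s = 81 ∨ s = 82 ∨ s = 83 ∨ s = 84 ∨ s = 85 ∨ s = 86 ∨ s = 87 ∨ s = 88 ∨ s = 89 := by omega
  rcases h with rfl | rfl | rfl | rfl | rfl | rfl | rfl | rfl | rfl | rfl | rfl | rfl | rfl | rfl | rfl | rfl | rfl | rfl | rfl | rfl | rfl | rfl | rfl | rfl | rfl | rfl | rfl | rfl | rfl | rfl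
  exacts [conjE8_0_60, conjE8_0_61, conjE8_0_62, conjE8_0_63, conjE8_0_64, conjE8_0_65, conjE8_0_66, conjE8_0_67, conjE8_0_68, conjE8_0_69, conjE8_0_70, conjE8_0_71, conjE8_0_72, conjE8_0_73, conjE8_0_74, conjE8_0_75, conjE8_0_76, conjE8_0_77, conjE8_0_78, conjE8_0_79, conjE8_0_80, conjE8_0_81, conjE8_0_82, conjE8_0_83, conjE8_0_84, conjE8_0_85, conjE8_0_86, conjE8_0_87, conjE8_0_88, conjE8_0_89]

theorem conjE8_0_90 : conjCheck chevE8 (pMonoCol chevE8 0 permE8_0 etaE8_0) 90 (dec8 permE8_0 90) (etaOf etaE8_0 90) = true := by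
  decide +kernel

theorem conjE8_0_91 : conjCheck chevE8 (pMonoCol chevE8 0 permE8_0 etaE8_0) 91 (dec8 permE8_0 91) (etaOf etaE8_0 91) = true := by
  decide +kernel

theorem conjE8_0_92 : conjCheck chevE8 (pMonoCol chevE8 0 permE8_0 etaE8_0) 92 (dec8 permE8_0 92) (etaOf etaE8_0 92) = true := by
  decide +kernel

theorem conjE8_0_93 : conjCheck chevE8 (pMonoCol chevE8 0 permE8_0 etaE8_0) 93 (dec8 permE8_0 93) (etaOf etaE8_0 93) = true := by
  decide +kernel

theorem conjE8_0_94 : conjCheck chevE8 (pMonoCol chevE8 0 permE8_0 etaE8_0) 94 (dec8 permE8_0 94) (etaOf etaE8_0 94) = true := by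
  decide +kernel

theorem conjE8_0_95 : conjCheck chevE8 (pMonoCol chevE8 0 permE8_0 etaE8_0) 95 (dec8 permE8_0 95) (etaOf etaE8_0 95) = true := by
  decide +kernel

theorem conjE8_0_96 : conjCheck chevE8 (pMonoCol chevE8 0 permE8_0 etaE8_0) 96 (dec8 permE8_0 96) (etaOf etaE8_0 96) = true := by
  decide +kernel

theorem conjE8_0_97 : conjCheck chevE8 (pMonoCol chevE8 0 permE8_0 etaE8_0) 97 (dec8 permE8_0 97) (etaOf etaE8_0 97) = true := by
  decide +kernel

theorem conjE8_0_98 : conjCheck chevE8 (pMonoCol chevE8 0 permE8_0 etaE8_0) 98 (dec8 permE8_0 98) (etaOf etaE8_0 98) = true := by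
  decide +kernel

theorem conjE8_0_99 : conjCheck chevE8 (pMonoCol chevE8 0 permE8_0 etaE8_0) 99 (dec8 permE8_0 99) (etaOf etaE8_0 99) = true := by
  decide +kernel

theorem conjE8_0_100 : conjCheck chevE8 (pMonoCol chevE8 0 permE8_0 etaE8_0) 100 (dec8 permE8_0 100) (etaOf etaE8_0 100) = true := by
  decide +kernel

theorem conjE8_0_101 : conjCheck chevE8 (pMonoCol chevE8 0 permE8_0 etaE8_0) 101 (dec8 permE8_0 101) (etaOf etaE8_0 101) = true := by
  decide +kernel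

theorem conjE8_0_102 : conjCheck chevE8 (pMonoCol chevE8 0 permE8_0 etaE8_0) 102 (dec8 permE8_0 102) (etaOf etaE8_0 102) = true := by
  decide +kernel

theorem conjE8_0_103 : conjCheck chevE8 (pMonoCol chevE8 0 permE8_0 etaE8_0) 103 (dec8 permE8_0 103) (etaOf etaE8_0 103) = true := by
  decide +kernel

theorem conjE8_0_104 : conjCheck chevE8 (pMonoCol chevE8 0 permE8_0 etaE8_0) 104 (dec8 permE8_0 104) (etaOf etaE8_0 104) = true := by
  decide +kernel

theorem conjE8_0_105 : conjCheck chevE8 (pMonoCol chevE8 0 permE8_0 etaE8_0) 105 (dec8 permE8_0 105) (etaOf etaE8_0 105) = true := by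
  decide +kernel

theorem conjE8_0_106 : conjCheck chevE8 (pMonoCol chevE8 0 permE8_0 etaE8_0) 106 (dec8 permE8_0 106) (etaOf etaE8_0 106) = true := by
  decide +kernel

theorem conjE8_0_107 : conjCheck chevE8 (pMonoCol chevE8 0 permE8_0 etaE8_0) 107 (dec8 permE8_0 107) (etaOf etaE8_0 107) = true := by
  decide +kernel

theorem conjE8_0_108 : conjCheck chevE8 (pMonoCol chevE8 0 permE8_0 etaE8_0) 108 (dec8 permE8_0 108) (etaOf etaE8_0 108) = true := by
  decide +kernel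

theorem conjE8_0_109 : conjCheck chevE8 (pMonoCol chevE8 0 permE8_0 etaE8_0) 109 (dec8 permE8_0 109) (etaOf etaE8_0 109) = true := by
  decide +kernel

theorem conjE8_0_110 : conjCheck chevE8 (pMonoCol chevE8 0 permE8_0 etaE8_0) 110 (dec8 permE8_0 110) (etaOf etaE8_0 110) = true := by
  decide +kernel

theorem conjE8_0_111 : conjCheck chevE8 (pMonoCol chevE8 0 permE8_0 etaE8_0) 111 (dec8 permE8_0 111) (etaOf etaE8_0 111) = true := by
  decide +kernel

theorem conjE8_0_112 : conjCheck chevE8 (pMonoCol chevE8 0 permE8_0 etaE8_0) 112 (dec8 permE8_0 112) (etaOf etaE8_0 112) = true := by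
  decide +kernel

theorem conjE8_0_113 : conjCheck chevE8 (pMonoCol chevE8 0 permE8_0 etaE8_0) 113 (dec8 permE8_0 113) (etaOf etaE8_0 113) = true := by
  decide +kernel

theorem conjE8_0_114 : conjCheck chevE8 (pMonoCol chevE8 0 permE8_0 etaE8_0) 114 (dec8 permE8_0 114) (etaOf etaE8_0 114) = true := by
  decide +kernel

theorem conjE8_0_115 : conjCheck chevE8 (pMonoCol chevE8 0 permE8_0 etaE8_0) 115 (dec8 permE8_0 115) (etaOf etaE8_0 115) = true := by
  decide +kernel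

theorem conjE8_0_116 : conjCheck chevE8 (pMonoCol chevE8 0 permE8_0 etaE8_0) 116 (dec8 permE8_0 116) (etaOf etaE8_0 116) = true := by
  decide +kernel

theorem conjE8_0_117 : conjCheck chevE8 (pMonoCol chevE8 0 permE8_0 etaE8_0) 117 (dec8 permE8_0 117) (etaOf etaE8_0 117) = true := by
  decide +kernel

theorem conjE8_0_118 : conjCheck chevE8 (pMonoCol chevE8 0 permE8_0 etaE8_0) 118 (dec8 permE8_0 118) (etaOf etaE8_0 118) = true := by
  decide +kernel

theorem conjE8_0_119 : conjCheck chevE8 (pMonoCol chevE8 0 permE8_0 etaE8_0) 119 (dec8 permE8_0 119) (etaOf etaE8_0 119) = true := by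
  decide +kernel

theorem conjE8_0_from90 (s : ℕ) (h1 : 90 ≤ s) (h2 : s < 120) : conjCheck chevE8 (pMonoCol chevE8 0 permE8_0 etaE8_0) s (dec8 permE8_0 s) (etaOf etaE8_0 s) = true := by
  have h : s = 90 ∨ s = 91 ∨ s = 92 ∨ s = 93 ∨ s = 94 ∨ s = 95 ∨ s = 96 ∨ s = 97 ∨ s = 98 ∨ s = 99 ∨ s = 100 ∨ s = 101 ∨ s = 102 ∨ s = 103 ∨ s = 104 ∨ s = 105 ∨ s = 106 ∨ s = 107 ∨ s = 108 ∨ s = 109 ∨ s = 110 ∨ s = 111 ∨ s = 112 ∨ s = 113 ∨ s = 114 ∨ s = 115 ∨ s = 116 ∨ s = 117 ∨ s = 118 ∨ s = 119 := by omega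
  rcases h with rfl | rfl | rfl | rfl | rfl | rfl | rfl | rfl | rfl | rfl | rfl | rfl | rfl | rfl | rfl | rfl | rfl | rfl | rfl | rfl | rfl | rfl | rfl | rfl | rfl | rfl | rfl | rfl | rfl | rfl
  exacts [conjE8_0_90, conjE8_0_91, conjE8_0_92, conjE8_0_93, conjE8_0_94, conjE8_0_95, conjE8_0_96, conjE8_0_97, conjE8_0_98, conjE8_0_99, conjE8_0_100, conjE8_0_101, conjE8_0_102, conjE8_0_103, conjE8_0_104, conjE8_0_105, conjE8_0_106, conjE8_0_107, conjE8_0_108, conjE8_0_109, conjE8_0_110, conjE8_0_111, conjE8_0_112, conjE8_0_113, conjE8_0_114, conjE8_0_115, conjE8_0_116, conjE8_0_117, conjE8_0_118, conjE8_0_119]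

end Cfsg.Agent.Helper18
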