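import Cfsg.Agent.Lib.Helper18.ConjData

set_option autoImplicit false
set_option maxRecDepth 100000
set_option Elab.async false

namespace Cfsg.Agent.Helper18

open Cfsg.Lie

theorem conjE8_3_60 : conjCheck chevE8 (pMonoCol chevE8 3 permE8_3 etaE8_3) 60 (dec8 permE8_3 60) (etaOf etaE8_3 60) = true := by
  decide +kernel

theorem conjE8_3_61 : conjCheck chevE8 (pMonoCol chevE8 3 permE8_3 etaE8_3) 61 (dec8 permE8_3 61) (etaOf etaE8_3 61) = true := by
  decide +kernel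

theorem conjE8_3_62 : conjCheck chevE8 (pMonoCol chevE8 3 permE8_3 etaE8_3) 62 (dec8 permE8_3 62) (etaOf etaE8_3 62) = true := by
  decide +kernel

theorem conjE8_3_63 : conjCheck chevE8 (pMonoCol chevE8 3 permE8_3 etaE8_3) 63 (dec8 permE8_3 63) (etaOf etaE8_3 63) = true := by
  decide +kernel

theorem conjE8_3_64 : conjCheck chevE8 (pMonoCol chevE8 3 permE8_3 etaE8_3) 64 (dec8 permE8_3 64) (etaOf etaE8_3 64) = true := by
  decide +kernel

theorem conjE8_3_65 : conjCheck chevE8 (pMonoCol chevE8 3 permE8_3 etaE8_3) 65 (dec8 permE8_3 65) (etaOf etaE8_3 65) = true := by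
  decide +kernel

theorem conjE8_3_66 : conjCheck chevE8 (pMonoCol chevE8 3 permE8_3 etaE8_3) 66 (dec8 permE8_3 66) (etaOf etaE8_3 66) = true := by
  decide +kernel

theorem conjE8_3_67 : conjCheck chevE8 (pMonoCol chevE8 3 permE8_3 etaE8_3) 67 (dec8 permE8_3 67) (etaOf etaE8_3 67) = true := by
  decide +kernel

theorem conjE8_3_68 : conjCheck chevE8 (pMonoCol chevE8 3 permE8_3 etaE8_3) 68 (dec8 permE8_3 68) (etaOf etaE8_3 68) = true := by
  decide +kernel

theorem conjE8_3_69 : conjCheck chevE8 (pMonoCol chevE8 3 permE8_3 etaE8_3) 69 (dec8 permE8_3 69) (etaOf etaE8_3 69) = true := by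
  decide +kernel

theorem conjE8_3_70 : conjCheck chevE8 (pMonoCol chevE8 3 permE8_3 etaE8_3) 70 (dec8 permE8_3 70) (etaOf etaE8_3 70) = true := by
  decide +kernel

theorem conjE8_3_71 : conjCheck chevE8 (pMonoCol chevE8 3 permE8_3 etaE8_3) 71 (dec8 permE8_3 71) (etaOf etaE8_3 71) = true := by
  decide +kernel

theorem conjE8_3_72 : conjCheck chevE8 (pMonoCol chevE8 3 permE8_3 etaE8_3) 72 (dec8 permE8_3 72) (etaOf etaE8_3 72) = true := by
  decide +kernel

theorem conjE8_3_73 : conjCheck chevE8 (pMonoCol chevE8 3 permE8_3 etaE8_3) 73 (dec8 permE8_3 73) (etaOf etaE8_3 73) = true := by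
  decide +kernel

theorem conjE8_3_74 : conjCheck chevE8 (pMonoCol chevE8 3 permE8_3 etaE8_3) 74 (dec8 permE8_3 74) (etaOf etaE8_3 74) = true := by
  decide +kernel

theorem conjE8_3_75 : conjCheck chevE8 (pMonoCol chevE8 3 permE8_3 etaE8_3) 75 (dec8 permE8_3 75) (etaOf etaE8_3 75) = true := by
  decide +kernel

theorem conjE8_3_76 : conjCheck chevE8 (pMonoCol chevE8 3 permE8_3 etaE8_3) 76 (dec8 permE8_3 76) (etaOf etaE8_3 76) = true := by
  decide +kernel

theorem conjE8_3_77 : conjCheck chevE8 (pMonoCol chevE8 3 permE8_3 etaE8_3) 77 (dec8 permE8_3 77) (etaOf etaE8_3 77) = true := by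
  decide +kernel

theorem conjE8_3_78 : conjCheck chevE8 (pMonoCol chevE8 3 permE8_3 etaE8_3) 78 (dec8 permE8_3 78) (etaOf etaE8_3 78) = true := by
  decide +kernel

theorem conjE8_3_79 : conjCheck chevE8 (pMonoCol chevE8 3 permE8_3 etaE8_3) 79 (dec8 permE8_3 79) (etaOf etaE8_3 79) = true := by
  decide +kernel

theorem conjE8_3_80 : conjCheck chevE8 (pMonoCol chevE8 3 permE8_3 etaE8_3) 80 (dec8 permE8_3 80) (etaOf etaE8_3 80) = true := by
  decide +kernel

theorem conjE8_3_81 : conjCheck chevE8 (pMonoCol chevE8 3 permE8_3 etaE8_3) 81 (dec8 permE8_3 81) (etaOf etaE8_3 81) = true := by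
  decide +kernel

theorem conjE8_3_82 : conjCheck chevE8 (pMonoCol chevE8 3 permE8_3 etaE8_3) 82 (dec8 permE8_3 82) (etaOf etaE8_3 82) = true := by
  decide +kernel

theorem conjE8_3_83 : conjCheck chevE8 (pMonoCol chevE8 3 permE8_3 etaE8_3) 83 (dec8 permE8_3 83) (etaOf etaE8_3 83) = true := by
  decide +kernel

theorem conjE8_3_84 : conjCheck chevE8 (pMonoCol chevE8 3 permE8_3 etaE8_3) 84 (dec8 permE8_3 84) (etaOf etaE8_3 84) = true := by
  decide +kernel

theorem conjE8_3_85 : conjCheck chevE8 (pMonoCol chevE8 3 permE8_3 etaE8_3) 85 (dec8 permE8_3 85) (etaOf etaE8_3 85) = true := by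
  decide +kernel

theorem conjE8_3_86 : conjCheck chevE8 (pMonoCol chevE8 3 permE8_3 etaE8_3) 86 (dec8 permE8_3 86) (etaOf etaE8_3 86) = true := by
  decide +kernel

theorem conjE8_3_87 : conjCheck chevE8 (pMonoCol chevE8 3 permE8_3 etaE8_3) 87 (dec8 permE8_3 87) (etaOf etaE8_3 87) = true := by
  decide +kernel

theorem conjE8_3_88 : conjCheck chevE8 (pMonoCol chevE8 3 permE8_3 etaE8_3) 88 (dec8 permE8_3 88) (etaOf etaE8_3 88) = true := by
  decide +kernel

theorem conjE8_3_89 : conjCheck chevE8 (pMonoCol chevE8 3 permE8_3 etaE8_3) 89 (dec8 permE8_3 89) (etaOf etaE8_3 89) = true := by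
  decide +kernel

theorem conjE8_3_from60 (s : ℕ) (h1 : 60 ≤ s) (h2 : s < 90) : conjCheck chevE8 (pMonoCol chevE8 3 permE8_3 etaE8_3) s (dec8 permE8_3 s) (etaOf etaE8_3 s) = true := by
  have h : s = 60 ∨ s = 61 ∨ s = 62 ∨ s = 63 ∨ s = 64 ∨ s = 65 ∨ s = 66 ∨ s = 67 ∨ s = 68 ∨ s = 69 ∨ s = 70 ∨ s = 71 ∨ s = 72 ∨ s = 73 ∨ s = 74 ∨ s = 75 ∨ s = 76 ∨ s = 77 ∨ s = 78 ∨ s = 79 ∨ s = 80 ∨ s = 81 ∨ s = 82 ∨ s = 83 ∨ s = 84 ∨ s = 85 ∨ s = 86 ∨ s = 87 ∨ s = 88 ∨ s = 89 := by omega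
  rcases h with rfl | rfl | rfl | rfl | rfl | rfl | rfl | rfl | rfl | rfl | rfl | rfl | rfl | rfl | rfl | rfl | rfl | rfl | rfl | rfl | rfl | rfl | rfl | rfl | rfl | rfl | rfl | rfl | rfl | rfl
  exacts [conjE8_3_60, conjE8_3_61, conjE8_3_62, conjE8_3_63, conjE8_3_64, conjE8_3_65, conjE8_3_66, conjE8_3_67, conjE8_3_68, conjE8_3_69, conjE8_3_70, conjE8_3_71, conjE8_3_72, conjE8_3_73, conjE8_3_74, conjE8_3_75, conjE8_3_76, conjE8_3_77, conjE8_3_78, conjE8_3_79, conjE8_3_80, conjE8_3_81, conjE8_3_82, conjE8_3_83, conjE8_3_84, conjE8_3_85, conjE8_3_86, conjE8_3_87, conjE8_3_88, conjE8_3_89]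

theorem conjE8_3_90 : conjCheck chevE8 (pMonoCol chevE8 3 permE8_3 etaE8_3) 90 (dec8 permE8_3 90) (etaOf etaE8_3 90) = true := by
  decide +kernel

theorem conjE8_3_91 : conjCheck chevE8 (pMonoCol chevE8 3 permE8_3 etaE8_3) 91 (dec8 permE8_3 91) (etaOf etaE8_3 91) = true := by
  decide +kernel

theorem conjE8_3_92 : conjCheck chevE8 (pMonoCol chevE8 3 permE8_3 etaE8_3) 92 (dec8 permE8_3 92) (etaOf etaE8_3 92) = true := by
  decide +kernel

theorem conjE8_3_93 : conjCheck chevE8 (pMonoCol chevE8 3 permE8_3 etaE8_3) 93 (dec8 permE8_3 93) (etaOf etaE8_3 93) = true := by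
  decide +kernel

theorem conjE8_3_94 : conjCheck chevE8 (pMonoCol chevE8 3 permE8_3 etaE8_3) 94 (dec8 permE8_3 94) (etaOf etaE8_3 94) = true := by
  decide +kernel

theorem conjE8_3_95 : conjCheck chevE8 (pMonoCol chevE8 3 permE8_3 etaE8_3) 95 (dec8 permE8_3 95) (etaOf etaE8_3 95) = true := by
  decide +kernel

theorem conjE8_3_96 : conjCheck chevE8 (pMonoCol chevE8 3 permE8_3 etaE8_3) 96 (dec8 permE8_3 96) (etaOf etaE8_3 96) = true := by
  decide +kernel

theorem conjE8_3_97 : conjCheck chevE8 (pMonoCol chevE8 3 permE8_3 etaE8_3) 97 (dec8 permE8_3 97) (etaOf etaE8_3 97) = true := by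
  decide +kernel

theorem conjE8_3_98 : conjCheck chevE8 (pMonoCol chevE8 3 permE8_3 etaE8_3) 98 (dec8 permE8_3 98) (etaOf etaE8_3 98) = true := by
  decide +kernel

theorem conjE8_3_99 : conjCheck chevE8 (pMonoCol chevE8 3 permE8_3 etaE8_3) 99 (dec8 permE8_3 99) (etaOf etaE8_3 99) = true := by
  decide +kernel

theorem conjE8_3_100 : conjCheck chevE8 (pMonoCol chevE8 3 permE8_3 etaE8_3) 100 (dec8 permE8_3 100) (etaOf etaE8_3 100) = true := by
  decide +kernel

theorem conjE8_3_101 : conjCheck chevE8 (pMonoCol chevE8 3 permE8_3 etaE8_3) 101 (dec8 permE8_3 101) (etaOf etaE8_3 101) = true := by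
  decide +kernel

theorem conjE8_3_102 : conjCheck chevE8 (pMonoCol chevE8 3 permE8_3 etaE8_3) 102 (dec8 permE8_3 102) (etaOf etaE8_3 102) = true := by
  decide +kernel

theorem conjE8_3_103 : conjCheck chevE8 (pMonoCol chevE8 3 permE8_3 etaE8_3) 103 (dec8 permE8_3 103) (etaOf etaE8_3 103) = true := by
  decide +kernel

theorem conjE8_3_104 : conjCheck chevE8 (pMonoCol chevE8 3 permE8_3 etaE8_3) 104 (dec8 permE8_3 104) (etaOf etaE8_3 104) = true := by
  decide +kernel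

theorem conjE8_3_105 : conjCheck chevE8 (pMonoCol chevE8 3 permE8_3 etaE8_3) 105 (dec8 permE8_3 105) (etaOf etaE8_3 105) = true := by
  decide +kernel

theorem conjE8_3_106 : conjCheck chevE8 (pMonoCol chevE8 3 permE8_3 etaE8_3) 106 (dec8 permE8_3 106) (etaOf etaE8_3 106) = true := by
  decide +kernel

theorem conjE8_3_107 : conjCheck chevE8 (pMonoCol chevE8 3 permE8_3 etaE8_3) 107 (dec8 permE8_3 107) (etaOf etaE8_3 107) = true := by
  decide +kernel

theorem conjE8_3_108 : conjCheck chevE8 (pMonoCol chevE8 3 permE8_3 etaE8_3) 108 (dec8 permE8_3 108) (etaOf etaE8_3 108) = true := by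
  decide +kernel

theorem conjE8_3_109 : conjCheck chevE8 (pMonoCol chevE8 3 permE8_3 etaE8_3) 109 (dec8 permE8_3 109) (etaOf etaE8_3 109) = true := by
  decide +kernel

theorem conjE8_3_110 : conjCheck chevE8 (pMonoCol chevE8 3 permE8_3 etaE8_3) 110 (dec8 permE8_3 110) (etaOf etaE8_3 110) = true := by
  decide +kernel

theorem conjE8_3_111 : conjCheck chevE8 (pMonoCol chevE8 3 permE8_3 etaE8_3) 111 (dec8 permE8_3 111) (etaOf etaE8_3 111) = true := by
  decide +kernel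

theorem conjE8_3_112 : conjCheck chevE8 (pMonoCol chevE8 3 permE8_3 etaE8_3) 112 (dec8 permE8_3 112) (etaOf etaE8_3 112) = true := by
  decide +kernel

theorem conjE8_3_113 : conjCheck chevE8 (pMonoCol chevE8 3 permE8_3 etaE8_3) 113 (dec8 permE8_3 113) (etaOf etaE8_3 113) = true := by
  decide +kernel

theorem conjE8_3_114 : conjCheck chevE8 (pMonoCol chevE8 3 permE8_3 etaE8_3) 114 (dec8 permE8_3 114) (etaOf etaE8_3 114) = true := by
  decide +kernel

theorem conjE8_3_115 : conjCheck chevE8 (pMonoCol chevE8 3 permE8_3 etaE8_3) 115 (dec8 permE8_3 115) (etaOf etaE8_3 115) = true := by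
  decide +kernel

theorem conjE8_3_116 : conjCheck chevE8 (pMonoCol chevE8 3 permE8_3 etaE8_3) 116 (dec8 permE8_3 116) (etaOf etaE8_3 116) = true := by
  decide +kernel

theorem conjE8_3_117 : conjCheck chevE8 (pMonoCol chevE8 3 permE8_3 etaE8_3) 117 (dec8 permE8_3 117) (etaOf etaE8_3 117) = true := by
  decide +kernel

theorem conjE8_3_118 : conjCheck chevE8 (pMonoCol chevE8 3 permE8_3 etaE8_3) 118 (dec8 permE8_3 118) (etaOf etaE8_3 118) = true := by
  decide +kernel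

theorem conjE8_3_119 : conjCheck chevE8 (pMonoCol chevE8 3 permE8_3 etaE8_3) 119 (dec8 permE8_3 119) (etaOf etaE8_3 119) = true := by
  decide +kernel

theorem conjE8_3_from90 (s : ℕ) (h1 : 90 ≤ s) (h2 : s < 120) : conjCheck chevE8 (pMonoCol chevE8 3 permE8_3 etaE8_3) s (dec8 permE8_3 s) (etaOf etaE8_3 s) = true := by
  have h : s = 90 ∨ s = 91 ∨ s = 92 ∨ s = 93 ∨ s = 94 ∨ s = 95 ∨ s = 96 ∨ s = 97 ∨ s = 98 ∨ s = 99 ∨ s = 100 ∨ s = 101 ∨ s = 102 ∨ s = 103 ∨ s = 104 ∨ s = 105 ∨ s = 106 ∨ s = 107 ∨ s = 108 ∨ s = 109 ∨ s = 110 ∨ s = 111 ∨ s = 112 ∨ s = 113 ∨ s = 114 ∨ s = 115 ∨ s = 116 ∨ s = 117 ∨ s = 118 ∨ s = 119 := by omega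
  rcases h with rfl | rfl | rfl | rfl | rfl | rfl | rfl | rfl | rfl | rfl | rfl | rfl | rfl | rfl | rfl | rfl | rfl | rfl | rfl | rfl | rfl | rfl | rfl | rfl | rfl | rfl | rfl | rfl | rfl | rfl
  exacts [conjE8_3_90, conjE8_3_91, conjE8_3_92, conjE8_3_93, conjE8_3_94, conjE8_3_95, conjE8_3_96, conjE8_3_97, conjE8_3_98, conjE8_3_99, conjE8_3_100, conjE8_3_101, conjE8_3_102, conjE8_3_103, conjE8_3_104, conjE8_3_105, conjE8_3_106, conjE8_3_107, conjE8_3_108, conjE8_3_109, conjE8_3_110, conjE8_3_111, conjE8_3_112, conjE8_3_113, conjE8_3_114, conjE8_3_115, conjE8_3_116, conjE8_3_117, conjE8_3_118, conjE8_3_119]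

end Cfsg.Agent.Helper18
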