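import Cfsg.Agent.Lib.Helper18.ConjData

set_option autoImplicit false
set_option maxRecDepth 100000

namespace Cfsg.Agent.Helper18

open Cfsg.Lie

theorem conjE8_6_60 : conjCheck chevE8 (pMonoCol chevE8 6 permE8_6 etaE8_6) 60 (dec8 permE8_6 60) (etaOf etaE8_6 60) = true := by
  decide +kernel

theorem conjE8_6_61 : conjCheck chevE8 (pMonoCol chevE8 6 permE8_6 etaE8_6) 61 (dec8 permE8_6 61) (etaOf etaE8_6 61) = true := by
  decide +kernel

theorem conjE8_6_62 : conjCheck chevE8 (pMonoCol chevE8 6 permE8_6 etaE8_6) 62 (dec8 permE8_6 62) (etaOf etaE8_6 62) = true := by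
  decide +kernel

theorem conjE8_6_63 : conjCheck chevE8 (pMonoCol chevE8 6 permE8_6 etaE8_6) 63 (dec8 permE8_6 63) (etaOf etaE8_6 63) = true := by
  decide +kernel

theorem conjE8_6_64 : conjCheck chevE8 (pMonoCol chevE8 6 permE8_6 etaE8_6) 64 (dec8 permE8_6 64) (etaOf etaE8_6 64) = true := by
  decide +kernel

theorem conjE8_6_65 : conjCheck chevE8 (pMonoCol chevE8 6 permE8_6 etaE8_6) 65 (dec8 permE8_6 65) (etaOf etaE8_6 65) = true := by
  decide +kernel

theorem conjE8_6_66 : conjCheck chevE8 (pMonoCol chevE8 6 permE8_6 etaE8_6) 66 (dec8 permE8_6 66) (etaOf etaE8_6 66) = true := by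
  decide +kernel

theorem conjE8_6_67 : conjCheck chevE8 (pMonoCol chevE8 6 permE8_6 etaE8_6) 67 (dec8 permE8_6 67) (etaOf etaE8_6 67) = true := by
  decide +kernel

theorem conjE8_6_68 : conjCheck chevE8 (pMonoCol chevE8 6 permE8_6 etaE8_6) 68 (dec8 permE8_6 68) (etaOf etaE8_6 68) = true := by
  decide +kernel

theorem conjE8_6_69 : conjCheck chevE8 (pMonoCol chevE8 6 permE8_6 etaE8_6) 69 (dec8 permE8_6 69) (etaOf etaE8_6 69) = true := by
  decide +kernel

theorem conjE8_6_70 : conjCheck chevE8 (pMonoCol chevE8 6 permE8_6 etaE8_6) 70 (dec8 permE8_6 70) (etaOf etaE8_6 70) = true := by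
  decide +kernel

theorem conjE8_6_71 : conjCheck chevE8 (pMonoCol chevE8 6 permE8_6 etaE8_6) 71 (dec8 permE8_6 71) (etaOf etaE8_6 71) = true := by
  decide +kernel

theorem conjE8_6_72 : conjCheck chevE8 (pMonoCol chevE8 6 permE8_6 etaE8_6) 72 (dec8 permE8_6 72) (etaOf etaE8_6 72) = true := by
  decide +kernel

theorem conjE8_6_73 : conjCheck chevE8 (pMonoCol chevE8 6 permE8_6 etaE8_6) 73 (dec8 permE8_6 73) (etaOf etaE8_6 73) = true := by
  decide +kernel

theorem conjE8_6_74 : conjCheck chevE8 (pMonoCol chevE8 6 permE8_6 etaE8_6) 74 (dec8 permE8_6 74) (etaOf etaE8_6 74) = true := by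
  decide +kernel

theorem conjE8_6_75 : conjCheck chevE8 (pMonoCol chevE8 6 permE8_6 etaE8_6) 75 (dec8 permE8_6 75) (etaOf etaE8_6 75) = true := by
  decide +kernel

theorem conjE8_6_76 : conjCheck chevE8 (pMonoCol chevE8 6 permE8_6 etaE8_6) 76 (dec8 permE8_6 76) (etaOf etaE8_6 76) = true := by
  decide +kernel

theorem conjE8_6_77 : conjCheck chevE8 (pMonoCol chevE8 6 permE8_6 etaE8_6) 77 (dec8 permE8_6 77) (etaOf etaE8_6 77) = true := by
  decide +kernel

theorem conjE8_6_78 : conjCheck chevE8 (pMonoCol chevE8 6 permE8_6 etaE8_6) 78 (dec8 permE8_6 78) (etaOf etaE8_6 78) = true := by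
  decide +kernel

theorem conjE8_6_79 : conjCheck chevE8 (pMonoCol chevE8 6 permE8_6 etaE8_6) 79 (dec8 permE8_6 79) (etaOf etaE8_6 79) = true := by
  decide +kernel

theorem conjE8_6_80 : conjCheck chevE8 (pMonoCol chevE8 6 permE8_6 etaE8_6) 80 (dec8 permE8_6 80) (etaOf etaE8_6 80) = true := by
  decide +kernel

theorem conjE8_6_81 : conjCheck chevE8 (pMonoCol chevE8 6 permE8_6 etaE8_6) 81 (dec8 permE8_6 81) (etaOf etaE8_6 81) = true := by
  decide +kernel

theorem conjE8_6_82 : conjCheck chevE8 (pMonoCol chevE8 6 permE8_6 etaE8_6) 82 (dec8 permE8_6 82) (etaOf etaE8_6 82) = true := by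
  decide +kernel

theorem conjE8_6_83 : conjCheck chevE8 (pMonoCol chevE8 6 permE8_6 etaE8_6) 83 (dec8 permE8_6 83) (etaOf etaE8_6 83) = true := by
  decide +kernel

theorem conjE8_6_84 : conjCheck chevE8 (pMonoCol chevE8 6 permE8_6 etaE8_6) 84 (dec8 permE8_6 84) (etaOf etaE8_6 84) = true := by
  decide +kernel

theorem conjE8_6_85 : conjCheck chevE8 (pMonoCol chevE8 6 permE8_6 etaE8_6) 85 (dec8 permE8_6 85) (etaOf etaE8_6 85) = true := by
  decide +kernel

theorem conjE8_6_86 : conjCheck chevE8 (pMonoCol chevE8 6 permE8_6 etaE8_6) 86 (dec8 permE8_6 86) (etaOf etaE8_6 86) = true := by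
  decide +kernel

theorem conjE8_6_87 : conjCheck chevE8 (pMonoCol chevE8 6 permE8_6 etaE8_6) 87 (dec8 permE8_6 87) (etaOf etaE8_6 87) = true := by
  decide +kernel

theorem conjE8_6_88 : conjCheck chevE8 (pMonoCol chevE8 6 permE8_6 etaE8_6) 88 (dec8 permE8_6 88) (etaOf etaE8_6 88) = true := by
  decide +kernel

theorem conjE8_6_89 : conjCheck chevE8 (pMonoCol chevE8 6 permE8_6 etaE8_6) 89 (dec8 permE8_6 89) (etaOf etaE8_6 89) = true := by
  decide +kernel

theorem conjE8_6_from60 (s : ℕ) (h1 : 60 ≤ s) (h2 : s < 90) : conjCheck chevE8 (pMonoCol chevE8 6 permE8_6 etaE8_6) s (dec8 permE8_6 s) (etaOf etaE8_6 s) = true := by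
  have h : s = 60 ∨ s = 61 ∨ s = 62 ∨ s = 63 ∨ s = 64 ∨ s = 65 ∨ s = 66 ∨ s = 67 ∨ s = 68 ∨ s = 69 ∨ s = 70 ∨ s = 71 ∨ s = 72 ∨ s = 73 ∨ s = 74 ∨ s = 75 ∨ s = 76 ∨ s = 77 ∨ s = 78 ∨ s = 79 ∨ s = 80 ∨ s = 81 ∨ s = 82 ∨ s = 83 ∨ s = 84 ∨ s = 85 ∨ s = 86 ∨ s = 87 ∨ s = 88 ∨ s = 89 := by omega
  rcases h with rfl | rfl | rfl | rfl | rfl | rfl | rfl | rfl | rfl | rfl | rfl | rfl | rfl | rfl | rfl | rfl | rfl | rfl | rfl | rfl | rfl | rfl | rfl | rfl | rfl | rfl | rfl | rfl | rfl | rfl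
  exacts [conjE8_6_60, conjE8_6_61, conjE8_6_62, conjE8_6_63, conjE8_6_64, conjE8_6_65, conjE8_6_66, conjE8_6_67, conjE8_6_68, conjE8_6_69, conjE8_6_70, conjE8_6_71, conjE8_6_72, conjE8_6_73, conjE8_6_74, conjE8_6_75, conjE8_6_76, conjE8_6_77, conjE8_6_78, conjE8_6_79, conjE8_6_80, conjE8_6_81, conjE8_6_82, conjE8_6_83, conjE8_6_84, conjE8_6_85, conjE8_6_86, conjE8_6_87, conjE8_6_88, conjE8_6_89]

theorem conjE8_6_90 : conjCheck chevE8 (pMonoCol chevE8 6 permE8_6 etaE8_6) 90 (dec8 permE8_6 90) (etaOf etaE8_6 90) = true := by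
  decide +kernel

theorem conjE8_6_91 : conjCheck chevE8 (pMonoCol chevE8 6 permE8_6 etaE8_6) 91 (dec8 permE8_6 91) (etaOf etaE8_6 91) = true := by
  decide +kernel

theorem conjE8_6_92 : conjCheck chevE8 (pMonoCol chevE8 6 permE8_6 etaE8_6) 92 (dec8 permE8_6 92) (etaOf etaE8_6 92) = true := by
  decide +kernel

theorem conjE8_6_93 : conjCheck chevE8 (pMonoCol chevE8 6 permE8_6 etaE8_6) 93 (dec8 permE8_6 93) (etaOf etaE8_6 93) = true := by
  decide +kernel

theorem conjE8_6_94 : conjCheck chevE8 (pMonoCol chevE8 6 permE8_6 etaE8_6) 94 (dec8 permE8_6 94) (etaOf etaE8_6 94) = true := by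
  decide +kernel

theorem conjE8_6_95 : conjCheck chevE8 (pMonoCol chevE8 6 permE8_6 etaE8_6) 95 (dec8 permE8_6 95) (etaOf etaE8_6 95) = true := by
  decide +kernel

theorem conjE8_6_96 : conjCheck chevE8 (pMonoCol chevE8 6 permE8_6 etaE8_6) 96 (dec8 permE8_6 96) (etaOf etaE8_6 96) = true := by
  decide +kernel

theorem conjE8_6_97 : conjCheck chevE8 (pMonoCol chevE8 6 permE8_6 etaE8_6) 97 (dec8 permE8_6 97) (etaOf etaE8_6 97) = true := by
  decide +kernel

theorem conjE8_6_98 : conjCheck chevE8 (pMonoCol chevE8 6 permE8_6 etaE8_6) 98 (dec8 permE8_6 98) (etaOf etaE8_6 98) = true := by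
  decide +kernel

theorem conjE8_6_99 : conjCheck chevE8 (pMonoCol chevE8 6 permE8_6 etaE8_6) 99 (dec8 permE8_6 99) (etaOf etaE8_6 99) = true := by
  decide +kernel

theorem conjE8_6_100 : conjCheck chevE8 (pMonoCol chevE8 6 permE8_6 etaE8_6) 100 (dec8 permE8_6 100) (etaOf etaE8_6 100) = true := by
  decide +kernel

theorem conjE8_6_101 : conjCheck chevE8 (pMonoCol chevE8 6 permE8_6 etaE8_6) 101 (dec8 permE8_6 101) (etaOf etaE8_6 101) = true := by
  decide +kernel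

theorem conjE8_6_102 : conjCheck chevE8 (pMonoCol chevE8 6 permE8_6 etaE8_6) 102 (dec8 permE8_6 102) (etaOf etaE8_6 102) = true := by
  decide +kernel

theorem conjE8_6_103 : conjCheck chevE8 (pMonoCol chevE8 6 permE8_6 etaE8_6) 103 (dec8 permE8_6 103) (etaOf etaE8_6 103) = true := by
  decide +kernel

theorem conjE8_6_104 : conjCheck chevE8 (pMonoCol chevE8 6 permE8_6 etaE8_6) 104 (dec8 permE8_6 104) (etaOf etaE8_6 104) = true := by
  decide +kernel

theorem conjE8_6_105 : conjCheck chevE8 (pMonoCol chevE8 6 permE8_6 etaE8_6) 105 (dec8 permE8_6 105) (etaOf etaE8_6 105) = true := by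
  decide +kernel

theorem conjE8_6_106 : conjCheck chevE8 (pMonoCol chevE8 6 permE8_6 etaE8_6) 106 (dec8 permE8_6 106) (etaOf etaE8_6 106) = true := by
  decide +kernel

theorem conjE8_6_107 : conjCheck chevE8 (pMonoCol chevE8 6 permE8_6 etaE8_6) 107 (dec8 permE8_6 107) (etaOf etaE8_6 107) = true := by
  decide +kernel

theorem conjE8_6_108 : conjCheck chevE8 (pMonoCol chevE8 6 permE8_6 etaE8_6) 108 (dec8 permE8_6 108) (etaOf etaE8_6 108) = true := by
  decide +kernel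

theorem conjE8_6_109 : conjCheck chevE8 (pMonoCol chevE8 6 permE8_6 etaE8_6) 109 (dec8 permE8_6 109) (etaOf etaE8_6 109) = true := by
  decide +kernel

theorem conjE8_6_110 : conjCheck chevE8 (pMonoCol chevE8 6 permE8_6 etaE8_6) 110 (dec8 permE8_6 110) (etaOf etaE8_6 110) = true := by
  decide +kernel

theorem conjE8_6_111 : conjCheck chevE8 (pMonoCol chevE8 6 permE8_6 etaE8_6) 111 (dec8 permE8_6 111) (etaOf etaE8_6 111) = true := by
  decide +kernel

theorem conjE8_6_112 : conjCheck chevE8 (pMonoCol chevE8 6 permE8_6 etaE8_6) 112 (dec8 permE8_6 112) (etaOf etaE8_6 112) = true := by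
  decide +kernel

theorem conjE8_6_113 : conjCheck chevE8 (pMonoCol chevE8 6 permE8_6 etaE8_6) 113 (dec8 permE8_6 113) (etaOf etaE8_6 113) = true := by
  decide +kernel

theorem conjE8_6_114 : conjCheck chevE8 (pMonoCol chevE8 6 permE8_6 etaE8_6) 114 (dec8 permE8_6 114) (etaOf etaE8_6 114) = true := by
  decide +kernel

theorem conjE8_6_115 : conjCheck chevE8 (pMonoCol chevE8 6 permE8_6 etaE8_6) 115 (dec8 permE8_6 115) (etaOf etaE8_6 115) = true := by
  decide +kernel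

theorem conjE8_6_116 : conjCheck chevE8 (pMonoCol chevE8 6 permE8_6 etaE8_6) 116 (dec8 permE8_6 116) (etaOf etaE8_6 116) = true := by
  decide +kernel

theorem conjE8_6_117 : conjCheck chevE8 (pMonoCol chevE8 6 permE8_6 etaE8_6) 117 (dec8 permE8_6 117) (etaOf etaE8_6 117) = true := by
  decide +kernel

theorem conjE8_6_118 : conjCheck chevE8 (pMonoCol chevE8 6 permE8_6 etaE8_6) 118 (dec8 permE8_6 118) (etaOf etaE8_6 118) = true := by
  decide +kernel

theorem conjE8_6_119 : conjCheck chevE8 (pMonoCol chevE8 6 permE8_6 etaE8_6) 119 (dec8 permE8_6 119) (etaOf etaE8_6 119) = true := by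
  decide +kernel

theorem conjE8_6_from90 (s : ℕ) (h1 : 90 ≤ s) (h2 : s < 120) : conjCheck chevE8 (pMonoCol chevE8 6 permE8_6 etaE8_6) s (dec8 permE8_6 s) (etaOf etaE8_6 s) = true := by
  have h : s = 90 ∨ s = 91 ∨ s = 92 ∨ s = 93 ∨ s = 94 ∨ s = 95 ∨ s = 96 ∨ s = 97 ∨ s = 98 ∨ s = 99 ∨ s = 100 ∨ s = 101 ∨ s = 102 ∨ s = 103 ∨ s = 104 ∨ s = 105 ∨ s = 106 ∨ s = 107 ∨ s = 108 ∨ s = 109 ∨ s = 110 ∨ s = 111 ∨ s = 112 ∨ s = 113 ∨ s = 114 ∨ s = 115 ∨ s = 116 ∨ s = 117 ∨ s = 118 ∨ s = 119 := by omega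
  rcases h with rfl | rfl | rfl | rfl | rfl | rfl | rfl | rfl | rfl | rfl | rfl | rfl | rfl | rfl | rfl | rfl | rfl | rfl | rfl | rfl | rfl | rfl | rfl | rfl | rfl | rfl | rfl | rfl | rfl | rfl
  exacts [conjE8_6_90, conjE8_6_91, conjE8_6_92, conjE8_6_93, conjE8_6_94, conjE8_6_95, conjE8_6_96, conjE8_6_97, conjE8_6_98, conjE8_6_99, conjE8_6_100, conjE8_6_101, conjE8_6_102, conjE8_6_103, conjE8_6_104, conjE8_6_105, conjE8_6_106, conjE8_6_107, conjE8_6_108, conjE8_6_109, conjE8_6_110, conjE8_6_111, conjE8_6_112, conjE8_6_113, conjE8_6_114, conjE8_6_115, conjE8_6_116, conjE8_6_117, conjE8_6_118, conjE8_6_119]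

end Cfsg.Agent.Helper18
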