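import Cfsg.Agent.Lib.Helper18.ConjAll

set_option autoImplicit false

namespace Cfsg.Agent.Helper18

open Cfsg.Lie

/-- The explicit signs of the conjugation by `n_i` for type G2. -/
def etaTabG2 (i : ℕ) : ℕ → ℤ := etaOf (lget [etaG2_0, etaG2_1] i 0)

theorem conjExplG2_0 {F : Type*} [Field F] (s : ℕ) (hs : s < 12) (t : F) :
    chevG2.nMat F (chevG2.simple 0) 1 * chevG2.x F s t =
      chevG2.x F (chevG2.reflectRoot 0 s) (((etaTabG2 0 s : ℤ) : F) * t) * chevG2.nMat F (chevG2.simple 0) 1 := by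
  have hc : conjCheck chevG2 (pMonoCol chevG2 0 permG2_0 etaG2_0) s (dec8 permG2_0 s) (etaOf etaG2_0 s) = true := by
    exact conjG2_0_from0 s (by omega) hs
  exact n_conj_of_checks chevG2 0 (by decide) permG2_0 etaG2_0 permChkG2_0 nChkG2_0' s hs hc t

theorem conjExplG2_1 {F : Type*} [Field F] (s : ℕ) (hs : s < 12) (t : F) :
    chevG2.nMat F (chevG2.simple 1) 1 * chevG2.x F s t =
      chevG2.x F (chevG2.reflectRoot 1 s) (((etaTabG2 1 s : ℤ) : F) * t) * chevG2.nMat F (chevG2.simple 1) 1 := by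
  have hc : conjCheck chevG2 (pMonoCol chevG2 1 permG2_1 etaG2_1) s (dec8 permG2_1 s) (etaOf etaG2_1 s) = true := by
    exact conjG2_1_from0 s (by omega) hs
  exact n_conj_of_checks chevG2 1 (by decide) permG2_1 etaG2_1 permChkG2_1 nChkG2_1' s hs hc t

theorem conjExplG2 {F : Type*} [Field F] (i : ℕ) (hi : i < chevG2.rank) (s : ℕ) (hs : s < chevG2.nroots) (t : F) :
    chevG2.nMat F (chevG2.simple i) 1 * chevG2.x F s t =
      chevG2.x F (chevG2.reflectRoot i s) (((etaTabG2 i s : ℤ) : F) * t) * chevG2.nMat F (chevG2.simple i) 1 := by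
  have hi' : i < 2 := hi
  have hs' : s < 12 := hs
  have h : i = 0 ∨ i = 1 := by omega
  rcases h with rfl | rfl
  exacts [conjExplG2_0 s hs' t, conjExplG2_1 s hs' t]

theorem etaTabG2_cases (i s : ℕ) : etaTabG2 i s = 1 ∨ etaTabG2 i s = -1 := etaOf_cases _ _

/-- The explicit signs of the conjugation by `n_i` for type B2. -/
def etaTabB2 (i : ℕ) : ℕ → ℤ := etaOf (lget [etaB2_0, etaB2_1] i 0)

theorem conjExplB2_0 {F : Type*} [Field F] (s : ℕ) (hs : s < 8) (t : F) :
    chevB2.nMat F (chevB2.simple 0) 1 * chevB2.x F s t =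
      chevB2.x F (chevB2.reflectRoot 0 s) (((etaTabB2 0 s : ℤ) : F) * t) * chevB2.nMat F (chevB2.simple 0) 1 := by
  have hc : conjCheck chevB2 (pMonoCol chevB2 0 permB2_0 etaB2_0) s (dec8 permB2_0 s) (etaOf etaB2_0 s) = true := by
    exact conjB2_0_from0 s (by omega) hs
  exact n_conj_of_checks chevB2 0 (by decide) permB2_0 etaB2_0 permChkB2_0 nChkB2_0' s hs hc t

theorem conjExplB2_1 {F : Type*} [Field F] (s : ℕ) (hs : s < 8) (t : F) :
    chevB2.nMat F (chevB2.simple 1) 1 * chevB2.x F s t =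
      chevB2.x F (chevB2.reflectRoot 1 s) (((etaTabB2 1 s : ℤ) : F) * t) * chevB2.nMat F (chevB2.simple 1) 1 := by
  have hc : conjCheck chevB2 (pMonoCol chevB2 1 permB2_1 etaB2_1) s (dec8 permB2_1 s) (etaOf etaB2_1 s) = true := by
    exact conjB2_1_from0 s (by omega) hs
  exact n_conj_of_checks chevB2 1 (by decide) permB2_1 etaB2_1 permChkB2_1 nChkB2_1' s hs hc t

theorem conjExplB2 {F : Type*} [Field F] (i : ℕ) (hi : i < chevB2.rank) (s : ℕ) (hs : s < chevB2.nroots) (t : F) :
    chevB2.nMat F (chevB2.simple i) 1 * chevB2.x F s t =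
      chevB2.x F (chevB2.reflectRoot i s) (((etaTabB2 i s : ℤ) : F) * t) * chevB2.nMat F (chevB2.simple i) 1 := by
  have hi' : i < 2 := hi
  have hs' : s < 8 := hs
  have h : i = 0 ∨ i = 1 := by omega
  rcases h with rfl | rfl
  exacts [conjExplB2_0 s hs' t, conjExplB2_1 s hs' t]

theorem etaTabB2_cases (i s : ℕ) : etaTabB2 i s = 1 ∨ etaTabB2 i s = -1 := etaOf_cases _ _

/-- The explicit signs of the conjugation by `n_i` for type D4. -/
def etaTabD4 (i : ℕ) : ℕ → ℤ := etaOf (lget [etaD4_0, etaD4_1, etaD4_2, etaD4_3] i 0)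

theorem conjExplD4_0 {F : Type*} [Field F] (s : ℕ) (hs : s < 24) (t : F) :
    chevD4.nMat F (chevD4.simple 0) 1 * chevD4.x F s t =
      chevD4.x F (chevD4.reflectRoot 0 s) (((etaTabD4 0 s : ℤ) : F) * t) * chevD4.nMat F (chevD4.simple 0) 1 := by
  have hc : conjCheck chevD4 (pMonoCol chevD4 0 permD4_0 etaD4_0) s (dec8 permD4_0 s) (etaOf etaD4_0 s) = true := by
    exact conjD4_0_from0 s (by omega) hs
  exact n_conj_of_checks chevD4 0 (by decide) permD4_0 etaD4_0 permChkD4_0 nChkD4_0' s hs hc t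

theorem conjExplD4_1 {F : Type*} [Field F] (s : ℕ) (hs : s < 24) (t : F) :
    chevD4.nMat F (chevD4.simple 1) 1 * chevD4.x F s t =
      chevD4.x F (chevD4.reflectRoot 1 s) (((etaTabD4 1 s : ℤ) : F) * t) * chevD4.nMat F (chevD4.simple 1) 1 := by
  have hc : conjCheck chevD4 (pMonoCol chevD4 1 permD4_1 etaD4_1) s (dec8 permD4_1 s) (etaOf etaD4_1 s) = true := by
    exact conjD4_1_from0 s (by omega) hs
  exact n_conj_of_checks chevD4 1 (by decide) permD4_1 etaD4_1 permChkD4_1 nChkD4_1' s hs hc t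

theorem conjExplD4_2 {F : Type*} [Field F] (s : ℕ) (hs : s < 24) (t : F) :
    chevD4.nMat F (chevD4.simple 2) 1 * chevD4.x F s t =
      chevD4.x F (chevD4.reflectRoot 2 s) (((etaTabD4 2 s : ℤ) : F) * t) * chevD4.nMat F (chevD4.simple 2) 1 := by
  have hc : conjCheck chevD4 (pMonoCol chevD4 2 permD4_2 etaD4_2) s (dec8 permD4_2 s) (etaOf etaD4_2 s) = true := by
    exact conjD4_2_from0 s (by omega) hs
  exact n_conj_of_checks chevD4 2 (by decide) permD4_2 etaD4_2 permChkD4_2 nChkD4_2' s hs hc t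

theorem conjExplD4_3 {F : Type*} [Field F] (s : ℕ) (hs : s < 24) (t : F) :
    chevD4.nMat F (chevD4.simple 3) 1 * chevD4.x F s t =
      chevD4.x F (chevD4.reflectRoot 3 s) (((etaTabD4 3 s : ℤ) : F) * t) * chevD4.nMat F (chevD4.simple 3) 1 := by
  have hc : conjCheck chevD4 (pMonoCol chevD4 3 permD4_3 etaD4_3) s (dec8 permD4_3 s) (etaOf etaD4_3 s) = true := by
    exact conjD4_3_from0 s (by omega) hs
  exact n_conj_of_checks chevD4 3 (by decide) permD4_3 etaD4_3 permChkD4_3 nChkD4_3' s hs hc t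

theorem conjExplD4 {F : Type*} [Field F] (i : ℕ) (hi : i < chevD4.rank) (s : ℕ) (hs : s < chevD4.nroots) (t : F) :
    chevD4.nMat F (chevD4.simple i) 1 * chevD4.x F s t =
      chevD4.x F (chevD4.reflectRoot i s) (((etaTabD4 i s : ℤ) : F) * t) * chevD4.nMat F (chevD4.simple i) 1 := by
  have hi' : i < 4 := hi
  have hs' : s < 24 := hs
  have h : i = 0 ∨ i = 1 ∨ i = 2 ∨ i = 3 := by omega
  rcases h with rfl | rfl | rfl | rfl
  exacts [conjExplD4_0 s hs' t, conjExplD4_1 s hs' t, conjExplD4_2 s hs' t, conjExplD4_3 s hs' t]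

theorem etaTabD4_cases (i s : ℕ) : etaTabD4 i s = 1 ∨ etaTabD4 i s = -1 := etaOf_cases _ _

/-- The explicit signs of the conjugation by `n_i` for type F4. -/
def etaTabF4 (i : ℕ) : ℕ → ℤ := etaOf (lget [etaF4_0, etaF4_1, etaF4_2, etaF4_3] i 0)

theorem conjExplF4_0 {F : Type*} [Field F] (s : ℕ) (hs : s < 48) (t : F) :
    chevF4.nMat F (chevF4.simple 0) 1 * chevF4.x F s t =
      chevF4.x F (chevF4.reflectRoot 0 s) (((etaTabF4 0 s : ℤ) : F) * t) * chevF4.nMat F (chevF4.simple 0) 1 := by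
  have hc : conjCheck chevF4 (pMonoCol chevF4 0 permF4_0 etaF4_0) s (dec8 permF4_0 s) (etaOf etaF4_0 s) = true := by
    exact conjF4_0_from0 s (by omega) hs
  exact n_conj_of_checks chevF4 0 (by decide) permF4_0 etaF4_0 permChkF4_0 nChkF4_0' s hs hc t

theorem conjExplF4_1 {F : Type*} [Field F] (s : ℕ) (hs : s < 48) (t : F) :
    chevF4.nMat F (chevF4.simple 1) 1 * chevF4.x F s t =
      chevF4.x F (chevF4.reflectRoot 1 s) (((etaTabF4 1 s : ℤ) : F) * t) * chevF4.nMat F (chevF4.simple 1) 1 := by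
  have hc : conjCheck chevF4 (pMonoCol chevF4 1 permF4_1 etaF4_1) s (dec8 permF4_1 s) (etaOf etaF4_1 s) = true := by
    exact conjF4_1_from0 s (by omega) hs
  exact n_conj_of_checks chevF4 1 (by decide) permF4_1 etaF4_1 permChkF4_1 nChkF4_1' s hs hc t

theorem conjExplF4_2 {F : Type*} [Field F] (s : ℕ) (hs : s < 48) (t : F) :
    chevF4.nMat F (chevF4.simple 2) 1 * chevF4.x F s t =
      chevF4.x F (chevF4.reflectRoot 2 s) (((etaTabF4 2 s : ℤ) : F) * t) * chevF4.nMat F (chevF4.simple 2) 1 := by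
  have hc : conjCheck chevF4 (pMonoCol chevF4 2 permF4_2 etaF4_2) s (dec8 permF4_2 s) (etaOf etaF4_2 s) = true := by
    exact conjF4_2_from0 s (by omega) hs
  exact n_conj_of_checks chevF4 2 (by decide) permF4_2 etaF4_2 permChkF4_2 nChkF4_2' s hs hc t

theorem conjExplF4_3 {F : Type*} [Field F] (s : ℕ) (hs : s < 48) (t : F) :
    chevF4.nMat F (chevF4.simple 3) 1 * chevF4.x F s t =
      chevF4.x F (chevF4.reflectRoot 3 s) (((etaTabF4 3 s : ℤ) : F) * t) * chevF4.nMat F (chevF4.simple 3) 1 := by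
  have hc : conjCheck chevF4 (pMonoCol chevF4 3 permF4_3 etaF4_3) s (dec8 permF4_3 s) (etaOf etaF4_3 s) = true := by
    exact conjF4_3_from0 s (by omega) hs
  exact n_conj_of_checks chevF4 3 (by decide) permF4_3 etaF4_3 permChkF4_3 nChkF4_3' s hs hc t

theorem conjExplF4 {F : Type*} [Field F] (i : ℕ) (hi : i < chevF4.rank) (s : ℕ) (hs : s < chevF4.nroots) (t : F) :
    chevF4.nMat F (chevF4.simple i) 1 * chevF4.x F s t =
      chevF4.x F (chevF4.reflectRoot i s) (((etaTabF4 i s : ℤ) : F) * t) * chevF4.nMat F (chevF4.simple i) 1 := by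
  have hi' : i < 4 := hi
  have hs' : s < 48 := hs
  have h : i = 0 ∨ i = 1 ∨ i = 2 ∨ i = 3 := by omega
  rcases h with rfl | rfl | rfl | rfl
  exacts [conjExplF4_0 s hs' t, conjExplF4_1 s hs' t, conjExplF4_2 s hs' t, conjExplF4_3 s hs' t]

theorem etaTabF4_cases (i s : ℕ) : etaTabF4 i s = 1 ∨ etaTabF4 i s = -1 := etaOf_cases _ _

/-- The explicit signs of the conjugation by `n_i` for type E6. -/
def etaTabE6 (i : ℕ) : ℕ → ℤ := etaOf (lget [etaE6_0, etaE6_1, etaE6_2, etaE6_3, etaE6_4, etaE6_5] i 0)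

theorem conjExplE6_0 {F : Type*} [Field F] (s : ℕ) (hs : s < 72) (t : F) :
    chevE6.nMat F (chevE6.simple 0) 1 * chevE6.x F s t =
      chevE6.x F (chevE6.reflectRoot 0 s) (((etaTabE6 0 s : ℤ) : F) * t) * chevE6.nMat F (chevE6.simple 0) 1 := by
  have hc : conjCheck chevE6 (pMonoCol chevE6 0 permE6_0 etaE6_0) s (dec8 permE6_0 s) (etaOf etaE6_0 s) = true := by
    exact conjE6_0_from0 s (by omega) hs
  exact n_conj_of_checks chevE6 0 (by decide) permE6_0 etaE6_0 permChkE6_0 nChkE6_0' s hs hc t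

theorem conjExplE6_1 {F : Type*} [Field F] (s : ℕ) (hs : s < 72) (t : F) :
    chevE6.nMat F (chevE6.simple 1) 1 * chevE6.x F s t =
      chevE6.x F (chevE6.reflectRoot 1 s) (((etaTabE6 1 s : ℤ) : F) * t) * chevE6.nMat F (chevE6.simple 1) 1 := by
  have hc : conjCheck chevE6 (pMonoCol chevE6 1 permE6_1 etaE6_1) s (dec8 permE6_1 s) (etaOf etaE6_1 s) = true := by
    exact conjE6_1_from0 s (by omega) hs
  exact n_conj_of_checks chevE6 1 (by decide) permE6_1 etaE6_1 permChkE6_1 nChkE6_1' s hs hc t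

theorem conjExplE6_2 {F : Type*} [Field F] (s : ℕ) (hs : s < 72) (t : F) :
    chevE6.nMat F (chevE6.simple 2) 1 * chevE6.x F s t =
      chevE6.x F (chevE6.reflectRoot 2 s) (((etaTabE6 2 s : ℤ) : F) * t) * chevE6.nMat F (chevE6.simple 2) 1 := by
  have hc : conjCheck chevE6 (pMonoCol chevE6 2 permE6_2 etaE6_2) s (dec8 permE6_2 s) (etaOf etaE6_2 s) = true := by
    exact conjE6_2_from0 s (by omega) hs
  exact n_conj_of_checks chevE6 2 (by decide) permE6_2 etaE6_2 permChkE6_2 nChkE6_2' s hs hc t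

theorem conjExplE6_3 {F : Type*} [Field F] (s : ℕ) (hs : s < 72) (t : F) :
    chevE6.nMat F (chevE6.simple 3) 1 * chevE6.x F s t =
      chevE6.x F (chevE6.reflectRoot 3 s) (((etaTabE6 3 s : ℤ) : F) * t) * chevE6.nMat F (chevE6.simple 3) 1 := by
  have hc : conjCheck chevE6 (pMonoCol chevE6 3 permE6_3 etaE6_3) s (dec8 permE6_3 s) (etaOf etaE6_3 s) = true := by
    exact conjE6_3_from0 s (by omega) hs
  exact n_conj_of_checks chevE6 3 (by decide) permE6_3 etaE6_3 permChkE6_3 nChkE6_3' s hs hc t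

theorem conjExplE6_4 {F : Type*} [Field F] (s : ℕ) (hs : s < 72) (t : F) :
    chevE6.nMat F (chevE6.simple 4) 1 * chevE6.x F s t =
      chevE6.x F (chevE6.reflectRoot 4 s) (((etaTabE6 4 s : ℤ) : F) * t) * chevE6.nMat F (chevE6.simple 4) 1 := by
  have hc : conjCheck chevE6 (pMonoCol chevE6 4 permE6_4 etaE6_4) s (dec8 permE6_4 s) (etaOf etaE6_4 s) = true := by
    exact conjE6_4_from0 s (by omega) hs
  exact n_conj_of_checks chevE6 4 (by decide) permE6_4 etaE6_4 permChkE6_4 nChkE6_4' s hs hc t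

theorem conjExplE6_5 {F : Type*} [Field F] (s : ℕ) (hs : s < 72) (t : F) :
    chevE6.nMat F (chevE6.simple 5) 1 * chevE6.x F s t =
      chevE6.x F (chevE6.reflectRoot 5 s) (((etaTabE6 5 s : ℤ) : F) * t) * chevE6.nMat F (chevE6.simple 5) 1 := by
  have hc : conjCheck chevE6 (pMonoCol chevE6 5 permE6_5 etaE6_5) s (dec8 permE6_5 s) (etaOf etaE6_5 s) = true := by
    exact conjE6_5_from0 s (by omega) hs
  exact n_conj_of_checks chevE6 5 (by decide) permE6_5 etaE6_5 permChkE6_5 nChkE6_5' s hs hc t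

theorem conjExplE6 {F : Type*} [Field F] (i : ℕ) (hi : i < chevE6.rank) (s : ℕ) (hs : s < chevE6.nroots) (t : F) :
    chevE6.nMat F (chevE6.simple i) 1 * chevE6.x F s t =
      chevE6.x F (chevE6.reflectRoot i s) (((etaTabE6 i s : ℤ) : F) * t) * chevE6.nMat F (chevE6.simple i) 1 := by
  have hi' : i < 6 := hi
  have hs' : s < 72 := hs
  have h : i = 0 ∨ i = 1 ∨ i = 2 ∨ i = 3 ∨ i = 4 ∨ i = 5 := by omega
  rcases h with rfl | rfl | rfl | rfl | rfl | rfl
  exacts [conjExplE6_0 s hs' t, conjExplE6_1 s hs' t, conjExplE6_2 s hs' t, conjExplE6_3 s hs' t, conjExplE6_4 s hs' t, conjExplE6_5 s hs' t]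

theorem etaTabE6_cases (i s : ℕ) : etaTabE6 i s = 1 ∨ etaTabE6 i s = -1 := etaOf_cases _ _

/-- The explicit signs of the conjugation by `n_i` for type E7. -/
def etaTabE7 (i : ℕ) : ℕ → ℤ := etaOf (lget [etaE7_0, etaE7_1, etaE7_2, etaE7_3, etaE7_4, etaE7_5, etaE7_6] i 0)

theorem conjExplE7_0 {F : Type*} [Field F] (s : ℕ) (hs : s < 126) (t : F) :
    chevE7.nMat F (chevE7.simple 0) 1 * chevE7.x F s t =
      chevE7.x F (chevE7.reflectRoot 0 s) (((etaTabE7 0 s : ℤ) : F) * t) * chevE7.nMat F (chevE7.simple 0) 1 := by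
  have hc : conjCheck chevE7 (pMonoCol chevE7 0 permE7_0 etaE7_0) s (dec8 permE7_0 s) (etaOf etaE7_0 s) = true := by
    by_cases h0 : s < 63
    · exact conjE7_0_from0 s (by omega) h0
    exact conjE7_0_from63 s (by omega) hs
  exact n_conj_of_checks chevE7 0 (by decide) permE7_0 etaE7_0 permChkE7_0 nChkE7_0' s hs hc t

theorem conjExplE7_1 {F : Type*} [Field F] (s : ℕ) (hs : s < 126) (t : F) :
    chevE7.nMat F (chevE7.simple 1) 1 * chevE7.x F s t =
      chevE7.x F (chevE7.reflectRoot 1 s) (((etaTabE7 1 s : ℤ) : F) * t) * chevE7.nMat F (chevE7.simple 1) 1 := by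
  have hc : conjCheck chevE7 (pMonoCol chevE7 1 permE7_1 etaE7_1) s (dec8 permE7_1 s) (etaOf etaE7_1 s) = true := by
    by_cases h0 : s < 63
    · exact conjE7_1_from0 s (by omega) h0
    exact conjE7_1_from63 s (by omega) hs
  exact n_conj_of_checks chevE7 1 (by decide) permE7_1 etaE7_1 permChkE7_1 nChkE7_1' s hs hc t

theorem conjExplE7_2 {F : Type*} [Field F] (s : ℕ) (hs : s < 126) (t : F) :
    chevE7.nMat F (chevE7.simple 2) 1 * chevE7.x F s t =
      chevE7.x F (chevE7.reflectRoot 2 s) (((etaTabE7 2 s : ℤ) : F) * t) * chevE7.nMat F (chevE7.simple 2) 1 := by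
  have hc : conjCheck chevE7 (pMonoCol chevE7 2 permE7_2 etaE7_2) s (dec8 permE7_2 s) (etaOf etaE7_2 s) = true := by
    by_cases h0 : s < 63
    · exact conjE7_2_from0 s (by omega) h0
    exact conjE7_2_from63 s (by omega) hs
  exact n_conj_of_checks chevE7 2 (by decide) permE7_2 etaE7_2 permChkE7_2 nChkE7_2' s hs hc t

theorem conjExplE7_3 {F : Type*} [Field F] (s : ℕ) (hs : s < 126) (t : F) :
    chevE7.nMat F (chevE7.simple 3) 1 * chevE7.x F s t =
      chevE7.x F (chevE7.reflectRoot 3 s) (((etaTabE7 3 s : ℤ) : F) * t) * chevE7.nMat F (chevE7.simple 3) 1 := by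
  have hc : conjCheck chevE7 (pMonoCol chevE7 3 permE7_3 etaE7_3) s (dec8 permE7_3 s) (etaOf etaE7_3 s) = true := by
    by_cases h0 : s < 63
    · exact conjE7_3_from0 s (by omega) h0
    exact conjE7_3_from63 s (by omega) hs
  exact n_conj_of_checks chevE7 3 (by decide) permE7_3 etaE7_3 permChkE7_3 nChkE7_3' s hs hc t

theorem conjExplE7_4 {F : Type*} [Field F] (s : ℕ) (hs : s < 126) (t : F) :
    chevE7.nMat F (chevE7.simple 4) 1 * chevE7.x F s t =
      chevE7.x F (chevE7.reflectRoot 4 s) (((etaTabE7 4 s : ℤ) : F) * t) * chevE7.nMat F (chevE7.simple 4) 1 := by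
  have hc : conjCheck chevE7 (pMonoCol chevE7 4 permE7_4 etaE7_4) s (dec8 permE7_4 s) (etaOf etaE7_4 s) = true := by
    by_cases h0 : s < 63
    · exact conjE7_4_from0 s (by omega) h0
    exact conjE7_4_from63 s (by omega) hs
  exact n_conj_of_checks chevE7 4 (by decide) permE7_4 etaE7_4 permChkE7_4 nChkE7_4' s hs hc t

theorem conjExplE7_5 {F : Type*} [Field F] (s : ℕ) (hs : s < 126) (t : F) :
    chevE7.nMat F (chevE7.simple 5) 1 * chevE7.x F s t =
      chevE7.x F (chevE7.reflectRoot 5 s) (((etaTabE7 5 s : ℤ) : F) * t) * chevE7.nMat F (chevE7.simple 5) 1 := by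
  have hc : conjCheck chevE7 (pMonoCol chevE7 5 permE7_5 etaE7_5) s (dec8 permE7_5 s) (etaOf etaE7_5 s) = true := by
    by_cases h0 : s < 63
    · exact conjE7_5_from0 s (by omega) h0
    exact conjE7_5_from63 s (by omega) hs
  exact n_conj_of_checks chevE7 5 (by decide) permE7_5 etaE7_5 permChkE7_5 nChkE7_5' s hs hc t

theorem conjExplE7_6 {F : Type*} [Field F] (s : ℕ) (hs : s < 126) (t : F) :
    chevE7.nMat F (chevE7.simple 6) 1 * chevE7.x F s t =
      chevE7.x F (chevE7.reflectRoot 6 s) (((etaTabE7 6 s : ℤ) : F) * t) * chevE7.nMat F (chevE7.simple 6) 1 := by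
  have hc : conjCheck chevE7 (pMonoCol chevE7 6 permE7_6 etaE7_6) s (dec8 permE7_6 s) (etaOf etaE7_6 s) = true := by
    by_cases h0 : s < 63
    · exact conjE7_6_from0 s (by omega) h0
    exact conjE7_6_from63 s (by omega) hs
  exact n_conj_of_checks chevE7 6 (by decide) permE7_6 etaE7_6 permChkE7_6 nChkE7_6' s hs hc t

theorem conjExplE7 {F : Type*} [Field F] (i : ℕ) (hi : i < chevE7.rank) (s : ℕ) (hs : s < chevE7.nroots) (t : F) :
    chevE7.nMat F (chevE7.simple i) 1 * chevE7.x F s t =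
      chevE7.x F (chevE7.reflectRoot i s) (((etaTabE7 i s : ℤ) : F) * t) * chevE7.nMat F (chevE7.simple i) 1 := by
  have hi' : i < 7 := hi
  have hs' : s < 126 := hs
  have h : i = 0 ∨ i = 1 ∨ i = 2 ∨ i = 3 ∨ i = 4 ∨ i = 5 ∨ i = 6 := by omega
  rcases h with rfl | rfl | rfl | rfl | rfl | rfl | rfl
  exacts [conjExplE7_0 s hs' t, conjExplE7_1 s hs' t, conjExplE7_2 s hs' t, conjExplE7_3 s hs' t, conjExplE7_4 s hs' t, conjExplE7_5 s hs' t, conjExplE7_6 s hs' t]

theorem etaTabE7_cases (i s : ℕ) : etaTabE7 i s = 1 ∨ etaTabE7 i s = -1 := etaOf_cases _ _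

/-- The explicit signs of the conjugation by `n_i` for type E8. -/
def etaTabE8 (i : ℕ) : ℕ → ℤ := etaOf (lget [etaE8_0, etaE8_1, etaE8_2, etaE8_3, etaE8_4, etaE8_5, etaE8_6, etaE8_7] i 0)

theorem conjExplE8_0 {F : Type*} [Field F] (s : ℕ) (hs : s < 240) (t : F) :
    chevE8.nMat F (chevE8.simple 0) 1 * chevE8.x F s t =
      chevE8.x F (chevE8.reflectRoot 0 s) (((etaTabE8 0 s : ℤ) : F) * t) * chevE8.nMat F (chevE8.simple 0) 1 := by
  have hc : conjCheck chevE8 (pMonoCol chevE8 0 permE8_0 etaE8_0) s (dec8 permE8_0 s) (etaOf etaE8_0 s) = true := by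
    by_cases h0 : s < 30
    · exact conjE8_0_from0 s (by omega) h0
    by_cases h1 : s < 60
    · exact conjE8_0_from30 s (by omega) h1
    by_cases h2 : s < 90
    · exact conjE8_0_from60 s (by omega) h2
    by_cases h3 : s < 120
    · exact conjE8_0_from90 s (by omega) h3
    by_cases h4 : s < 150
    · exact conjE8_0_from120 s (by omega) h4
    by_cases h5 : s < 180
    · exact conjE8_0_from150 s (by omega) h5
    by_cases h6 : s < 210
    · exact conjE8_0_from180 s (by omega) h6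
    exact conjE8_0_from210 s (by omega) hs
  exact n_conj_of_checks chevE8 0 (by decide) permE8_0 etaE8_0 permChkE8_0 nChkE8_0' s hs hc t

theorem conjExplE8_1 {F : Type*} [Field F] (s : ℕ) (hs : s < 240) (t : F) :
    chevE8.nMat F (chevE8.simple 1) 1 * chevE8.x F s t =
      chevE8.x F (chevE8.reflectRoot 1 s) (((etaTabE8 1 s : ℤ) : F) * t) * chevE8.nMat F (chevE8.simple 1) 1 := by
  have hc : conjCheck chevE8 (pMonoCol chevE8 1 permE8_1 etaE8_1) s (dec8 permE8_1 s) (etaOf etaE8_1 s) = true := by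
    by_cases h0 : s < 30
    · exact conjE8_1_from0 s (by omega) h0
    by_cases h1 : s < 60
    · exact conjE8_1_from30 s (by omega) h1
    by_cases h2 : s < 90
    · exact conjE8_1_from60 s (by omega) h2
    by_cases h3 : s < 120
    · exact conjE8_1_from90 s (by omega) h3
    by_cases h4 : s < 150
    · exact conjE8_1_from120 s (by omega) h4
    by_cases h5 : s < 180
    · exact conjE8_1_from150 s (by omega) h5
    by_cases h6 : s < 210
    · exact conjE8_1_from180 s (by omega) h6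
    exact conjE8_1_from210 s (by omega) hs
  exact n_conj_of_checks chevE8 1 (by decide) permE8_1 etaE8_1 permChkE8_1 nChkE8_1' s hs hc t

theorem conjExplE8_2 {F : Type*} [Field F] (s : ℕ) (hs : s < 240) (t : F) :
    chevE8.nMat F (chevE8.simple 2) 1 * chevE8.x F s t =
      chevE8.x F (chevE8.reflectRoot 2 s) (((etaTabE8 2 s : ℤ) : F) * t) * chevE8.nMat F (chevE8.simple 2) 1 := by
  have hc : conjCheck chevE8 (pMonoCol chevE8 2 permE8_2 etaE8_2) s (dec8 permE8_2 s) (etaOf etaE8_2 s) = true := by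
    by_cases h0 : s < 30
    · exact conjE8_2_from0 s (by omega) h0
    by_cases h1 : s < 60
    · exact conjE8_2_from30 s (by omega) h1
    by_cases h2 : s < 90
    · exact conjE8_2_from60 s (by omega) h2
    by_cases h3 : s < 120
    · exact conjE8_2_from90 s (by omega) h3
    by_cases h4 : s < 150
    · exact conjE8_2_from120 s (by omega) h4
    by_cases h5 : s < 180
    · exact conjE8_2_from150 s (by omega) h5
    by_cases h6 : s < 210
    · exact conjE8_2_from180 s (by omega) h6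
    exact conjE8_2_from210 s (by omega) hs
  exact n_conj_of_checks chevE8 2 (by decide) permE8_2 etaE8_2 permChkE8_2 nChkE8_2' s hs hc t

theorem conjExplE8_3 {F : Type*} [Field F] (s : ℕ) (hs : s < 240) (t : F) :
    chevE8.nMat F (chevE8.simple 3) 1 * chevE8.x F s t =
      chevE8.x F (chevE8.reflectRoot 3 s) (((etaTabE8 3 s : ℤ) : F) * t) * chevE8.nMat F (chevE8.simple 3) 1 := by
  have hc : conjCheck chevE8 (pMonoCol chevE8 3 permE8_3 etaE8_3) s (dec8 permE8_3 s) (etaOf etaE8_3 s) = true := by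
    by_cases h0 : s < 30
    · exact conjE8_3_from0 s (by omega) h0
    by_cases h1 : s < 60
    · exact conjE8_3_from30 s (by omega) h1
    by_cases h2 : s < 90
    · exact conjE8_3_from60 s (by omega) h2
    by_cases h3 : s < 120
    · exact conjE8_3_from90 s (by omega) h3
    by_cases h4 : s < 150
    · exact conjE8_3_from120 s (by omega) h4
    by_cases h5 : s < 180
    · exact conjE8_3_from150 s (by omega) h5
    by_cases h6 : s < 210
    · exact conjE8_3_from180 s (by omega) h6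
    exact conjE8_3_from210 s (by omega) hs
  exact n_conj_of_checks chevE8 3 (by decide) permE8_3 etaE8_3 permChkE8_3 nChkE8_3' s hs hc t

theorem conjExplE8_4 {F : Type*} [Field F] (s : ℕ) (hs : s < 240) (t : F) :
    chevE8.nMat F (chevE8.simple 4) 1 * chevE8.x F s t =
      chevE8.x F (chevE8.reflectRoot 4 s) (((etaTabE8 4 s : ℤ) : F) * t) * chevE8.nMat F (chevE8.simple 4) 1 := by
  have hc : conjCheck chevE8 (pMonoCol chevE8 4 permE8_4 etaE8_4) s (dec8 permE8_4 s) (etaOf etaE8_4 s) = true := by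
    by_cases h0 : s < 30
    · exact conjE8_4_from0 s (by omega) h0
    by_cases h1 : s < 60
    · exact conjE8_4_from30 s (by omega) h1
    by_cases h2 : s < 90
    · exact conjE8_4_from60 s (by omega) h2
    by_cases h3 : s < 120
    · exact conjE8_4_from90 s (by omega) h3
    by_cases h4 : s < 150
    · exact conjE8_4_from120 s (by omega) h4
    by_cases h5 : s < 180
    · exact conjE8_4_from150 s (by omega) h5
    by_cases h6 : s < 210
    · exact conjE8_4_from180 s (by omega) h6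
    exact conjE8_4_from210 s (by omega) hs
  exact n_conj_of_checks chevE8 4 (by decide) permE8_4 etaE8_4 permChkE8_4 nChkE8_4' s hs hc t

theorem conjExplE8_5 {F : Type*} [Field F] (s : ℕ) (hs : s < 240) (t : F) :
    chevE8.nMat F (chevE8.simple 5) 1 * chevE8.x F s t =
      chevE8.x F (chevE8.reflectRoot 5 s) (((etaTabE8 5 s : ℤ) : F) * t) * chevE8.nMat F (chevE8.simple 5) 1 := by
  have hc : conjCheck chevE8 (pMonoCol chevE8 5 permE8_5 etaE8_5) s (dec8 permE8_5 s) (etaOf etaE8_5 s) = true := by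
    by_cases h0 : s < 30
    · exact conjE8_5_from0 s (by omega) h0
    by_cases h1 : s < 60
    · exact conjE8_5_from30 s (by omega) h1
    by_cases h2 : s < 90
    · exact conjE8_5_from60 s (by omega) h2
    by_cases h3 : s < 120
    · exact conjE8_5_from90 s (by omega) h3
    by_cases h4 : s < 150
    · exact conjE8_5_from120 s (by omega) h4
    by_cases h5 : s < 180
    · exact conjE8_5_from150 s (by omega) h5
    by_cases h6 : s < 210
    · exact conjE8_5_from180 s (by omega) h6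
    exact conjE8_5_from210 s (by omega) hs
  exact n_conj_of_checks chevE8 5 (by decide) permE8_5 etaE8_5 permChkE8_5 nChkE8_5' s hs hc t

theorem conjExplE8_6 {F : Type*} [Field F] (s : ℕ) (hs : s < 240) (t : F) :
    chevE8.nMat F (chevE8.simple 6) 1 * chevE8.x F s t =
      chevE8.x F (chevE8.reflectRoot 6 s) (((etaTabE8 6 s : ℤ) : F) * t) * chevE8.nMat F (chevE8.simple 6) 1 := by
  have hc : conjCheck chevE8 (pMonoCol chevE8 6 permE8_6 etaE8_6) s (dec8 permE8_6 s) (etaOf etaE8_6 s) = true := by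
    by_cases h0 : s < 30
    · exact conjE8_6_from0 s (by omega) h0
    by_cases h1 : s < 60
    · exact conjE8_6_from30 s (by omega) h1
    by_cases h2 : s < 90
    · exact conjE8_6_from60 s (by omega) h2
    by_cases h3 : s < 120
    · exact conjE8_6_from90 s (by omega) h3
    by_cases h4 : s < 150
    · exact conjE8_6_from120 s (by omega) h4
    by_cases h5 : s < 180
    · exact conjE8_6_from150 s (by omega) h5
    by_cases h6 : s < 210
    · exact conjE8_6_from180 s (by omega) h6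
    exact conjE8_6_from210 s (by omega) hs
  exact n_conj_of_checks chevE8 6 (by decide) permE8_6 etaE8_6 permChkE8_6 nChkE8_6' s hs hc t

theorem conjExplE8_7 {F : Type*} [Field F] (s : ℕ) (hs : s < 240) (t : F) :
    chevE8.nMat F (chevE8.simple 7) 1 * chevE8.x F s t =
      chevE8.x F (chevE8.reflectRoot 7 s) (((etaTabE8 7 s : ℤ) : F) * t) * chevE8.nMat F (chevE8.simple 7) 1 := by
  have hc : conjCheck chevE8 (pMonoCol chevE8 7 permE8_7 etaE8_7) s (dec8 permE8_7 s) (etaOf etaE8_7 s) = true := by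
    by_cases h0 : s < 30
    · exact conjE8_7_from0 s (by omega) h0
    by_cases h1 : s < 60
    · exact conjE8_7_from30 s (by omega) h1
    by_cases h2 : s < 90
    · exact conjE8_7_from60 s (by omega) h2
    by_cases h3 : s < 120
    · exact conjE8_7_from90 s (by omega) h3
    by_cases h4 : s < 150
    · exact conjE8_7_from120 s (by omega) h4
    by_cases h5 : s < 180
    · exact conjE8_7_from150 s (by omega) h5
    by_cases h6 : s < 210
    · exact conjE8_7_from180 s (by omega) h6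
    exact conjE8_7_from210 s (by omega) hs
  exact n_conj_of_checks chevE8 7 (by decide) permE8_7 etaE8_7 permChkE8_7 nChkE8_7' s hs hc t

theorem conjExplE8 {F : Type*} [Field F] (i : ℕ) (hi : i < chevE8.rank) (s : ℕ) (hs : s < chevE8.nroots) (t : F) :
    chevE8.nMat F (chevE8.simple i) 1 * chevE8.x F s t =
      chevE8.x F (chevE8.reflectRoot i s) (((etaTabE8 i s : ℤ) : F) * t) * chevE8.nMat F (chevE8.simple i) 1 := by
  have hi' : i < 8 := hi
  have hs' : s < 240 := hs
  have h : i = 0 ∨ i = 1 ∨ i = 2 ∨ i = 3 ∨ i = 4 ∨ i = 5 ∨ i = 6 ∨ i = 7 := by omega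
  rcases h with rfl | rfl | rfl | rfl | rfl | rfl | rfl | rfl
  exacts [conjExplE8_0 s hs' t, conjExplE8_1 s hs' t, conjExplE8_2 s hs' t, conjExplE8_3 s hs' t, conjExplE8_4 s hs' t, conjExplE8_5 s hs' t, conjExplE8_6 s hs' t, conjExplE8_7 s hs' t]

theorem etaTabE8_cases (i s : ℕ) : etaTabE8 i s = 1 ∨ etaTabE8 i s = -1 := etaOf_cases _ _

end Cfsg.Agent.Helper18
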