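import Cfsg.Agent.Lib.Helper18.ConjData

set_option autoImplicit false
set_option maxRecDepth 100000

namespace Cfsg.Agent.Helper18

open Cfsg.Lie

theorem conjG2_0_0 : conjCheck chevG2 (pMonoCol chevG2 0 permG2_0 etaG2_0) 0 (dec8 permG2_0 0) (etaOf etaG2_0 0) = true := by
  decide +kernel

theorem conjG2_0_1 : conjCheck chevG2 (pMonoCol chevG2 0 permG2_0 etaG2_0) 1 (dec8 permG2_0 1) (etaOf etaG2_0 1) = true := by
  decide +kernel

theorem conjG2_0_2 : conjCheck chevG2 (pMonoCol chevG2 0 permG2_0 etaG2_0) 2 (dec8 permG2_0 2) (etaOf etaG2_0 2) = true := by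
  decide +kernel

theorem conjG2_0_3 : conjCheck chevG2 (pMonoCol chevG2 0 permG2_0 etaG2_0) 3 (dec8 permG2_0 3) (etaOf etaG2_0 3) = true := by
  decide +kernel

theorem conjG2_0_4 : conjCheck chevG2 (pMonoCol chevG2 0 permG2_0 etaG2_0) 4 (dec8 permG2_0 4) (etaOf etaG2_0 4) = true := by
  decide +kernel

theorem conjG2_0_5 : conjCheck chevG2 (pMonoCol chevG2 0 permG2_0 etaG2_0) 5 (dec8 permG2_0 5) (etaOf etaG2_0 5) = true := by
  decide +kernel

theorem conjG2_0_6 : conjCheck chevG2 (pMonoCol chevG2 0 permG2_0 etaG2_0) 6 (dec8 permG2_0 6) (etaOf etaG2_0 6) = true := by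
  decide +kernel

theorem conjG2_0_7 : conjCheck chevG2 (pMonoCol chevG2 0 permG2_0 etaG2_0) 7 (dec8 permG2_0 7) (etaOf etaG2_0 7) = true := by
  decide +kernel

theorem conjG2_0_8 : conjCheck chevG2 (pMonoCol chevG2 0 permG2_0 etaG2_0) 8 (dec8 permG2_0 8) (etaOf etaG2_0 8) = true := by
  decide +kernel

theorem conjG2_0_9 : conjCheck chevG2 (pMonoCol chevG2 0 permG2_0 etaG2_0) 9 (dec8 permG2_0 9) (etaOf etaG2_0 9) = true := by
  decide +kernel

theorem conjG2_0_10 : conjCheck chevG2 (pMonoCol chevG2 0 permG2_0 etaG2_0) 10 (dec8 permG2_0 10) (etaOf etaG2_0 10) = true := by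
  decide +kernel

theorem conjG2_0_11 : conjCheck chevG2 (pMonoCol chevG2 0 permG2_0 etaG2_0) 11 (dec8 permG2_0 11) (etaOf etaG2_0 11) = true := by
  decide +kernel

theorem conjG2_0_from0 (s : ℕ) (h1 : 0 ≤ s) (h2 : s < 12) : conjCheck chevG2 (pMonoCol chevG2 0 permG2_0 etaG2_0) s (dec8 permG2_0 s) (etaOf etaG2_0 s) = true := by
  have h : s = 0 ∨ s = 1 ∨ s = 2 ∨ s = 3 ∨ s = 4 ∨ s = 5 ∨ s = 6 ∨ s = 7 ∨ s = 8 ∨ s = 9 ∨ s = 10 ∨ s = 11 := by omega
  rcases h with rfl | rfl | rfl | rfl | rfl | rfl | rfl | rfl | rfl | rfl | rfl | rfl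
  exacts [conjG2_0_0, conjG2_0_1, conjG2_0_2, conjG2_0_3, conjG2_0_4, conjG2_0_5, conjG2_0_6, conjG2_0_7, conjG2_0_8, conjG2_0_9, conjG2_0_10, conjG2_0_11]

theorem conjG2_1_0 : conjCheck chevG2 (pMonoCol chevG2 1 permG2_1 etaG2_1) 0 (dec8 permG2_1 0) (etaOf etaG2_1 0) = true := by
  decide +kernel

theorem conjG2_1_1 : conjCheck chevG2 (pMonoCol chevG2 1 permG2_1 etaG2_1) 1 (dec8 permG2_1 1) (etaOf etaG2_1 1) = true := by
  decide +kernel

theorem conjG2_1_2 : conjCheck chevG2 (pMonoCol chevG2 1 permG2_1 etaG2_1) 2 (dec8 permG2_1 2) (etaOf etaG2_1 2) = true := by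
  decide +kernel

theorem conjG2_1_3 : conjCheck chevG2 (pMonoCol chevG2 1 permG2_1 etaG2_1) 3 (dec8 permG2_1 3) (etaOf etaG2_1 3) = true := by
  decide +kernel

theorem conjG2_1_4 : conjCheck chevG2 (pMonoCol chevG2 1 permG2_1 etaG2_1) 4 (dec8 permG2_1 4) (etaOf etaG2_1 4) = true := by
  decide +kernel

theorem conjG2_1_5 : conjCheck chevG2 (pMonoCol chevG2 1 permG2_1 etaG2_1) 5 (dec8 permG2_1 5) (etaOf etaG2_1 5) = true := by
  decide +kernel

theorem conjG2_1_6 : conjCheck chevG2 (pMonoCol chevG2 1 permG2_1 etaG2_1) 6 (dec8 permG2_1 6) (etaOf etaG2_1 6) = true := by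
  decide +kernel

theorem conjG2_1_7 : conjCheck chevG2 (pMonoCol chevG2 1 permG2_1 etaG2_1) 7 (dec8 permG2_1 7) (etaOf etaG2_1 7) = true := by
  decide +kernel

theorem conjG2_1_8 : conjCheck chevG2 (pMonoCol chevG2 1 permG2_1 etaG2_1) 8 (dec8 permG2_1 8) (etaOf etaG2_1 8) = true := by
  decide +kernel

theorem conjG2_1_9 : conjCheck chevG2 (pMonoCol chevG2 1 permG2_1 etaG2_1) 9 (dec8 permG2_1 9) (etaOf etaG2_1 9) = true := by
  decide +kernel

theorem conjG2_1_10 : conjCheck chevG2 (pMonoCol chevG2 1 permG2_1 etaG2_1) 10 (dec8 permG2_1 10) (etaOf etaG2_1 10) = true := by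
  decide +kernel

theorem conjG2_1_11 : conjCheck chevG2 (pMonoCol chevG2 1 permG2_1 etaG2_1) 11 (dec8 permG2_1 11) (etaOf etaG2_1 11) = true := by
  decide +kernel

theorem conjG2_1_from0 (s : ℕ) (h1 : 0 ≤ s) (h2 : s < 12) : conjCheck chevG2 (pMonoCol chevG2 1 permG2_1 etaG2_1) s (dec8 permG2_1 s) (etaOf etaG2_1 s) = true := by
  have h : s = 0 ∨ s = 1 ∨ s = 2 ∨ s = 3 ∨ s = 4 ∨ s = 5 ∨ s = 6 ∨ s = 7 ∨ s = 8 ∨ s = 9 ∨ s = 10 ∨ s = 11 := by omega
  rcases h with rfl | rfl | rfl | rfl | rfl | rfl | rfl | rfl | rfl | rfl | rfl | rfl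
  exacts [conjG2_1_0, conjG2_1_1, conjG2_1_2, conjG2_1_3, conjG2_1_4, conjG2_1_5, conjG2_1_6, conjG2_1_7, conjG2_1_8, conjG2_1_9, conjG2_1_10, conjG2_1_11]

theorem conjB2_0_0 : conjCheck chevB2 (pMonoCol chevB2 0 permB2_0 etaB2_0) 0 (dec8 permB2_0 0) (etaOf etaB2_0 0) = true := by
  decide +kernel

theorem conjB2_0_1 : conjCheck chevB2 (pMonoCol chevB2 0 permB2_0 etaB2_0) 1 (dec8 permB2_0 1) (etaOf etaB2_0 1) = true := by
  decide +kernel

theorem conjB2_0_2 : conjCheck chevB2 (pMonoCol chevB2 0 permB2_0 etaB2_0) 2 (dec8 permB2_0 2) (etaOf etaB2_0 2) = true := by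
  decide +kernel

theorem conjB2_0_3 : conjCheck chevB2 (pMonoCol chevB2 0 permB2_0 etaB2_0) 3 (dec8 permB2_0 3) (etaOf etaB2_0 3) = true := by
  decide +kernel

theorem conjB2_0_4 : conjCheck chevB2 (pMonoCol chevB2 0 permB2_0 etaB2_0) 4 (dec8 permB2_0 4) (etaOf etaB2_0 4) = true := by
  decide +kernel

theorem conjB2_0_5 : conjCheck chevB2 (pMonoCol chevB2 0 permB2_0 etaB2_0) 5 (dec8 permB2_0 5) (etaOf etaB2_0 5) = true := by
  decide +kernel

theorem conjB2_0_6 : conjCheck chevB2 (pMonoCol chevB2 0 permB2_0 etaB2_0) 6 (dec8 permB2_0 6) (etaOf etaB2_0 6) = true := by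
  decide +kernel

theorem conjB2_0_7 : conjCheck chevB2 (pMonoCol chevB2 0 permB2_0 etaB2_0) 7 (dec8 permB2_0 7) (etaOf etaB2_0 7) = true := by
  decide +kernel

theorem conjB2_0_from0 (s : ℕ) (h1 : 0 ≤ s) (h2 : s < 8) : conjCheck chevB2 (pMonoCol chevB2 0 permB2_0 etaB2_0) s (dec8 permB2_0 s) (etaOf etaB2_0 s) = true := by
  have h : s = 0 ∨ s = 1 ∨ s = 2 ∨ s = 3 ∨ s = 4 ∨ s = 5 ∨ s = 6 ∨ s = 7 := by omega
  rcases h with rfl | rfl | rfl | rfl | rfl | rfl | rfl | rfl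
  exacts [conjB2_0_0, conjB2_0_1, conjB2_0_2, conjB2_0_3, conjB2_0_4, conjB2_0_5, conjB2_0_6, conjB2_0_7]

theorem conjB2_1_0 : conjCheck chevB2 (pMonoCol chevB2 1 permB2_1 etaB2_1) 0 (dec8 permB2_1 0) (etaOf etaB2_1 0) = true := by
  decide +kernel

theorem conjB2_1_1 : conjCheck chevB2 (pMonoCol chevB2 1 permB2_1 etaB2_1) 1 (dec8 permB2_1 1) (etaOf etaB2_1 1) = true := by
  decide +kernel

theorem conjB2_1_2 : conjCheck chevB2 (pMonoCol chevB2 1 permB2_1 etaB2_1) 2 (dec8 permB2_1 2) (etaOf etaB2_1 2) = true := by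
  decide +kernel

theorem conjB2_1_3 : conjCheck chevB2 (pMonoCol chevB2 1 permB2_1 etaB2_1) 3 (dec8 permB2_1 3) (etaOf etaB2_1 3) = true := by
  decide +kernel

theorem conjB2_1_4 : conjCheck chevB2 (pMonoCol chevB2 1 permB2_1 etaB2_1) 4 (dec8 permB2_1 4) (etaOf etaB2_1 4) = true := by
  decide +kernel

theorem conjB2_1_5 : conjCheck chevB2 (pMonoCol chevB2 1 permB2_1 etaB2_1) 5 (dec8 permB2_1 5) (etaOf etaB2_1 5) = true := by
  decide +kernel

theorem conjB2_1_6 : conjCheck chevB2 (pMonoCol chevB2 1 permB2_1 etaB2_1) 6 (dec8 permB2_1 6) (etaOf etaB2_1 6) = true := by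
  decide +kernel

theorem conjB2_1_7 : conjCheck chevB2 (pMonoCol chevB2 1 permB2_1 etaB2_1) 7 (dec8 permB2_1 7) (etaOf etaB2_1 7) = true := by
  decide +kernel

theorem conjB2_1_from0 (s : ℕ) (h1 : 0 ≤ s) (h2 : s < 8) : conjCheck chevB2 (pMonoCol chevB2 1 permB2_1 etaB2_1) s (dec8 permB2_1 s) (etaOf etaB2_1 s) = true := by
  have h : s = 0 ∨ s = 1 ∨ s = 2 ∨ s = 3 ∨ s = 4 ∨ s = 5 ∨ s = 6 ∨ s = 7 := by omega
  rcases h with rfl | rfl | rfl | rfl | rfl | rfl | rfl | rfl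
  exacts [conjB2_1_0, conjB2_1_1, conjB2_1_2, conjB2_1_3, conjB2_1_4, conjB2_1_5, conjB2_1_6, conjB2_1_7]

theorem conjD4_0_0 : conjCheck chevD4 (pMonoCol chevD4 0 permD4_0 etaD4_0) 0 (dec8 permD4_0 0) (etaOf etaD4_0 0) = true := by
  decide +kernel

theorem conjD4_0_1 : conjCheck chevD4 (pMonoCol chevD4 0 permD4_0 etaD4_0) 1 (dec8 permD4_0 1) (etaOf etaD4_0 1) = true := by
  decide +kernel

theorem conjD4_0_2 : conjCheck chevD4 (pMonoCol chevD4 0 permD4_0 etaD4_0) 2 (dec8 permD4_0 2) (etaOf etaD4_0 2) = true := by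
  decide +kernel

theorem conjD4_0_3 : conjCheck chevD4 (pMonoCol chevD4 0 permD4_0 etaD4_0) 3 (dec8 permD4_0 3) (etaOf etaD4_0 3) = true := by
  decide +kernel

theorem conjD4_0_4 : conjCheck chevD4 (pMonoCol chevD4 0 permD4_0 etaD4_0) 4 (dec8 permD4_0 4) (etaOf etaD4_0 4) = true := by
  decide +kernel

theorem conjD4_0_5 : conjCheck chevD4 (pMonoCol chevD4 0 permD4_0 etaD4_0) 5 (dec8 permD4_0 5) (etaOf etaD4_0 5) = true := by
  decide +kernel

theorem conjD4_0_6 : conjCheck chevD4 (pMonoCol chevD4 0 permD4_0 etaD4_0) 6 (dec8 permD4_0 6) (etaOf etaD4_0 6) = true := by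
  decide +kernel

theorem conjD4_0_7 : conjCheck chevD4 (pMonoCol chevD4 0 permD4_0 etaD4_0) 7 (dec8 permD4_0 7) (etaOf etaD4_0 7) = true := by
  decide +kernel

theorem conjD4_0_8 : conjCheck chevD4 (pMonoCol chevD4 0 permD4_0 etaD4_0) 8 (dec8 permD4_0 8) (etaOf etaD4_0 8) = true := by
  decide +kernel

theorem conjD4_0_9 : conjCheck chevD4 (pMonoCol chevD4 0 permD4_0 etaD4_0) 9 (dec8 permD4_0 9) (etaOf etaD4_0 9) = true := by
  decide +kernel

theorem conjD4_0_10 : conjCheck chevD4 (pMonoCol chevD4 0 permD4_0 etaD4_0) 10 (dec8 permD4_0 10) (etaOf etaD4_0 10) = true := by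
  decide +kernel

theorem conjD4_0_11 : conjCheck chevD4 (pMonoCol chevD4 0 permD4_0 etaD4_0) 11 (dec8 permD4_0 11) (etaOf etaD4_0 11) = true := by
  decide +kernel

theorem conjD4_0_12 : conjCheck chevD4 (pMonoCol chevD4 0 permD4_0 etaD4_0) 12 (dec8 permD4_0 12) (etaOf etaD4_0 12) = true := by
  decide +kernel

theorem conjD4_0_13 : conjCheck chevD4 (pMonoCol chevD4 0 permD4_0 etaD4_0) 13 (dec8 permD4_0 13) (etaOf etaD4_0 13) = true := by
  decide +kernel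

theorem conjD4_0_14 : conjCheck chevD4 (pMonoCol chevD4 0 permD4_0 etaD4_0) 14 (dec8 permD4_0 14) (etaOf etaD4_0 14) = true := by
  decide +kernel

theorem conjD4_0_15 : conjCheck chevD4 (pMonoCol chevD4 0 permD4_0 etaD4_0) 15 (dec8 permD4_0 15) (etaOf etaD4_0 15) = true := by
  decide +kernel

theorem conjD4_0_16 : conjCheck chevD4 (pMonoCol chevD4 0 permD4_0 etaD4_0) 16 (dec8 permD4_0 16) (etaOf etaD4_0 16) = true := by
  decide +kernel

theorem conjD4_0_17 : conjCheck chevD4 (pMonoCol chevD4 0 permD4_0 etaD4_0) 17 (dec8 permD4_0 17) (etaOf etaD4_0 17) = true := by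
  decide +kernel

theorem conjD4_0_18 : conjCheck chevD4 (pMonoCol chevD4 0 permD4_0 etaD4_0) 18 (dec8 permD4_0 18) (etaOf etaD4_0 18) = true := by
  decide +kernel

theorem conjD4_0_19 : conjCheck chevD4 (pMonoCol chevD4 0 permD4_0 etaD4_0) 19 (dec8 permD4_0 19) (etaOf etaD4_0 19) = true := by
  decide +kernel

theorem conjD4_0_20 : conjCheck chevD4 (pMonoCol chevD4 0 permD4_0 etaD4_0) 20 (dec8 permD4_0 20) (etaOf etaD4_0 20) = true := by
  decide +kernel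

theorem conjD4_0_21 : conjCheck chevD4 (pMonoCol chevD4 0 permD4_0 etaD4_0) 21 (dec8 permD4_0 21) (etaOf etaD4_0 21) = true := by
  decide +kernel

theorem conjD4_0_22 : conjCheck chevD4 (pMonoCol chevD4 0 permD4_0 etaD4_0) 22 (dec8 permD4_0 22) (etaOf etaD4_0 22) = true := by
  decide +kernel

theorem conjD4_0_23 : conjCheck chevD4 (pMonoCol chevD4 0 permD4_0 etaD4_0) 23 (dec8 permD4_0 23) (etaOf etaD4_0 23) = true := by
  decide +kernel

theorem conjD4_0_from0 (s : ℕ) (h1 : 0 ≤ s) (h2 : s < 24) : conjCheck chevD4 (pMonoCol chevD4 0 permD4_0 etaD4_0) s (dec8 permD4_0 s) (etaOf etaD4_0 s) = true := by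
  have h : s = 0 ∨ s = 1 ∨ s = 2 ∨ s = 3 ∨ s = 4 ∨ s = 5 ∨ s = 6 ∨ s = 7 ∨ s = 8 ∨ s = 9 ∨ s = 10 ∨ s = 11 ∨ s = 12 ∨ s = 13 ∨ s = 14 ∨ s = 15 ∨ s = 16 ∨ s = 17 ∨ s = 18 ∨ s = 19 ∨ s = 20 ∨ s = 21 ∨ s = 22 ∨ s = 23 := by omega
  rcases h with rfl | rfl | rfl | rfl | rfl | rfl | rfl | rfl | rfl | rfl | rfl | rfl | rfl | rfl | rfl | rfl | rfl | rfl | rfl | rfl | rfl | rfl | rfl | rfl
  exacts [conjD4_0_0, conjD4_0_1, conjD4_0_2, conjD4_0_3, conjD4_0_4, conjD4_0_5, conjD4_0_6, conjD4_0_7, conjD4_0_8, conjD4_0_9, conjD4_0_10, conjD4_0_11, conjD4_0_12, conjD4_0_13, conjD4_0_14, conjD4_0_15, conjD4_0_16, conjD4_0_17, conjD4_0_18, conjD4_0_19, conjD4_0_20, conjD4_0_21, conjD4_0_22, conjD4_0_23]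

theorem conjD4_1_0 : conjCheck chevD4 (pMonoCol chevD4 1 permD4_1 etaD4_1) 0 (dec8 permD4_1 0) (etaOf etaD4_1 0) = true := by
  decide +kernel

theorem conjD4_1_1 : conjCheck chevD4 (pMonoCol chevD4 1 permD4_1 etaD4_1) 1 (dec8 permD4_1 1) (etaOf etaD4_1 1) = true := by
  decide +kernel

theorem conjD4_1_2 : conjCheck chevD4 (pMonoCol chevD4 1 permD4_1 etaD4_1) 2 (dec8 permD4_1 2) (etaOf etaD4_1 2) = true := by
  decide +kernel

theorem conjD4_1_3 : conjCheck chevD4 (pMonoCol chevD4 1 permD4_1 etaD4_1) 3 (dec8 permD4_1 3) (etaOf etaD4_1 3) = true := by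
  decide +kernel

theorem conjD4_1_4 : conjCheck chevD4 (pMonoCol chevD4 1 permD4_1 etaD4_1) 4 (dec8 permD4_1 4) (etaOf etaD4_1 4) = true := by
  decide +kernel

theorem conjD4_1_5 : conjCheck chevD4 (pMonoCol chevD4 1 permD4_1 etaD4_1) 5 (dec8 permD4_1 5) (etaOf etaD4_1 5) = true := by
  decide +kernel

theorem conjD4_1_6 : conjCheck chevD4 (pMonoCol chevD4 1 permD4_1 etaD4_1) 6 (dec8 permD4_1 6) (etaOf etaD4_1 6) = true := by
  decide +kernel

theorem conjD4_1_7 : conjCheck chevD4 (pMonoCol chevD4 1 permD4_1 etaD4_1) 7 (dec8 permD4_1 7) (etaOf etaD4_1 7) = true := by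
  decide +kernel

theorem conjD4_1_8 : conjCheck chevD4 (pMonoCol chevD4 1 permD4_1 etaD4_1) 8 (dec8 permD4_1 8) (etaOf etaD4_1 8) = true := by
  decide +kernel

theorem conjD4_1_9 : conjCheck chevD4 (pMonoCol chevD4 1 permD4_1 etaD4_1) 9 (dec8 permD4_1 9) (etaOf etaD4_1 9) = true := by
  decide +kernel

theorem conjD4_1_10 : conjCheck chevD4 (pMonoCol chevD4 1 permD4_1 etaD4_1) 10 (dec8 permD4_1 10) (etaOf etaD4_1 10) = true := by
  decide +kernel

theorem conjD4_1_11 : conjCheck chevD4 (pMonoCol chevD4 1 permD4_1 etaD4_1) 11 (dec8 permD4_1 11) (etaOf etaD4_1 11) = true := by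
  decide +kernel

theorem conjD4_1_12 : conjCheck chevD4 (pMonoCol chevD4 1 permD4_1 etaD4_1) 12 (dec8 permD4_1 12) (etaOf etaD4_1 12) = true := by
  decide +kernel

theorem conjD4_1_13 : conjCheck chevD4 (pMonoCol chevD4 1 permD4_1 etaD4_1) 13 (dec8 permD4_1 13) (etaOf etaD4_1 13) = true := by
  decide +kernel

theorem conjD4_1_14 : conjCheck chevD4 (pMonoCol chevD4 1 permD4_1 etaD4_1) 14 (dec8 permD4_1 14) (etaOf etaD4_1 14) = true := by
  decide +kernel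

theorem conjD4_1_15 : conjCheck chevD4 (pMonoCol chevD4 1 permD4_1 etaD4_1) 15 (dec8 permD4_1 15) (etaOf etaD4_1 15) = true := by
  decide +kernel

theorem conjD4_1_16 : conjCheck chevD4 (pMonoCol chevD4 1 permD4_1 etaD4_1) 16 (dec8 permD4_1 16) (etaOf etaD4_1 16) = true := by
  decide +kernel

theorem conjD4_1_17 : conjCheck chevD4 (pMonoCol chevD4 1 permD4_1 etaD4_1) 17 (dec8 permD4_1 17) (etaOf etaD4_1 17) = true := by
  decide +kernel

theorem conjD4_1_18 : conjCheck chevD4 (pMonoCol chevD4 1 permD4_1 etaD4_1) 18 (dec8 permD4_1 18) (etaOf etaD4_1 18) = true := by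
  decide +kernel

theorem conjD4_1_19 : conjCheck chevD4 (pMonoCol chevD4 1 permD4_1 etaD4_1) 19 (dec8 permD4_1 19) (etaOf etaD4_1 19) = true := by
  decide +kernel

theorem conjD4_1_20 : conjCheck chevD4 (pMonoCol chevD4 1 permD4_1 etaD4_1) 20 (dec8 permD4_1 20) (etaOf etaD4_1 20) = true := by
  decide +kernel

theorem conjD4_1_21 : conjCheck chevD4 (pMonoCol chevD4 1 permD4_1 etaD4_1) 21 (dec8 permD4_1 21) (etaOf etaD4_1 21) = true := by
  decide +kernel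

theorem conjD4_1_22 : conjCheck chevD4 (pMonoCol chevD4 1 permD4_1 etaD4_1) 22 (dec8 permD4_1 22) (etaOf etaD4_1 22) = true := by
  decide +kernel

theorem conjD4_1_23 : conjCheck chevD4 (pMonoCol chevD4 1 permD4_1 etaD4_1) 23 (dec8 permD4_1 23) (etaOf etaD4_1 23) = true := by
  decide +kernel

theorem conjD4_1_from0 (s : ℕ) (h1 : 0 ≤ s) (h2 : s < 24) : conjCheck chevD4 (pMonoCol chevD4 1 permD4_1 etaD4_1) s (dec8 permD4_1 s) (etaOf etaD4_1 s) = true := by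
  have h : s = 0 ∨ s = 1 ∨ s = 2 ∨ s = 3 ∨ s = 4 ∨ s = 5 ∨ s = 6 ∨ s = 7 ∨ s = 8 ∨ s = 9 ∨ s = 10 ∨ s = 11 ∨ s = 12 ∨ s = 13 ∨ s = 14 ∨ s = 15 ∨ s = 16 ∨ s = 17 ∨ s = 18 ∨ s = 19 ∨ s = 20 ∨ s = 21 ∨ s = 22 ∨ s = 23 := by omega
  rcases h with rfl | rfl | rfl | rfl | rfl | rfl | rfl | rfl | rfl | rfl | rfl | rfl | rfl | rfl | rfl | rfl | rfl | rfl | rfl | rfl | rfl | rfl | rfl | rfl
  exacts [conjD4_1_0, conjD4_1_1, conjD4_1_2, conjD4_1_3, conjD4_1_4, conjD4_1_5, conjD4_1_6, conjD4_1_7, conjD4_1_8, conjD4_1_9, conjD4_1_10, conjD4_1_11, conjD4_1_12, conjD4_1_13, conjD4_1_14, conjD4_1_15, conjD4_1_16, conjD4_1_17, conjD4_1_18, conjD4_1_19, conjD4_1_20, conjD4_1_21, conjD4_1_22, conjD4_1_23]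

theorem conjD4_2_0 : conjCheck chevD4 (pMonoCol chevD4 2 permD4_2 etaD4_2) 0 (dec8 permD4_2 0) (etaOf etaD4_2 0) = true := by
  decide +kernel

theorem conjD4_2_1 : conjCheck chevD4 (pMonoCol chevD4 2 permD4_2 etaD4_2) 1 (dec8 permD4_2 1) (etaOf etaD4_2 1) = true := by
  decide +kernel

theorem conjD4_2_2 : conjCheck chevD4 (pMonoCol chevD4 2 permD4_2 etaD4_2) 2 (dec8 permD4_2 2) (etaOf etaD4_2 2) = true := by
  decide +kernel

theorem conjD4_2_3 : conjCheck chevD4 (pMonoCol chevD4 2 permD4_2 etaD4_2) 3 (dec8 permD4_2 3) (etaOf etaD4_2 3) = true := by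
  decide +kernel

theorem conjD4_2_4 : conjCheck chevD4 (pMonoCol chevD4 2 permD4_2 etaD4_2) 4 (dec8 permD4_2 4) (etaOf etaD4_2 4) = true := by
  decide +kernel

theorem conjD4_2_5 : conjCheck chevD4 (pMonoCol chevD4 2 permD4_2 etaD4_2) 5 (dec8 permD4_2 5) (etaOf etaD4_2 5) = true := by
  decide +kernel

theorem conjD4_2_6 : conjCheck chevD4 (pMonoCol chevD4 2 permD4_2 etaD4_2) 6 (dec8 permD4_2 6) (etaOf etaD4_2 6) = true := by
  decide +kernel

theorem conjD4_2_7 : conjCheck chevD4 (pMonoCol chevD4 2 permD4_2 etaD4_2) 7 (dec8 permD4_2 7) (etaOf etaD4_2 7) = true := by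
  decide +kernel

theorem conjD4_2_8 : conjCheck chevD4 (pMonoCol chevD4 2 permD4_2 etaD4_2) 8 (dec8 permD4_2 8) (etaOf etaD4_2 8) = true := by
  decide +kernel

theorem conjD4_2_9 : conjCheck chevD4 (pMonoCol chevD4 2 permD4_2 etaD4_2) 9 (dec8 permD4_2 9) (etaOf etaD4_2 9) = true := by
  decide +kernel

theorem conjD4_2_10 : conjCheck chevD4 (pMonoCol chevD4 2 permD4_2 etaD4_2) 10 (dec8 permD4_2 10) (etaOf etaD4_2 10) = true := by
  decide +kernel

theorem conjD4_2_11 : conjCheck chevD4 (pMonoCol chevD4 2 permD4_2 etaD4_2) 11 (dec8 permD4_2 11) (etaOf etaD4_2 11) = true := by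
  decide +kernel

theorem conjD4_2_12 : conjCheck chevD4 (pMonoCol chevD4 2 permD4_2 etaD4_2) 12 (dec8 permD4_2 12) (etaOf etaD4_2 12) = true := by
  decide +kernel

theorem conjD4_2_13 : conjCheck chevD4 (pMonoCol chevD4 2 permD4_2 etaD4_2) 13 (dec8 permD4_2 13) (etaOf etaD4_2 13) = true := by
  decide +kernel

theorem conjD4_2_14 : conjCheck chevD4 (pMonoCol chevD4 2 permD4_2 etaD4_2) 14 (dec8 permD4_2 14) (etaOf etaD4_2 14) = true := by
  decide +kernel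

theorem conjD4_2_15 : conjCheck chevD4 (pMonoCol chevD4 2 permD4_2 etaD4_2) 15 (dec8 permD4_2 15) (etaOf etaD4_2 15) = true := by
  decide +kernel

theorem conjD4_2_16 : conjCheck chevD4 (pMonoCol chevD4 2 permD4_2 etaD4_2) 16 (dec8 permD4_2 16) (etaOf etaD4_2 16) = true := by
  decide +kernel

theorem conjD4_2_17 : conjCheck chevD4 (pMonoCol chevD4 2 permD4_2 etaD4_2) 17 (dec8 permD4_2 17) (etaOf etaD4_2 17) = true := by
  decide +kernel

theorem conjD4_2_18 : conjCheck chevD4 (pMonoCol chevD4 2 permD4_2 etaD4_2) 18 (dec8 permD4_2 18) (etaOf etaD4_2 18) = true := by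
  decide +kernel

theorem conjD4_2_19 : conjCheck chevD4 (pMonoCol chevD4 2 permD4_2 etaD4_2) 19 (dec8 permD4_2 19) (etaOf etaD4_2 19) = true := by
  decide +kernel

theorem conjD4_2_20 : conjCheck chevD4 (pMonoCol chevD4 2 permD4_2 etaD4_2) 20 (dec8 permD4_2 20) (etaOf etaD4_2 20) = true := by
  decide +kernel

theorem conjD4_2_21 : conjCheck chevD4 (pMonoCol chevD4 2 permD4_2 etaD4_2) 21 (dec8 permD4_2 21) (etaOf etaD4_2 21) = true := by
  decide +kernel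

theorem conjD4_2_22 : conjCheck chevD4 (pMonoCol chevD4 2 permD4_2 etaD4_2) 22 (dec8 permD4_2 22) (etaOf etaD4_2 22) = true := by
  decide +kernel

theorem conjD4_2_23 : conjCheck chevD4 (pMonoCol chevD4 2 permD4_2 etaD4_2) 23 (dec8 permD4_2 23) (etaOf etaD4_2 23) = true := by
  decide +kernel

theorem conjD4_2_from0 (s : ℕ) (h1 : 0 ≤ s) (h2 : s < 24) : conjCheck chevD4 (pMonoCol chevD4 2 permD4_2 etaD4_2) s (dec8 permD4_2 s) (etaOf etaD4_2 s) = true := by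
  have h : s = 0 ∨ s = 1 ∨ s = 2 ∨ s = 3 ∨ s = 4 ∨ s = 5 ∨ s = 6 ∨ s = 7 ∨ s = 8 ∨ s = 9 ∨ s = 10 ∨ s = 11 ∨ s = 12 ∨ s = 13 ∨ s = 14 ∨ s = 15 ∨ s = 16 ∨ s = 17 ∨ s = 18 ∨ s = 19 ∨ s = 20 ∨ s = 21 ∨ s = 22 ∨ s = 23 := by omega
  rcases h with rfl | rfl | rfl | rfl | rfl | rfl | rfl | rfl | rfl | rfl | rfl | rfl | rfl | rfl | rfl | rfl | rfl | rfl | rfl | rfl | rfl | rfl | rfl | rfl
  exacts [conjD4_2_0, conjD4_2_1, conjD4_2_2, conjD4_2_3, conjD4_2_4, conjD4_2_5, conjD4_2_6, conjD4_2_7, conjD4_2_8, conjD4_2_9, conjD4_2_10, conjD4_2_11, conjD4_2_12, conjD4_2_13, conjD4_2_14, conjD4_2_15, conjD4_2_16, conjD4_2_17, conjD4_2_18, conjD4_2_19, conjD4_2_20, conjD4_2_21, conjD4_2_22, conjD4_2_23]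

theorem conjD4_3_0 : conjCheck chevD4 (pMonoCol chevD4 3 permD4_3 etaD4_3) 0 (dec8 permD4_3 0) (etaOf etaD4_3 0) = true := by
  decide +kernel

theorem conjD4_3_1 : conjCheck chevD4 (pMonoCol chevD4 3 permD4_3 etaD4_3) 1 (dec8 permD4_3 1) (etaOf etaD4_3 1) = true := by
  decide +kernel

theorem conjD4_3_2 : conjCheck chevD4 (pMonoCol chevD4 3 permD4_3 etaD4_3) 2 (dec8 permD4_3 2) (etaOf etaD4_3 2) = true := by
  decide +kernel

theorem conjD4_3_3 : conjCheck chevD4 (pMonoCol chevD4 3 permD4_3 etaD4_3) 3 (dec8 permD4_3 3) (etaOf etaD4_3 3) = true := by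
  decide +kernel

theorem conjD4_3_4 : conjCheck chevD4 (pMonoCol chevD4 3 permD4_3 etaD4_3) 4 (dec8 permD4_3 4) (etaOf etaD4_3 4) = true := by
  decide +kernel

theorem conjD4_3_5 : conjCheck chevD4 (pMonoCol chevD4 3 permD4_3 etaD4_3) 5 (dec8 permD4_3 5) (etaOf etaD4_3 5) = true := by
  decide +kernel

theorem conjD4_3_6 : conjCheck chevD4 (pMonoCol chevD4 3 permD4_3 etaD4_3) 6 (dec8 permD4_3 6) (etaOf etaD4_3 6) = true := by
  decide +kernel

theorem conjD4_3_7 : conjCheck chevD4 (pMonoCol chevD4 3 permD4_3 etaD4_3) 7 (dec8 permD4_3 7) (etaOf etaD4_3 7) = true := by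
  decide +kernel

theorem conjD4_3_8 : conjCheck chevD4 (pMonoCol chevD4 3 permD4_3 etaD4_3) 8 (dec8 permD4_3 8) (etaOf etaD4_3 8) = true := by
  decide +kernel

theorem conjD4_3_9 : conjCheck chevD4 (pMonoCol chevD4 3 permD4_3 etaD4_3) 9 (dec8 permD4_3 9) (etaOf etaD4_3 9) = true := by
  decide +kernel

theorem conjD4_3_10 : conjCheck chevD4 (pMonoCol chevD4 3 permD4_3 etaD4_3) 10 (dec8 permD4_3 10) (etaOf etaD4_3 10) = true := by
  decide +kernel

theorem conjD4_3_11 : conjCheck chevD4 (pMonoCol chevD4 3 permD4_3 etaD4_3) 11 (dec8 permD4_3 11) (etaOf etaD4_3 11) = true := by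
  decide +kernel

theorem conjD4_3_12 : conjCheck chevD4 (pMonoCol chevD4 3 permD4_3 etaD4_3) 12 (dec8 permD4_3 12) (etaOf etaD4_3 12) = true := by
  decide +kernel

theorem conjD4_3_13 : conjCheck chevD4 (pMonoCol chevD4 3 permD4_3 etaD4_3) 13 (dec8 permD4_3 13) (etaOf etaD4_3 13) = true := by
  decide +kernel

theorem conjD4_3_14 : conjCheck chevD4 (pMonoCol chevD4 3 permD4_3 etaD4_3) 14 (dec8 permD4_3 14) (etaOf etaD4_3 14) = true := by
  decide +kernel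

theorem conjD4_3_15 : conjCheck chevD4 (pMonoCol chevD4 3 permD4_3 etaD4_3) 15 (dec8 permD4_3 15) (etaOf etaD4_3 15) = true := by
  decide +kernel

theorem conjD4_3_16 : conjCheck chevD4 (pMonoCol chevD4 3 permD4_3 etaD4_3) 16 (dec8 permD4_3 16) (etaOf etaD4_3 16) = true := by
  decide +kernel

theorem conjD4_3_17 : conjCheck chevD4 (pMonoCol chevD4 3 permD4_3 etaD4_3) 17 (dec8 permD4_3 17) (etaOf etaD4_3 17) = true := by
  decide +kernel

theorem conjD4_3_18 : conjCheck chevD4 (pMonoCol chevD4 3 permD4_3 etaD4_3) 18 (dec8 permD4_3 18) (etaOf etaD4_3 18) = true := by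
  decide +kernel

theorem conjD4_3_19 : conjCheck chevD4 (pMonoCol chevD4 3 permD4_3 etaD4_3) 19 (dec8 permD4_3 19) (etaOf etaD4_3 19) = true := by
  decide +kernel

theorem conjD4_3_20 : conjCheck chevD4 (pMonoCol chevD4 3 permD4_3 etaD4_3) 20 (dec8 permD4_3 20) (etaOf etaD4_3 20) = true := by
  decide +kernel

theorem conjD4_3_21 : conjCheck chevD4 (pMonoCol chevD4 3 permD4_3 etaD4_3) 21 (dec8 permD4_3 21) (etaOf etaD4_3 21) = true := by
  decide +kernel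

theorem conjD4_3_22 : conjCheck chevD4 (pMonoCol chevD4 3 permD4_3 etaD4_3) 22 (dec8 permD4_3 22) (etaOf etaD4_3 22) = true := by
  decide +kernel

theorem conjD4_3_23 : conjCheck chevD4 (pMonoCol chevD4 3 permD4_3 etaD4_3) 23 (dec8 permD4_3 23) (etaOf etaD4_3 23) = true := by
  decide +kernel

theorem conjD4_3_from0 (s : ℕ) (h1 : 0 ≤ s) (h2 : s < 24) : conjCheck chevD4 (pMonoCol chevD4 3 permD4_3 etaD4_3) s (dec8 permD4_3 s) (etaOf etaD4_3 s) = true := by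
  have h : s = 0 ∨ s = 1 ∨ s = 2 ∨ s = 3 ∨ s = 4 ∨ s = 5 ∨ s = 6 ∨ s = 7 ∨ s = 8 ∨ s = 9 ∨ s = 10 ∨ s = 11 ∨ s = 12 ∨ s = 13 ∨ s = 14 ∨ s = 15 ∨ s = 16 ∨ s = 17 ∨ s = 18 ∨ s = 19 ∨ s = 20 ∨ s = 21 ∨ s = 22 ∨ s = 23 := by omega
  rcases h with rfl | rfl | rfl | rfl | rfl | rfl | rfl | rfl | rfl | rfl | rfl | rfl | rfl | rfl | rfl | rfl | rfl | rfl | rfl | rfl | rfl | rfl | rfl | rfl
  exacts [conjD4_3_0, conjD4_3_1, conjD4_3_2, conjD4_3_3, conjD4_3_4, conjD4_3_5, conjD4_3_6, conjD4_3_7, conjD4_3_8, conjD4_3_9, conjD4_3_10, conjD4_3_11, conjD4_3_12, conjD4_3_13, conjD4_3_14, conjD4_3_15, conjD4_3_16, conjD4_3_17, conjD4_3_18, conjD4_3_19, conjD4_3_20, conjD4_3_21, conjD4_3_22, conjD4_3_23]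

theorem conjF4_0_0 : conjCheck chevF4 (pMonoCol chevF4 0 permF4_0 etaF4_0) 0 (dec8 permF4_0 0) (etaOf etaF4_0 0) = true := by
  decide +kernel

theorem conjF4_0_1 : conjCheck chevF4 (pMonoCol chevF4 0 permF4_0 etaF4_0) 1 (dec8 permF4_0 1) (etaOf etaF4_0 1) = true := by
  decide +kernel

theorem conjF4_0_2 : conjCheck chevF4 (pMonoCol chevF4 0 permF4_0 etaF4_0) 2 (dec8 permF4_0 2) (etaOf etaF4_0 2) = true := by
  decide +kernel

theorem conjF4_0_3 : conjCheck chevF4 (pMonoCol chevF4 0 permF4_0 etaF4_0) 3 (dec8 permF4_0 3) (etaOf etaF4_0 3) = true := by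
  decide +kernel

theorem conjF4_0_4 : conjCheck chevF4 (pMonoCol chevF4 0 permF4_0 etaF4_0) 4 (dec8 permF4_0 4) (etaOf etaF4_0 4) = true := by
  decide +kernel

theorem conjF4_0_5 : conjCheck chevF4 (pMonoCol chevF4 0 permF4_0 etaF4_0) 5 (dec8 permF4_0 5) (etaOf etaF4_0 5) = true := by
  decide +kernel

theorem conjF4_0_6 : conjCheck chevF4 (pMonoCol chevF4 0 permF4_0 etaF4_0) 6 (dec8 permF4_0 6) (etaOf etaF4_0 6) = true := by
  decide +kernel

theorem conjF4_0_7 : conjCheck chevF4 (pMonoCol chevF4 0 permF4_0 etaF4_0) 7 (dec8 permF4_0 7) (etaOf etaF4_0 7) = true := by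
  decide +kernel

theorem conjF4_0_8 : conjCheck chevF4 (pMonoCol chevF4 0 permF4_0 etaF4_0) 8 (dec8 permF4_0 8) (etaOf etaF4_0 8) = true := by
  decide +kernel

theorem conjF4_0_9 : conjCheck chevF4 (pMonoCol chevF4 0 permF4_0 etaF4_0) 9 (dec8 permF4_0 9) (etaOf etaF4_0 9) = true := by
  decide +kernel

theorem conjF4_0_10 : conjCheck chevF4 (pMonoCol chevF4 0 permF4_0 etaF4_0) 10 (dec8 permF4_0 10) (etaOf etaF4_0 10) = true := by
  decide +kernel

theorem conjF4_0_11 : conjCheck chevF4 (pMonoCol chevF4 0 permF4_0 etaF4_0) 11 (dec8 permF4_0 11) (etaOf etaF4_0 11) = true := by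
  decide +kernel

theorem conjF4_0_12 : conjCheck chevF4 (pMonoCol chevF4 0 permF4_0 etaF4_0) 12 (dec8 permF4_0 12) (etaOf etaF4_0 12) = true := by
  decide +kernel

theorem conjF4_0_13 : conjCheck chevF4 (pMonoCol chevF4 0 permF4_0 etaF4_0) 13 (dec8 permF4_0 13) (etaOf etaF4_0 13) = true := by
  decide +kernel

theorem conjF4_0_14 : conjCheck chevF4 (pMonoCol chevF4 0 permF4_0 etaF4_0) 14 (dec8 permF4_0 14) (etaOf etaF4_0 14) = true := by
  decide +kernel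

theorem conjF4_0_15 : conjCheck chevF4 (pMonoCol chevF4 0 permF4_0 etaF4_0) 15 (dec8 permF4_0 15) (etaOf etaF4_0 15) = true := by
  decide +kernel

theorem conjF4_0_16 : conjCheck chevF4 (pMonoCol chevF4 0 permF4_0 etaF4_0) 16 (dec8 permF4_0 16) (etaOf etaF4_0 16) = true := by
  decide +kernel

theorem conjF4_0_17 : conjCheck chevF4 (pMonoCol chevF4 0 permF4_0 etaF4_0) 17 (dec8 permF4_0 17) (etaOf etaF4_0 17) = true := by
  decide +kernel

theorem conjF4_0_18 : conjCheck chevF4 (pMonoCol chevF4 0 permF4_0 etaF4_0) 18 (dec8 permF4_0 18) (etaOf etaF4_0 18) = true := by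
  decide +kernel

theorem conjF4_0_19 : conjCheck chevF4 (pMonoCol chevF4 0 permF4_0 etaF4_0) 19 (dec8 permF4_0 19) (etaOf etaF4_0 19) = true := by
  decide +kernel

theorem conjF4_0_20 : conjCheck chevF4 (pMonoCol chevF4 0 permF4_0 etaF4_0) 20 (dec8 permF4_0 20) (etaOf etaF4_0 20) = true := by
  decide +kernel

theorem conjF4_0_21 : conjCheck chevF4 (pMonoCol chevF4 0 permF4_0 etaF4_0) 21 (dec8 permF4_0 21) (etaOf etaF4_0 21) = true := by
  decide +kernel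

theorem conjF4_0_22 : conjCheck chevF4 (pMonoCol chevF4 0 permF4_0 etaF4_0) 22 (dec8 permF4_0 22) (etaOf etaF4_0 22) = true := by
  decide +kernel

theorem conjF4_0_23 : conjCheck chevF4 (pMonoCol chevF4 0 permF4_0 etaF4_0) 23 (dec8 permF4_0 23) (etaOf etaF4_0 23) = true := by
  decide +kernel

theorem conjF4_0_24 : conjCheck chevF4 (pMonoCol chevF4 0 permF4_0 etaF4_0) 24 (dec8 permF4_0 24) (etaOf etaF4_0 24) = true := by
  decide +kernel

theorem conjF4_0_25 : conjCheck chevF4 (pMonoCol chevF4 0 permF4_0 etaF4_0) 25 (dec8 permF4_0 25) (etaOf etaF4_0 25) = true := by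
  decide +kernel

theorem conjF4_0_26 : conjCheck chevF4 (pMonoCol chevF4 0 permF4_0 etaF4_0) 26 (dec8 permF4_0 26) (etaOf etaF4_0 26) = true := by
  decide +kernel

theorem conjF4_0_27 : conjCheck chevF4 (pMonoCol chevF4 0 permF4_0 etaF4_0) 27 (dec8 permF4_0 27) (etaOf etaF4_0 27) = true := by
  decide +kernel

theorem conjF4_0_28 : conjCheck chevF4 (pMonoCol chevF4 0 permF4_0 etaF4_0) 28 (dec8 permF4_0 28) (etaOf etaF4_0 28) = true := by
  decide +kernel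

theorem conjF4_0_29 : conjCheck chevF4 (pMonoCol chevF4 0 permF4_0 etaF4_0) 29 (dec8 permF4_0 29) (etaOf etaF4_0 29) = true := by
  decide +kernel

theorem conjF4_0_30 : conjCheck chevF4 (pMonoCol chevF4 0 permF4_0 etaF4_0) 30 (dec8 permF4_0 30) (etaOf etaF4_0 30) = true := by
  decide +kernel

theorem conjF4_0_31 : conjCheck chevF4 (pMonoCol chevF4 0 permF4_0 etaF4_0) 31 (dec8 permF4_0 31) (etaOf etaF4_0 31) = true := by
  decide +kernel

theorem conjF4_0_32 : conjCheck chevF4 (pMonoCol chevF4 0 permF4_0 etaF4_0) 32 (dec8 permF4_0 32) (etaOf etaF4_0 32) = true := by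
  decide +kernel

theorem conjF4_0_33 : conjCheck chevF4 (pMonoCol chevF4 0 permF4_0 etaF4_0) 33 (dec8 permF4_0 33) (etaOf etaF4_0 33) = true := by
  decide +kernel

theorem conjF4_0_34 : conjCheck chevF4 (pMonoCol chevF4 0 permF4_0 etaF4_0) 34 (dec8 permF4_0 34) (etaOf etaF4_0 34) = true := by
  decide +kernel

theorem conjF4_0_35 : conjCheck chevF4 (pMonoCol chevF4 0 permF4_0 etaF4_0) 35 (dec8 permF4_0 35) (etaOf etaF4_0 35) = true := by
  decide +kernel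

theorem conjF4_0_36 : conjCheck chevF4 (pMonoCol chevF4 0 permF4_0 etaF4_0) 36 (dec8 permF4_0 36) (etaOf etaF4_0 36) = true := by
  decide +kernel

theorem conjF4_0_37 : conjCheck chevF4 (pMonoCol chevF4 0 permF4_0 etaF4_0) 37 (dec8 permF4_0 37) (etaOf etaF4_0 37) = true := by
  decide +kernel

theorem conjF4_0_38 : conjCheck chevF4 (pMonoCol chevF4 0 permF4_0 etaF4_0) 38 (dec8 permF4_0 38) (etaOf etaF4_0 38) = true := by
  decide +kernel

theorem conjF4_0_39 : conjCheck chevF4 (pMonoCol chevF4 0 permF4_0 etaF4_0) 39 (dec8 permF4_0 39) (etaOf etaF4_0 39) = true := by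
  decide +kernel

theorem conjF4_0_40 : conjCheck chevF4 (pMonoCol chevF4 0 permF4_0 etaF4_0) 40 (dec8 permF4_0 40) (etaOf etaF4_0 40) = true := by
  decide +kernel

theorem conjF4_0_41 : conjCheck chevF4 (pMonoCol chevF4 0 permF4_0 etaF4_0) 41 (dec8 permF4_0 41) (etaOf etaF4_0 41) = true := by
  decide +kernel

theorem conjF4_0_42 : conjCheck chevF4 (pMonoCol chevF4 0 permF4_0 etaF4_0) 42 (dec8 permF4_0 42) (etaOf etaF4_0 42) = true := by
  decide +kernel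

theorem conjF4_0_43 : conjCheck chevF4 (pMonoCol chevF4 0 permF4_0 etaF4_0) 43 (dec8 permF4_0 43) (etaOf etaF4_0 43) = true := by
  decide +kernel

theorem conjF4_0_44 : conjCheck chevF4 (pMonoCol chevF4 0 permF4_0 etaF4_0) 44 (dec8 permF4_0 44) (etaOf etaF4_0 44) = true := by
  decide +kernel

theorem conjF4_0_45 : conjCheck chevF4 (pMonoCol chevF4 0 permF4_0 etaF4_0) 45 (dec8 permF4_0 45) (etaOf etaF4_0 45) = true := by
  decide +kernel

theorem conjF4_0_46 : conjCheck chevF4 (pMonoCol chevF4 0 permF4_0 etaF4_0) 46 (dec8 permF4_0 46) (etaOf etaF4_0 46) = true := by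
  decide +kernel

theorem conjF4_0_47 : conjCheck chevF4 (pMonoCol chevF4 0 permF4_0 etaF4_0) 47 (dec8 permF4_0 47) (etaOf etaF4_0 47) = true := by
  decide +kernel

theorem conjF4_0_from0 (s : ℕ) (h1 : 0 ≤ s) (h2 : s < 48) : conjCheck chevF4 (pMonoCol chevF4 0 permF4_0 etaF4_0) s (dec8 permF4_0 s) (etaOf etaF4_0 s) = true := by
  have h : s = 0 ∨ s = 1 ∨ s = 2 ∨ s = 3 ∨ s = 4 ∨ s = 5 ∨ s = 6 ∨ s = 7 ∨ s = 8 ∨ s = 9 ∨ s = 10 ∨ s = 11 ∨ s = 12 ∨ s = 13 ∨ s = 14 ∨ s = 15 ∨ s = 16 ∨ s = 17 ∨ s = 18 ∨ s = 19 ∨ s = 20 ∨ s = 21 ∨ s = 22 ∨ s = 23 ∨ s = 24 ∨ s = 25 ∨ s = 26 ∨ s = 27 ∨ s = 28 ∨ s = 29 ∨ s = 30 ∨ s = 31 ∨ s = 32 ∨ s = 33 ∨ s = 34 ∨ s = 35 ∨ s = 36 ∨ s = 37 ∨ s = 38 ∨ s = 39 ∨ s = 40 ∨ s = 41 ∨ s = 42 ∨ s = 43 ∨ s = 44 ∨ s = 45 ∨ s = 46 ∨ s = 47 := by omega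
  rcases h with rfl | rfl | rfl | rfl | rfl | rfl | rfl | rfl | rfl | rfl | rfl | rfl | rfl | rfl | rfl | rfl | rfl | rfl | rfl | rfl | rfl | rfl | rfl | rfl | rfl | rfl | rfl | rfl | rfl | rfl | rfl | rfl | rfl | rfl | rfl | rfl | rfl | rfl | rfl | rfl | rfl | rfl | rfl | rfl | rfl | rfl | rfl | rfl
  exacts [conjF4_0_0, conjF4_0_1, conjF4_0_2, conjF4_0_3, conjF4_0_4, conjF4_0_5, conjF4_0_6, conjF4_0_7, conjF4_0_8, conjF4_0_9, conjF4_0_10, conjF4_0_11, conjF4_0_12, conjF4_0_13, conjF4_0_14, conjF4_0_15, conjF4_0_16, conjF4_0_17, conjF4_0_18, conjF4_0_19, conjF4_0_20, conjF4_0_21, conjF4_0_22, conjF4_0_23, conjF4_0_24, conjF4_0_25, conjF4_0_26, conjF4_0_27, conjF4_0_28, conjF4_0_29, conjF4_0_30, conjF4_0_31, conjF4_0_32, conjF4_0_33, conjF4_0_34, conjF4_0_35, conjF4_0_36, conjF4_0_37, conjF4_0_38, conjF4_0_39, conjF4_0_40, conjF4_0_41, conjF4_0_42, conjF4_0_43, conjF4_0_44, conjF4_0_45, conjF4_0_46,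 conjF4_0_47]

theorem conjF4_1_0 : conjCheck chevF4 (pMonoCol chevF4 1 permF4_1 etaF4_1) 0 (dec8 permF4_1 0) (etaOf etaF4_1 0) = true := by
  decide +kernel

theorem conjF4_1_1 : conjCheck chevF4 (pMonoCol chevF4 1 permF4_1 etaF4_1) 1 (dec8 permF4_1 1) (etaOf etaF4_1 1) = true := by
  decide +kernel

theorem conjF4_1_2 : conjCheck chevF4 (pMonoCol chevF4 1 permF4_1 etaF4_1) 2 (dec8 permF4_1 2) (etaOf etaF4_1 2) = true := by
  decide +kernel

theorem conjF4_1_3 : conjCheck chevF4 (pMonoCol chevF4 1 permF4_1 etaF4_1) 3 (dec8 permF4_1 3) (etaOf etaF4_1 3) = true := by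
  decide +kernel

theorem conjF4_1_4 : conjCheck chevF4 (pMonoCol chevF4 1 permF4_1 etaF4_1) 4 (dec8 permF4_1 4) (etaOf etaF4_1 4) = true := by
  decide +kernel

theorem conjF4_1_5 : conjCheck chevF4 (pMonoCol chevF4 1 permF4_1 etaF4_1) 5 (dec8 permF4_1 5) (etaOf etaF4_1 5) = true := by
  decide +kernel

theorem conjF4_1_6 : conjCheck chevF4 (pMonoCol chevF4 1 permF4_1 etaF4_1) 6 (dec8 permF4_1 6) (etaOf etaF4_1 6) = true := by
  decide +kernel

theorem conjF4_1_7 : conjCheck chevF4 (pMonoCol chevF4 1 permF4_1 etaF4_1) 7 (dec8 permF4_1 7) (etaOf etaF4_1 7) = true := by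
  decide +kernel

theorem conjF4_1_8 : conjCheck chevF4 (pMonoCol chevF4 1 permF4_1 etaF4_1) 8 (dec8 permF4_1 8) (etaOf etaF4_1 8) = true := by
  decide +kernel

theorem conjF4_1_9 : conjCheck chevF4 (pMonoCol chevF4 1 permF4_1 etaF4_1) 9 (dec8 permF4_1 9) (etaOf etaF4_1 9) = true := by
  decide +kernel

theorem conjF4_1_10 : conjCheck chevF4 (pMonoCol chevF4 1 permF4_1 etaF4_1) 10 (dec8 permF4_1 10) (etaOf etaF4_1 10) = true := by
  decide +kernel

theorem conjF4_1_11 : conjCheck chevF4 (pMonoCol chevF4 1 permF4_1 etaF4_1) 11 (dec8 permF4_1 11) (etaOf etaF4_1 11) = true := by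
  decide +kernel

theorem conjF4_1_12 : conjCheck chevF4 (pMonoCol chevF4 1 permF4_1 etaF4_1) 12 (dec8 permF4_1 12) (etaOf etaF4_1 12) = true := by
  decide +kernel

theorem conjF4_1_13 : conjCheck chevF4 (pMonoCol chevF4 1 permF4_1 etaF4_1) 13 (dec8 permF4_1 13) (etaOf etaF4_1 13) = true := by
  decide +kernel

theorem conjF4_1_14 : conjCheck chevF4 (pMonoCol chevF4 1 permF4_1 etaF4_1) 14 (dec8 permF4_1 14) (etaOf etaF4_1 14) = true := by
  decide +kernel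

theorem conjF4_1_15 : conjCheck chevF4 (pMonoCol chevF4 1 permF4_1 etaF4_1) 15 (dec8 permF4_1 15) (etaOf etaF4_1 15) = true := by
  decide +kernel

theorem conjF4_1_16 : conjCheck chevF4 (pMonoCol chevF4 1 permF4_1 etaF4_1) 16 (dec8 permF4_1 16) (etaOf etaF4_1 16) = true := by
  decide +kernel

theorem conjF4_1_17 : conjCheck chevF4 (pMonoCol chevF4 1 permF4_1 etaF4_1) 17 (dec8 permF4_1 17) (etaOf etaF4_1 17) = true := by
  decide +kernel

theorem conjF4_1_18 : conjCheck chevF4 (pMonoCol chevF4 1 permF4_1 etaF4_1) 18 (dec8 permF4_1 18) (etaOf etaF4_1 18) = true := by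
  decide +kernel

theorem conjF4_1_19 : conjCheck chevF4 (pMonoCol chevF4 1 permF4_1 etaF4_1) 19 (dec8 permF4_1 19) (etaOf etaF4_1 19) = true := by
  decide +kernel

theorem conjF4_1_20 : conjCheck chevF4 (pMonoCol chevF4 1 permF4_1 etaF4_1) 20 (dec8 permF4_1 20) (etaOf etaF4_1 20) = true := by
  decide +kernel

theorem conjF4_1_21 : conjCheck chevF4 (pMonoCol chevF4 1 permF4_1 etaF4_1) 21 (dec8 permF4_1 21) (etaOf etaF4_1 21) = true := by
  decide +kernel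

theorem conjF4_1_22 : conjCheck chevF4 (pMonoCol chevF4 1 permF4_1 etaF4_1) 22 (dec8 permF4_1 22) (etaOf etaF4_1 22) = true := by
  decide +kernel

theorem conjF4_1_23 : conjCheck chevF4 (pMonoCol chevF4 1 permF4_1 etaF4_1) 23 (dec8 permF4_1 23) (etaOf etaF4_1 23) = true := by
  decide +kernel

theorem conjF4_1_24 : conjCheck chevF4 (pMonoCol chevF4 1 permF4_1 etaF4_1) 24 (dec8 permF4_1 24) (etaOf etaF4_1 24) = true := by
  decide +kernel

theorem conjF4_1_25 : conjCheck chevF4 (pMonoCol chevF4 1 permF4_1 etaF4_1) 25 (dec8 permF4_1 25) (etaOf etaF4_1 25) = true := by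
  decide +kernel

theorem conjF4_1_26 : conjCheck chevF4 (pMonoCol chevF4 1 permF4_1 etaF4_1) 26 (dec8 permF4_1 26) (etaOf etaF4_1 26) = true := by
  decide +kernel

theorem conjF4_1_27 : conjCheck chevF4 (pMonoCol chevF4 1 permF4_1 etaF4_1) 27 (dec8 permF4_1 27) (etaOf etaF4_1 27) = true := by
  decide +kernel

theorem conjF4_1_28 : conjCheck chevF4 (pMonoCol chevF4 1 permF4_1 etaF4_1) 28 (dec8 permF4_1 28) (etaOf etaF4_1 28) = true := by
  decide +kernel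

theorem conjF4_1_29 : conjCheck chevF4 (pMonoCol chevF4 1 permF4_1 etaF4_1) 29 (dec8 permF4_1 29) (etaOf etaF4_1 29) = true := by
  decide +kernel

theorem conjF4_1_30 : conjCheck chevF4 (pMonoCol chevF4 1 permF4_1 etaF4_1) 30 (dec8 permF4_1 30) (etaOf etaF4_1 30) = true := by
  decide +kernel

theorem conjF4_1_31 : conjCheck chevF4 (pMonoCol chevF4 1 permF4_1 etaF4_1) 31 (dec8 permF4_1 31) (etaOf etaF4_1 31) = true := by
  decide +kernel

theorem conjF4_1_32 : conjCheck chevF4 (pMonoCol chevF4 1 permF4_1 etaF4_1) 32 (dec8 permF4_1 32) (etaOf etaF4_1 32) = true := by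
  decide +kernel

theorem conjF4_1_33 : conjCheck chevF4 (pMonoCol chevF4 1 permF4_1 etaF4_1) 33 (dec8 permF4_1 33) (etaOf etaF4_1 33) = true := by
  decide +kernel

theorem conjF4_1_34 : conjCheck chevF4 (pMonoCol chevF4 1 permF4_1 etaF4_1) 34 (dec8 permF4_1 34) (etaOf etaF4_1 34) = true := by
  decide +kernel

theorem conjF4_1_35 : conjCheck chevF4 (pMonoCol chevF4 1 permF4_1 etaF4_1) 35 (dec8 permF4_1 35) (etaOf etaF4_1 35) = true := by
  decide +kernel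

theorem conjF4_1_36 : conjCheck chevF4 (pMonoCol chevF4 1 permF4_1 etaF4_1) 36 (dec8 permF4_1 36) (etaOf etaF4_1 36) = true := by
  decide +kernel

theorem conjF4_1_37 : conjCheck chevF4 (pMonoCol chevF4 1 permF4_1 etaF4_1) 37 (dec8 permF4_1 37) (etaOf etaF4_1 37) = true := by
  decide +kernel

theorem conjF4_1_38 : conjCheck chevF4 (pMonoCol chevF4 1 permF4_1 etaF4_1) 38 (dec8 permF4_1 38) (etaOf etaF4_1 38) = true := by
  decide +kernel

theorem conjF4_1_39 : conjCheck chevF4 (pMonoCol chevF4 1 permF4_1 etaF4_1) 39 (dec8 permF4_1 39) (etaOf etaF4_1 39) = true := by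
  decide +kernel

theorem conjF4_1_40 : conjCheck chevF4 (pMonoCol chevF4 1 permF4_1 etaF4_1) 40 (dec8 permF4_1 40) (etaOf etaF4_1 40) = true := by
  decide +kernel

theorem conjF4_1_41 : conjCheck chevF4 (pMonoCol chevF4 1 permF4_1 etaF4_1) 41 (dec8 permF4_1 41) (etaOf etaF4_1 41) = true := by
  decide +kernel

theorem conjF4_1_42 : conjCheck chevF4 (pMonoCol chevF4 1 permF4_1 etaF4_1) 42 (dec8 permF4_1 42) (etaOf etaF4_1 42) = true := by
  decide +kernel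

theorem conjF4_1_43 : conjCheck chevF4 (pMonoCol chevF4 1 permF4_1 etaF4_1) 43 (dec8 permF4_1 43) (etaOf etaF4_1 43) = true := by
  decide +kernel

theorem conjF4_1_44 : conjCheck chevF4 (pMonoCol chevF4 1 permF4_1 etaF4_1) 44 (dec8 permF4_1 44) (etaOf etaF4_1 44) = true := by
  decide +kernel

theorem conjF4_1_45 : conjCheck chevF4 (pMonoCol chevF4 1 permF4_1 etaF4_1) 45 (dec8 permF4_1 45) (etaOf etaF4_1 45) = true := by
  decide +kernel

theorem conjF4_1_46 : conjCheck chevF4 (pMonoCol chevF4 1 permF4_1 etaF4_1) 46 (dec8 permF4_1 46) (etaOf etaF4_1 46) = true := by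
  decide +kernel

theorem conjF4_1_47 : conjCheck chevF4 (pMonoCol chevF4 1 permF4_1 etaF4_1) 47 (dec8 permF4_1 47) (etaOf etaF4_1 47) = true := by
  decide +kernel

theorem conjF4_1_from0 (s : ℕ) (h1 : 0 ≤ s) (h2 : s < 48) : conjCheck chevF4 (pMonoCol chevF4 1 permF4_1 etaF4_1) s (dec8 permF4_1 s) (etaOf etaF4_1 s) = true := by
  have h : s = 0 ∨ s = 1 ∨ s = 2 ∨ s = 3 ∨ s = 4 ∨ s = 5 ∨ s = 6 ∨ s = 7 ∨ s = 8 ∨ s = 9 ∨ s = 10 ∨ s = 11 ∨ s = 12 ∨ s = 13 ∨ s = 14 ∨ s = 15 ∨ s = 16 ∨ s = 17 ∨ s = 18 ∨ s = 19 ∨ s = 20 ∨ s = 21 ∨ s = 22 ∨ s = 23 ∨ s = 24 ∨ s = 25 ∨ s = 26 ∨ s = 27 ∨ s = 28 ∨ s = 29 ∨ s = 30 ∨ s = 31 ∨ s = 32 ∨ s = 33 ∨ s = 34 ∨ s = 35 ∨ s = 36 ∨ s = 37 ∨ s = 38 ∨ s = 39 ∨ s = 40 ∨ s = 41 ∨ s = 42 ∨ s = 43 ∨ s = 44 ∨ s = 45 ∨ s = 46 ∨ s = 47 := by omega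
  rcases h with rfl | rfl | rfl | rfl | rfl | rfl | rfl | rfl | rfl | rfl | rfl | rfl | rfl | rfl | rfl | rfl | rfl | rfl | rfl | rfl | rfl | rfl | rfl | rfl | rfl | rfl | rfl | rfl | rfl | rfl | rfl | rfl | rfl | rfl | rfl | rfl | rfl | rfl | rfl | rfl | rfl | rfl | rfl | rfl | rfl | rfl | rfl | rfl
  exacts [conjF4_1_0, conjF4_1_1, conjF4_1_2, conjF4_1_3, conjF4_1_4, conjF4_1_5, conjF4_1_6, conjF4_1_7, conjF4_1_8, conjF4_1_9, conjF4_1_10, conjF4_1_11, conjF4_1_12, conjF4_1_13, conjF4_1_14, conjF4_1_15, conjF4_1_16, conjF4_1_17, conjF4_1_18, conjF4_1_19, conjF4_1_20, conjF4_1_21, conjF4_1_22, conjF4_1_23, conjF4_1_24, conjF4_1_25, conjF4_1_26, conjF4_1_27, conjF4_1_28, conjF4_1_29, conjF4_1_30, conjF4_1_31, conjF4_1_32, conjF4_1_33, conjF4_1_34, conjF4_1_35, conjF4_1_36, conjF4_1_37, conjF4_1_38, conjF4_1_39, conjF4_1_40, conjF4_1_41, conjF4_1_42, conjF4_1_43, conjF4_1_44, conjF4_1_45, conjF4_1_46,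 conjF4_1_47]

theorem conjF4_2_0 : conjCheck chevF4 (pMonoCol chevF4 2 permF4_2 etaF4_2) 0 (dec8 permF4_2 0) (etaOf etaF4_2 0) = true := by
  decide +kernel

theorem conjF4_2_1 : conjCheck chevF4 (pMonoCol chevF4 2 permF4_2 etaF4_2) 1 (dec8 permF4_2 1) (etaOf etaF4_2 1) = true := by
  decide +kernel

theorem conjF4_2_2 : conjCheck chevF4 (pMonoCol chevF4 2 permF4_2 etaF4_2) 2 (dec8 permF4_2 2) (etaOf etaF4_2 2) = true := by
  decide +kernel

theorem conjF4_2_3 : conjCheck chevF4 (pMonoCol chevF4 2 permF4_2 etaF4_2) 3 (dec8 permF4_2 3) (etaOf etaF4_2 3) = true := by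
  decide +kernel

theorem conjF4_2_4 : conjCheck chevF4 (pMonoCol chevF4 2 permF4_2 etaF4_2) 4 (dec8 permF4_2 4) (etaOf etaF4_2 4) = true := by
  decide +kernel

theorem conjF4_2_5 : conjCheck chevF4 (pMonoCol chevF4 2 permF4_2 etaF4_2) 5 (dec8 permF4_2 5) (etaOf etaF4_2 5) = true := by
  decide +kernel

theorem conjF4_2_6 : conjCheck chevF4 (pMonoCol chevF4 2 permF4_2 etaF4_2) 6 (dec8 permF4_2 6) (etaOf etaF4_2 6) = true := by
  decide +kernel

theorem conjF4_2_7 : conjCheck chevF4 (pMonoCol chevF4 2 permF4_2 etaF4_2) 7 (dec8 permF4_2 7) (etaOf etaF4_2 7) = true := by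
  decide +kernel

theorem conjF4_2_8 : conjCheck chevF4 (pMonoCol chevF4 2 permF4_2 etaF4_2) 8 (dec8 permF4_2 8) (etaOf etaF4_2 8) = true := by
  decide +kernel

theorem conjF4_2_9 : conjCheck chevF4 (pMonoCol chevF4 2 permF4_2 etaF4_2) 9 (dec8 permF4_2 9) (etaOf etaF4_2 9) = true := by
  decide +kernel

theorem conjF4_2_10 : conjCheck chevF4 (pMonoCol chevF4 2 permF4_2 etaF4_2) 10 (dec8 permF4_2 10) (etaOf etaF4_2 10) = true := by
  decide +kernel

theorem conjF4_2_11 : conjCheck chevF4 (pMonoCol chevF4 2 permF4_2 etaF4_2) 11 (dec8 permF4_2 11) (etaOf etaF4_2 11) = true := by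
  decide +kernel

theorem conjF4_2_12 : conjCheck chevF4 (pMonoCol chevF4 2 permF4_2 etaF4_2) 12 (dec8 permF4_2 12) (etaOf etaF4_2 12) = true := by
  decide +kernel

theorem conjF4_2_13 : conjCheck chevF4 (pMonoCol chevF4 2 permF4_2 etaF4_2) 13 (dec8 permF4_2 13) (etaOf etaF4_2 13) = true := by
  decide +kernel

theorem conjF4_2_14 : conjCheck chevF4 (pMonoCol chevF4 2 permF4_2 etaF4_2) 14 (dec8 permF4_2 14) (etaOf etaF4_2 14) = true := by
  decide +kernel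

theorem conjF4_2_15 : conjCheck chevF4 (pMonoCol chevF4 2 permF4_2 etaF4_2) 15 (dec8 permF4_2 15) (etaOf etaF4_2 15) = true := by
  decide +kernel

theorem conjF4_2_16 : conjCheck chevF4 (pMonoCol chevF4 2 permF4_2 etaF4_2) 16 (dec8 permF4_2 16) (etaOf etaF4_2 16) = true := by
  decide +kernel

theorem conjF4_2_17 : conjCheck chevF4 (pMonoCol chevF4 2 permF4_2 etaF4_2) 17 (dec8 permF4_2 17) (etaOf etaF4_2 17) = true := by
  decide +kernel

theorem conjF4_2_18 : conjCheck chevF4 (pMonoCol chevF4 2 permF4_2 etaF4_2) 18 (dec8 permF4_2 18) (etaOf etaF4_2 18) = true := by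
  decide +kernel

theorem conjF4_2_19 : conjCheck chevF4 (pMonoCol chevF4 2 permF4_2 etaF4_2) 19 (dec8 permF4_2 19) (etaOf etaF4_2 19) = true := by
  decide +kernel

theorem conjF4_2_20 : conjCheck chevF4 (pMonoCol chevF4 2 permF4_2 etaF4_2) 20 (dec8 permF4_2 20) (etaOf etaF4_2 20) = true := by
  decide +kernel

theorem conjF4_2_21 : conjCheck chevF4 (pMonoCol chevF4 2 permF4_2 etaF4_2) 21 (dec8 permF4_2 21) (etaOf etaF4_2 21) = true := by
  decide +kernel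

theorem conjF4_2_22 : conjCheck chevF4 (pMonoCol chevF4 2 permF4_2 etaF4_2) 22 (dec8 permF4_2 22) (etaOf etaF4_2 22) = true := by
  decide +kernel

theorem conjF4_2_23 : conjCheck chevF4 (pMonoCol chevF4 2 permF4_2 etaF4_2) 23 (dec8 permF4_2 23) (etaOf etaF4_2 23) = true := by
  decide +kernel

theorem conjF4_2_24 : conjCheck chevF4 (pMonoCol chevF4 2 permF4_2 etaF4_2) 24 (dec8 permF4_2 24) (etaOf etaF4_2 24) = true := by
  decide +kernel

theorem conjF4_2_25 : conjCheck chevF4 (pMonoCol chevF4 2 permF4_2 etaF4_2) 25 (dec8 permF4_2 25) (etaOf etaF4_2 25) = true := by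
  decide +kernel

theorem conjF4_2_26 : conjCheck chevF4 (pMonoCol chevF4 2 permF4_2 etaF4_2) 26 (dec8 permF4_2 26) (etaOf etaF4_2 26) = true := by
  decide +kernel

theorem conjF4_2_27 : conjCheck chevF4 (pMonoCol chevF4 2 permF4_2 etaF4_2) 27 (dec8 permF4_2 27) (etaOf etaF4_2 27) = true := by
  decide +kernel

theorem conjF4_2_28 : conjCheck chevF4 (pMonoCol chevF4 2 permF4_2 etaF4_2) 28 (dec8 permF4_2 28) (etaOf etaF4_2 28) = true := by
  decide +kernel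

theorem conjF4_2_29 : conjCheck chevF4 (pMonoCol chevF4 2 permF4_2 etaF4_2) 29 (dec8 permF4_2 29) (etaOf etaF4_2 29) = true := by
  decide +kernel

theorem conjF4_2_30 : conjCheck chevF4 (pMonoCol chevF4 2 permF4_2 etaF4_2) 30 (dec8 permF4_2 30) (etaOf etaF4_2 30) = true := by
  decide +kernel

theorem conjF4_2_31 : conjCheck chevF4 (pMonoCol chevF4 2 permF4_2 etaF4_2) 31 (dec8 permF4_2 31) (etaOf etaF4_2 31) = true := by
  decide +kernel

theorem conjF4_2_32 : conjCheck chevF4 (pMonoCol chevF4 2 permF4_2 etaF4_2) 32 (dec8 permF4_2 32) (etaOf etaF4_2 32) = true := by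
  decide +kernel

theorem conjF4_2_33 : conjCheck chevF4 (pMonoCol chevF4 2 permF4_2 etaF4_2) 33 (dec8 permF4_2 33) (etaOf etaF4_2 33) = true := by
  decide +kernel

theorem conjF4_2_34 : conjCheck chevF4 (pMonoCol chevF4 2 permF4_2 etaF4_2) 34 (dec8 permF4_2 34) (etaOf etaF4_2 34) = true := by
  decide +kernel

theorem conjF4_2_35 : conjCheck chevF4 (pMonoCol chevF4 2 permF4_2 etaF4_2) 35 (dec8 permF4_2 35) (etaOf etaF4_2 35) = true := by
  decide +kernel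

theorem conjF4_2_36 : conjCheck chevF4 (pMonoCol chevF4 2 permF4_2 etaF4_2) 36 (dec8 permF4_2 36) (etaOf etaF4_2 36) = true := by
  decide +kernel

theorem conjF4_2_37 : conjCheck chevF4 (pMonoCol chevF4 2 permF4_2 etaF4_2) 37 (dec8 permF4_2 37) (etaOf etaF4_2 37) = true := by
  decide +kernel

theorem conjF4_2_38 : conjCheck chevF4 (pMonoCol chevF4 2 permF4_2 etaF4_2) 38 (dec8 permF4_2 38) (etaOf etaF4_2 38) = true := by
  decide +kernel

theorem conjF4_2_39 : conjCheck chevF4 (pMonoCol chevF4 2 permF4_2 etaF4_2) 39 (dec8 permF4_2 39) (etaOf etaF4_2 39) = true := by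
  decide +kernel

theorem conjF4_2_40 : conjCheck chevF4 (pMonoCol chevF4 2 permF4_2 etaF4_2) 40 (dec8 permF4_2 40) (etaOf etaF4_2 40) = true := by
  decide +kernel

theorem conjF4_2_41 : conjCheck chevF4 (pMonoCol chevF4 2 permF4_2 etaF4_2) 41 (dec8 permF4_2 41) (etaOf etaF4_2 41) = true := by
  decide +kernel

theorem conjF4_2_42 : conjCheck chevF4 (pMonoCol chevF4 2 permF4_2 etaF4_2) 42 (dec8 permF4_2 42) (etaOf etaF4_2 42) = true := by
  decide +kernel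

theorem conjF4_2_43 : conjCheck chevF4 (pMonoCol chevF4 2 permF4_2 etaF4_2) 43 (dec8 permF4_2 43) (etaOf etaF4_2 43) = true := by
  decide +kernel

theorem conjF4_2_44 : conjCheck chevF4 (pMonoCol chevF4 2 permF4_2 etaF4_2) 44 (dec8 permF4_2 44) (etaOf etaF4_2 44) = true := by
  decide +kernel

theorem conjF4_2_45 : conjCheck chevF4 (pMonoCol chevF4 2 permF4_2 etaF4_2) 45 (dec8 permF4_2 45) (etaOf etaF4_2 45) = true := by
  decide +kernel

theorem conjF4_2_46 : conjCheck chevF4 (pMonoCol chevF4 2 permF4_2 etaF4_2) 46 (dec8 permF4_2 46) (etaOf etaF4_2 46) = true := by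
  decide +kernel

theorem conjF4_2_47 : conjCheck chevF4 (pMonoCol chevF4 2 permF4_2 etaF4_2) 47 (dec8 permF4_2 47) (etaOf etaF4_2 47) = true := by
  decide +kernel

theorem conjF4_2_from0 (s : ℕ) (h1 : 0 ≤ s) (h2 : s < 48) : conjCheck chevF4 (pMonoCol chevF4 2 permF4_2 etaF4_2) s (dec8 permF4_2 s) (etaOf etaF4_2 s) = true := by
  have h : s = 0 ∨ s = 1 ∨ s = 2 ∨ s = 3 ∨ s = 4 ∨ s = 5 ∨ s = 6 ∨ s = 7 ∨ s = 8 ∨ s = 9 ∨ s = 10 ∨ s = 11 ∨ s = 12 ∨ s = 13 ∨ s = 14 ∨ s = 15 ∨ s = 16 ∨ s = 17 ∨ s = 18 ∨ s = 19 ∨ s = 20 ∨ s = 21 ∨ s = 22 ∨ s = 23 ∨ s = 24 ∨ s = 25 ∨ s = 26 ∨ s = 27 ∨ s = 28 ∨ s = 29 ∨ s = 30 ∨ s = 31 ∨ s = 32 ∨ s = 33 ∨ s = 34 ∨ s = 35 ∨ s = 36 ∨ s = 37 ∨ s = 38 ∨ s = 39 ∨ s = 40 ∨ s = 41 ∨ s = 42 ∨ s = 43 ∨ s = 44 ∨ s = 45 ∨ s = 46 ∨ s = 47 := by omega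
  rcases h with rfl | rfl | rfl | rfl | rfl | rfl | rfl | rfl | rfl | rfl | rfl | rfl | rfl | rfl | rfl | rfl | rfl | rfl | rfl | rfl | rfl | rfl | rfl | rfl | rfl | rfl | rfl | rfl | rfl | rfl | rfl | rfl | rfl | rfl | rfl | rfl | rfl | rfl | rfl | rfl | rfl | rfl | rfl | rfl | rfl | rfl | rfl | rfl
  exacts [conjF4_2_0, conjF4_2_1, conjF4_2_2, conjF4_2_3, conjF4_2_4, conjF4_2_5, conjF4_2_6, conjF4_2_7, conjF4_2_8, conjF4_2_9, conjF4_2_10, conjF4_2_11, conjF4_2_12, conjF4_2_13, conjF4_2_14, conjF4_2_15, conjF4_2_16, conjF4_2_17, conjF4_2_18, conjF4_2_19, conjF4_2_20, conjF4_2_21, conjF4_2_22, conjF4_2_23, conjF4_2_24, conjF4_2_25, conjF4_2_26, conjF4_2_27, conjF4_2_28, conjF4_2_29, conjF4_2_30, conjF4_2_31, conjF4_2_32, conjF4_2_33, conjF4_2_34, conjF4_2_35, conjF4_2_36, conjF4_2_37, conjF4_2_38, conjF4_2_39, conjF4_2_40, conjF4_2_41, conjF4_2_42, conjF4_2_43, conjF4_2_44, conjF4_2_45, conjF4_2_46,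 conjF4_2_47]

theorem conjF4_3_0 : conjCheck chevF4 (pMonoCol chevF4 3 permF4_3 etaF4_3) 0 (dec8 permF4_3 0) (etaOf etaF4_3 0) = true := by
  decide +kernel

theorem conjF4_3_1 : conjCheck chevF4 (pMonoCol chevF4 3 permF4_3 etaF4_3) 1 (dec8 permF4_3 1) (etaOf etaF4_3 1) = true := by
  decide +kernel

theorem conjF4_3_2 : conjCheck chevF4 (pMonoCol chevF4 3 permF4_3 etaF4_3) 2 (dec8 permF4_3 2) (etaOf etaF4_3 2) = true := by
  decide +kernel

theorem conjF4_3_3 : conjCheck chevF4 (pMonoCol chevF4 3 permF4_3 etaF4_3) 3 (dec8 permF4_3 3) (etaOf etaF4_3 3) = true := by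
  decide +kernel

theorem conjF4_3_4 : conjCheck chevF4 (pMonoCol chevF4 3 permF4_3 etaF4_3) 4 (dec8 permF4_3 4) (etaOf etaF4_3 4) = true := by
  decide +kernel

theorem conjF4_3_5 : conjCheck chevF4 (pMonoCol chevF4 3 permF4_3 etaF4_3) 5 (dec8 permF4_3 5) (etaOf etaF4_3 5) = true := by
  decide +kernel

theorem conjF4_3_6 : conjCheck chevF4 (pMonoCol chevF4 3 permF4_3 etaF4_3) 6 (dec8 permF4_3 6) (etaOf etaF4_3 6) = true := by
  decide +kernel

theorem conjF4_3_7 : conjCheck chevF4 (pMonoCol chevF4 3 permF4_3 etaF4_3) 7 (dec8 permF4_3 7) (etaOf etaF4_3 7) = true := by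
  decide +kernel

theorem conjF4_3_8 : conjCheck chevF4 (pMonoCol chevF4 3 permF4_3 etaF4_3) 8 (dec8 permF4_3 8) (etaOf etaF4_3 8) = true := by
  decide +kernel

theorem conjF4_3_9 : conjCheck chevF4 (pMonoCol chevF4 3 permF4_3 etaF4_3) 9 (dec8 permF4_3 9) (etaOf etaF4_3 9) = true := by
  decide +kernel

theorem conjF4_3_10 : conjCheck chevF4 (pMonoCol chevF4 3 permF4_3 etaF4_3) 10 (dec8 permF4_3 10) (etaOf etaF4_3 10) = true := by
  decide +kernel

theorem conjF4_3_11 : conjCheck chevF4 (pMonoCol chevF4 3 permF4_3 etaF4_3) 11 (dec8 permF4_3 11) (etaOf etaF4_3 11) = true := by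
  decide +kernel

theorem conjF4_3_12 : conjCheck chevF4 (pMonoCol chevF4 3 permF4_3 etaF4_3) 12 (dec8 permF4_3 12) (etaOf etaF4_3 12) = true := by
  decide +kernel

theorem conjF4_3_13 : conjCheck chevF4 (pMonoCol chevF4 3 permF4_3 etaF4_3) 13 (dec8 permF4_3 13) (etaOf etaF4_3 13) = true := by
  decide +kernel

theorem conjF4_3_14 : conjCheck chevF4 (pMonoCol chevF4 3 permF4_3 etaF4_3) 14 (dec8 permF4_3 14) (etaOf etaF4_3 14) = true := by
  decide +kernel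

theorem conjF4_3_15 : conjCheck chevF4 (pMonoCol chevF4 3 permF4_3 etaF4_3) 15 (dec8 permF4_3 15) (etaOf etaF4_3 15) = true := by
  decide +kernel

theorem conjF4_3_16 : conjCheck chevF4 (pMonoCol chevF4 3 permF4_3 etaF4_3) 16 (dec8 permF4_3 16) (etaOf etaF4_3 16) = true := by
  decide +kernel

theorem conjF4_3_17 : conjCheck chevF4 (pMonoCol chevF4 3 permF4_3 etaF4_3) 17 (dec8 permF4_3 17) (etaOf etaF4_3 17) = true := by
  decide +kernel

theorem conjF4_3_18 : conjCheck chevF4 (pMonoCol chevF4 3 permF4_3 etaF4_3) 18 (dec8 permF4_3 18) (etaOf etaF4_3 18) = true := by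
  decide +kernel

theorem conjF4_3_19 : conjCheck chevF4 (pMonoCol chevF4 3 permF4_3 etaF4_3) 19 (dec8 permF4_3 19) (etaOf etaF4_3 19) = true := by
  decide +kernel

theorem conjF4_3_20 : conjCheck chevF4 (pMonoCol chevF4 3 permF4_3 etaF4_3) 20 (dec8 permF4_3 20) (etaOf etaF4_3 20) = true := by
  decide +kernel

theorem conjF4_3_21 : conjCheck chevF4 (pMonoCol chevF4 3 permF4_3 etaF4_3) 21 (dec8 permF4_3 21) (etaOf etaF4_3 21) = true := by
  decide +kernel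

theorem conjF4_3_22 : conjCheck chevF4 (pMonoCol chevF4 3 permF4_3 etaF4_3) 22 (dec8 permF4_3 22) (etaOf etaF4_3 22) = true := by
  decide +kernel

theorem conjF4_3_23 : conjCheck chevF4 (pMonoCol chevF4 3 permF4_3 etaF4_3) 23 (dec8 permF4_3 23) (etaOf etaF4_3 23) = true := by
  decide +kernel

theorem conjF4_3_24 : conjCheck chevF4 (pMonoCol chevF4 3 permF4_3 etaF4_3) 24 (dec8 permF4_3 24) (etaOf etaF4_3 24) = true := by
  decide +kernel

theorem conjF4_3_25 : conjCheck chevF4 (pMonoCol chevF4 3 permF4_3 etaF4_3) 25 (dec8 permF4_3 25) (etaOf etaF4_3 25) = true := by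
  decide +kernel

theorem conjF4_3_26 : conjCheck chevF4 (pMonoCol chevF4 3 permF4_3 etaF4_3) 26 (dec8 permF4_3 26) (etaOf etaF4_3 26) = true := by
  decide +kernel

theorem conjF4_3_27 : conjCheck chevF4 (pMonoCol chevF4 3 permF4_3 etaF4_3) 27 (dec8 permF4_3 27) (etaOf etaF4_3 27) = true := by
  decide +kernel

theorem conjF4_3_28 : conjCheck chevF4 (pMonoCol chevF4 3 permF4_3 etaF4_3) 28 (dec8 permF4_3 28) (etaOf etaF4_3 28) = true := by
  decide +kernel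

theorem conjF4_3_29 : conjCheck chevF4 (pMonoCol chevF4 3 permF4_3 etaF4_3) 29 (dec8 permF4_3 29) (etaOf etaF4_3 29) = true := by
  decide +kernel

theorem conjF4_3_30 : conjCheck chevF4 (pMonoCol chevF4 3 permF4_3 etaF4_3) 30 (dec8 permF4_3 30) (etaOf etaF4_3 30) = true := by
  decide +kernel

theorem conjF4_3_31 : conjCheck chevF4 (pMonoCol chevF4 3 permF4_3 etaF4_3) 31 (dec8 permF4_3 31) (etaOf etaF4_3 31) = true := by
  decide +kernel

theorem conjF4_3_32 : conjCheck chevF4 (pMonoCol chevF4 3 permF4_3 etaF4_3) 32 (dec8 permF4_3 32) (etaOf etaF4_3 32) = true := by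
  decide +kernel

theorem conjF4_3_33 : conjCheck chevF4 (pMonoCol chevF4 3 permF4_3 etaF4_3) 33 (dec8 permF4_3 33) (etaOf etaF4_3 33) = true := by
  decide +kernel

theorem conjF4_3_34 : conjCheck chevF4 (pMonoCol chevF4 3 permF4_3 etaF4_3) 34 (dec8 permF4_3 34) (etaOf etaF4_3 34) = true := by
  decide +kernel

theorem conjF4_3_35 : conjCheck chevF4 (pMonoCol chevF4 3 permF4_3 etaF4_3) 35 (dec8 permF4_3 35) (etaOf etaF4_3 35) = true := by
  decide +kernel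

theorem conjF4_3_36 : conjCheck chevF4 (pMonoCol chevF4 3 permF4_3 etaF4_3) 36 (dec8 permF4_3 36) (etaOf etaF4_3 36) = true := by
  decide +kernel

theorem conjF4_3_37 : conjCheck chevF4 (pMonoCol chevF4 3 permF4_3 etaF4_3) 37 (dec8 permF4_3 37) (etaOf etaF4_3 37) = true := by
  decide +kernel

theorem conjF4_3_38 : conjCheck chevF4 (pMonoCol chevF4 3 permF4_3 etaF4_3) 38 (dec8 permF4_3 38) (etaOf etaF4_3 38) = true := by
  decide +kernel

theorem conjF4_3_39 : conjCheck chevF4 (pMonoCol chevF4 3 permF4_3 etaF4_3) 39 (dec8 permF4_3 39) (etaOf etaF4_3 39) = true := by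
  decide +kernel

theorem conjF4_3_40 : conjCheck chevF4 (pMonoCol chevF4 3 permF4_3 etaF4_3) 40 (dec8 permF4_3 40) (etaOf etaF4_3 40) = true := by
  decide +kernel

theorem conjF4_3_41 : conjCheck chevF4 (pMonoCol chevF4 3 permF4_3 etaF4_3) 41 (dec8 permF4_3 41) (etaOf etaF4_3 41) = true := by
  decide +kernel

theorem conjF4_3_42 : conjCheck chevF4 (pMonoCol chevF4 3 permF4_3 etaF4_3) 42 (dec8 permF4_3 42) (etaOf etaF4_3 42) = true := by
  decide +kernel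

theorem conjF4_3_43 : conjCheck chevF4 (pMonoCol chevF4 3 permF4_3 etaF4_3) 43 (dec8 permF4_3 43) (etaOf etaF4_3 43) = true := by
  decide +kernel

theorem conjF4_3_44 : conjCheck chevF4 (pMonoCol chevF4 3 permF4_3 etaF4_3) 44 (dec8 permF4_3 44) (etaOf etaF4_3 44) = true := by
  decide +kernel

theorem conjF4_3_45 : conjCheck chevF4 (pMonoCol chevF4 3 permF4_3 etaF4_3) 45 (dec8 permF4_3 45) (etaOf etaF4_3 45) = true := by
  decide +kernel

theorem conjF4_3_46 : conjCheck chevF4 (pMonoCol chevF4 3 permF4_3 etaF4_3) 46 (dec8 permF4_3 46) (etaOf etaF4_3 46) = true := by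
  decide +kernel

theorem conjF4_3_47 : conjCheck chevF4 (pMonoCol chevF4 3 permF4_3 etaF4_3) 47 (dec8 permF4_3 47) (etaOf etaF4_3 47) = true := by
  decide +kernel

theorem conjF4_3_from0 (s : ℕ) (h1 : 0 ≤ s) (h2 : s < 48) : conjCheck chevF4 (pMonoCol chevF4 3 permF4_3 etaF4_3) s (dec8 permF4_3 s) (etaOf etaF4_3 s) = true := by
  have h : s = 0 ∨ s = 1 ∨ s = 2 ∨ s = 3 ∨ s = 4 ∨ s = 5 ∨ s = 6 ∨ s = 7 ∨ s = 8 ∨ s = 9 ∨ s = 10 ∨ s = 11 ∨ s = 12 ∨ s = 13 ∨ s = 14 ∨ s = 15 ∨ s = 16 ∨ s = 17 ∨ s = 18 ∨ s = 19 ∨ s = 20 ∨ s = 21 ∨ s = 22 ∨ s = 23 ∨ s = 24 ∨ s = 25 ∨ s = 26 ∨ s = 27 ∨ s = 28 ∨ s = 29 ∨ s = 30 ∨ s = 31 ∨ s = 32 ∨ s = 33 ∨ s = 34 ∨ s = 35 ∨ s = 36 ∨ s = 37 ∨ s = 38 ∨ s = 39 ∨ s = 40 ∨ s = 41 ∨ s = 42 ∨ s = 43 ∨ s = 44 ∨ s = 45 ∨ s = 46 ∨ s = 47 := by omega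
  rcases h with rfl | rfl | rfl | rfl | rfl | rfl | rfl | rfl | rfl | rfl | rfl | rfl | rfl | rfl | rfl | rfl | rfl | rfl | rfl | rfl | rfl | rfl | rfl | rfl | rfl | rfl | rfl | rfl | rfl | rfl | rfl | rfl | rfl | rfl | rfl | rfl | rfl | rfl | rfl | rfl | rfl | rfl | rfl | rfl | rfl | rfl | rfl | rfl
  exacts [conjF4_3_0, conjF4_3_1, conjF4_3_2, conjF4_3_3, conjF4_3_4, conjF4_3_5, conjF4_3_6, conjF4_3_7, conjF4_3_8, conjF4_3_9, conjF4_3_10, conjF4_3_11, conjF4_3_12, conjF4_3_13, conjF4_3_14, conjF4_3_15, conjF4_3_16, conjF4_3_17, conjF4_3_18, conjF4_3_19, conjF4_3_20, conjF4_3_21, conjF4_3_22, conjF4_3_23, conjF4_3_24, conjF4_3_25, conjF4_3_26, conjF4_3_27, conjF4_3_28, conjF4_3_29, conjF4_3_30, conjF4_3_31, conjF4_3_32, conjF4_3_33, conjF4_3_34, conjF4_3_35, conjF4_3_36, conjF4_3_37, conjF4_3_38, conjF4_3_39, conjF4_3_40, conjF4_3_41, conjF4_3_42, conjF4_3_43, conjF4_3_44, conjF4_3_45, conjF4_3_46,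 conjF4_3_47]

end Cfsg.Agent.Helper18
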