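import Cfsg.Agent.Lib.Helper18.ChevParabolic
import Cfsg.Agent.Lib.Helper18.LongestData

set_option autoImplicit false
set_option maxRecDepth 100000

namespace Cfsg.Agent.Helper18

open Cfsg.Lie Cfsg.Agent.S1043

def paraJG2 : List ℕ := [1, 0, 0, 1, 0, 1, 0, 0, 0, 0, 0, 0]
theorem paraChkG2 : paraCheck chevG2 permTblG2 paraJG2 = true := by
  decide +kernel

def paraJB2 : List ℕ := [0, 1, 0, 1, 0, 0, 0, 0]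
theorem paraChkB2 : paraCheck chevB2 permTblB2 paraJB2 = true := by
  decide +kernel

def paraJD4 : List ℕ := [1, 0, 0, 0, 0, 0, 2, 1, 1, 1, 2, 3, 0, 0, 0, 0, 0, 0, 0, 0, 0, 0, 0, 0]
theorem paraChkD4 : paraCheck chevD4 permTblD4 paraJD4 = true := by
  decide +kernel

def paraJF4 : List ℕ := [3, 2, 1, 0, 0, 0, 0, 1, 2, 1, 1, 0, 0, 0, 0, 2, 1, 1, 3, 2, 1, 2, 2, 3, 0, 0, 0, 0, 0, 0, 0, 0, 0, 0, 0, 0, 0, 0, 0, 0, 0, 0, 0, 0, 0, 0, 0, 0]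
theorem paraChkF4 : paraCheck chevF4 permTblF4 paraJF4 = true := by
  decide +kernel

def paraJE6 : List ℕ := [1, 3, 2, 2, 2, 0, 0, 0, 0, 0, 0, 0, 0, 0, 0, 0, 4, 3, 3, 1, 1, 1, 1, 1, 1, 1, 2, 2, 2, 2, 3, 3, 3, 4, 4, 5, 0, 0, 0, 0, 0, 0, 0, 0, 0, 0, 0, 0, 0, 0, 0, 0, 0, 0, 0, 0, 0, 0, 0, 0, 0, 0, 0, 0, 0, 0, 0, 0, 0, 0, 0, 0]
theorem paraChkE6 : paraCheck chevE6 permTblE6 paraJE6 = true := by
  decide +kernel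

def paraJE7 : List ℕ := [0, 2, 3, 1, 1, 1, 1, 4, 3, 3, 3, 2, 2, 2, 2, 2, 2, 0, 0, 0, 0, 0, 0, 0, 0, 0, 0, 0, 0, 0, 0, 0, 0, 5, 4, 4, 3, 3, 3, 1, 1, 1, 1, 1, 1, 1, 1, 1, 2, 2, 2, 2, 2, 3, 3, 3, 3, 4, 4, 4, 5, 5, 6, 0, 0, 0, 0, 0, 0, 0, 0, 0, 0, 0, 0, 0, 0, 0, 0, 0, 0, 0, 0, 0, 0, 0, 0, 0, 0, 0, 0, 0, 0, 0, 0, 0, 0, 0, 0, 0, 0, 0, 0, 0, 0, 0, 0, 0, 0, 0, 0, 0, 0, 0, 0, 0, 0, 0, 0, 0, 0, 0, 0, 0, 0, 0]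
theorem paraChkE7 : paraCheck chevE7 permTblE7 paraJE7 = true := by
  decide +kernel

def paraJE8 : List ℕ := [7, 6, 5, 4, 3, 1, 0, 2, 0, 0, 0, 0, 0, 0, 1, 3, 2, 2, 2, 2, 2, 4, 3, 3, 3, 3, 1, 1, 1, 1, 1, 1, 1, 1, 1, 1, 5, 4, 4, 4, 3, 3, 3, 3, 3, 3, 2, 2, 2, 2, 2, 2, 2, 2, 2, 2, 0, 0, 0, 0, 0, 0, 0, 0, 0, 0, 0, 0, 0, 0, 0, 0, 0, 0, 0, 0, 0, 0, 6, 5, 5, 4, 4, 4, 3, 3, 3, 3, 1, 1, 1, 1, 1, 1, 1, 1, 1, 1, 1, 2, 2, 2, 2, 2, 2, 3, 3, 3, 3, 3, 4, 4, 4, 4, 5, 5, 5, 6, 6, 7, 0, 0, 0, 0, 0, 0, 0, 0, 0, 0, 0, 0, 0, 0, 0, 0, 0, 0, 0, 0, 0, 0, 0, 0, 0, 0, 0, 0, 0, 0, 0, 0, 0, 0, 0, 0, 0, 0, 0, 0, 0, 0, 0, 0, 0, 0, 0, 0, 0, 0, 0, 0, 0, 0, 0, 0, 0, 0, 0, 0, 0, 0, 0, 0, 0, 0, 0, 0, 0, 0, 0, 0, 0, 0, 0, 0, 0, 0, 0, 0, 0, 0, 0, 0, 0, 0, 0, 0, 0, 0, 0, 0, 0, 0, 0, 0, 0, 0, 0, 0, 0, 0, 0, 0, 0, 0, 0, 0,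 0, 0, 0, 0, 0, 0, 0, 0, 0, 0, 0, 0]
theorem paraChkE8 : paraCheck chevE8 permTblE8 paraJE8 = true := by
  decide +kernel

theorem parabolic_all {F : Type*} [Field F] (D : ChevalleyDatum) (hD : Good D)
    (hconj : ∀ i < D.rank, ∀ s < D.nroots, ConjGoal' F D i s) (J : Set ℕ) :
    D.parabolicSubgroup F J = D.diagonalSubgroup F ⊔
      Subgroup.closure {g : GL D.Idx F | ∃ (r : ℕ) (t : F), (D.IsPosRoot r ∨ D.InRootSub J r) ∧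
        (g : Matrix D.Idx D.Idx F) = D.x F r t} := by
  have hpn := Cfsg.Agent.S1041.pos_or_neg D hD
  have hD' := hD
  simp only [Good, List.mem_cons, List.not_mem_nil, or_false] at hD'
  rcases hD' with rfl | rfl | rfl | rfl | rfl | rfl | rfl
  · exact parabolic_of_check chevG2 hD permTblG2 paraJG2 permTblG2_ok hconj hpn paraChkG2 J
  · exact parabolic_of_check chevB2 hD permTblB2 paraJB2 permTblB2_ok hconj hpn paraChkB2 J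
  · exact parabolic_of_check chevD4 hD permTblD4 paraJD4 permTblD4_ok hconj hpn paraChkD4 J
  · exact parabolic_of_check chevF4 hD permTblF4 paraJF4 permTblF4_ok hconj hpn paraChkF4 J
  · exact parabolic_of_check chevE6 hD permTblE6 paraJE6 permTblE6_ok hconj hpn paraChkE6 J
  · exact parabolic_of_check chevE7 hD permTblE7 paraJE7 permTblE7_ok hconj hpn paraChkE7 J
  · exact parabolic_of_check chevE8 hD permTblE8 paraJE8 permTblE8_ok hconj hpn paraChkE8 J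

end Cfsg.Agent.Helper18
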