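import Mathlib
import Cfsg.Agent.Lib.Helper36.ChevCentU

/-!
# The exponent of the unipotent group of `F₄` in characteristic 2 divides 32 (helper18)

The height filtration of the adjoint module (helper36) has 23 levels for `F₄` (heights `-11 .. 11`), so
`(u - 1) ^ 23 = 0` for `u ∈ U`, hence `u ^ 32 = 1` in characteristic 2.
-/

set_option autoImplicit false

namespace Cfsg.Agent.Helper18.F4Exp

open Cfsg.Lie Cfsg.Agent.S1043 Cfsg.Agent.Helper36.ChevGrade Cfsg.Agent.Helper36.ChevHeight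
  Cfsg.Agent.Helper36.ChevCentU

section

variable {F : Type*} [Field F] {D : ChevalleyDatum} {m : ℕ → ℕ → ℤ}

theorem fil_pow {N : Matrix D.Idx D.Idx F} (hN : Fil D m 1 N) :
    ∀ k : ℕ, Fil D m (k : ℤ) (N ^ k)
  | 0 => by
    rw [pow_zero, Nat.cast_zero]
    exact fil_one
  | k + 1 => by
    rw [pow_succ, Nat.cast_succ]
    exact fil_mul (fil_pow hN k) hN

/-- a matrix raising the height by more than the total spread is zero -/
theorem eq_zero_of_fil {B : ℤ} (hB : ∀ i : D.Idx, -B ≤ hγ D m i ∧ hγ D m i ≤ B) {d : ℤ} (hd : 2 * B < d)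
    {M : Matrix D.Idx D.Idx F} (hM : Fil D m d M) : M = 0 := by
  ext row col
  rw [Matrix.zero_apply]
  apply hM row col
  have h1 := (hB row).2
  have h2 := (hB col).1
  omega

end

set_option maxRecDepth 100000 in
theorem htL_bound_F4 : ∀ s : Fin chevF4.nroots,
    -11 ≤ htL chevF4 (mTbl rcF4) s.val ∧ htL chevF4 (mTbl rcF4) s.val ≤ 11 := by decide +kernel

theorem hγ_bound_F4 (i : chevF4.Idx) :
    -11 ≤ hγ chevF4 (mTbl rcF4) i ∧ hγ chevF4 (mTbl rcF4) i ≤ 11 := by
  rcases i with i | s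
  · rw [hγ_inl]
    omega
  · rw [hγ_inr, ht_eq_htL]
    exact htL_bound_F4 s

/-- in characteristic 2 every element of the unipotent group of `F₄` has order dividing 32 -/
theorem pow_32_eq_one {F : Type*} [Field F] [CharP F 2] (u : GL chevF4.Idx F)
    (hu : u ∈ chevF4.posUnipotent F) : u ^ 32 = 1 := by
  have hD : Good chevF4 := by simp [Good]
  have : Fact (Nat.Prime 2) := ⟨Nat.prime_two⟩
  have : Nonempty chevF4.Idx := Cfsg.Agent.Helper36.ChevDiagChar.nonempty_idx chevF4 hD
  obtain ⟨h1, -⟩ := posUnipotent_fil chevF4 hD (mTbl rcF4) htData_F4 u hu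
  have h2 : ((u : Matrix chevF4.Idx chevF4.Idx F) - 1) ^ 32 = 0 := by
    apply eq_zero_of_fil hγ_bound_F4 (d := ((32 : ℕ) : ℤ)) (by norm_num)
    exact fil_pow h1 32
  have h3 := sub_pow_char_pow_of_commute (R := Matrix chevF4.Idx chevF4.Idx F) (p := 2)
    (n := 5) (x := (u : Matrix chevF4.Idx chevF4.Idx F)) (y := 1) (Commute.one_right _)
  have e32 : (2 : ℕ) ^ 5 = 32 := by norm_num
  rw [e32, h2, one_pow] at h3
  apply Units.ext
  rw [Units.val_pow_eq_pow_val, Units.val_one]
  exact (sub_eq_zero.mp h3.symm)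

end Cfsg.Agent.Helper18.F4Exp
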