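import Cfsg.Agent.Lib.Helper18.UProdData

set_option autoImplicit false
set_option maxRecDepth 100000
set_option Elab.async false

namespace Cfsg.Agent.Helper18

open Cfsg.Lie

theorem ordChkE7_63 : ordCheck chevE7 63 = true := by
  decide +kernel

theorem ordChkE7_64 : ordCheck chevE7 64 = true := by
  decide +kernel

theorem ordChkE7_65 : ordCheck chevE7 65 = true := by
  decide +kernel

theorem ordChkE7_66 : ordCheck chevE7 66 = true := by
  decide +kernel

theorem ordChkE7_67 : ordCheck chevE7 67 = true := by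
  decide +kernel

theorem ordChkE7_68 : ordCheck chevE7 68 = true := by
  decide +kernel

theorem ordChkE7_69 : ordCheck chevE7 69 = true := by
  decide +kernel

theorem ordChkE7_70 : ordCheck chevE7 70 = true := by
  decide +kernel

theorem ordChkE7_71 : ordCheck chevE7 71 = true := by
  decide +kernel

theorem ordChkE7_72 : ordCheck chevE7 72 = true := by
  decide +kernel

theorem ordChkE7_73 : ordCheck chevE7 73 = true := by
  decide +kernel

theorem ordChkE7_74 : ordCheck chevE7 74 = true := by
  decide +kernel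

theorem ordChkE7_75 : ordCheck chevE7 75 = true := by
  decide +kernel

theorem ordChkE7_76 : ordCheck chevE7 76 = true := by
  decide +kernel

theorem ordChkE7_77 : ordCheck chevE7 77 = true := by
  decide +kernel

theorem ordChkE7_78 : ordCheck chevE7 78 = true := by
  decide +kernel

theorem ordChkE7_79 : ordCheck chevE7 79 = true := by
  decide +kernel

theorem ordChkE7_80 : ordCheck chevE7 80 = true := by
  decide +kernel

theorem ordChkE7_81 : ordCheck chevE7 81 = true := by
  decide +kernel

theorem ordChkE7_82 : ordCheck chevE7 82 = true := by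
  decide +kernel

theorem ordChkE7_83 : ordCheck chevE7 83 = true := by
  decide +kernel

theorem ordChkE7_84 : ordCheck chevE7 84 = true := by
  decide +kernel

theorem ordChkE7_85 : ordCheck chevE7 85 = true := by
  decide +kernel

theorem ordChkE7_86 : ordCheck chevE7 86 = true := by
  decide +kernel

theorem ordChkE7_87 : ordCheck chevE7 87 = true := by
  decide +kernel

theorem ordChkE7_88 : ordCheck chevE7 88 = true := by
  decide +kernel

theorem ordChkE7_89 : ordCheck chevE7 89 = true := by
  decide +kernel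

theorem ordChkE7_90 : ordCheck chevE7 90 = true := by
  decide +kernel

theorem ordChkE7_91 : ordCheck chevE7 91 = true := by
  decide +kernel

theorem ordChkE7_92 : ordCheck chevE7 92 = true := by
  decide +kernel

theorem ordChkE7_93 : ordCheck chevE7 93 = true := by
  decide +kernel

theorem ordChkE7_94 : ordCheck chevE7 94 = true := by
  decide +kernel

theorem ordChkE7_from63 (k : ℕ) (h1 : 63 ≤ k) (h2 : k < 95) : ordCheck chevE7 k = true := by
  have h : k = 63 ∨ k = 64 ∨ k = 65 ∨ k = 66 ∨ k = 67 ∨ k = 68 ∨ k = 69 ∨ k = 70 ∨ k = 71 ∨ k = 72 ∨ k = 73 ∨ k = 74 ∨ k = 75 ∨ k = 76 ∨ k = 77 ∨ k = 78 ∨ k = 79 ∨ k = 80 ∨ k = 81 ∨ k = 82 ∨ k = 83 ∨ k = 84 ∨ k = 85 ∨ k = 86 ∨ k = 87 ∨ k = 88 ∨ k = 89 ∨ k = 90 ∨ k = 91 ∨ k = 92 ∨ k = 93 ∨ k = 94 := by omega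
  rcases h with rfl | rfl | rfl | rfl | rfl | rfl | rfl | rfl | rfl | rfl | rfl | rfl | rfl | rfl | rfl | rfl | rfl | rfl | rfl | rfl | rfl | rfl | rfl | rfl | rfl | rfl | rfl | rfl | rfl | rfl | rfl | rfl
  exacts [ordChkE7_63, ordChkE7_64, ordChkE7_65, ordChkE7_66, ordChkE7_67, ordChkE7_68, ordChkE7_69, ordChkE7_70, ordChkE7_71, ordChkE7_72, ordChkE7_73, ordChkE7_74, ordChkE7_75, ordChkE7_76, ordChkE7_77, ordChkE7_78, ordChkE7_79, ordChkE7_80, ordChkE7_81, ordChkE7_82, ordChkE7_83, ordChkE7_84, ordChkE7_85, ordChkE7_86, ordChkE7_87, ordChkE7_88, ordChkE7_89, ordChkE7_90, ordChkE7_91, ordChkE7_92, ordChkE7_93, ordChkE7_94]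

theorem ordChkE7_95 : ordCheck chevE7 95 = true := by
  decide +kernel

theorem ordChkE7_96 : ordCheck chevE7 96 = true := by
  decide +kernel

theorem ordChkE7_97 : ordCheck chevE7 97 = true := by
  decide +kernel

theorem ordChkE7_98 : ordCheck chevE7 98 = true := by
  decide +kernel

theorem ordChkE7_99 : ordCheck chevE7 99 = true := by
  decide +kernel

theorem ordChkE7_100 : ordCheck chevE7 100 = true := by
  decide +kernel

theorem ordChkE7_101 : ordCheck chevE7 101 = true := by
  decide +kernel

theorem ordChkE7_102 : ordCheck chevE7 102 = true := by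
  decide +kernel

theorem ordChkE7_103 : ordCheck chevE7 103 = true := by
  decide +kernel

theorem ordChkE7_104 : ordCheck chevE7 104 = true := by
  decide +kernel

theorem ordChkE7_105 : ordCheck chevE7 105 = true := by
  decide +kernel

theorem ordChkE7_106 : ordCheck chevE7 106 = true := by
  decide +kernel

theorem ordChkE7_107 : ordCheck chevE7 107 = true := by
  decide +kernel

theorem ordChkE7_108 : ordCheck chevE7 108 = true := by
  decide +kernel

theorem ordChkE7_109 : ordCheck chevE7 109 = true := by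
  decide +kernel

theorem ordChkE7_110 : ordCheck chevE7 110 = true := by
  decide +kernel

theorem ordChkE7_111 : ordCheck chevE7 111 = true := by
  decide +kernel

theorem ordChkE7_112 : ordCheck chevE7 112 = true := by
  decide +kernel

theorem ordChkE7_113 : ordCheck chevE7 113 = true := by
  decide +kernel

theorem ordChkE7_114 : ordCheck chevE7 114 = true := by
  decide +kernel

theorem ordChkE7_115 : ordCheck chevE7 115 = true := by
  decide +kernel

theorem ordChkE7_116 : ordCheck chevE7 116 = true := by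
  decide +kernel

theorem ordChkE7_117 : ordCheck chevE7 117 = true := by
  decide +kernel

theorem ordChkE7_118 : ordCheck chevE7 118 = true := by
  decide +kernel

theorem ordChkE7_119 : ordCheck chevE7 119 = true := by
  decide +kernel

theorem ordChkE7_120 : ordCheck chevE7 120 = true := by
  decide +kernel

theorem ordChkE7_121 : ordCheck chevE7 121 = true := by
  decide +kernel

theorem ordChkE7_122 : ordCheck chevE7 122 = true := by
  decide +kernel

theorem ordChkE7_123 : ordCheck chevE7 123 = true := by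
  decide +kernel

theorem ordChkE7_124 : ordCheck chevE7 124 = true := by
  decide +kernel

theorem ordChkE7_125 : ordCheck chevE7 125 = true := by
  decide +kernel

theorem ordChkE7_from95 (k : ℕ) (h1 : 95 ≤ k) (h2 : k < 126) : ordCheck chevE7 k = true := by
  have h : k = 95 ∨ k = 96 ∨ k = 97 ∨ k = 98 ∨ k = 99 ∨ k = 100 ∨ k = 101 ∨ k = 102 ∨ k = 103 ∨ k = 104 ∨ k = 105 ∨ k = 106 ∨ k = 107 ∨ k = 108 ∨ k = 109 ∨ k = 110 ∨ k = 111 ∨ k = 112 ∨ k = 113 ∨ k = 114 ∨ k = 115 ∨ k = 116 ∨ k = 117 ∨ k = 118 ∨ k = 119 ∨ k = 120 ∨ k = 121 ∨ k = 122 ∨ k = 123 ∨ k = 124 ∨ k = 125 := by omega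
  rcases h with rfl | rfl | rfl | rfl | rfl | rfl | rfl | rfl | rfl | rfl | rfl | rfl | rfl | rfl | rfl | rfl | rfl | rfl | rfl | rfl | rfl | rfl | rfl | rfl | rfl | rfl | rfl | rfl | rfl | rfl | rfl
  exacts [ordChkE7_95, ordChkE7_96, ordChkE7_97, ordChkE7_98, ordChkE7_99, ordChkE7_100, ordChkE7_101, ordChkE7_102, ordChkE7_103, ordChkE7_104, ordChkE7_105, ordChkE7_106, ordChkE7_107, ordChkE7_108, ordChkE7_109, ordChkE7_110, ordChkE7_111, ordChkE7_112, ordChkE7_113, ordChkE7_114, ordChkE7_115, ordChkE7_116, ordChkE7_117, ordChkE7_118, ordChkE7_119, ordChkE7_120, ordChkE7_121, ordChkE7_122, ordChkE7_123, ordChkE7_124, ordChkE7_125]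

end Cfsg.Agent.Helper18
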