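import Cfsg.Agent.Lib.Helper18.UProdData

set_option autoImplicit false
set_option maxRecDepth 100000
set_option Elab.async false

namespace Cfsg.Agent.Helper18

open Cfsg.Lie

theorem wtChkE7_63 : wtRangeCheck chevE7 fwE7 63 72 = true := by
  decide +kernel

theorem wtChkE7_72 : wtRangeCheck chevE7 fwE7 72 81 = true := by
  decide +kernel

theorem wtChkE7_81 : wtRangeCheck chevE7 fwE7 81 90 = true := by
  decide +kernel

theorem wtChkE7_90 : wtRangeCheck chevE7 fwE7 90 99 = true := by
  decide +kernel

theorem wtChkE7_99 : wtRangeCheck chevE7 fwE7 99 108 = true := by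
  decide +kernel

theorem wtChkE7_108 : wtRangeCheck chevE7 fwE7 108 117 = true := by
  decide +kernel

theorem wtChkE7_117 : wtRangeCheck chevE7 fwE7 117 126 = true := by
  decide +kernel

end Cfsg.Agent.Helper18
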