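import Cfsg.Agent.Lib.Helper18.UProdData

set_option autoImplicit false
set_option maxRecDepth 100000
set_option Elab.async false

namespace Cfsg.Agent.Helper18

open Cfsg.Lie

theorem ordChkE8_120 : ordCheck chevE8 120 = true := by
  decide +kernel

theorem ordChkE8_121 : ordCheck chevE8 121 = true := by
  decide +kernel

theorem ordChkE8_122 : ordCheck chevE8 122 = true := by
  decide +kernel

theorem ordChkE8_123 : ordCheck chevE8 123 = true := by
  decide +kernel

theorem ordChkE8_124 : ordCheck chevE8 124 = true := by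
  decide +kernel

theorem ordChkE8_125 : ordCheck chevE8 125 = true := by
  decide +kernel

theorem ordChkE8_126 : ordCheck chevE8 126 = true := by
  decide +kernel

theorem ordChkE8_127 : ordCheck chevE8 127 = true := by
  decide +kernel

theorem ordChkE8_128 : ordCheck chevE8 128 = true := by
  decide +kernel

theorem ordChkE8_129 : ordCheck chevE8 129 = true := by
  decide +kernel

theorem ordChkE8_130 : ordCheck chevE8 130 = true := by
  decide +kernel

theorem ordChkE8_131 : ordCheck chevE8 131 = true := by
  decide +kernel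

theorem ordChkE8_132 : ordCheck chevE8 132 = true := by
  decide +kernel

theorem ordChkE8_133 : ordCheck chevE8 133 = true := by
  decide +kernel

theorem ordChkE8_134 : ordCheck chevE8 134 = true := by
  decide +kernel

theorem ordChkE8_135 : ordCheck chevE8 135 = true := by
  decide +kernel

theorem ordChkE8_136 : ordCheck chevE8 136 = true := by
  decide +kernel

theorem ordChkE8_137 : ordCheck chevE8 137 = true := by
  decide +kernel

theorem ordChkE8_138 : ordCheck chevE8 138 = true := by
  decide +kernel

theorem ordChkE8_139 : ordCheck chevE8 139 = true := by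
  decide +kernel

theorem ordChkE8_from120 (k : ℕ) (h1 : 120 ≤ k) (h2 : k < 140) : ordCheck chevE8 k = true := by
  have h : k = 120 ∨ k = 121 ∨ k = 122 ∨ k = 123 ∨ k = 124 ∨ k = 125 ∨ k = 126 ∨ k = 127 ∨ k = 128 ∨ k = 129 ∨ k = 130 ∨ k = 131 ∨ k = 132 ∨ k = 133 ∨ k = 134 ∨ k = 135 ∨ k = 136 ∨ k = 137 ∨ k = 138 ∨ k = 139 := by omega
  rcases h with rfl | rfl | rfl | rfl | rfl | rfl | rfl | rfl | rfl | rfl | rfl | rfl | rfl | rfl | rfl | rfl | rfl | rfl | rfl | rfl
  exacts [ordChkE8_120, ordChkE8_121, ordChkE8_122, ordChkE8_123, ordChkE8_124, ordChkE8_125, ordChkE8_126, ordChkE8_127, ordChkE8_128, ordChkE8_129, ordChkE8_130, ordChkE8_131, ordChkE8_132, ordChkE8_133, ordChkE8_134, ordChkE8_135, ordChkE8_136, ordChkE8_137, ordChkE8_138, ordChkE8_139]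

end Cfsg.Agent.Helper18
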