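import Cfsg.Agent.Lib.Helper18.UProdData

set_option autoImplicit false
set_option maxRecDepth 100000
set_option Elab.async false

namespace Cfsg.Agent.Helper18

open Cfsg.Lie

theorem ordChkE8_140 : ordCheck chevE8 140 = true := by
  decide +kernel

theorem ordChkE8_141 : ordCheck chevE8 141 = true := by
  decide +kernel

theorem ordChkE8_142 : ordCheck chevE8 142 = true := by
  decide +kernel

theorem ordChkE8_143 : ordCheck chevE8 143 = true := by
  decide +kernel

theorem ordChkE8_144 : ordCheck chevE8 144 = true := by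
  decide +kernel

theorem ordChkE8_145 : ordCheck chevE8 145 = true := by
  decide +kernel

theorem ordChkE8_146 : ordCheck chevE8 146 = true := by
  decide +kernel

theorem ordChkE8_147 : ordCheck chevE8 147 = true := by
  decide +kernel

theorem ordChkE8_148 : ordCheck chevE8 148 = true := by
  decide +kernel

theorem ordChkE8_149 : ordCheck chevE8 149 = true := by
  decide +kernel

theorem ordChkE8_150 : ordCheck chevE8 150 = true := by
  decide +kernel

theorem ordChkE8_151 : ordCheck chevE8 151 = true := by
  decide +kernel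

theorem ordChkE8_152 : ordCheck chevE8 152 = true := by
  decide +kernel

theorem ordChkE8_153 : ordCheck chevE8 153 = true := by
  decide +kernel

theorem ordChkE8_154 : ordCheck chevE8 154 = true := by
  decide +kernel

theorem ordChkE8_155 : ordCheck chevE8 155 = true := by
  decide +kernel

theorem ordChkE8_156 : ordCheck chevE8 156 = true := by
  decide +kernel

theorem ordChkE8_157 : ordCheck chevE8 157 = true := by
  decide +kernel

theorem ordChkE8_158 : ordCheck chevE8 158 = true := by
  decide +kernel

theorem ordChkE8_159 : ordCheck chevE8 159 = true := by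
  decide +kernel

theorem ordChkE8_160 : ordCheck chevE8 160 = true := by
  decide +kernel

theorem ordChkE8_161 : ordCheck chevE8 161 = true := by
  decide +kernel

theorem ordChkE8_from140 (k : ℕ) (h1 : 140 ≤ k) (h2 : k < 162) : ordCheck chevE8 k = true := by
  have h : k = 140 ∨ k = 141 ∨ k = 142 ∨ k = 143 ∨ k = 144 ∨ k = 145 ∨ k = 146 ∨ k = 147 ∨ k = 148 ∨ k = 149 ∨ k = 150 ∨ k = 151 ∨ k = 152 ∨ k = 153 ∨ k = 154 ∨ k = 155 ∨ k = 156 ∨ k = 157 ∨ k = 158 ∨ k = 159 ∨ k = 160 ∨ k = 161 := by omega
  rcases h with rfl | rfl | rfl | rfl | rfl | rfl | rfl | rfl | rfl | rfl | rfl | rfl | rfl | rfl | rfl | rfl | rfl | rfl | rfl | rfl | rfl | rfl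
  exacts [ordChkE8_140, ordChkE8_141, ordChkE8_142, ordChkE8_143, ordChkE8_144, ordChkE8_145, ordChkE8_146, ordChkE8_147, ordChkE8_148, ordChkE8_149, ordChkE8_150, ordChkE8_151, ordChkE8_152, ordChkE8_153, ordChkE8_154, ordChkE8_155, ordChkE8_156, ordChkE8_157, ordChkE8_158, ordChkE8_159, ordChkE8_160, ordChkE8_161]

end Cfsg.Agent.Helper18
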