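import Cfsg.Agent.Lib.Helper18.UProdData

set_option autoImplicit false
set_option maxRecDepth 100000
set_option Elab.async false

namespace Cfsg.Agent.Helper18

open Cfsg.Lie

theorem ordChkE8_162 : ordCheck chevE8 162 = true := by
  decide +kernel

theorem ordChkE8_163 : ordCheck chevE8 163 = true := by
  decide +kernel

theorem ordChkE8_164 : ordCheck chevE8 164 = true := by
  decide +kernel

theorem ordChkE8_165 : ordCheck chevE8 165 = true := by
  decide +kernel

theorem ordChkE8_166 : ordCheck chevE8 166 = true := by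
  decide +kernel

theorem ordChkE8_167 : ordCheck chevE8 167 = true := by
  decide +kernel

theorem ordChkE8_168 : ordCheck chevE8 168 = true := by
  decide +kernel

theorem ordChkE8_169 : ordCheck chevE8 169 = true := by
  decide +kernel

theorem ordChkE8_170 : ordCheck chevE8 170 = true := by
  decide +kernel

theorem ordChkE8_171 : ordCheck chevE8 171 = true := by
  decide +kernel

theorem ordChkE8_172 : ordCheck chevE8 172 = true := by
  decide +kernel

theorem ordChkE8_173 : ordCheck chevE8 173 = true := by
  decide +kernel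

theorem ordChkE8_174 : ordCheck chevE8 174 = true := by
  decide +kernel

theorem ordChkE8_175 : ordCheck chevE8 175 = true := by
  decide +kernel

theorem ordChkE8_176 : ordCheck chevE8 176 = true := by
  decide +kernel

theorem ordChkE8_177 : ordCheck chevE8 177 = true := by
  decide +kernel

theorem ordChkE8_178 : ordCheck chevE8 178 = true := by
  decide +kernel

theorem ordChkE8_179 : ordCheck chevE8 179 = true := by
  decide +kernel

theorem ordChkE8_180 : ordCheck chevE8 180 = true := by
  decide +kernel

theorem ordChkE8_181 : ordCheck chevE8 181 = true := by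
  decide +kernel

theorem ordChkE8_182 : ordCheck chevE8 182 = true := by
  decide +kernel

theorem ordChkE8_183 : ordCheck chevE8 183 = true := by
  decide +kernel

theorem ordChkE8_184 : ordCheck chevE8 184 = true := by
  decide +kernel

theorem ordChkE8_185 : ordCheck chevE8 185 = true := by
  decide +kernel

theorem ordChkE8_186 : ordCheck chevE8 186 = true := by
  decide +kernel

theorem ordChkE8_187 : ordCheck chevE8 187 = true := by
  decide +kernel

theorem ordChkE8_188 : ordCheck chevE8 188 = true := by
  decide +kernel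

theorem ordChkE8_189 : ordCheck chevE8 189 = true := by
  decide +kernel

theorem ordChkE8_from162 (k : ℕ) (h1 : 162 ≤ k) (h2 : k < 190) : ordCheck chevE8 k = true := by
  have h : k = 162 ∨ k = 163 ∨ k = 164 ∨ k = 165 ∨ k = 166 ∨ k = 167 ∨ k = 168 ∨ k = 169 ∨ k = 170 ∨ k = 171 ∨ k = 172 ∨ k = 173 ∨ k = 174 ∨ k = 175 ∨ k = 176 ∨ k = 177 ∨ k = 178 ∨ k = 179 ∨ k = 180 ∨ k = 181 ∨ k = 182 ∨ k = 183 ∨ k = 184 ∨ k = 185 ∨ k = 186 ∨ k = 187 ∨ k = 188 ∨ k = 189 := by omega
  rcases h with rfl | rfl | rfl | rfl | rfl | rfl | rfl | rfl | rfl | rfl | rfl | rfl | rfl | rfl | rfl | rfl | rfl | rfl | rfl | rfl | rfl | rfl | rfl | rfl | rfl | rfl | rfl | rfl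
  exacts [ordChkE8_162, ordChkE8_163, ordChkE8_164, ordChkE8_165, ordChkE8_166, ordChkE8_167, ordChkE8_168, ordChkE8_169, ordChkE8_170, ordChkE8_171, ordChkE8_172, ordChkE8_173, ordChkE8_174, ordChkE8_175, ordChkE8_176, ordChkE8_177, ordChkE8_178, ordChkE8_179, ordChkE8_180, ordChkE8_181, ordChkE8_182, ordChkE8_183, ordChkE8_184, ordChkE8_185, ordChkE8_186, ordChkE8_187, ordChkE8_188, ordChkE8_189]

end Cfsg.Agent.Helper18
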