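import Cfsg.Agent.Lib.Helper18.UProdData

set_option autoImplicit false
set_option maxRecDepth 100000
set_option Elab.async false

namespace Cfsg.Agent.Helper18

open Cfsg.Lie

theorem ordChkE8_190 : ordCheck chevE8 190 = true := by
  decide +kernel

theorem ordChkE8_191 : ordCheck chevE8 191 = true := by
  decide +kernel

theorem ordChkE8_192 : ordCheck chevE8 192 = true := by
  decide +kernel

theorem ordChkE8_193 : ordCheck chevE8 193 = true := by
  decide +kernel

theorem ordChkE8_194 : ordCheck chevE8 194 = true := by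
  decide +kernel

theorem ordChkE8_195 : ordCheck chevE8 195 = true := by
  decide +kernel

theorem ordChkE8_196 : ordCheck chevE8 196 = true := by
  decide +kernel

theorem ordChkE8_197 : ordCheck chevE8 197 = true := by
  decide +kernel

theorem ordChkE8_198 : ordCheck chevE8 198 = true := by
  decide +kernel

theorem ordChkE8_199 : ordCheck chevE8 199 = true := by
  decide +kernel

theorem ordChkE8_200 : ordCheck chevE8 200 = true := by
  decide +kernel

theorem ordChkE8_201 : ordCheck chevE8 201 = true := by
  decide +kernel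

theorem ordChkE8_202 : ordCheck chevE8 202 = true := by
  decide +kernel

theorem ordChkE8_203 : ordCheck chevE8 203 = true := by
  decide +kernel

theorem ordChkE8_204 : ordCheck chevE8 204 = true := by
  decide +kernel

theorem ordChkE8_205 : ordCheck chevE8 205 = true := by
  decide +kernel

theorem ordChkE8_206 : ordCheck chevE8 206 = true := by
  decide +kernel

theorem ordChkE8_207 : ordCheck chevE8 207 = true := by
  decide +kernel

theorem ordChkE8_208 : ordCheck chevE8 208 = true := by
  decide +kernel

theorem ordChkE8_209 : ordCheck chevE8 209 = true := by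
  decide +kernel

theorem ordChkE8_210 : ordCheck chevE8 210 = true := by
  decide +kernel

theorem ordChkE8_211 : ordCheck chevE8 211 = true := by
  decide +kernel

theorem ordChkE8_212 : ordCheck chevE8 212 = true := by
  decide +kernel

theorem ordChkE8_213 : ordCheck chevE8 213 = true := by
  decide +kernel

theorem ordChkE8_214 : ordCheck chevE8 214 = true := by
  decide +kernel

theorem ordChkE8_215 : ordCheck chevE8 215 = true := by
  decide +kernel

theorem ordChkE8_216 : ordCheck chevE8 216 = true := by
  decide +kernel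

theorem ordChkE8_217 : ordCheck chevE8 217 = true := by
  decide +kernel

theorem ordChkE8_218 : ordCheck chevE8 218 = true := by
  decide +kernel

theorem ordChkE8_219 : ordCheck chevE8 219 = true := by
  decide +kernel

theorem ordChkE8_from190 (k : ℕ) (h1 : 190 ≤ k) (h2 : k < 220) : ordCheck chevE8 k = true := by
  have h : k = 190 ∨ k = 191 ∨ k = 192 ∨ k = 193 ∨ k = 194 ∨ k = 195 ∨ k = 196 ∨ k = 197 ∨ k = 198 ∨ k = 199 ∨ k = 200 ∨ k = 201 ∨ k = 202 ∨ k = 203 ∨ k = 204 ∨ k = 205 ∨ k = 206 ∨ k = 207 ∨ k = 208 ∨ k = 209 ∨ k = 210 ∨ k = 211 ∨ k = 212 ∨ k = 213 ∨ k = 214 ∨ k = 215 ∨ k = 216 ∨ k = 217 ∨ k = 218 ∨ k = 219 := by omega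
  rcases h with rfl | rfl | rfl | rfl | rfl | rfl | rfl | rfl | rfl | rfl | rfl | rfl | rfl | rfl | rfl | rfl | rfl | rfl | rfl | rfl | rfl | rfl | rfl | rfl | rfl | rfl | rfl | rfl | rfl | rfl
  exacts [ordChkE8_190, ordChkE8_191, ordChkE8_192, ordChkE8_193, ordChkE8_194, ordChkE8_195, ordChkE8_196, ordChkE8_197, ordChkE8_198, ordChkE8_199, ordChkE8_200, ordChkE8_201, ordChkE8_202, ordChkE8_203, ordChkE8_204, ordChkE8_205, ordChkE8_206, ordChkE8_207, ordChkE8_208, ordChkE8_209, ordChkE8_210, ordChkE8_211, ordChkE8_212, ordChkE8_213, ordChkE8_214, ordChkE8_215, ordChkE8_216, ordChkE8_217, ordChkE8_218, ordChkE8_219]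

theorem ordChkE8_220 : ordCheck chevE8 220 = true := by
  decide +kernel

theorem ordChkE8_221 : ordCheck chevE8 221 = true := by
  decide +kernel

theorem ordChkE8_222 : ordCheck chevE8 222 = true := by
  decide +kernel

theorem ordChkE8_223 : ordCheck chevE8 223 = true := by
  decide +kernel

theorem ordChkE8_224 : ordCheck chevE8 224 = true := by
  decide +kernel

theorem ordChkE8_225 : ordCheck chevE8 225 = true := by
  decide +kernel

theorem ordChkE8_226 : ordCheck chevE8 226 = true := by
  decide +kernel

theorem ordChkE8_227 : ordCheck chevE8 227 = true := by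
  decide +kernel

theorem ordChkE8_228 : ordCheck chevE8 228 = true := by
  decide +kernel

theorem ordChkE8_229 : ordCheck chevE8 229 = true := by
  decide +kernel

theorem ordChkE8_230 : ordCheck chevE8 230 = true := by
  decide +kernel

theorem ordChkE8_231 : ordCheck chevE8 231 = true := by
  decide +kernel

theorem ordChkE8_232 : ordCheck chevE8 232 = true := by
  decide +kernel

theorem ordChkE8_233 : ordCheck chevE8 233 = true := by
  decide +kernel

theorem ordChkE8_234 : ordCheck chevE8 234 = true := by
  decide +kernel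

theorem ordChkE8_235 : ordCheck chevE8 235 = true := by
  decide +kernel

theorem ordChkE8_236 : ordCheck chevE8 236 = true := by
  decide +kernel

theorem ordChkE8_237 : ordCheck chevE8 237 = true := by
  decide +kernel

theorem ordChkE8_238 : ordCheck chevE8 238 = true := by
  decide +kernel

theorem ordChkE8_239 : ordCheck chevE8 239 = true := by
  decide +kernel

theorem ordChkE8_from220 (k : ℕ) (h1 : 220 ≤ k) (h2 : k < 240) : ordCheck chevE8 k = true := by
  have h : k = 220 ∨ k = 221 ∨ k = 222 ∨ k = 223 ∨ k = 224 ∨ k = 225 ∨ k = 226 ∨ k = 227 ∨ k = 228 ∨ k = 229 ∨ k = 230 ∨ k = 231 ∨ k = 232 ∨ k = 233 ∨ k = 234 ∨ k = 235 ∨ k = 236 ∨ k = 237 ∨ k = 238 ∨ k = 239 := by omega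
  rcases h with rfl | rfl | rfl | rfl | rfl | rfl | rfl | rfl | rfl | rfl | rfl | rfl | rfl | rfl | rfl | rfl | rfl | rfl | rfl | rfl
  exacts [ordChkE8_220, ordChkE8_221, ordChkE8_222, ordChkE8_223, ordChkE8_224, ordChkE8_225, ordChkE8_226, ordChkE8_227, ordChkE8_228, ordChkE8_229, ordChkE8_230, ordChkE8_231, ordChkE8_232, ordChkE8_233, ordChkE8_234, ordChkE8_235, ordChkE8_236, ordChkE8_237, ordChkE8_238, ordChkE8_239]

end Cfsg.Agent.Helper18
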