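import Cfsg.Agent.Lib.Helper18.UProdData

set_option autoImplicit false
set_option maxRecDepth 100000
set_option Elab.async false

namespace Cfsg.Agent.Helper18

open Cfsg.Lie

theorem wtChkE8_120 : wtRangeCheck chevE8 fwE8 120 130 = true := by
  decide +kernel

theorem wtChkE8_130 : wtRangeCheck chevE8 fwE8 130 140 = true := by
  decide +kernel

theorem wtChkE8_140 : wtRangeCheck chevE8 fwE8 140 150 = true := by
  decide +kernel

theorem wtChkE8_150 : wtRangeCheck chevE8 fwE8 150 160 = true := by
  decide +kernel

theorem wtChkE8_160 : wtRangeCheck chevE8 fwE8 160 170 = true := by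
  decide +kernel

theorem wtChkE8_170 : wtRangeCheck chevE8 fwE8 170 180 = true := by
  decide +kernel

end Cfsg.Agent.Helper18
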