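import Cfsg.Agent.Lib.Helper18.UProdData

set_option autoImplicit false
set_option maxRecDepth 100000
set_option Elab.async false

namespace Cfsg.Agent.Helper18

open Cfsg.Lie

theorem wtChkE8_180 : wtRangeCheck chevE8 fwE8 180 190 = true := by
  decide +kernel

theorem wtChkE8_190 : wtRangeCheck chevE8 fwE8 190 200 = true := by
  decide +kernel

theorem wtChkE8_200 : wtRangeCheck chevE8 fwE8 200 210 = true := by
  decide +kernel

theorem wtChkE8_210 : wtRangeCheck chevE8 fwE8 210 220 = true := by
  decide +kernel

theorem wtChkE8_220 : wtRangeCheck chevE8 fwE8 220 230 = true := by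
  decide +kernel

theorem wtChkE8_230 : wtRangeCheck chevE8 fwE8 230 240 = true := by
  decide +kernel

end Cfsg.Agent.Helper18
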