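import Cfsg.Agent.Lib.Helper18.UProdSmall
import Cfsg.Agent.Lib.Helper18.UProdE7W
import Cfsg.Agent.Lib.Helper18.UProdE7O
import Cfsg.Agent.Lib.Helper18.UProdE8W_0
import Cfsg.Agent.Lib.Helper18.UProdE8W_1
import Cfsg.Agent.Lib.Helper18.UProdE8O_0
import Cfsg.Agent.Lib.Helper18.UProdE8O_1
import Cfsg.Agent.Lib.Helper18.UProdE8O_2
import Cfsg.Agent.Lib.Helper18.UProdE8O_3
import Cfsg.Agent.Lib.Helper18.CommGenAll

set_option autoImplicit false
set_option maxRecDepth 100000

namespace Cfsg.Agent.Helper18

open Cfsg.Lie Cfsg.Agent.S1043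

theorem wtAllG2 (s : ℕ) (h1 : 6 ≤ s) (h2 : s < 12) : wtCheck chevG2 fwG2 s = true := by
  have h := wtChkG2_6
  rw [wtRangeCheck, List.all_eq_true] at h
  exact h s (by rw [List.mem_range'_1]; omega)

theorem ordAllG2 (k : ℕ) (h1 : 6 ≤ k) (h2 : k < 12) : ordCheck chevG2 k = true := by
  exact ordChkG2_from6 k (by omega) h2

theorem posRoots_eqG2 : chevG2.posRoots = List.range' (chevG2.nroots / 2) (chevG2.nroots - chevG2.nroots / 2) := by
  decide +kernel

theorem uProdDataG2 : UProdData chevG2 fwG2 := by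
  refine uProdData_of_checks chevG2 fwG2 (fun s h1 h2 => wtAllG2 s h1 h2) arithChkG2 (fun k h1 h2 => ordAllG2 k h1 h2) ?_ posRoots_eqG2
  intro s
  constructor
  · intro hs
    exact posRangeG2 s hs
  · rintro ⟨h1, h2⟩
    exact posOfRangeG2 s h2 h1

theorem wtAllB2 (s : ℕ) (h1 : 4 ≤ s) (h2 : s < 8) : wtCheck chevB2 fwB2 s = true := by
  have h := wtChkB2_4
  rw [wtRangeCheck, List.all_eq_true] at h
  exact h s (by rw [List.mem_range'_1]; omega)

theorem ordAllB2 (k : ℕ) (h1 : 4 ≤ k) (h2 : k < 8) : ordCheck chevB2 k = true := by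
  exact ordChkB2_from4 k (by omega) h2

theorem posRoots_eqB2 : chevB2.posRoots = List.range' (chevB2.nroots / 2) (chevB2.nroots - chevB2.nroots / 2) := by
  decide +kernel

theorem uProdDataB2 : UProdData chevB2 fwB2 := by
  refine uProdData_of_checks chevB2 fwB2 (fun s h1 h2 => wtAllB2 s h1 h2) arithChkB2 (fun k h1 h2 => ordAllB2 k h1 h2) ?_ posRoots_eqB2
  intro s
  constructor
  · intro hs
    exact posRangeB2 s hs
  · rintro ⟨h1, h2⟩
    exact posOfRangeB2 s h2 h1

theorem wtAllD4 (s : ℕ) (h1 : 12 ≤ s) (h2 : s < 24) : wtCheck chevD4 fwD4 s = true := by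
  have h := wtChkD4_12
  rw [wtRangeCheck, List.all_eq_true] at h
  exact h s (by rw [List.mem_range'_1]; omega)

theorem ordAllD4 (k : ℕ) (h1 : 12 ≤ k) (h2 : k < 24) : ordCheck chevD4 k = true := by
  exact ordChkD4_from12 k (by omega) h2

theorem posRoots_eqD4 : chevD4.posRoots = List.range' (chevD4.nroots / 2) (chevD4.nroots - chevD4.nroots / 2) := by
  decide +kernel

theorem uProdDataD4 : UProdData chevD4 fwD4 := by
  refine uProdData_of_checks chevD4 fwD4 (fun s h1 h2 => wtAllD4 s h1 h2) arithChkD4 (fun k h1 h2 => ordAllD4 k h1 h2) ?_ posRoots_eqD4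
  intro s
  constructor
  · intro hs
    exact posRangeD4 s hs
  · rintro ⟨h1, h2⟩
    exact posOfRangeD4 s h2 h1

theorem wtAllF4 (s : ℕ) (h1 : 24 ≤ s) (h2 : s < 48) : wtCheck chevF4 fwF4 s = true := by
  by_cases h36 : s < 36
  · have h := wtChkF4_24
    rw [wtRangeCheck, List.all_eq_true] at h
    exact h s (by rw [List.mem_range'_1]; omega)
  have h := wtChkF4_36
  rw [wtRangeCheck, List.all_eq_true] at h
  exact h s (by rw [List.mem_range'_1]; omega)

theorem ordAllF4 (k : ℕ) (h1 : 24 ≤ k) (h2 : k < 48) : ordCheck chevF4 k = true := by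
  exact ordChkF4_from24 k (by omega) h2

theorem posRoots_eqF4 : chevF4.posRoots = List.range' (chevF4.nroots / 2) (chevF4.nroots - chevF4.nroots / 2) := by
  decide +kernel

theorem uProdDataF4 : UProdData chevF4 fwF4 := by
  refine uProdData_of_checks chevF4 fwF4 (fun s h1 h2 => wtAllF4 s h1 h2) arithChkF4 (fun k h1 h2 => ordAllF4 k h1 h2) ?_ posRoots_eqF4
  intro s
  constructor
  · intro hs
    exact posRangeF4 s hs
  · rintro ⟨h1, h2⟩
    exact posOfRangeF4 s h2 h1

theorem wtAllE6 (s : ℕ) (h1 : 36 ≤ s) (h2 : s < 72) : wtCheck chevE6 fwE6 s = true := by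
  by_cases h48 : s < 48
  · have h := wtChkE6_36
    rw [wtRangeCheck, List.all_eq_true] at h
    exact h s (by rw [List.mem_range'_1]; omega)
  by_cases h60 : s < 60
  · have h := wtChkE6_48
    rw [wtRangeCheck, List.all_eq_true] at h
    exact h s (by rw [List.mem_range'_1]; omega)
  have h := wtChkE6_60
  rw [wtRangeCheck, List.all_eq_true] at h
  exact h s (by rw [List.mem_range'_1]; omega)

theorem ordAllE6 (k : ℕ) (h1 : 36 ≤ k) (h2 : k < 72) : ordCheck chevE6 k = true := by
  exact ordChkE6_from36 k (by omega) h2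

theorem posRoots_eqE6 : chevE6.posRoots = List.range' (chevE6.nroots / 2) (chevE6.nroots - chevE6.nroots / 2) := by
  decide +kernel

theorem uProdDataE6 : UProdData chevE6 fwE6 := by
  refine uProdData_of_checks chevE6 fwE6 (fun s h1 h2 => wtAllE6 s h1 h2) arithChkE6 (fun k h1 h2 => ordAllE6 k h1 h2) ?_ posRoots_eqE6
  intro s
  constructor
  · intro hs
    exact posRangeE6 s hs
  · rintro ⟨h1, h2⟩
    exact posOfRangeE6 s h2 h1

theorem wtAllE7 (s : ℕ) (h1 : 63 ≤ s) (h2 : s < 126) : wtCheck chevE7 fwE7 s = true := by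
  by_cases h72 : s < 72
  · have h := wtChkE7_63
    rw [wtRangeCheck, List.all_eq_true] at h
    exact h s (by rw [List.mem_range'_1]; omega)
  by_cases h81 : s < 81
  · have h := wtChkE7_72
    rw [wtRangeCheck, List.all_eq_true] at h
    exact h s (by rw [List.mem_range'_1]; omega)
  by_cases h90 : s < 90
  · have h := wtChkE7_81
    rw [wtRangeCheck, List.all_eq_true] at h
    exact h s (by rw [List.mem_range'_1]; omega)
  by_cases h99 : s < 99
  · have h := wtChkE7_90
    rw [wtRangeCheck, List.all_eq_true] at h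
    exact h s (by rw [List.mem_range'_1]; omega)
  by_cases h108 : s < 108
  · have h := wtChkE7_99
    rw [wtRangeCheck, List.all_eq_true] at h
    exact h s (by rw [List.mem_range'_1]; omega)
  by_cases h117 : s < 117
  · have h := wtChkE7_108
    rw [wtRangeCheck, List.all_eq_true] at h
    exact h s (by rw [List.mem_range'_1]; omega)
  have h := wtChkE7_117
  rw [wtRangeCheck, List.all_eq_true] at h
  exact h s (by rw [List.mem_range'_1]; omega)

theorem ordAllE7 (k : ℕ) (h1 : 63 ≤ k) (h2 : k < 126) : ordCheck chevE7 k = true := by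
  by_cases h95 : k < 95
  · exact ordChkE7_from63 k (by omega) h95
  exact ordChkE7_from95 k (by omega) h2

theorem posRoots_eqE7 : chevE7.posRoots = List.range' (chevE7.nroots / 2) (chevE7.nroots - chevE7.nroots / 2) := by
  decide +kernel

theorem uProdDataE7 : UProdData chevE7 fwE7 := by
  refine uProdData_of_checks chevE7 fwE7 (fun s h1 h2 => wtAllE7 s h1 h2) arithChkE7 (fun k h1 h2 => ordAllE7 k h1 h2) ?_ posRoots_eqE7
  intro s
  constructor
  · intro hs
    exact posRangeE7 s hs
  · rintro ⟨h1, h2⟩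
    exact posOfRangeE7 s h2 h1

theorem wtAllE8 (s : ℕ) (h1 : 120 ≤ s) (h2 : s < 240) : wtCheck chevE8 fwE8 s = true := by
  by_cases h130 : s < 130
  · have h := wtChkE8_120
    rw [wtRangeCheck, List.all_eq_true] at h
    exact h s (by rw [List.mem_range'_1]; omega)
  by_cases h140 : s < 140
  · have h := wtChkE8_130
    rw [wtRangeCheck, List.all_eq_true] at h
    exact h s (by rw [List.mem_range'_1]; omega)
  by_cases h150 : s < 150
  · have h := wtChkE8_140
    rw [wtRangeCheck, List.all_eq_true] at h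
    exact h s (by rw [List.mem_range'_1]; omega)
  by_cases h160 : s < 160
  · have h := wtChkE8_150
    rw [wtRangeCheck, List.all_eq_true] at h
    exact h s (by rw [List.mem_range'_1]; omega)
  by_cases h170 : s < 170
  · have h := wtChkE8_160
    rw [wtRangeCheck, List.all_eq_true] at h
    exact h s (by rw [List.mem_range'_1]; omega)
  by_cases h180 : s < 180
  · have h := wtChkE8_170
    rw [wtRangeCheck, List.all_eq_true] at h
    exact h s (by rw [List.mem_range'_1]; omega)
  by_cases h190 : s < 190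
  · have h := wtChkE8_180
    rw [wtRangeCheck, List.all_eq_true] at h
    exact h s (by rw [List.mem_range'_1]; omega)
  by_cases h200 : s < 200
  · have h := wtChkE8_190
    rw [wtRangeCheck, List.all_eq_true] at h
    exact h s (by rw [List.mem_range'_1]; omega)
  by_cases h210 : s < 210
  · have h := wtChkE8_200
    rw [wtRangeCheck, List.all_eq_true] at h
    exact h s (by rw [List.mem_range'_1]; omega)
  by_cases h220 : s < 220
  · have h := wtChkE8_210
    rw [wtRangeCheck, List.all_eq_true] at h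
    exact h s (by rw [List.mem_range'_1]; omega)
  by_cases h230 : s < 230
  · have h := wtChkE8_220
    rw [wtRangeCheck, List.all_eq_true] at h
    exact h s (by rw [List.mem_range'_1]; omega)
  have h := wtChkE8_230
  rw [wtRangeCheck, List.all_eq_true] at h
  exact h s (by rw [List.mem_range'_1]; omega)

theorem ordAllE8 (k : ℕ) (h1 : 120 ≤ k) (h2 : k < 240) : ordCheck chevE8 k = true := by
  by_cases h140 : k < 140
  · exact ordChkE8_from120 k (by omega) h140
  by_cases h162 : k < 162
  · exact ordChkE8_from140 k (by omega) h162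
  by_cases h190 : k < 190
  · exact ordChkE8_from162 k (by omega) h190
  by_cases h220 : k < 220
  · exact ordChkE8_from190 k (by omega) h220
  exact ordChkE8_from220 k (by omega) h2

theorem posRoots_eqE8 : chevE8.posRoots = List.range' (chevE8.nroots / 2) (chevE8.nroots - chevE8.nroots / 2) := by
  decide +kernel

theorem uProdDataE8 : UProdData chevE8 fwE8 := by
  refine uProdData_of_checks chevE8 fwE8 (fun s h1 h2 => wtAllE8 s h1 h2) arithChkE8 (fun k h1 h2 => ordAllE8 k h1 h2) ?_ posRoots_eqE8
  intro s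
  constructor
  · intro hs
    exact posRangeE8 s hs
  · rintro ⟨h1, h2⟩
    exact posOfRangeE8 s h2 h1

/-- The table facts for the ordered product decomposition, for all seven data. -/
theorem uProdData_all (D : ChevalleyDatum) (hD : Good D) : ∃ f : ℕ → ℤ, UProdData D f := by
  simp only [Good, List.mem_cons, List.not_mem_nil, or_false] at hD
  rcases hD with rfl | rfl | rfl | rfl | rfl | rfl | rfl
  · exact ⟨_, uProdDataG2⟩
  · exact ⟨_, uProdDataB2⟩
  · exact ⟨_, uProdDataD4⟩
  · exact ⟨_, uProdDataF4⟩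
  · exact ⟨_, uProdDataE6⟩
  · exact ⟨_, uProdDataE7⟩
  · exact ⟨_, uProdDataE8⟩

end Cfsg.Agent.Helper18
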