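import Cfsg.Agent.Lib.Helper18.SubfieldData
import Cfsg.Agent.Lib.Helper18.UProdAll
import Cfsg.Agent.Lib.Helper18.UiAll
import Cfsg.Agent.Lib.Helper18.TorusAll
import Cfsg.Agent.Lib.Helper18.ConjAll
import Cfsg.Agent.S1038

set_option autoImplicit false

namespace Cfsg.Agent.Helper18

open Cfsg.Lie Cfsg.Agent.S1043 Cfsg.Agent.Helper17

/-- Subgroups between `⟨x_s(t) : σ t = t⟩` and the `σ`-fixed points, for all seven types. -/
theorem subfield_all {F : Type*} [Field F] (D : ChevalleyDatum) (hD : Good D) (f : F →+* F)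
    (K : Subgroup (GL D.Idx F)) (hKG : K ≤ D.group F) (hLK : Lf D f ≤ K)
    (hKfix : ∀ g ∈ K, sigGL D f g = g) :
    D.group F ⊓ Subgroup.centralizer (K : Set (GL D.Idx F)) = ⊥ ∧
      ∀ g ∈ D.group F, (g ∈ Subgroup.normalizer (K : Set (GL D.Idx F)) ↔ sigGL D f g = g) := by
  have key : ∃ (tbls : List ℕ) (w0 : List ℕ),
      (∀ i < D.rank, permCheck D i (lget tbls i 0) = true) ∧ w0InvCheck D tbls w0 = true := by
    have hD' := hD
    simp only [Good, List.mem_cons, List.not_mem_nil, or_false] at hD'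
    rcases hD' with rfl | rfl | rfl | rfl | rfl | rfl | rfl
    · exact ⟨_, _, permTblG2_ok, w0InvG2⟩
    · exact ⟨_, _, permTblB2_ok, w0InvB2⟩
    · exact ⟨_, _, permTblD4_ok, w0InvD4⟩
    · exact ⟨_, _, permTblF4_ok, w0InvF4⟩
    · exact ⟨_, _, permTblE6_ok, w0InvE6⟩
    · exact ⟨_, _, permTblE7_ok, w0InvE7⟩
    · exact ⟨_, _, permTblE8_ok, w0InvE8⟩
  obtain ⟨tbls, w0, hperm, hw0⟩ := key
  obtain ⟨tbl, hT⟩ := torusData_all D hD
  have hHN : D.diagonalSubgroup F ≤ D.monomialSubgroup F := le_sup_left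
  have hNH := (Subgroup.normal_subgroupOf_iff_le_normalizer hHN).mp (Cfsg.Agent.S1038.result (F := F) D hD)
  have hB := bnFacts_all D hD
  have hU := uiFacts_all D hD
  have hconj : ∀ i < D.rank, ∀ s < D.nroots, ConjGoal' F D i s :=
    fun i hi s hs => conjGoal_all D hD i s hi hs
  have hS : ∀ i < D.rank, ConjGoalS' F D i := fun i hi => conjGoalS_all D hD i hi
  have hTri := triOK_of_mem D hD
  have hNeg := negTriOK_of_mem D hD
  have hcomm := commOK_all (F := F) D hD
  obtain ⟨f', hUP⟩ := uProdData_all D hD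
  exact subfield_main D hD f hB hU hT hTri hNeg hconj hS hNH hUP hcomm tbls hperm w0 hw0 K hKG hLK hKfix

end Cfsg.Agent.Helper18
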