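import Cfsg.Agent.Lib.Helper18.ChevFieldAut
import Cfsg.Agent.Lib.Helper18.SubfieldAll
import Cfsg.Prelude.Def_ChevAutomorphisms

set_option autoImplicit false

namespace Cfsg.Agent.Helper18

open Cfsg.Lie Cfsg.Agent.S1043 Cfsg.Agent.Helper17

/-- The inverse of the Cartan matrix of type `E₈`. -/
def cartanInvTblE8 : List (List ℤ) :=
  [[4, 5, 7, 10, 8, 6, 4, 2], [5, 8, 10, 15, 12, 9, 6, 3], [7, 10, 14, 20, 16, 12, 8, 4],
   [10, 15, 20, 30, 24, 18, 12, 6], [8, 12, 16, 24, 20, 15, 10, 5], [6, 9, 12, 18, 15, 12, 8, 4],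
   [4, 6, 8, 12, 10, 8, 6, 3], [2, 3, 4, 6, 5, 4, 3, 2]]

/-- The inverse of the Cartan matrix of type `F₄`. -/
def cartanInvTblF4 : List (List ℤ) := [[2, 3, 4, 2], [3, 6, 8, 4], [2, 4, 6, 3], [1, 2, 3, 2]]

/-- The inverse of the Cartan matrix of type `G₂`. -/
def cartanInvTblG2 : List (List ℤ) := [[2, 3], [1, 2]]

theorem cartanInvE8_ok : cartanInvCheck chevE8 cartanInvTblE8 = true := by decide +kernel

theorem cartanInvF4_ok : cartanInvCheck chevF4 cartanInvTblF4 = true := by decide +kernel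

theorem cartanInvG2_ok : cartanInvCheck chevG2 cartanInvTblG2 = true := by decide +kernel

/-- Field automorphisms of prime order `r`: the field has `q₀ ^ r` elements and the fixed points are the group over the
field with `q₀` elements (for the types whose Cartan matrix is invertible over the integers). -/
theorem fieldAut_all {F : Type*} [Field F] [Fintype F] (D : ChevalleyDatum) (hD : Good D)
    (B : List (List ℤ)) (hBc : cartanInvCheck D B = true) (hn : 0 < D.nroots)
    (φ : MulAut ↥(D.group F)) (hφ : D.IsFieldAut φ) (r : ℕ) (hr : r.Prime) (ho : orderOf φ = r) :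
    ∃ (F₀ : Type) (_ : Field F₀) (_ : Fintype F₀), Fintype.card F = Fintype.card F₀ ^ r ∧
      Nonempty (↥((MulEquiv.toMonoidHom φ).eqLocus (MonoidHom.id ↥(D.group F))) ≃* ↥(D.group F₀)) := by
  obtain ⟨σ, hσ⟩ := hφ
  obtain ⟨tbl, hT⟩ := torusData_all D hD
  have hHN : D.diagonalSubgroup F ≤ D.monomialSubgroup F := le_sup_left
  have hNH := (Subgroup.normal_subgroupOf_iff_le_normalizer hHN).mp (Cfsg.Agent.S1038.result (F := F) D hD)
  have hB := bnFacts_all D hD
  have hU := uiFacts_all D hD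
  have hconj : ∀ i < D.rank, ∀ s < D.nroots, ConjGoal' F D i s :=
    fun i hi s hs => conjGoal_all D hD i s hi hs
  have hS : ∀ i < D.rank, ConjGoalS' F D i := fun i hi => conjGoalS_all D hD i hi
  have hTri := triOK_of_mem D hD
  have hNeg := negTriOK_of_mem D hD
  have hcomm := commOK_all (F := F) D hD
  obtain ⟨f', hUP⟩ := uProdData_all D hD
  have hord := fieldAut_order D hD hB hn φ σ hσ r hr ho
  obtain ⟨F₀, i1, i2, ι, hcard, hrange⟩ := exists_subfield_model σ r hord
  exact ⟨F₀, i1, i2, hcard,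
    fieldAut_fixed_equiv D hD hB hU hT hTri hNeg hconj hS hNH hUP hcomm B hBc φ σ hσ ι hrange⟩

end Cfsg.Agent.Helper18
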