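import Cfsg.Agent.Lib.Helper18.ChevGraphAut
import Cfsg.Prelude.Def_LieTypes
import Cfsg.Prelude.Def_ChevB2

set_option autoImplicit false
set_option maxRecDepth 100000
set_option Elab.async false

namespace Cfsg.Agent.Helper18

open Cfsg.Lie Cfsg.Agent.S1043

abbrev gPD4a : ℕ := 2854161557792140560536154438623110918635256156547402006326287728898
abbrev gSD4a : ℕ := 44569920
abbrev gP'D4a : ℕ := 2854166353473251066308398924080055256945159568229337209736175550723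
abbrev gS'D4a : ℕ := 28315008
abbrev gRD4a : ℕ := 566071931645633254490620476267514897873298047940799365376
abbrev gR'D4a : ℕ := 566073048227152972253855450491855147264082562003356549376

theorem gInvD4a : spInvCheck chevD4 gPD4a gSD4a gP'D4a gS'D4a = true := by
  decide +kernel

theorem gRinvD4a : ∀ s < chevD4.nroots, dec8 gR'D4a s < chevD4.nroots ∧ dec8 gRD4a (dec8 gR'D4a s) = s := by
  decide +kernel

theorem gSimpleD4a : ∀ i < chevD4.rank, (chevD4.simple i < chevD4.nroots ∧ chevD4.neg (chevD4.simple i) < chevD4.nroots) ∧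
    (dec8 gRD4a (chevD4.simple i) = chevD4.simple (([2, 1, 3, 0] : List ℕ).getD i 0) ∧ etaOf gSD4a (chevD4.rank + chevD4.simple i) = 1) ∧
    (dec8 gRD4a (chevD4.neg (chevD4.simple i)) = chevD4.neg (chevD4.simple (([2, 1, 3, 0] : List ℕ).getD i 0)) ∧
      etaOf gSD4a (chevD4.rank + chevD4.neg (chevD4.simple i)) = 1) := by
  decide +kernel

theorem gConjD4a_0 : conjCheck chevD4 (spCol (dec8 gPD4a) (etaOf gSD4a)) 0 (dec8 gRD4a 0) (etaOf gSD4a (chevD4.rank + 0)) = true := by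
  decide +kernel

theorem gConjD4a_1 : conjCheck chevD4 (spCol (dec8 gPD4a) (etaOf gSD4a)) 1 (dec8 gRD4a 1) (etaOf gSD4a (chevD4.rank + 1)) = true := by
  decide +kernel

theorem gConjD4a_2 : conjCheck chevD4 (spCol (dec8 gPD4a) (etaOf gSD4a)) 2 (dec8 gRD4a 2) (etaOf gSD4a (chevD4.rank + 2)) = true := by
  decide +kernel

theorem gConjD4a_3 : conjCheck chevD4 (spCol (dec8 gPD4a) (etaOf gSD4a)) 3 (dec8 gRD4a 3) (etaOf gSD4a (chevD4.rank + 3)) = true := by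
  decide +kernel

theorem gConjD4a_4 : conjCheck chevD4 (spCol (dec8 gPD4a) (etaOf gSD4a)) 4 (dec8 gRD4a 4) (etaOf gSD4a (chevD4.rank + 4)) = true := by
  decide +kernel

theorem gConjD4a_5 : conjCheck chevD4 (spCol (dec8 gPD4a) (etaOf gSD4a)) 5 (dec8 gRD4a 5) (etaOf gSD4a (chevD4.rank + 5)) = true := by
  decide +kernel

theorem gConjD4a_6 : conjCheck chevD4 (spCol (dec8 gPD4a) (etaOf gSD4a)) 6 (dec8 gRD4a 6) (etaOf gSD4a (chevD4.rank + 6)) = true := by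
  decide +kernel

theorem gConjD4a_7 : conjCheck chevD4 (spCol (dec8 gPD4a) (etaOf gSD4a)) 7 (dec8 gRD4a 7) (etaOf gSD4a (chevD4.rank + 7)) = true := by
  decide +kernel

theorem gConjD4a_8 : conjCheck chevD4 (spCol (dec8 gPD4a) (etaOf gSD4a)) 8 (dec8 gRD4a 8) (etaOf gSD4a (chevD4.rank + 8)) = true := by
  decide +kernel

theorem gConjD4a_9 : conjCheck chevD4 (spCol (dec8 gPD4a) (etaOf gSD4a)) 9 (dec8 gRD4a 9) (etaOf gSD4a (chevD4.rank + 9)) = true := by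
  decide +kernel

theorem gConjD4a_10 : conjCheck chevD4 (spCol (dec8 gPD4a) (etaOf gSD4a)) 10 (dec8 gRD4a 10) (etaOf gSD4a (chevD4.rank + 10)) = true := by
  decide +kernel

theorem gConjD4a_11 : conjCheck chevD4 (spCol (dec8 gPD4a) (etaOf gSD4a)) 11 (dec8 gRD4a 11) (etaOf gSD4a (chevD4.rank + 11)) = true := by
  decide +kernel

theorem gConjD4a_12 : conjCheck chevD4 (spCol (dec8 gPD4a) (etaOf gSD4a)) 12 (dec8 gRD4a 12) (etaOf gSD4a (chevD4.rank + 12)) = true := by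
  decide +kernel

theorem gConjD4a_13 : conjCheck chevD4 (spCol (dec8 gPD4a) (etaOf gSD4a)) 13 (dec8 gRD4a 13) (etaOf gSD4a (chevD4.rank + 13)) = true := by
  decide +kernel

theorem gConjD4a_14 : conjCheck chevD4 (spCol (dec8 gPD4a) (etaOf gSD4a)) 14 (dec8 gRD4a 14) (etaOf gSD4a (chevD4.rank + 14)) = true := by
  decide +kernel

theorem gConjD4a_15 : conjCheck chevD4 (spCol (dec8 gPD4a) (etaOf gSD4a)) 15 (dec8 gRD4a 15) (etaOf gSD4a (chevD4.rank + 15)) = true := by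
  decide +kernel

theorem gConjD4a_16 : conjCheck chevD4 (spCol (dec8 gPD4a) (etaOf gSD4a)) 16 (dec8 gRD4a 16) (etaOf gSD4a (chevD4.rank + 16)) = true := by
  decide +kernel

theorem gConjD4a_17 : conjCheck chevD4 (spCol (dec8 gPD4a) (etaOf gSD4a)) 17 (dec8 gRD4a 17) (etaOf gSD4a (chevD4.rank + 17)) = true := by
  decide +kernel

theorem gConjD4a_18 : conjCheck chevD4 (spCol (dec8 gPD4a) (etaOf gSD4a)) 18 (dec8 gRD4a 18) (etaOf gSD4a (chevD4.rank + 18)) = true := by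
  decide +kernel

theorem gConjD4a_19 : conjCheck chevD4 (spCol (dec8 gPD4a) (etaOf gSD4a)) 19 (dec8 gRD4a 19) (etaOf gSD4a (chevD4.rank + 19)) = true := by
  decide +kernel

theorem gConjD4a_20 : conjCheck chevD4 (spCol (dec8 gPD4a) (etaOf gSD4a)) 20 (dec8 gRD4a 20) (etaOf gSD4a (chevD4.rank + 20)) = true := by
  decide +kernel

theorem gConjD4a_21 : conjCheck chevD4 (spCol (dec8 gPD4a) (etaOf gSD4a)) 21 (dec8 gRD4a 21) (etaOf gSD4a (chevD4.rank + 21)) = true := by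
  decide +kernel

theorem gConjD4a_22 : conjCheck chevD4 (spCol (dec8 gPD4a) (etaOf gSD4a)) 22 (dec8 gRD4a 22) (etaOf gSD4a (chevD4.rank + 22)) = true := by
  decide +kernel

theorem gConjD4a_23 : conjCheck chevD4 (spCol (dec8 gPD4a) (etaOf gSD4a)) 23 (dec8 gRD4a 23) (etaOf gSD4a (chevD4.rank + 23)) = true := by
  decide +kernel

theorem gConjD4a (s : ℕ) (hs : s < chevD4.nroots) : conjCheck chevD4 (spCol (dec8 gPD4a) (etaOf gSD4a)) s (dec8 gRD4a s) (etaOf gSD4a (chevD4.rank + s)) = true := by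
  have hs' : s < 24 := hs
  have h : s = 0 ∨ s = 1 ∨ s = 2 ∨ s = 3 ∨ s = 4 ∨ s = 5 ∨ s = 6 ∨ s = 7 ∨ s = 8 ∨ s = 9 ∨ s = 10 ∨ s = 11 ∨ s = 12 ∨ s = 13 ∨ s = 14 ∨ s = 15 ∨ s = 16 ∨ s = 17 ∨ s = 18 ∨ s = 19 ∨ s = 20 ∨ s = 21 ∨ s = 22 ∨ s = 23 := by omega
  rcases h with rfl | rfl | rfl | rfl | rfl | rfl | rfl | rfl | rfl | rfl | rfl | rfl | rfl | rfl | rfl | rfl | rfl | rfl | rfl | rfl | rfl | rfl | rfl | rfl
  exacts [gConjD4a_0, gConjD4a_1, gConjD4a_2, gConjD4a_3, gConjD4a_4, gConjD4a_5, gConjD4a_6, gConjD4a_7, gConjD4a_8, gConjD4a_9, gConjD4a_10, gConjD4a_11, gConjD4a_12, gConjD4a_13, gConjD4a_14, gConjD4a_15, gConjD4a_16, gConjD4a_17, gConjD4a_18, gConjD4a_19, gConjD4a_20, gConjD4a_21, gConjD4a_22, gConjD4a_23]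

theorem graphAutD4a {F : Type*} [Field F] :
    ∃ α : ↥(chevD4.group F) ≃* ↥(chevD4.group F), ∀ (g : ↥(chevD4.group F)) (i : ℕ) (t : F), i < chevD4.rank →
      (((g : GL chevD4.Idx F) : Matrix chevD4.Idx chevD4.Idx F) = chevD4.x F (chevD4.simple i) t →
        ((α g : GL chevD4.Idx F) : Matrix chevD4.Idx chevD4.Idx F) = chevD4.x F (chevD4.simple (([2, 1, 3, 0] : List ℕ).getD i 0)) t) ∧
      (((g : GL chevD4.Idx F) : Matrix chevD4.Idx chevD4.Idx F) = chevD4.x F (chevD4.neg (chevD4.simple i)) t →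
        ((α g : GL chevD4.Idx F) : Matrix chevD4.Idx chevD4.Idx F) = chevD4.x F (chevD4.neg (chevD4.simple (([2, 1, 3, 0] : List ℕ).getD i 0))) t) :=
  graph_aut_exists chevD4 (by simp [Good]) gPD4a gSD4a gP'D4a gS'D4a gRD4a gR'D4a [2, 1, 3, 0] gInvD4a gConjD4a gRinvD4a gSimpleD4a

end Cfsg.Agent.Helper18
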