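import Cfsg.Agent.Lib.Helper18.ChevGraphAut
import Cfsg.Prelude.Def_LieTypes
import Cfsg.Prelude.Def_ChevB2

set_option autoImplicit false
set_option maxRecDepth 100000
set_option Elab.async false

namespace Cfsg.Agent.Helper18

open Cfsg.Lie Cfsg.Agent.S1043

abbrev gPE6a : ℕ := 21020629588315977342102643293361051310797613486127781916947365211205027208058566875940593059548509184045424410227249909403225142870400862767800357085826260648166106955836865963335476314373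
abbrev gSE6a : ℕ := 11117949231516678988800
abbrev gP'E6a : ℕ := 21020629588315977342102643293361051310797613486127781916947365211205027208058566875940593059548509184045424410227249909403225142870400862767800357085826260648166106955836865963335476314373
abbrev gS'E6a : ℕ := 11117949231516678988800
abbrev gRE6a : ℕ := 68860739417218020291242710380271612727031550310487325668929011394974525928005367019092266480622676483323572995251894574580543560006432062466002516407798046496184879596830976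
abbrev gR'E6a : ℕ := 68860739417218020291242710380271612727031550310487325668929011394974525928005367019092266480622676483323572995251894574580543560006432062466002516407798046496184879596830976

theorem gInvE6a : spInvCheck chevE6 gPE6a gSE6a gP'E6a gS'E6a = true := by
  decide +kernel

theorem gRinvE6a : ∀ s < chevE6.nroots, dec8 gR'E6a s < chevE6.nroots ∧ dec8 gRE6a (dec8 gR'E6a s) = s := by
  decide +kernel

theorem gSimpleE6a : ∀ i < chevE6.rank, (chevE6.simple i < chevE6.nroots ∧ chevE6.neg (chevE6.simple i) < chevE6.nroots) ∧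
    (dec8 gRE6a (chevE6.simple i) = chevE6.simple (([5, 1, 4, 3, 2, 0] : List ℕ).getD i 0) ∧ etaOf gSE6a (chevE6.rank + chevE6.simple i) = 1) ∧
    (dec8 gRE6a (chevE6.neg (chevE6.simple i)) = chevE6.neg (chevE6.simple (([5, 1, 4, 3, 2, 0] : List ℕ).getD i 0)) ∧
      etaOf gSE6a (chevE6.rank + chevE6.neg (chevE6.simple i)) = 1) := by
  decide +kernel

theorem gConjE6a_0 : conjCheck chevE6 (spCol (dec8 gPE6a) (etaOf gSE6a)) 0 (dec8 gRE6a 0) (etaOf gSE6a (chevE6.rank + 0)) = true := by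
  decide +kernel

theorem gConjE6a_1 : conjCheck chevE6 (spCol (dec8 gPE6a) (etaOf gSE6a)) 1 (dec8 gRE6a 1) (etaOf gSE6a (chevE6.rank + 1)) = true := by
  decide +kernel

theorem gConjE6a_2 : conjCheck chevE6 (spCol (dec8 gPE6a) (etaOf gSE6a)) 2 (dec8 gRE6a 2) (etaOf gSE6a (chevE6.rank + 2)) = true := by
  decide +kernel

theorem gConjE6a_3 : conjCheck chevE6 (spCol (dec8 gPE6a) (etaOf gSE6a)) 3 (dec8 gRE6a 3) (etaOf gSE6a (chevE6.rank + 3)) = true := by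
  decide +kernel

theorem gConjE6a_4 : conjCheck chevE6 (spCol (dec8 gPE6a) (etaOf gSE6a)) 4 (dec8 gRE6a 4) (etaOf gSE6a (chevE6.rank + 4)) = true := by
  decide +kernel

theorem gConjE6a_5 : conjCheck chevE6 (spCol (dec8 gPE6a) (etaOf gSE6a)) 5 (dec8 gRE6a 5) (etaOf gSE6a (chevE6.rank + 5)) = true := by
  decide +kernel

theorem gConjE6a_6 : conjCheck chevE6 (spCol (dec8 gPE6a) (etaOf gSE6a)) 6 (dec8 gRE6a 6) (etaOf gSE6a (chevE6.rank + 6)) = true := by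
  decide +kernel

theorem gConjE6a_7 : conjCheck chevE6 (spCol (dec8 gPE6a) (etaOf gSE6a)) 7 (dec8 gRE6a 7) (etaOf gSE6a (chevE6.rank + 7)) = true := by
  decide +kernel

theorem gConjE6a_8 : conjCheck chevE6 (spCol (dec8 gPE6a) (etaOf gSE6a)) 8 (dec8 gRE6a 8) (etaOf gSE6a (chevE6.rank + 8)) = true := by
  decide +kernel

theorem gConjE6a_9 : conjCheck chevE6 (spCol (dec8 gPE6a) (etaOf gSE6a)) 9 (dec8 gRE6a 9) (etaOf gSE6a (chevE6.rank + 9)) = true := by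
  decide +kernel

theorem gConjE6a_10 : conjCheck chevE6 (spCol (dec8 gPE6a) (etaOf gSE6a)) 10 (dec8 gRE6a 10) (etaOf gSE6a (chevE6.rank + 10)) = true := by
  decide +kernel

theorem gConjE6a_11 : conjCheck chevE6 (spCol (dec8 gPE6a) (etaOf gSE6a)) 11 (dec8 gRE6a 11) (etaOf gSE6a (chevE6.rank + 11)) = true := by
  decide +kernel

theorem gConjE6a_12 : conjCheck chevE6 (spCol (dec8 gPE6a) (etaOf gSE6a)) 12 (dec8 gRE6a 12) (etaOf gSE6a (chevE6.rank + 12)) = true := by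
  decide +kernel

theorem gConjE6a_13 : conjCheck chevE6 (spCol (dec8 gPE6a) (etaOf gSE6a)) 13 (dec8 gRE6a 13) (etaOf gSE6a (chevE6.rank + 13)) = true := by
  decide +kernel

theorem gConjE6a_14 : conjCheck chevE6 (spCol (dec8 gPE6a) (etaOf gSE6a)) 14 (dec8 gRE6a 14) (etaOf gSE6a (chevE6.rank + 14)) = true := by
  decide +kernel

theorem gConjE6a_15 : conjCheck chevE6 (spCol (dec8 gPE6a) (etaOf gSE6a)) 15 (dec8 gRE6a 15) (etaOf gSE6a (chevE6.rank + 15)) = true := by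
  decide +kernel

theorem gConjE6a_16 : conjCheck chevE6 (spCol (dec8 gPE6a) (etaOf gSE6a)) 16 (dec8 gRE6a 16) (etaOf gSE6a (chevE6.rank + 16)) = true := by
  decide +kernel

theorem gConjE6a_17 : conjCheck chevE6 (spCol (dec8 gPE6a) (etaOf gSE6a)) 17 (dec8 gRE6a 17) (etaOf gSE6a (chevE6.rank + 17)) = true := by
  decide +kernel

theorem gConjE6a_18 : conjCheck chevE6 (spCol (dec8 gPE6a) (etaOf gSE6a)) 18 (dec8 gRE6a 18) (etaOf gSE6a (chevE6.rank + 18)) = true := by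
  decide +kernel

theorem gConjE6a_19 : conjCheck chevE6 (spCol (dec8 gPE6a) (etaOf gSE6a)) 19 (dec8 gRE6a 19) (etaOf gSE6a (chevE6.rank + 19)) = true := by
  decide +kernel

theorem gConjE6a_20 : conjCheck chevE6 (spCol (dec8 gPE6a) (etaOf gSE6a)) 20 (dec8 gRE6a 20) (etaOf gSE6a (chevE6.rank + 20)) = true := by
  decide +kernel

theorem gConjE6a_21 : conjCheck chevE6 (spCol (dec8 gPE6a) (etaOf gSE6a)) 21 (dec8 gRE6a 21) (etaOf gSE6a (chevE6.rank + 21)) = true := by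
  decide +kernel

theorem gConjE6a_22 : conjCheck chevE6 (spCol (dec8 gPE6a) (etaOf gSE6a)) 22 (dec8 gRE6a 22) (etaOf gSE6a (chevE6.rank + 22)) = true := by
  decide +kernel

theorem gConjE6a_23 : conjCheck chevE6 (spCol (dec8 gPE6a) (etaOf gSE6a)) 23 (dec8 gRE6a 23) (etaOf gSE6a (chevE6.rank + 23)) = true := by
  decide +kernel

theorem gConjE6a_24 : conjCheck chevE6 (spCol (dec8 gPE6a) (etaOf gSE6a)) 24 (dec8 gRE6a 24) (etaOf gSE6a (chevE6.rank + 24)) = true := by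
  decide +kernel

theorem gConjE6a_25 : conjCheck chevE6 (spCol (dec8 gPE6a) (etaOf gSE6a)) 25 (dec8 gRE6a 25) (etaOf gSE6a (chevE6.rank + 25)) = true := by
  decide +kernel

theorem gConjE6a_26 : conjCheck chevE6 (spCol (dec8 gPE6a) (etaOf gSE6a)) 26 (dec8 gRE6a 26) (etaOf gSE6a (chevE6.rank + 26)) = true := by
  decide +kernel

theorem gConjE6a_27 : conjCheck chevE6 (spCol (dec8 gPE6a) (etaOf gSE6a)) 27 (dec8 gRE6a 27) (etaOf gSE6a (chevE6.rank + 27)) = true := by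
  decide +kernel

theorem gConjE6a_28 : conjCheck chevE6 (spCol (dec8 gPE6a) (etaOf gSE6a)) 28 (dec8 gRE6a 28) (etaOf gSE6a (chevE6.rank + 28)) = true := by
  decide +kernel

theorem gConjE6a_29 : conjCheck chevE6 (spCol (dec8 gPE6a) (etaOf gSE6a)) 29 (dec8 gRE6a 29) (etaOf gSE6a (chevE6.rank + 29)) = true := by
  decide +kernel

theorem gConjE6a_30 : conjCheck chevE6 (spCol (dec8 gPE6a) (etaOf gSE6a)) 30 (dec8 gRE6a 30) (etaOf gSE6a (chevE6.rank + 30)) = true := by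
  decide +kernel

theorem gConjE6a_31 : conjCheck chevE6 (spCol (dec8 gPE6a) (etaOf gSE6a)) 31 (dec8 gRE6a 31) (etaOf gSE6a (chevE6.rank + 31)) = true := by
  decide +kernel

theorem gConjE6a_32 : conjCheck chevE6 (spCol (dec8 gPE6a) (etaOf gSE6a)) 32 (dec8 gRE6a 32) (etaOf gSE6a (chevE6.rank + 32)) = true := by
  decide +kernel

theorem gConjE6a_33 : conjCheck chevE6 (spCol (dec8 gPE6a) (etaOf gSE6a)) 33 (dec8 gRE6a 33) (etaOf gSE6a (chevE6.rank + 33)) = true := by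
  decide +kernel

theorem gConjE6a_34 : conjCheck chevE6 (spCol (dec8 gPE6a) (etaOf gSE6a)) 34 (dec8 gRE6a 34) (etaOf gSE6a (chevE6.rank + 34)) = true := by
  decide +kernel

theorem gConjE6a_35 : conjCheck chevE6 (spCol (dec8 gPE6a) (etaOf gSE6a)) 35 (dec8 gRE6a 35) (etaOf gSE6a (chevE6.rank + 35)) = true := by
  decide +kernel

theorem gConjE6a_36 : conjCheck chevE6 (spCol (dec8 gPE6a) (etaOf gSE6a)) 36 (dec8 gRE6a 36) (etaOf gSE6a (chevE6.rank + 36)) = true := by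
  decide +kernel

theorem gConjE6a_37 : conjCheck chevE6 (spCol (dec8 gPE6a) (etaOf gSE6a)) 37 (dec8 gRE6a 37) (etaOf gSE6a (chevE6.rank + 37)) = true := by
  decide +kernel

theorem gConjE6a_38 : conjCheck chevE6 (spCol (dec8 gPE6a) (etaOf gSE6a)) 38 (dec8 gRE6a 38) (etaOf gSE6a (chevE6.rank + 38)) = true := by
  decide +kernel

theorem gConjE6a_39 : conjCheck chevE6 (spCol (dec8 gPE6a) (etaOf gSE6a)) 39 (dec8 gRE6a 39) (etaOf gSE6a (chevE6.rank + 39)) = true := by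
  decide +kernel

theorem gConjE6a_40 : conjCheck chevE6 (spCol (dec8 gPE6a) (etaOf gSE6a)) 40 (dec8 gRE6a 40) (etaOf gSE6a (chevE6.rank + 40)) = true := by
  decide +kernel

theorem gConjE6a_41 : conjCheck chevE6 (spCol (dec8 gPE6a) (etaOf gSE6a)) 41 (dec8 gRE6a 41) (etaOf gSE6a (chevE6.rank + 41)) = true := by
  decide +kernel

theorem gConjE6a_42 : conjCheck chevE6 (spCol (dec8 gPE6a) (etaOf gSE6a)) 42 (dec8 gRE6a 42) (etaOf gSE6a (chevE6.rank + 42)) = true := by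
  decide +kernel

theorem gConjE6a_43 : conjCheck chevE6 (spCol (dec8 gPE6a) (etaOf gSE6a)) 43 (dec8 gRE6a 43) (etaOf gSE6a (chevE6.rank + 43)) = true := by
  decide +kernel

theorem gConjE6a_44 : conjCheck chevE6 (spCol (dec8 gPE6a) (etaOf gSE6a)) 44 (dec8 gRE6a 44) (etaOf gSE6a (chevE6.rank + 44)) = true := by
  decide +kernel

theorem gConjE6a_45 : conjCheck chevE6 (spCol (dec8 gPE6a) (etaOf gSE6a)) 45 (dec8 gRE6a 45) (etaOf gSE6a (chevE6.rank + 45)) = true := by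
  decide +kernel

theorem gConjE6a_46 : conjCheck chevE6 (spCol (dec8 gPE6a) (etaOf gSE6a)) 46 (dec8 gRE6a 46) (etaOf gSE6a (chevE6.rank + 46)) = true := by
  decide +kernel

theorem gConjE6a_47 : conjCheck chevE6 (spCol (dec8 gPE6a) (etaOf gSE6a)) 47 (dec8 gRE6a 47) (etaOf gSE6a (chevE6.rank + 47)) = true := by
  decide +kernel

theorem gConjE6a_48 : conjCheck chevE6 (spCol (dec8 gPE6a) (etaOf gSE6a)) 48 (dec8 gRE6a 48) (etaOf gSE6a (chevE6.rank + 48)) = true := by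
  decide +kernel

theorem gConjE6a_49 : conjCheck chevE6 (spCol (dec8 gPE6a) (etaOf gSE6a)) 49 (dec8 gRE6a 49) (etaOf gSE6a (chevE6.rank + 49)) = true := by
  decide +kernel

theorem gConjE6a_50 : conjCheck chevE6 (spCol (dec8 gPE6a) (etaOf gSE6a)) 50 (dec8 gRE6a 50) (etaOf gSE6a (chevE6.rank + 50)) = true := by
  decide +kernel

theorem gConjE6a_51 : conjCheck chevE6 (spCol (dec8 gPE6a) (etaOf gSE6a)) 51 (dec8 gRE6a 51) (etaOf gSE6a (chevE6.rank + 51)) = true := by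
  decide +kernel

theorem gConjE6a_52 : conjCheck chevE6 (spCol (dec8 gPE6a) (etaOf gSE6a)) 52 (dec8 gRE6a 52) (etaOf gSE6a (chevE6.rank + 52)) = true := by
  decide +kernel

theorem gConjE6a_53 : conjCheck chevE6 (spCol (dec8 gPE6a) (etaOf gSE6a)) 53 (dec8 gRE6a 53) (etaOf gSE6a (chevE6.rank + 53)) = true := by
  decide +kernel

theorem gConjE6a_54 : conjCheck chevE6 (spCol (dec8 gPE6a) (etaOf gSE6a)) 54 (dec8 gRE6a 54) (etaOf gSE6a (chevE6.rank + 54)) = true := by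
  decide +kernel

theorem gConjE6a_55 : conjCheck chevE6 (spCol (dec8 gPE6a) (etaOf gSE6a)) 55 (dec8 gRE6a 55) (etaOf gSE6a (chevE6.rank + 55)) = true := by
  decide +kernel

theorem gConjE6a_56 : conjCheck chevE6 (spCol (dec8 gPE6a) (etaOf gSE6a)) 56 (dec8 gRE6a 56) (etaOf gSE6a (chevE6.rank + 56)) = true := by
  decide +kernel

theorem gConjE6a_57 : conjCheck chevE6 (spCol (dec8 gPE6a) (etaOf gSE6a)) 57 (dec8 gRE6a 57) (etaOf gSE6a (chevE6.rank + 57)) = true := by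
  decide +kernel

theorem gConjE6a_58 : conjCheck chevE6 (spCol (dec8 gPE6a) (etaOf gSE6a)) 58 (dec8 gRE6a 58) (etaOf gSE6a (chevE6.rank + 58)) = true := by
  decide +kernel

theorem gConjE6a_59 : conjCheck chevE6 (spCol (dec8 gPE6a) (etaOf gSE6a)) 59 (dec8 gRE6a 59) (etaOf gSE6a (chevE6.rank + 59)) = true := by
  decide +kernel

theorem gConjE6a_60 : conjCheck chevE6 (spCol (dec8 gPE6a) (etaOf gSE6a)) 60 (dec8 gRE6a 60) (etaOf gSE6a (chevE6.rank + 60)) = true := by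
  decide +kernel

theorem gConjE6a_61 : conjCheck chevE6 (spCol (dec8 gPE6a) (etaOf gSE6a)) 61 (dec8 gRE6a 61) (etaOf gSE6a (chevE6.rank + 61)) = true := by
  decide +kernel

theorem gConjE6a_62 : conjCheck chevE6 (spCol (dec8 gPE6a) (etaOf gSE6a)) 62 (dec8 gRE6a 62) (etaOf gSE6a (chevE6.rank + 62)) = true := by
  decide +kernel

theorem gConjE6a_63 : conjCheck chevE6 (spCol (dec8 gPE6a) (etaOf gSE6a)) 63 (dec8 gRE6a 63) (etaOf gSE6a (chevE6.rank + 63)) = true := by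
  decide +kernel

theorem gConjE6a_64 : conjCheck chevE6 (spCol (dec8 gPE6a) (etaOf gSE6a)) 64 (dec8 gRE6a 64) (etaOf gSE6a (chevE6.rank + 64)) = true := by
  decide +kernel

theorem gConjE6a_65 : conjCheck chevE6 (spCol (dec8 gPE6a) (etaOf gSE6a)) 65 (dec8 gRE6a 65) (etaOf gSE6a (chevE6.rank + 65)) = true := by
  decide +kernel

theorem gConjE6a_66 : conjCheck chevE6 (spCol (dec8 gPE6a) (etaOf gSE6a)) 66 (dec8 gRE6a 66) (etaOf gSE6a (chevE6.rank + 66)) = true := by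
  decide +kernel

theorem gConjE6a_67 : conjCheck chevE6 (spCol (dec8 gPE6a) (etaOf gSE6a)) 67 (dec8 gRE6a 67) (etaOf gSE6a (chevE6.rank + 67)) = true := by
  decide +kernel

theorem gConjE6a_68 : conjCheck chevE6 (spCol (dec8 gPE6a) (etaOf gSE6a)) 68 (dec8 gRE6a 68) (etaOf gSE6a (chevE6.rank + 68)) = true := by
  decide +kernel

theorem gConjE6a_69 : conjCheck chevE6 (spCol (dec8 gPE6a) (etaOf gSE6a)) 69 (dec8 gRE6a 69) (etaOf gSE6a (chevE6.rank + 69)) = true := by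
  decide +kernel

theorem gConjE6a_70 : conjCheck chevE6 (spCol (dec8 gPE6a) (etaOf gSE6a)) 70 (dec8 gRE6a 70) (etaOf gSE6a (chevE6.rank + 70)) = true := by
  decide +kernel

theorem gConjE6a_71 : conjCheck chevE6 (spCol (dec8 gPE6a) (etaOf gSE6a)) 71 (dec8 gRE6a 71) (etaOf gSE6a (chevE6.rank + 71)) = true := by
  decide +kernel

theorem gConjE6a (s : ℕ) (hs : s < chevE6.nroots) : conjCheck chevE6 (spCol (dec8 gPE6a) (etaOf gSE6a)) s (dec8 gRE6a s) (etaOf gSE6a (chevE6.rank + s)) = true := by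
  have hs' : s < 72 := hs
  have h : s = 0 ∨ s = 1 ∨ s = 2 ∨ s = 3 ∨ s = 4 ∨ s = 5 ∨ s = 6 ∨ s = 7 ∨ s = 8 ∨ s = 9 ∨ s = 10 ∨ s = 11 ∨ s = 12 ∨ s = 13 ∨ s = 14 ∨ s = 15 ∨ s = 16 ∨ s = 17 ∨ s = 18 ∨ s = 19 ∨ s = 20 ∨ s = 21 ∨ s = 22 ∨ s = 23 ∨ s = 24 ∨ s = 25 ∨ s = 26 ∨ s = 27 ∨ s = 28 ∨ s = 29 ∨ s = 30 ∨ s = 31 ∨ s = 32 ∨ s = 33 ∨ s = 34 ∨ s = 35 ∨ s = 36 ∨ s = 37 ∨ s = 38 ∨ s = 39 ∨ s = 40 ∨ s = 41 ∨ s = 42 ∨ s = 43 ∨ s = 44 ∨ s = 45 ∨ s = 46 ∨ s = 47 ∨ s = 48 ∨ s = 49 ∨ s = 50 ∨ s = 51 ∨ s = 52 ∨ s = 53 ∨ s = 54 ∨ s = 55 ∨ s = 56 ∨ s = 57 ∨ s = 58 ∨ s = 59 ∨ s = 60 ∨ s = 61 ∨ s = 62 ∨ s = 63 ∨ s = 64 ∨ s = 65 ∨ s = 66 ∨ s = 67 ∨ s = 68 ∨ s = 69 ∨ s = 70 ∨ s = 71 := by omega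
  rcases h with rfl | rfl | rfl | rfl | rfl | rfl | rfl | rfl | rfl | rfl | rfl | rfl | rfl | rfl | rfl | rfl | rfl | rfl | rfl | rfl | rfl | rfl | rfl | rfl | rfl | rfl | rfl | rfl | rfl | rfl | rfl | rfl | rfl | rfl | rfl | rfl | rfl | rfl | rfl | rfl | rfl | rfl | rfl | rfl | rfl | rfl | rfl | rfl | rfl | rfl | rfl | rfl | rfl | rfl | rfl | rfl | rfl | rfl | rfl | rfl | rfl | rfl | rfl | rfl | rfl | rfl | rfl | rfl | rfl | rfl | rfl | rfl
  exacts [gConjE6a_0, gConjE6a_1, gConjE6a_2, gConjE6a_3, gConjE6a_4, gConjE6a_5, gConjE6a_6, gConjE6a_7, gConjE6a_8, gConjE6a_9, gConjE6a_10, gConjE6a_11, gConjE6a_12, gConjE6a_13, gConjE6a_14, gConjE6a_15, gConjE6a_16, gConjE6a_17, gConjE6a_18, gConjE6a_19, gConjE6a_20, gConjE6a_21, gConjE6a_22, gConjE6a_23, gConjE6a_24, gConjE6a_25, gConjE6a_26, gConjE6a_27, gConjE6a_28, gConjE6a_29, gConjE6a_30, gConjE6a_31, gConjE6a_32, gConjE6a_33, gConjE6a_34, gConjE6a_35, gConjE6a_36,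 gConjE6a_37, gConjE6a_38, gConjE6a_39, gConjE6a_40, gConjE6a_41, gConjE6a_42, gConjE6a_43, gConjE6a_44, gConjE6a_45, gConjE6a_46, gConjE6a_47, gConjE6a_48, gConjE6a_49, gConjE6a_50, gConjE6a_51, gConjE6a_52, gConjE6a_53, gConjE6a_54, gConjE6a_55, gConjE6a_56, gConjE6a_57, gConjE6a_58, gConjE6a_59, gConjE6a_60, gConjE6a_61, gConjE6a_62, gConjE6a_63, gConjE6a_64, gConjE6a_65, gConjE6a_66, gConjE6a_67, gConjE6a_68, gConjE6a_69, gConjE6a_70, gConjE6a_71]

theorem graphAutE6a {F : Type*} [Field F] :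
    ∃ α : ↥(chevE6.group F) ≃* ↥(chevE6.group F), ∀ (g : ↥(chevE6.group F)) (i : ℕ) (t : F), i < chevE6.rank →
      (((g : GL chevE6.Idx F) : Matrix chevE6.Idx chevE6.Idx F) = chevE6.x F (chevE6.simple i) t →
        ((α g : GL chevE6.Idx F) : Matrix chevE6.Idx chevE6.Idx F) = chevE6.x F (chevE6.simple (([5, 1, 4, 3, 2, 0] : List ℕ).getD i 0)) t) ∧
      (((g : GL chevE6.Idx F) : Matrix chevE6.Idx chevE6.Idx F) = chevE6.x F (chevE6.neg (chevE6.simple i)) t →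
        ((α g : GL chevE6.Idx F) : Matrix chevE6.Idx chevE6.Idx F) = chevE6.x F (chevE6.neg (chevE6.simple (([5, 1, 4, 3, 2, 0] : List ℕ).getD i 0))) t) :=
  graph_aut_exists chevE6 (by simp [Good]) gPE6a gSE6a gP'E6a gS'E6a gRE6a gR'E6a [5, 1, 4, 3, 2, 0] gInvE6a gConjE6a gRinvE6a gSimpleE6a

end Cfsg.Agent.Helper18
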