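import Cfsg.Agent.Lib.Helper18.HExp
import Cfsg.Prelude.Def_LieTypes
import Cfsg.Prelude.Def_ChevB2

set_option autoImplicit false
set_option maxRecDepth 100000

namespace Cfsg.Agent.Helper18

open Cfsg.Lie

theorem hAllE8_r90 : hCheck chevE8 90 (decExp (lget expE8 90 0)) = true := by
  decide +kernel

theorem hAllE8_r91 : hCheck chevE8 91 (decExp (lget expE8 91 0)) = true := by
  decide +kernel

theorem hAllE8_r92 : hCheck chevE8 92 (decExp (lget expE8 92 0)) = true := by
  decide +kernel

theorem hAllE8_r93 : hCheck chevE8 93 (decExp (lget expE8 93 0)) = true := by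
  decide +kernel

theorem hAllE8_r94 : hCheck chevE8 94 (decExp (lget expE8 94 0)) = true := by
  decide +kernel

theorem hAllE8_r95 : hCheck chevE8 95 (decExp (lget expE8 95 0)) = true := by
  decide +kernel

theorem hAllE8_r96 : hCheck chevE8 96 (decExp (lget expE8 96 0)) = true := by
  decide +kernel

theorem hAllE8_r97 : hCheck chevE8 97 (decExp (lget expE8 97 0)) = true := by
  decide +kernel

theorem hAllE8_90' (r : ℕ) (h1 : 90 ≤ r) (h2 : r < 98) : hCheck chevE8 r (decExp (lget expE8 r 0)) = true := by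
  have h : r = 90 ∨ r = 91 ∨ r = 92 ∨ r = 93 ∨ r = 94 ∨ r = 95 ∨ r = 96 ∨ r = 97 := by omega
  rcases h with rfl | rfl | rfl | rfl | rfl | rfl | rfl | rfl
  exacts [hAllE8_r90, hAllE8_r91, hAllE8_r92, hAllE8_r93, hAllE8_r94, hAllE8_r95, hAllE8_r96, hAllE8_r97]

theorem hAllE8_r98 : hCheck chevE8 98 (decExp (lget expE8 98 0)) = true := by
  decide +kernel

theorem hAllE8_r99 : hCheck chevE8 99 (decExp (lget expE8 99 0)) = true := by
  decide +kernel

theorem hAllE8_r100 : hCheck chevE8 100 (decExp (lget expE8 100 0)) = true := by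
  decide +kernel

theorem hAllE8_r101 : hCheck chevE8 101 (decExp (lget expE8 101 0)) = true := by
  decide +kernel

theorem hAllE8_r102 : hCheck chevE8 102 (decExp (lget expE8 102 0)) = true := by
  decide +kernel

theorem hAllE8_r103 : hCheck chevE8 103 (decExp (lget expE8 103 0)) = true := by
  decide +kernel

theorem hAllE8_r104 : hCheck chevE8 104 (decExp (lget expE8 104 0)) = true := by
  decide +kernel

theorem hAllE8_98' (r : ℕ) (h1 : 98 ≤ r) (h2 : r < 105) : hCheck chevE8 r (decExp (lget expE8 r 0)) = true := by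
  have h : r = 98 ∨ r = 99 ∨ r = 100 ∨ r = 101 ∨ r = 102 ∨ r = 103 ∨ r = 104 := by omega
  rcases h with rfl | rfl | rfl | rfl | rfl | rfl | rfl
  exacts [hAllE8_r98, hAllE8_r99, hAllE8_r100, hAllE8_r101, hAllE8_r102, hAllE8_r103, hAllE8_r104]

end Cfsg.Agent.Helper18
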