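import Cfsg.Agent.Lib.Helper18.HExp
import Cfsg.Prelude.Def_LieTypes
import Cfsg.Prelude.Def_ChevB2

set_option autoImplicit false
set_option maxRecDepth 100000

namespace Cfsg.Agent.Helper18

open Cfsg.Lie

theorem hAllG2_r0 : hCheck chevG2 0 (decExp (lget expG2 0 0)) = true := by
  decide +kernel

theorem hAllG2_r1 : hCheck chevG2 1 (decExp (lget expG2 1 0)) = true := by
  decide +kernel

theorem hAllG2_r2 : hCheck chevG2 2 (decExp (lget expG2 2 0)) = true := by
  decide +kernel

theorem hAllG2_r3 : hCheck chevG2 3 (decExp (lget expG2 3 0)) = true := by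
  decide +kernel

theorem hAllG2_r4 : hCheck chevG2 4 (decExp (lget expG2 4 0)) = true := by
  decide +kernel

theorem hAllG2_r5 : hCheck chevG2 5 (decExp (lget expG2 5 0)) = true := by
  decide +kernel

theorem hAllG2_r6 : hCheck chevG2 6 (decExp (lget expG2 6 0)) = true := by
  decide +kernel

theorem hAllG2_r7 : hCheck chevG2 7 (decExp (lget expG2 7 0)) = true := by
  decide +kernel

theorem hAllG2_r8 : hCheck chevG2 8 (decExp (lget expG2 8 0)) = true := by
  decide +kernel

theorem hAllG2_r9 : hCheck chevG2 9 (decExp (lget expG2 9 0)) = true := by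
  decide +kernel

theorem hAllG2_r10 : hCheck chevG2 10 (decExp (lget expG2 10 0)) = true := by
  decide +kernel

theorem hAllG2_r11 : hCheck chevG2 11 (decExp (lget expG2 11 0)) = true := by
  decide +kernel

theorem hAllG2_0' (r : ℕ) (h1 : 0 ≤ r) (h2 : r < 12) : hCheck chevG2 r (decExp (lget expG2 r 0)) = true := by
  have h : r = 0 ∨ r = 1 ∨ r = 2 ∨ r = 3 ∨ r = 4 ∨ r = 5 ∨ r = 6 ∨ r = 7 ∨ r = 8 ∨ r = 9 ∨ r = 10 ∨ r = 11 := by omega
  rcases h with rfl | rfl | rfl | rfl | rfl | rfl | rfl | rfl | rfl | rfl | rfl | rfl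
  exacts [hAllG2_r0, hAllG2_r1, hAllG2_r2, hAllG2_r3, hAllG2_r4, hAllG2_r5, hAllG2_r6, hAllG2_r7, hAllG2_r8, hAllG2_r9, hAllG2_r10, hAllG2_r11]

theorem hAllB2_r0 : hCheck chevB2 0 (decExp (lget expB2 0 0)) = true := by
  decide +kernel

theorem hAllB2_r1 : hCheck chevB2 1 (decExp (lget expB2 1 0)) = true := by
  decide +kernel

theorem hAllB2_r2 : hCheck chevB2 2 (decExp (lget expB2 2 0)) = true := by
  decide +kernel

theorem hAllB2_r3 : hCheck chevB2 3 (decExp (lget expB2 3 0)) = true := by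
  decide +kernel

theorem hAllB2_r4 : hCheck chevB2 4 (decExp (lget expB2 4 0)) = true := by
  decide +kernel

theorem hAllB2_r5 : hCheck chevB2 5 (decExp (lget expB2 5 0)) = true := by
  decide +kernel

theorem hAllB2_r6 : hCheck chevB2 6 (decExp (lget expB2 6 0)) = true := by
  decide +kernel

theorem hAllB2_r7 : hCheck chevB2 7 (decExp (lget expB2 7 0)) = true := by
  decide +kernel

theorem hAllB2_0' (r : ℕ) (h1 : 0 ≤ r) (h2 : r < 8) : hCheck chevB2 r (decExp (lget expB2 r 0)) = true := by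
  have h : r = 0 ∨ r = 1 ∨ r = 2 ∨ r = 3 ∨ r = 4 ∨ r = 5 ∨ r = 6 ∨ r = 7 := by omega
  rcases h with rfl | rfl | rfl | rfl | rfl | rfl | rfl | rfl
  exacts [hAllB2_r0, hAllB2_r1, hAllB2_r2, hAllB2_r3, hAllB2_r4, hAllB2_r5, hAllB2_r6, hAllB2_r7]

theorem hAllD4_r0 : hCheck chevD4 0 (decExp (lget expD4 0 0)) = true := by
  decide +kernel

theorem hAllD4_r1 : hCheck chevD4 1 (decExp (lget expD4 1 0)) = true := by
  decide +kernel

theorem hAllD4_r2 : hCheck chevD4 2 (decExp (lget expD4 2 0)) = true := by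
  decide +kernel

theorem hAllD4_r3 : hCheck chevD4 3 (decExp (lget expD4 3 0)) = true := by
  decide +kernel

theorem hAllD4_r4 : hCheck chevD4 4 (decExp (lget expD4 4 0)) = true := by
  decide +kernel

theorem hAllD4_r5 : hCheck chevD4 5 (decExp (lget expD4 5 0)) = true := by
  decide +kernel

theorem hAllD4_r6 : hCheck chevD4 6 (decExp (lget expD4 6 0)) = true := by
  decide +kernel

theorem hAllD4_r7 : hCheck chevD4 7 (decExp (lget expD4 7 0)) = true := by
  decide +kernel

theorem hAllD4_r8 : hCheck chevD4 8 (decExp (lget expD4 8 0)) = true := by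
  decide +kernel

theorem hAllD4_r9 : hCheck chevD4 9 (decExp (lget expD4 9 0)) = true := by
  decide +kernel

theorem hAllD4_r10 : hCheck chevD4 10 (decExp (lget expD4 10 0)) = true := by
  decide +kernel

theorem hAllD4_r11 : hCheck chevD4 11 (decExp (lget expD4 11 0)) = true := by
  decide +kernel

theorem hAllD4_r12 : hCheck chevD4 12 (decExp (lget expD4 12 0)) = true := by
  decide +kernel

theorem hAllD4_r13 : hCheck chevD4 13 (decExp (lget expD4 13 0)) = true := by
  decide +kernel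

theorem hAllD4_r14 : hCheck chevD4 14 (decExp (lget expD4 14 0)) = true := by
  decide +kernel

theorem hAllD4_r15 : hCheck chevD4 15 (decExp (lget expD4 15 0)) = true := by
  decide +kernel

theorem hAllD4_r16 : hCheck chevD4 16 (decExp (lget expD4 16 0)) = true := by
  decide +kernel

theorem hAllD4_r17 : hCheck chevD4 17 (decExp (lget expD4 17 0)) = true := by
  decide +kernel

theorem hAllD4_r18 : hCheck chevD4 18 (decExp (lget expD4 18 0)) = true := by
  decide +kernel

theorem hAllD4_r19 : hCheck chevD4 19 (decExp (lget expD4 19 0)) = true := by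
  decide +kernel

theorem hAllD4_r20 : hCheck chevD4 20 (decExp (lget expD4 20 0)) = true := by
  decide +kernel

theorem hAllD4_r21 : hCheck chevD4 21 (decExp (lget expD4 21 0)) = true := by
  decide +kernel

theorem hAllD4_r22 : hCheck chevD4 22 (decExp (lget expD4 22 0)) = true := by
  decide +kernel

theorem hAllD4_r23 : hCheck chevD4 23 (decExp (lget expD4 23 0)) = true := by
  decide +kernel

theorem hAllD4_0' (r : ℕ) (h1 : 0 ≤ r) (h2 : r < 24) : hCheck chevD4 r (decExp (lget expD4 r 0)) = true := by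
  have h : r = 0 ∨ r = 1 ∨ r = 2 ∨ r = 3 ∨ r = 4 ∨ r = 5 ∨ r = 6 ∨ r = 7 ∨ r = 8 ∨ r = 9 ∨ r = 10 ∨ r = 11 ∨ r = 12 ∨ r = 13 ∨ r = 14 ∨ r = 15 ∨ r = 16 ∨ r = 17 ∨ r = 18 ∨ r = 19 ∨ r = 20 ∨ r = 21 ∨ r = 22 ∨ r = 23 := by omega
  rcases h with rfl | rfl | rfl | rfl | rfl | rfl | rfl | rfl | rfl | rfl | rfl | rfl | rfl | rfl | rfl | rfl | rfl | rfl | rfl | rfl | rfl | rfl | rfl | rfl
  exacts [hAllD4_r0, hAllD4_r1, hAllD4_r2, hAllD4_r3, hAllD4_r4, hAllD4_r5, hAllD4_r6, hAllD4_r7, hAllD4_r8, hAllD4_r9, hAllD4_r10, hAllD4_r11, hAllD4_r12, hAllD4_r13, hAllD4_r14, hAllD4_r15, hAllD4_r16, hAllD4_r17, hAllD4_r18, hAllD4_r19, hAllD4_r20, hAllD4_r21, hAllD4_r22, hAllD4_r23]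

theorem hAllF4_r0 : hCheck chevF4 0 (decExp (lget expF4 0 0)) = true := by
  decide +kernel

theorem hAllF4_r1 : hCheck chevF4 1 (decExp (lget expF4 1 0)) = true := by
  decide +kernel

theorem hAllF4_r2 : hCheck chevF4 2 (decExp (lget expF4 2 0)) = true := by
  decide +kernel

theorem hAllF4_r3 : hCheck chevF4 3 (decExp (lget expF4 3 0)) = true := by
  decide +kernel

theorem hAllF4_r4 : hCheck chevF4 4 (decExp (lget expF4 4 0)) = true := by
  decide +kernel

theorem hAllF4_r5 : hCheck chevF4 5 (decExp (lget expF4 5 0)) = true := by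
  decide +kernel

theorem hAllF4_r6 : hCheck chevF4 6 (decExp (lget expF4 6 0)) = true := by
  decide +kernel

theorem hAllF4_r7 : hCheck chevF4 7 (decExp (lget expF4 7 0)) = true := by
  decide +kernel

theorem hAllF4_r8 : hCheck chevF4 8 (decExp (lget expF4 8 0)) = true := by
  decide +kernel

theorem hAllF4_r9 : hCheck chevF4 9 (decExp (lget expF4 9 0)) = true := by
  decide +kernel

theorem hAllF4_r10 : hCheck chevF4 10 (decExp (lget expF4 10 0)) = true := by
  decide +kernel

theorem hAllF4_r11 : hCheck chevF4 11 (decExp (lget expF4 11 0)) = true := by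
  decide +kernel

theorem hAllF4_r12 : hCheck chevF4 12 (decExp (lget expF4 12 0)) = true := by
  decide +kernel

theorem hAllF4_r13 : hCheck chevF4 13 (decExp (lget expF4 13 0)) = true := by
  decide +kernel

theorem hAllF4_r14 : hCheck chevF4 14 (decExp (lget expF4 14 0)) = true := by
  decide +kernel

theorem hAllF4_r15 : hCheck chevF4 15 (decExp (lget expF4 15 0)) = true := by
  decide +kernel

theorem hAllF4_r16 : hCheck chevF4 16 (decExp (lget expF4 16 0)) = true := by
  decide +kernel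

theorem hAllF4_r17 : hCheck chevF4 17 (decExp (lget expF4 17 0)) = true := by
  decide +kernel

theorem hAllF4_r18 : hCheck chevF4 18 (decExp (lget expF4 18 0)) = true := by
  decide +kernel

theorem hAllF4_r19 : hCheck chevF4 19 (decExp (lget expF4 19 0)) = true := by
  decide +kernel

theorem hAllF4_r20 : hCheck chevF4 20 (decExp (lget expF4 20 0)) = true := by
  decide +kernel

theorem hAllF4_r21 : hCheck chevF4 21 (decExp (lget expF4 21 0)) = true := by
  decide +kernel

theorem hAllF4_r22 : hCheck chevF4 22 (decExp (lget expF4 22 0)) = true := by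
  decide +kernel

theorem hAllF4_r23 : hCheck chevF4 23 (decExp (lget expF4 23 0)) = true := by
  decide +kernel

theorem hAllF4_0' (r : ℕ) (h1 : 0 ≤ r) (h2 : r < 24) : hCheck chevF4 r (decExp (lget expF4 r 0)) = true := by
  have h : r = 0 ∨ r = 1 ∨ r = 2 ∨ r = 3 ∨ r = 4 ∨ r = 5 ∨ r = 6 ∨ r = 7 ∨ r = 8 ∨ r = 9 ∨ r = 10 ∨ r = 11 ∨ r = 12 ∨ r = 13 ∨ r = 14 ∨ r = 15 ∨ r = 16 ∨ r = 17 ∨ r = 18 ∨ r = 19 ∨ r = 20 ∨ r = 21 ∨ r = 22 ∨ r = 23 := by omega
  rcases h with rfl | rfl | rfl | rfl | rfl | rfl | rfl | rfl | rfl | rfl | rfl | rfl | rfl | rfl | rfl | rfl | rfl | rfl | rfl | rfl | rfl | rfl | rfl | rfl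
  exacts [hAllF4_r0, hAllF4_r1, hAllF4_r2, hAllF4_r3, hAllF4_r4, hAllF4_r5, hAllF4_r6, hAllF4_r7, hAllF4_r8, hAllF4_r9, hAllF4_r10, hAllF4_r11, hAllF4_r12, hAllF4_r13, hAllF4_r14, hAllF4_r15, hAllF4_r16, hAllF4_r17, hAllF4_r18, hAllF4_r19, hAllF4_r20, hAllF4_r21, hAllF4_r22, hAllF4_r23]

theorem hAllF4_r24 : hCheck chevF4 24 (decExp (lget expF4 24 0)) = true := by
  decide +kernel

theorem hAllF4_r25 : hCheck chevF4 25 (decExp (lget expF4 25 0)) = true := by
  decide +kernel

theorem hAllF4_r26 : hCheck chevF4 26 (decExp (lget expF4 26 0)) = true := by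
  decide +kernel

theorem hAllF4_r27 : hCheck chevF4 27 (decExp (lget expF4 27 0)) = true := by
  decide +kernel

theorem hAllF4_r28 : hCheck chevF4 28 (decExp (lget expF4 28 0)) = true := by
  decide +kernel

theorem hAllF4_r29 : hCheck chevF4 29 (decExp (lget expF4 29 0)) = true := by
  decide +kernel

theorem hAllF4_r30 : hCheck chevF4 30 (decExp (lget expF4 30 0)) = true := by
  decide +kernel

theorem hAllF4_r31 : hCheck chevF4 31 (decExp (lget expF4 31 0)) = true := by
  decide +kernel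

theorem hAllF4_r32 : hCheck chevF4 32 (decExp (lget expF4 32 0)) = true := by
  decide +kernel

theorem hAllF4_r33 : hCheck chevF4 33 (decExp (lget expF4 33 0)) = true := by
  decide +kernel

theorem hAllF4_r34 : hCheck chevF4 34 (decExp (lget expF4 34 0)) = true := by
  decide +kernel

theorem hAllF4_r35 : hCheck chevF4 35 (decExp (lget expF4 35 0)) = true := by
  decide +kernel

theorem hAllF4_r36 : hCheck chevF4 36 (decExp (lget expF4 36 0)) = true := by
  decide +kernel

theorem hAllF4_r37 : hCheck chevF4 37 (decExp (lget expF4 37 0)) = true := by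
  decide +kernel

theorem hAllF4_r38 : hCheck chevF4 38 (decExp (lget expF4 38 0)) = true := by
  decide +kernel

theorem hAllF4_r39 : hCheck chevF4 39 (decExp (lget expF4 39 0)) = true := by
  decide +kernel

theorem hAllF4_r40 : hCheck chevF4 40 (decExp (lget expF4 40 0)) = true := by
  decide +kernel

theorem hAllF4_r41 : hCheck chevF4 41 (decExp (lget expF4 41 0)) = true := by
  decide +kernel

theorem hAllF4_r42 : hCheck chevF4 42 (decExp (lget expF4 42 0)) = true := by
  decide +kernel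

theorem hAllF4_r43 : hCheck chevF4 43 (decExp (lget expF4 43 0)) = true := by
  decide +kernel

theorem hAllF4_r44 : hCheck chevF4 44 (decExp (lget expF4 44 0)) = true := by
  decide +kernel

theorem hAllF4_r45 : hCheck chevF4 45 (decExp (lget expF4 45 0)) = true := by
  decide +kernel

theorem hAllF4_r46 : hCheck chevF4 46 (decExp (lget expF4 46 0)) = true := by
  decide +kernel

theorem hAllF4_r47 : hCheck chevF4 47 (decExp (lget expF4 47 0)) = true := by
  decide +kernel

theorem hAllF4_24' (r : ℕ) (h1 : 24 ≤ r) (h2 : r < 48) : hCheck chevF4 r (decExp (lget expF4 r 0)) = true := by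
  have h : r = 24 ∨ r = 25 ∨ r = 26 ∨ r = 27 ∨ r = 28 ∨ r = 29 ∨ r = 30 ∨ r = 31 ∨ r = 32 ∨ r = 33 ∨ r = 34 ∨ r = 35 ∨ r = 36 ∨ r = 37 ∨ r = 38 ∨ r = 39 ∨ r = 40 ∨ r = 41 ∨ r = 42 ∨ r = 43 ∨ r = 44 ∨ r = 45 ∨ r = 46 ∨ r = 47 := by omega
  rcases h with rfl | rfl | rfl | rfl | rfl | rfl | rfl | rfl | rfl | rfl | rfl | rfl | rfl | rfl | rfl | rfl | rfl | rfl | rfl | rfl | rfl | rfl | rfl | rfl
  exacts [hAllF4_r24, hAllF4_r25, hAllF4_r26, hAllF4_r27, hAllF4_r28, hAllF4_r29, hAllF4_r30, hAllF4_r31, hAllF4_r32, hAllF4_r33, hAllF4_r34, hAllF4_r35, hAllF4_r36, hAllF4_r37, hAllF4_r38, hAllF4_r39, hAllF4_r40, hAllF4_r41, hAllF4_r42, hAllF4_r43, hAllF4_r44, hAllF4_r45, hAllF4_r46, hAllF4_r47]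

end Cfsg.Agent.Helper18
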