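import Cfsg.Agent.Lib.Helper18.ChevTorus
import Cfsg.Prelude.Def_LieTypes
import Cfsg.Prelude.Def_ChevB2

set_option autoImplicit false
set_option maxRecDepth 100000

namespace Cfsg.Agent.Helper18

open Cfsg.Lie

theorem linE8_r180 : linCheck chevE8 expE8 180 = true := by
  decide +kernel

theorem linE8_r181 : linCheck chevE8 expE8 181 = true := by
  decide +kernel

theorem linE8_r182 : linCheck chevE8 expE8 182 = true := by
  decide +kernel

theorem linE8_r183 : linCheck chevE8 expE8 183 = true := by
  decide +kernel

theorem linE8_r184 : linCheck chevE8 expE8 184 = true := by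
  decide +kernel

theorem linE8_r185 : linCheck chevE8 expE8 185 = true := by
  decide +kernel

theorem linE8_r186 : linCheck chevE8 expE8 186 = true := by
  decide +kernel

theorem linE8_r187 : linCheck chevE8 expE8 187 = true := by
  decide +kernel

theorem linE8_r188 : linCheck chevE8 expE8 188 = true := by
  decide +kernel

theorem linE8_r189 : linCheck chevE8 expE8 189 = true := by
  decide +kernel

theorem linE8_180' (r : ℕ) (h1 : 180 ≤ r) (h2 : r < 190) : linCheck chevE8 expE8 r = true := by
  have h : r = 180 ∨ r = 181 ∨ r = 182 ∨ r = 183 ∨ r = 184 ∨ r = 185 ∨ r = 186 ∨ r = 187 ∨ r = 188 ∨ r = 189 := by omega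
  rcases h with rfl | rfl | rfl | rfl | rfl | rfl | rfl | rfl | rfl | rfl
  exacts [linE8_r180, linE8_r181, linE8_r182, linE8_r183, linE8_r184, linE8_r185, linE8_r186, linE8_r187, linE8_r188, linE8_r189]

theorem linE8_r190 : linCheck chevE8 expE8 190 = true := by
  decide +kernel

theorem linE8_r191 : linCheck chevE8 expE8 191 = true := by
  decide +kernel

theorem linE8_r192 : linCheck chevE8 expE8 192 = true := by
  decide +kernel

theorem linE8_r193 : linCheck chevE8 expE8 193 = true := by
  decide +kernel

theorem linE8_r194 : linCheck chevE8 expE8 194 = true := by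
  decide +kernel

theorem linE8_r195 : linCheck chevE8 expE8 195 = true := by
  decide +kernel

theorem linE8_r196 : linCheck chevE8 expE8 196 = true := by
  decide +kernel

theorem linE8_r197 : linCheck chevE8 expE8 197 = true := by
  decide +kernel

theorem linE8_r198 : linCheck chevE8 expE8 198 = true := by
  decide +kernel

theorem linE8_r199 : linCheck chevE8 expE8 199 = true := by
  decide +kernel

theorem linE8_190' (r : ℕ) (h1 : 190 ≤ r) (h2 : r < 200) : linCheck chevE8 expE8 r = true := by
  have h : r = 190 ∨ r = 191 ∨ r = 192 ∨ r = 193 ∨ r = 194 ∨ r = 195 ∨ r = 196 ∨ r = 197 ∨ r = 198 ∨ r = 199 := by omega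
  rcases h with rfl | rfl | rfl | rfl | rfl | rfl | rfl | rfl | rfl | rfl
  exacts [linE8_r190, linE8_r191, linE8_r192, linE8_r193, linE8_r194, linE8_r195, linE8_r196, linE8_r197, linE8_r198, linE8_r199]

end Cfsg.Agent.Helper18
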