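import Cfsg.Agent.Lib.Helper18.ChevTorus
import Cfsg.Prelude.Def_LieTypes
import Cfsg.Prelude.Def_ChevB2

set_option autoImplicit false
set_option maxRecDepth 100000

namespace Cfsg.Agent.Helper18

open Cfsg.Lie

theorem linG2_r0 : linCheck chevG2 expG2 0 = true := by
  decide +kernel

theorem linG2_r1 : linCheck chevG2 expG2 1 = true := by
  decide +kernel

theorem linG2_r2 : linCheck chevG2 expG2 2 = true := by
  decide +kernel

theorem linG2_r3 : linCheck chevG2 expG2 3 = true := by
  decide +kernel

theorem linG2_r4 : linCheck chevG2 expG2 4 = true := by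
  decide +kernel

theorem linG2_r5 : linCheck chevG2 expG2 5 = true := by
  decide +kernel

theorem linG2_r6 : linCheck chevG2 expG2 6 = true := by
  decide +kernel

theorem linG2_r7 : linCheck chevG2 expG2 7 = true := by
  decide +kernel

theorem linG2_r8 : linCheck chevG2 expG2 8 = true := by
  decide +kernel

theorem linG2_r9 : linCheck chevG2 expG2 9 = true := by
  decide +kernel

theorem linG2_r10 : linCheck chevG2 expG2 10 = true := by
  decide +kernel

theorem linG2_r11 : linCheck chevG2 expG2 11 = true := by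
  decide +kernel

theorem linG2_0' (r : ℕ) (h1 : 0 ≤ r) (h2 : r < 12) : linCheck chevG2 expG2 r = true := by
  have h : r = 0 ∨ r = 1 ∨ r = 2 ∨ r = 3 ∨ r = 4 ∨ r = 5 ∨ r = 6 ∨ r = 7 ∨ r = 8 ∨ r = 9 ∨ r = 10 ∨ r = 11 := by omega
  rcases h with rfl | rfl | rfl | rfl | rfl | rfl | rfl | rfl | rfl | rfl | rfl | rfl
  exacts [linG2_r0, linG2_r1, linG2_r2, linG2_r3, linG2_r4, linG2_r5, linG2_r6, linG2_r7, linG2_r8, linG2_r9, linG2_r10, linG2_r11]

theorem linB2_r0 : linCheck chevB2 expB2 0 = true := by
  decide +kernel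

theorem linB2_r1 : linCheck chevB2 expB2 1 = true := by
  decide +kernel

theorem linB2_r2 : linCheck chevB2 expB2 2 = true := by
  decide +kernel

theorem linB2_r3 : linCheck chevB2 expB2 3 = true := by
  decide +kernel

theorem linB2_r4 : linCheck chevB2 expB2 4 = true := by
  decide +kernel

theorem linB2_r5 : linCheck chevB2 expB2 5 = true := by
  decide +kernel

theorem linB2_r6 : linCheck chevB2 expB2 6 = true := by
  decide +kernel

theorem linB2_r7 : linCheck chevB2 expB2 7 = true := by
  decide +kernel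

theorem linB2_0' (r : ℕ) (h1 : 0 ≤ r) (h2 : r < 8) : linCheck chevB2 expB2 r = true := by
  have h : r = 0 ∨ r = 1 ∨ r = 2 ∨ r = 3 ∨ r = 4 ∨ r = 5 ∨ r = 6 ∨ r = 7 := by omega
  rcases h with rfl | rfl | rfl | rfl | rfl | rfl | rfl | rfl
  exacts [linB2_r0, linB2_r1, linB2_r2, linB2_r3, linB2_r4, linB2_r5, linB2_r6, linB2_r7]

theorem linD4_r0 : linCheck chevD4 expD4 0 = true := by
  decide +kernel

theorem linD4_r1 : linCheck chevD4 expD4 1 = true := by
  decide +kernel

theorem linD4_r2 : linCheck chevD4 expD4 2 = true := by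
  decide +kernel

theorem linD4_r3 : linCheck chevD4 expD4 3 = true := by
  decide +kernel

theorem linD4_r4 : linCheck chevD4 expD4 4 = true := by
  decide +kernel

theorem linD4_r5 : linCheck chevD4 expD4 5 = true := by
  decide +kernel

theorem linD4_r6 : linCheck chevD4 expD4 6 = true := by
  decide +kernel

theorem linD4_r7 : linCheck chevD4 expD4 7 = true := by
  decide +kernel

theorem linD4_r8 : linCheck chevD4 expD4 8 = true := by
  decide +kernel

theorem linD4_r9 : linCheck chevD4 expD4 9 = true := by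
  decide +kernel

theorem linD4_r10 : linCheck chevD4 expD4 10 = true := by
  decide +kernel

theorem linD4_r11 : linCheck chevD4 expD4 11 = true := by
  decide +kernel

theorem linD4_r12 : linCheck chevD4 expD4 12 = true := by
  decide +kernel

theorem linD4_r13 : linCheck chevD4 expD4 13 = true := by
  decide +kernel

theorem linD4_r14 : linCheck chevD4 expD4 14 = true := by
  decide +kernel

theorem linD4_r15 : linCheck chevD4 expD4 15 = true := by
  decide +kernel

theorem linD4_r16 : linCheck chevD4 expD4 16 = true := by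
  decide +kernel

theorem linD4_r17 : linCheck chevD4 expD4 17 = true := by
  decide +kernel

theorem linD4_r18 : linCheck chevD4 expD4 18 = true := by
  decide +kernel

theorem linD4_r19 : linCheck chevD4 expD4 19 = true := by
  decide +kernel

theorem linD4_r20 : linCheck chevD4 expD4 20 = true := by
  decide +kernel

theorem linD4_r21 : linCheck chevD4 expD4 21 = true := by
  decide +kernel

theorem linD4_r22 : linCheck chevD4 expD4 22 = true := by
  decide +kernel

theorem linD4_r23 : linCheck chevD4 expD4 23 = true := by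
  decide +kernel

theorem linD4_0' (r : ℕ) (h1 : 0 ≤ r) (h2 : r < 24) : linCheck chevD4 expD4 r = true := by
  have h : r = 0 ∨ r = 1 ∨ r = 2 ∨ r = 3 ∨ r = 4 ∨ r = 5 ∨ r = 6 ∨ r = 7 ∨ r = 8 ∨ r = 9 ∨ r = 10 ∨ r = 11 ∨ r = 12 ∨ r = 13 ∨ r = 14 ∨ r = 15 ∨ r = 16 ∨ r = 17 ∨ r = 18 ∨ r = 19 ∨ r = 20 ∨ r = 21 ∨ r = 22 ∨ r = 23 := by omega
  rcases h with rfl | rfl | rfl | rfl | rfl | rfl | rfl | rfl | rfl | rfl | rfl | rfl | rfl | rfl | rfl | rfl | rfl | rfl | rfl | rfl | rfl | rfl | rfl | rfl
  exacts [linD4_r0, linD4_r1, linD4_r2, linD4_r3, linD4_r4, linD4_r5, linD4_r6, linD4_r7, linD4_r8, linD4_r9, linD4_r10, linD4_r11, linD4_r12, linD4_r13, linD4_r14, linD4_r15, linD4_r16, linD4_r17, linD4_r18, linD4_r19, linD4_r20, linD4_r21, linD4_r22, linD4_r23]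

theorem linF4_r0 : linCheck chevF4 expF4 0 = true := by
  decide +kernel

theorem linF4_r1 : linCheck chevF4 expF4 1 = true := by
  decide +kernel

theorem linF4_r2 : linCheck chevF4 expF4 2 = true := by
  decide +kernel

theorem linF4_r3 : linCheck chevF4 expF4 3 = true := by
  decide +kernel

theorem linF4_r4 : linCheck chevF4 expF4 4 = true := by
  decide +kernel

theorem linF4_r5 : linCheck chevF4 expF4 5 = true := by
  decide +kernel

theorem linF4_r6 : linCheck chevF4 expF4 6 = true := by
  decide +kernel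

theorem linF4_r7 : linCheck chevF4 expF4 7 = true := by
  decide +kernel

theorem linF4_r8 : linCheck chevF4 expF4 8 = true := by
  decide +kernel

theorem linF4_r9 : linCheck chevF4 expF4 9 = true := by
  decide +kernel

theorem linF4_r10 : linCheck chevF4 expF4 10 = true := by
  decide +kernel

theorem linF4_r11 : linCheck chevF4 expF4 11 = true := by
  decide +kernel

theorem linF4_r12 : linCheck chevF4 expF4 12 = true := by
  decide +kernel

theorem linF4_r13 : linCheck chevF4 expF4 13 = true := by
  decide +kernel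

theorem linF4_r14 : linCheck chevF4 expF4 14 = true := by
  decide +kernel

theorem linF4_r15 : linCheck chevF4 expF4 15 = true := by
  decide +kernel

theorem linF4_r16 : linCheck chevF4 expF4 16 = true := by
  decide +kernel

theorem linF4_r17 : linCheck chevF4 expF4 17 = true := by
  decide +kernel

theorem linF4_r18 : linCheck chevF4 expF4 18 = true := by
  decide +kernel

theorem linF4_r19 : linCheck chevF4 expF4 19 = true := by
  decide +kernel

theorem linF4_r20 : linCheck chevF4 expF4 20 = true := by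
  decide +kernel

theorem linF4_r21 : linCheck chevF4 expF4 21 = true := by
  decide +kernel

theorem linF4_r22 : linCheck chevF4 expF4 22 = true := by
  decide +kernel

theorem linF4_r23 : linCheck chevF4 expF4 23 = true := by
  decide +kernel

theorem linF4_0' (r : ℕ) (h1 : 0 ≤ r) (h2 : r < 24) : linCheck chevF4 expF4 r = true := by
  have h : r = 0 ∨ r = 1 ∨ r = 2 ∨ r = 3 ∨ r = 4 ∨ r = 5 ∨ r = 6 ∨ r = 7 ∨ r = 8 ∨ r = 9 ∨ r = 10 ∨ r = 11 ∨ r = 12 ∨ r = 13 ∨ r = 14 ∨ r = 15 ∨ r = 16 ∨ r = 17 ∨ r = 18 ∨ r = 19 ∨ r = 20 ∨ r = 21 ∨ r = 22 ∨ r = 23 := by omega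
  rcases h with rfl | rfl | rfl | rfl | rfl | rfl | rfl | rfl | rfl | rfl | rfl | rfl | rfl | rfl | rfl | rfl | rfl | rfl | rfl | rfl | rfl | rfl | rfl | rfl
  exacts [linF4_r0, linF4_r1, linF4_r2, linF4_r3, linF4_r4, linF4_r5, linF4_r6, linF4_r7, linF4_r8, linF4_r9, linF4_r10, linF4_r11, linF4_r12, linF4_r13, linF4_r14, linF4_r15, linF4_r16, linF4_r17, linF4_r18, linF4_r19, linF4_r20, linF4_r21, linF4_r22, linF4_r23]

theorem linF4_r24 : linCheck chevF4 expF4 24 = true := by
  decide +kernel

theorem linF4_r25 : linCheck chevF4 expF4 25 = true := by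
  decide +kernel

theorem linF4_r26 : linCheck chevF4 expF4 26 = true := by
  decide +kernel

theorem linF4_r27 : linCheck chevF4 expF4 27 = true := by
  decide +kernel

theorem linF4_r28 : linCheck chevF4 expF4 28 = true := by
  decide +kernel

theorem linF4_r29 : linCheck chevF4 expF4 29 = true := by
  decide +kernel

theorem linF4_r30 : linCheck chevF4 expF4 30 = true := by
  decide +kernel

theorem linF4_r31 : linCheck chevF4 expF4 31 = true := by
  decide +kernel

theorem linF4_r32 : linCheck chevF4 expF4 32 = true := by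
  decide +kernel

theorem linF4_r33 : linCheck chevF4 expF4 33 = true := by
  decide +kernel

theorem linF4_r34 : linCheck chevF4 expF4 34 = true := by
  decide +kernel

theorem linF4_r35 : linCheck chevF4 expF4 35 = true := by
  decide +kernel

theorem linF4_r36 : linCheck chevF4 expF4 36 = true := by
  decide +kernel

theorem linF4_r37 : linCheck chevF4 expF4 37 = true := by
  decide +kernel

theorem linF4_r38 : linCheck chevF4 expF4 38 = true := by
  decide +kernel

theorem linF4_r39 : linCheck chevF4 expF4 39 = true := by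
  decide +kernel

theorem linF4_r40 : linCheck chevF4 expF4 40 = true := by
  decide +kernel

theorem linF4_r41 : linCheck chevF4 expF4 41 = true := by
  decide +kernel

theorem linF4_r42 : linCheck chevF4 expF4 42 = true := by
  decide +kernel

theorem linF4_r43 : linCheck chevF4 expF4 43 = true := by
  decide +kernel

theorem linF4_r44 : linCheck chevF4 expF4 44 = true := by
  decide +kernel

theorem linF4_r45 : linCheck chevF4 expF4 45 = true := by
  decide +kernel

theorem linF4_r46 : linCheck chevF4 expF4 46 = true := by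
  decide +kernel

theorem linF4_r47 : linCheck chevF4 expF4 47 = true := by
  decide +kernel

theorem linF4_24' (r : ℕ) (h1 : 24 ≤ r) (h2 : r < 48) : linCheck chevF4 expF4 r = true := by
  have h : r = 24 ∨ r = 25 ∨ r = 26 ∨ r = 27 ∨ r = 28 ∨ r = 29 ∨ r = 30 ∨ r = 31 ∨ r = 32 ∨ r = 33 ∨ r = 34 ∨ r = 35 ∨ r = 36 ∨ r = 37 ∨ r = 38 ∨ r = 39 ∨ r = 40 ∨ r = 41 ∨ r = 42 ∨ r = 43 ∨ r = 44 ∨ r = 45 ∨ r = 46 ∨ r = 47 := by omega
  rcases h with rfl | rfl | rfl | rfl | rfl | rfl | rfl | rfl | rfl | rfl | rfl | rfl | rfl | rfl | rfl | rfl | rfl | rfl | rfl | rfl | rfl | rfl | rfl | rfl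
  exacts [linF4_r24, linF4_r25, linF4_r26, linF4_r27, linF4_r28, linF4_r29, linF4_r30, linF4_r31, linF4_r32, linF4_r33, linF4_r34, linF4_r35, linF4_r36, linF4_r37, linF4_r38, linF4_r39, linF4_r40, linF4_r41, linF4_r42, linF4_r43, linF4_r44, linF4_r45, linF4_r46, linF4_r47]

end Cfsg.Agent.Helper18
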