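import Mathlib
import Cfsg.Agent.Lib.Helper18.O3K0

/-!
# S2363 server, second tool (helper18): the `q`-form of `concl_of_mul`
-/

set_option autoImplicit false

namespace Cfsg.Agent.Helper18.O3K

/-- `d * |G| = q ^ N * P`, `q = p ^ f`, `p ∤ d`, `p ∤ P`, `P < q ^ s`, `3 s ≤ 5 N` give the conclusion -/
theorem concl_of_q {p : ℕ} (hp : p.Prime) {G : Type*} [Group G] [Finite G] (q f N s P d : ℕ)
    (hq : q = p ^ f) (h : d * Nat.card G = q ^ N * P) (hd : ¬ p ∣ d) (hP : ¬ p ∣ P)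
    (hlt : P < q ^ s) (hs : 3 * s ≤ 5 * N) : Concl p G := by
  have hq1 : 1 ≤ q := by
    rw [hq]
    exact pow_pos hp.pos f
  have hd1 : 1 ≤ d := Nat.pos_of_ne_zero (by rintro rfl; exact hd (dvd_zero p))
  refine concl_of_mul hp d (f * N) P (by rw [h, hq, pow_mul]) hd hP ?_
  calc P ^ 3 < (q ^ s) ^ 3 := Nat.pow_lt_pow_left hlt (by norm_num)
    _ = q ^ (3 * s) := by rw [← pow_mul, mul_comm]
    _ ≤ q ^ (5 * N) := Nat.pow_le_pow_right hq1 hs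
    _ = p ^ (5 * (f * N)) := by rw [hq, ← pow_mul]; ring_nf
    _ = 1 * p ^ (5 * (f * N)) := (one_mul _).symm
    _ ≤ d ^ 3 * p ^ (5 * (f * N)) := Nat.mul_le_mul_right _ (Nat.one_le_pow _ _ hd1)

/-- `a < q ^ s`, `b ≤ q ^ t` give `a * b < q ^ (s + t)` -/
theorem mul_lt_pow {q a b s t : ℕ} (hq : 1 ≤ q) (ha : a < q ^ s) (hb : b ≤ q ^ t) : a * b < q ^ (s + t) := by
  rw [pow_add]
  calc a * b ≤ a * q ^ t := Nat.mul_le_mul_left _ hb
    _ < q ^ s * q ^ t := Nat.mul_lt_mul_of_pos_right ha (pow_pos hq t)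

/-- `q ^ e - 1 < q ^ e` -/
theorem pow_sub_one_lt {q : ℕ} (hq : 1 ≤ q) (e : ℕ) : q ^ e - 1 < q ^ e :=
  Nat.sub_lt (pow_pos hq e) one_pos

/-- `q ^ e - 1 ≤ q ^ e` -/
theorem pow_sub_one_le (q e : ℕ) : q ^ e - 1 ≤ q ^ e := Nat.sub_le _ _

end Cfsg.Agent.Helper18.O3K
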