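import Cfsg.Agent.Lib.Helper18.ChevTorusCard
import Cfsg.Agent.Lib.Helper18.TorusAll

set_option autoImplicit false
set_option Elab.async false
set_option maxHeartbeats 2000000

namespace Cfsg.Agent.Helper18

open Cfsg.Lie

def smP_G2 : List (List ℤ) := [[0, -1], [1, 2]]
def smPi_G2 : List (List ℤ) := [[2, 1], [-1, 0]]
def smQ_G2 : List (List ℤ) := [[1, 2], [0, 1]]
def smQi_G2 : List (List ℤ) := [[1, -2], [0, 1]]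
def smd_G2 : List ℕ := [1, 1]
def smM_G2_0 : List ℤ := [-3, -3, -2, -1, -1, 0, 0, 1, 1, 2, 3, 3]
def smM_G2_1 : List ℤ := [-2, -1, -1, -1, 0, -1, 1, 0, 1, 1, 1, 2]
def smM_G2 : List (List ℤ) := [smM_G2_0, smM_G2_1]
theorem smith_G2_1 : ∀ i < chevG2.rank, chevG2.simple i < chevG2.nroots := by decide +kernel
theorem smith_G2_2 : matOfTbl chevG2.rank chevG2.rank smP_G2 * cartanA chevG2 * matOfTbl chevG2.rank chevG2.rank smQ_G2 =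
    Matrix.diagonal fun i : Fin chevG2.rank => ((lget smd_G2 i.val 0 : ℕ) : ℤ) := by decide +kernel
theorem smith_G2_3 : matOfTbl chevG2.rank chevG2.rank smP_G2 * matOfTbl chevG2.rank chevG2.rank smPi_G2 = 1 := by decide +kernel
theorem smith_G2_4 : matOfTbl chevG2.rank chevG2.rank smQ_G2 * matOfTbl chevG2.rank chevG2.rank smQi_G2 = 1 := by decide +kernel
theorem smith_G2_5 : cartanR chevG2 = cartanA chevG2 * matOfTbl chevG2.rank chevG2.nroots smM_G2 := by decide +kernel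
theorem smith_G2 : SmithData chevG2 smP_G2 smPi_G2 smQ_G2 smQi_G2 smd_G2 smM_G2 :=
  ⟨smith_G2_1, smith_G2_2, smith_G2_3, smith_G2_4, smith_G2_5⟩

def smP_B2 : List (List ℤ) := [[0, -1], [1, 2]]
def smPi_B2 : List (List ℤ) := [[2, 1], [-1, 0]]
def smQ_B2 : List (List ℤ) := [[1, 2], [0, 1]]
def smQi_B2 : List (List ℤ) := [[1, -2], [0, 1]]
def smd_B2 : List ℕ := [1, 2]
def smM_B2_0 : List ℤ := [-2, -1, -1, 0, 0, 1, 1, 2]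
def smM_B2_1 : List ℤ := [-1, -1, 0, -1, 1, 0, 1, 1]
def smM_B2 : List (List ℤ) := [smM_B2_0, smM_B2_1]
theorem smith_B2_1 : ∀ i < chevB2.rank, chevB2.simple i < chevB2.nroots := by decide +kernel
theorem smith_B2_2 : matOfTbl chevB2.rank chevB2.rank smP_B2 * cartanA chevB2 * matOfTbl chevB2.rank chevB2.rank smQ_B2 =
    Matrix.diagonal fun i : Fin chevB2.rank => ((lget smd_B2 i.val 0 : ℕ) : ℤ) := by decide +kernel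
theorem smith_B2_3 : matOfTbl chevB2.rank chevB2.rank smP_B2 * matOfTbl chevB2.rank chevB2.rank smPi_B2 = 1 := by decide +kernel
theorem smith_B2_4 : matOfTbl chevB2.rank chevB2.rank smQ_B2 * matOfTbl chevB2.rank chevB2.rank smQi_B2 = 1 := by decide +kernel
theorem smith_B2_5 : cartanR chevB2 = cartanA chevB2 * matOfTbl chevB2.rank chevB2.nroots smM_B2 := by decide +kernel
theorem smith_B2 : SmithData chevB2 smP_B2 smPi_B2 smQ_B2 smQi_B2 smd_B2 smM_B2 :=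
  ⟨smith_B2_1, smith_B2_2, smith_B2_3, smith_B2_4, smith_B2_5⟩

def smP_D4 : List (List ℤ) := [[-1, 0, 0, 0], [-2, -1, 0, 0], [-3, -2, -1, 0], [2, 2, 1, 1]]
def smPi_D4 : List (List ℤ) := [[-1, 0, 0, 0], [2, -1, 0, 0], [-1, 2, -1, 0], [-1, 0, 1, 1]]
def smQ_D4 : List (List ℤ) := [[0, 0, 0, 1], [1, 0, 0, 2], [0, 1, -1, 1], [0, 0, 1, 2]]
def smQi_D4 : List (List ℤ) := [[-2, 1, 0, 0], [-3, 0, 1, 1], [-2, 0, 0, 1], [1, 0, 0, 0]]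
def smd_D4 : List ℕ := [1, 1, 2, 2]
def smM_D4_0 : List ℤ := [-1, -1, -1, -1, -1, -1, 0, 0, 0, 0, 0, 0, 0, 0, 0, 0, 0, 0, 1, 1, 1, 1, 1, 1]
def smM_D4_1 : List ℤ := [-2, -1, -1, -1, -1, 0, -1, -1, -1, -1, 0, 0, 0, 0, 1, 1, 1, 1, 0, 1, 1, 1, 1, 2]
def smM_D4_2 : List ℤ := [-1, -1, -1, 0, 0, 0, -1, -1, 0, 0, -1, 0, 0, 1, 0, 0, 1, 1, 0, 0, 0, 1, 1, 1]
def smM_D4_3 : List ℤ := [-1, -1, 0, -1, 0, 0, -1, 0, -1, 0, 0, -1, 1, 0, 0, 1, 0, 1, 0, 0, 1, 0, 1, 1]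
def smM_D4 : List (List ℤ) := [smM_D4_0, smM_D4_1, smM_D4_2, smM_D4_3]
theorem smith_D4_1 : ∀ i < chevD4.rank, chevD4.simple i < chevD4.nroots := by decide +kernel
theorem smith_D4_2 : matOfTbl chevD4.rank chevD4.rank smP_D4 * cartanA chevD4 * matOfTbl chevD4.rank chevD4.rank smQ_D4 =
    Matrix.diagonal fun i : Fin chevD4.rank => ((lget smd_D4 i.val 0 : ℕ) : ℤ) := by decide +kernel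
theorem smith_D4_3 : matOfTbl chevD4.rank chevD4.rank smP_D4 * matOfTbl chevD4.rank chevD4.rank smPi_D4 = 1 := by decide +kernel
theorem smith_D4_4 : matOfTbl chevD4.rank chevD4.rank smQ_D4 * matOfTbl chevD4.rank chevD4.rank smQi_D4 = 1 := by decide +kernel
theorem smith_D4_5 : cartanR chevD4 = cartanA chevD4 * matOfTbl chevD4.rank chevD4.nroots smM_D4 := by decide +kernel
theorem smith_D4 : SmithData chevD4 smP_D4 smPi_D4 smQ_D4 smQi_D4 smd_D4 smM_D4 :=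
  ⟨smith_D4_1, smith_D4_2, smith_D4_3, smith_D4_4, smith_D4_5⟩

def smP_F4 : List (List ℤ) := [[-1, 0, 0, 0], [1, 0, -1, 0], [-2, -1, 0, 0], [-2, -2, -2, -1]]
def smPi_F4 : List (List ℤ) := [[-1, 0, 0, 0], [2, 0, -1, 0], [-1, -1, 0, 0], [0, 2, 2, -1]]
def smQ_F4 : List (List ℤ) := [[0, 0, 1, -2], [1, 0, 2, -4], [0, 0, 2, -3], [0, 1, 2, -2]]
def smQi_F4 : List (List ℤ) := [[-2, 1, 0, 0], [2, 0, -2, 1], [-3, 0, 2, 0], [-2, 0, 1, 0]]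
def smd_F4 : List ℕ := [1, 1, 1, 1]
def smM_F4_0 : List ℤ := [-2, -2, -2, -2, -2, -2, -2, -1, -1, -1, -1, -1, -1, -1, -1, 0, 0, 0, 0, 0, 0, 0, 0, 0, 0, 0, 0, 0, 0, 0, 0, 0, 0, 1, 1, 1, 1, 1, 1, 1, 1, 2, 2, 2, 2, 2, 2, 2]
def smM_F4_1 : List ℤ := [-4, -4, -4, -3, -2, -2, -2, -3, -2, -2, -2, -1, -1, -1, 0, -2, -2, -2, -1, -1, -1, 0, 0, 0, 0, 0, 0, 1, 1, 1, 2, 2, 2, 0, 1, 1, 1, 2, 2, 2, 3, 2, 2, 2, 3, 4, 4, 4]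
def smM_F4_2 : List ℤ := [-3, -3, -2, -2, -2, -1, -1, -2, -2, -1, -1, -1, -1, 0, 0, -2, -1, -1, -1, -1, 0, -1, -1, 0, 0, 1, 1, 0, 1, 1, 1, 1, 2, 0, 0, 1, 1, 1, 1, 2, 2, 1, 1, 2, 2, 2, 3, 3]
def smM_F4_3 : List ℤ := [-2, -1, -1, -1, -1, -1, 0, -1, -1, -1, 0, -1, 0, 0, 0, -1, -1, 0, -1, 0, 0, -1, 0, -1, 1, 0, 1, 0, 0, 1, 0, 1, 1, 0, 0, 0, 1, 0, 1, 1, 1, 0, 1, 1, 1, 1, 1, 2]
def smM_F4 : List (List ℤ) := [smM_F4_0, smM_F4_1, smM_F4_2, smM_F4_3]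
theorem smith_F4_1 : ∀ i < chevF4.rank, chevF4.simple i < chevF4.nroots := by decide +kernel
theorem smith_F4_2 : matOfTbl chevF4.rank chevF4.rank smP_F4 * cartanA chevF4 * matOfTbl chevF4.rank chevF4.rank smQ_F4 =
    Matrix.diagonal fun i : Fin chevF4.rank => ((lget smd_F4 i.val 0 : ℕ) : ℤ) := by decide +kernel
theorem smith_F4_3 : matOfTbl chevF4.rank chevF4.rank smP_F4 * matOfTbl chevF4.rank chevF4.rank smPi_F4 = 1 := by decide +kernel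
theorem smith_F4_4 : matOfTbl chevF4.rank chevF4.rank smQ_F4 * matOfTbl chevF4.rank chevF4.rank smQi_F4 = 1 := by decide +kernel
theorem smith_F4_5 : cartanR chevF4 = cartanA chevF4 * matOfTbl chevF4.rank chevF4.nroots smM_F4 := by decide +kernel
theorem smith_F4 : SmithData chevF4 smP_F4 smPi_F4 smQ_F4 smQi_F4 smd_F4 smM_F4 :=
  ⟨smith_F4_1, smith_F4_2, smith_F4_3, smith_F4_4, smith_F4_5⟩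

def smP_E6 : List (List ℤ) := [[-1, 0, 0, 0, 0, 0], [0, -1, 0, 0, 0, 0], [1, -2, 0, -1, 0, 0], [2, -3, 0, -2, -1, 0], [-2, 1, -1, 0, 0, 0], [-5, 0, -4, -3, -2, -1]]
def smPi_E6 : List (List ℤ) := [[-1, 0, 0, 0, 0, 0], [0, -1, 0, 0, 0, 0], [2, -1, 0, 0, -1, 0], [-1, 2, -1, 0, 0, 0], [0, -1, 2, -1, 0, 0], [0, 0, -1, 2, 4, -1]]
def smQ_E6 : List (List ℤ) := [[0, 0, 0, 0, 1, -2], [0, 0, 0, 0, 2, -3], [1, 0, 0, 0, 2, -4], [0, 1, 0, 0, 4, -6], [0, 0, 1, 0, 4, -5], [0, 0, 0, 1, 4, -4]]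
def smQi_E6 : List (List ℤ) := [[-2, 0, 1, 0, 0, 0], [0, -2, 0, 1, 0, 0], [2, -3, 0, 0, 1, 0], [4, -4, 0, 0, 0, 1], [-3, 2, 0, 0, 0, 0], [-2, 1, 0, 0, 0, 0]]
def smd_E6 : List ℕ := [1, 1, 1, 1, 1, 3]
def smM_E6_0 : List ℤ := [-1, -1, -1, -1, -1, -1, -1, -1, -1, -1, -1, -1, -1, -1, -1, -1, 0, 0, 0, 0, 0, 0, 0, 0, 0, 0, 0, 0, 0, 0, 0, 0, 0, 0, 0, 0, 0, 0, 0, 0, 0, 0, 0, 0, 0, 0, 0, 0, 0, 0, 0, 0, 0, 0, 0, 0, 1, 1, 1, 1, 1, 1, 1, 1, 1, 1, 1, 1, 1, 1, 1, 1]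
def smM_E6_1 : List ℤ := [-2, -1, -1, -1, -1, -1, -1, -1, -1, -1, -1, 0, 0, 0, 0, 0, -1, -1, -1, -1, -1, -1, -1, -1, -1, -1, 0, 0, 0, 0, 0, 0, 0, 0, 0, 0, 0, 0, 0, 0, 0, 0, 0, 0, 0, 0, 1, 1, 1, 1, 1, 1, 1, 1, 1, 1, 0, 0, 0, 0, 0, 1, 1, 1, 1, 1, 1, 1, 1, 1, 1, 2]
def smM_E6_2 : List ℤ := [-2, -2, -2, -2, -2, -1, -1, -1, -1, -1, -1, -1, -1, -1, -1, 0, -1, -1, -1, -1, -1, -1, 0, 0, 0, 0, -1, -1, -1, -1, 0, 0, 0, 0, 0, 0, 0, 0, 0, 0, 0, 0, 1, 1, 1, 1, 0, 0, 0, 0, 1, 1, 1, 1, 1, 1, 0, 1, 1, 1, 1, 1, 1, 1, 1, 1, 1, 2, 2, 2, 2, 2]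
def smM_E6_3 : List ℤ := [-3, -3, -2, -2, -2, -2, -2, -2, -1, -1, -1, -1, -1, -1, 0, 0, -2, -2, -2, -1, -1, -1, -1, -1, -1, 0, -1, -1, -1, 0, -1, -1, -1, 0, 0, 0, 0, 0, 0, 1, 1, 1, 0, 1, 1, 1, 0, 1, 1, 1, 1, 1, 1, 2, 2, 2, 0, 0, 1, 1, 1, 1, 1, 1, 2, 2, 2, 2, 2, 2, 3, 3]
def smM_E6_4 : List ℤ := [-2, -2, -2, -1, -1, -2, -1, -1, -1, -1, 0, -1, -1, 0, 0, 0, -2, -1, -1, -1, -1, 0, -1, -1, 0, 0, -1, -1, 0, 0, -1, -1, 0, -1, -1, 0, 0, 1, 1, 0, 1, 1, 0, 0, 1, 1, 0, 0, 1, 1, 0, 1, 1, 1, 1, 2, 0, 0, 0, 1, 1, 0, 1, 1, 1, 1, 2, 1, 1, 2, 2, 2]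
def smM_E6_5 : List ℤ := [-1, -1, -1, -1, 0, -1, -1, 0, -1, 0, 0, -1, 0, 0, 0, 0, -1, -1, 0, -1, 0, 0, -1, 0, 0, 0, -1, 0, 0, 0, -1, 0, 0, -1, 0, -1, 1, 0, 1, 0, 0, 1, 0, 0, 0, 1, 0, 0, 0, 1, 0, 0, 1, 0, 1, 1, 0, 0, 0, 0, 1, 0, 0, 1, 0, 1, 1, 0, 1, 1, 1, 1]
def smM_E6 : List (List ℤ) := [smM_E6_0, smM_E6_1, smM_E6_2, smM_E6_3, smM_E6_4, smM_E6_5]
theorem smith_E6_1 : ∀ i < chevE6.rank, chevE6.simple i < chevE6.nroots := by decide +kernel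
theorem smith_E6_2 : matOfTbl chevE6.rank chevE6.rank smP_E6 * cartanA chevE6 * matOfTbl chevE6.rank chevE6.rank smQ_E6 =
    Matrix.diagonal fun i : Fin chevE6.rank => ((lget smd_E6 i.val 0 : ℕ) : ℤ) := by decide +kernel
theorem smith_E6_3 : matOfTbl chevE6.rank chevE6.rank smP_E6 * matOfTbl chevE6.rank chevE6.rank smPi_E6 = 1 := by decide +kernel
theorem smith_E6_4 : matOfTbl chevE6.rank chevE6.rank smQ_E6 * matOfTbl chevE6.rank chevE6.rank smQi_E6 = 1 := by decide +kernel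
theorem smith_E6_5 : cartanR chevE6 = cartanA chevE6 * matOfTbl chevE6.rank chevE6.nroots smM_E6 := by decide +kernel
theorem smith_E6 : SmithData chevE6 smP_E6 smPi_E6 smQ_E6 smQi_E6 smd_E6 smM_E6 :=
  ⟨smith_E6_1, smith_E6_2, smith_E6_3, smith_E6_4, smith_E6_5⟩

def smP_E7 : List (List ℤ) := [[-1, 0, 0, 0, 0, 0, 0], [0, -1, 0, 0, 0, 0, 0], [1, -2, 0, -1, 0, 0, 0], [2, -3, 0, -2, -1, 0, 0], [3, -4, 0, -3, -2, -1, 0], [-2, 1, -1, 0, 0, 0, 0], [-4, -1, -4, -4, -3, -2, -1]]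
def smPi_E7 : List (List ℤ) := [[-1, 0, 0, 0, 0, 0, 0], [0, -1, 0, 0, 0, 0, 0], [2, -1, 0, 0, 0, -1, 0], [-1, 2, -1, 0, 0, 0, 0], [0, -1, 2, -1, 0, 0, 0], [0, 0, -1, 2, -1, 0, 0], [0, 0, 0, -1, 2, 4, -1]]
def smQ_E7 : List (List ℤ) := [[0, 0, 0, 0, 0, 1, -2], [0, 0, 0, 0, 0, 2, -3], [1, 0, 0, 0, 0, 2, -4], [0, 1, 0, 0, 0, 4, -6], [0, 0, 1, 0, 0, 4, -5], [0, 0, 0, 1, 0, 4, -4], [0, 0, 0, 0, 1, 4, -3]]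
def smQi_E7 : List (List ℤ) := [[-2, 0, 1, 0, 0, 0, 0], [0, -2, 0, 1, 0, 0, 0], [2, -3, 0, 0, 1, 0, 0], [4, -4, 0, 0, 0, 1, 0], [6, -5, 0, 0, 0, 0, 1], [-3, 2, 0, 0, 0, 0, 0], [-2, 1, 0, 0, 0, 0, 0]]
def smd_E7 : List ℕ := [1, 1, 1, 1, 1, 1, 2]
def smM_E7_0 : List ℤ := [-2, -1, -1, -1, -1, -1, -1, -1, -1, -1, -1, -1, -1, -1, -1, -1, -1, -1, -1, -1, -1, -1, -1, -1, -1, -1, -1, -1, -1, -1, -1, -1, -1, 0, 0, 0, 0, 0, 0, 0, 0, 0, 0, 0, 0, 0, 0, 0, 0, 0, 0, 0, 0, 0, 0, 0, 0, 0, 0, 0, 0, 0, 0, 0, 0, 0, 0, 0, 0, 0, 0, 0, 0, 0, 0, 0, 0, 0, 0, 0, 0, 0, 0, 0, 0, 0, 0, 0, 0, 0, 0, 0, 0, 1, 1, 1, 1, 1, 1, 1, 1, 1, 1, 1, 1, 1, 1, 1, 1, 1, 1, 1, 1, 1, 1, 1, 1, 1, 1, 1, 1, 1, 1, 1, 1, 2]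
def smM_E7_1 : List ℤ := [-2, -2, -2, -2, -2, -2, -2, -1, -1, -1, -1, -1, -1, -1, -1, -1, -1, -1, -1, -1, -1, -1, -1, -1, -1, -1, -1, 0, 0, 0, 0, 0, 0, -1, -1, -1, -1, -1, -1, -1, -1, -1, -1, -1, -1, -1, -1, -1, 0, 0, 0, 0, 0, 0, 0, 0, 0, 0, 0, 0, 0, 0, 0, 0, 0, 0, 0, 0, 0, 0, 0, 0, 0, 0, 0, 0, 0, 0, 1, 1, 1, 1, 1, 1, 1, 1, 1, 1, 1, 1, 1, 1, 1, 0, 0, 0, 0, 0, 0, 1, 1, 1, 1, 1, 1, 1, 1, 1, 1, 1, 1, 1, 1, 1, 1, 1, 1, 1, 1, 2, 2, 2, 2, 2, 2, 2]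
def smM_E7_2 : List ℤ := [-3, -3, -2, -2, -2, -2, -2, -2, -2, -2, -2, -2, -2, -2, -2, -2, -2, -1, -1, -1, -1, -1, -1, -1, -1, -1, -1, -1, -1, -1, -1, -1, 0, -1, -1, -1, -1, -1, -1, -1, -1, -1, -1, 0, 0, 0, 0, 0, -1, -1, -1, -1, -1, 0, 0, 0, 0, 0, 0, 0, 0, 0, 0, 0, 0, 0, 0, 0, 0, 0, 0, 0, 0, 1, 1, 1, 1, 1, 0, 0, 0, 0, 0, 1, 1, 1, 1, 1, 1, 1, 1, 1, 1, 0, 1, 1, 1, 1, 1, 1, 1, 1, 1, 1, 1, 1, 1, 1, 1, 2, 2, 2, 2, 2, 2, 2, 2, 2, 2, 2, 2, 2, 2, 2, 3, 3]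
def smM_E7_3 : List ℤ := [-4, -4, -4, -3, -3, -3, -3, -3, -3, -3, -3, -2, -2, -2, -2, -2, -2, -2, -2, -2, -2, -2, -2, -1, -1, -1, -1, -1, -1, -1, -1, 0, 0, -2, -2, -2, -2, -2, -2, -1, -1, -1, -1, -1, -1, -1, -1, 0, -1, -1, -1, -1, 0, -1, -1, -1, -1, 0, 0, 0, 0, 0, 0, 0, 0, 0, 0, 0, 0, 1, 1, 1, 1, 0, 1, 1, 1, 1, 0, 1, 1, 1, 1, 1, 1, 1, 1, 2, 2, 2, 2, 2, 2, 0, 0, 1, 1, 1, 1, 1, 1, 1, 1, 2, 2, 2, 2, 2, 2, 2, 2, 2, 2, 2, 2, 3, 3, 3, 3, 3, 3, 3, 3, 4, 4, 4]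
def smM_E7_4 : List ℤ := [-3, -3, -3, -3, -2, -2, -2, -3, -2, -2, -2, -2, -2, -2, -1, -1, -1, -2, -2, -2, -1, -1, -1, -1, -1, -1, 0, -1, -1, -1, 0, 0, 0, -2, -2, -2, -1, -1, -1, -1, -1, -1, 0, -1, -1, -1, 0, 0, -1, -1, -1, 0, 0, -1, -1, -1, 0, -1, -1, -1, 0, 0, 0, 0, 0, 0, 1, 1, 1, 0, 1, 1, 1, 0, 0, 1, 1, 1, 0, 0, 1, 1, 1, 0, 1, 1, 1, 1, 1, 1, 2, 2, 2, 0, 0, 0, 1, 1, 1, 0, 1, 1, 1, 1, 1, 1, 2, 2, 2, 1, 1, 1, 2, 2, 2, 2, 2, 2, 3, 2, 2, 2, 3, 3, 3, 3]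
def smM_E7_5 : List ℤ := [-2, -2, -2, -2, -2, -1, -1, -2, -2, -1, -1, -2, -1, -1, -1, -1, 0, -2, -1, -1, -1, -1, 0, -1, -1, 0, 0, -1, -1, 0, 0, 0, 0, -2, -1, -1, -1, -1, 0, -1, -1, 0, 0, -1, -1, 0, 0, 0, -1, -1, 0, 0, 0, -1, -1, 0, 0, -1, -1, 0, -1, -1, 0, 0, 1, 1, 0, 1, 1, 0, 0, 1, 1, 0, 0, 0, 1, 1, 0, 0, 0, 1, 1, 0, 0, 1, 1, 0, 1, 1, 1, 1, 2, 0, 0, 0, 0, 1, 1, 0, 0, 1, 1, 0, 1, 1, 1, 1, 2, 0, 1, 1, 1, 1, 2, 1, 1, 2, 2, 1, 1, 2, 2, 2, 2, 2]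
def smM_E7_6 : List ℤ := [-1, -1, -1, -1, -1, -1, 0, -1, -1, -1, 0, -1, -1, 0, -1, 0, 0, -1, -1, 0, -1, 0, 0, -1, 0, 0, 0, -1, 0, 0, 0, 0, 0, -1, -1, 0, -1, 0, 0, -1, 0, 0, 0, -1, 0, 0, 0, 0, -1, 0, 0, 0, 0, -1, 0, 0, 0, -1, 0, 0, -1, 0, -1, 1, 0, 1, 0, 0, 1, 0, 0, 0, 1, 0, 0, 0, 0, 1, 0, 0, 0, 0, 1, 0, 0, 0, 1, 0, 0, 1, 0, 1, 1, 0, 0, 0, 0, 0, 1, 0, 0, 0, 1, 0, 0, 1, 0, 1, 1, 0, 0, 1, 0, 1, 1, 0, 1, 1, 1, 0, 1, 1, 1, 1, 1, 1]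
def smM_E7 : List (List ℤ) := [smM_E7_0, smM_E7_1, smM_E7_2, smM_E7_3, smM_E7_4, smM_E7_5, smM_E7_6]
theorem smith_E7_1 : ∀ i < chevE7.rank, chevE7.simple i < chevE7.nroots := by decide +kernel
theorem smith_E7_2 : matOfTbl chevE7.rank chevE7.rank smP_E7 * cartanA chevE7 * matOfTbl chevE7.rank chevE7.rank smQ_E7 =
    Matrix.diagonal fun i : Fin chevE7.rank => ((lget smd_E7 i.val 0 : ℕ) : ℤ) := by decide +kernel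
theorem smith_E7_3 : matOfTbl chevE7.rank chevE7.rank smP_E7 * matOfTbl chevE7.rank chevE7.rank smPi_E7 = 1 := by decide +kernel
theorem smith_E7_4 : matOfTbl chevE7.rank chevE7.rank smQ_E7 * matOfTbl chevE7.rank chevE7.rank smQi_E7 = 1 := by decide +kernel
theorem smith_E7_5 : cartanR chevE7 = cartanA chevE7 * matOfTbl chevE7.rank chevE7.nroots smM_E7 := by decide +kernel
theorem smith_E7 : SmithData chevE7 smP_E7 smPi_E7 smQ_E7 smQi_E7 smd_E7 smM_E7 :=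
  ⟨smith_E7_1, smith_E7_2, smith_E7_3, smith_E7_4, smith_E7_5⟩

def smP_E8 : List (List ℤ) := [[-1, 0, 0, 0, 0, 0, 0, 0], [0, -1, 0, 0, 0, 0, 0, 0], [1, -2, 0, -1, 0, 0, 0, 0], [2, -3, 0, -2, -1, 0, 0, 0], [3, -4, 0, -3, -2, -1, 0, 0], [4, -5, 0, -4, -3, -2, -1, 0], [-2, 1, -1, 0, 0, 0, 0, 0], [-3, -2, -4, -5, -4, -3, -2, -1]]
def smPi_E8 : List (List ℤ) := [[-1, 0, 0, 0, 0, 0, 0, 0], [0, -1, 0, 0, 0, 0, 0, 0], [2, -1, 0, 0, 0, 0, -1, 0], [-1, 2, -1, 0, 0, 0, 0, 0], [0, -1, 2, -1, 0, 0, 0, 0], [0, 0, -1, 2, -1, 0, 0, 0], [0, 0, 0, -1, 2, -1, 0, 0], [0, 0, 0, 0, -1, 2, 4, -1]]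
def smQ_E8 : List (List ℤ) := [[0, 0, 0, 0, 0, 0, 1, -2], [0, 0, 0, 0, 0, 0, 2, -3], [1, 0, 0, 0, 0, 0, 2, -4], [0, 1, 0, 0, 0, 0, 4, -6], [0, 0, 1, 0, 0, 0, 4, -5], [0, 0, 0, 1, 0, 0, 4, -4], [0, 0, 0, 0, 1, 0, 4, -3], [0, 0, 0, 0, 0, 1, 4, -2]]
def smQi_E8 : List (List ℤ) := [[-2, 0, 1, 0, 0, 0, 0, 0], [0, -2, 0, 1, 0, 0, 0, 0], [2, -3, 0, 0, 1, 0, 0, 0], [4, -4, 0, 0, 0, 1, 0, 0], [6, -5, 0, 0, 0, 0, 1, 0], [8, -6, 0, 0, 0, 0, 0, 1], [-3, 2, 0, 0, 0, 0, 0, 0], [-2, 1, 0, 0, 0, 0, 0, 0]]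
def smd_E8 : List ℕ := [1, 1, 1, 1, 1, 1, 1, 1]
def smM_E8_0 : List ℤ := [-2, -2, -2, -2, -2, -2, -2, -2, -2, -2, -2, -2, -2, -2, -1, -1, -1, -1, -1, -1, -1, -1, -1, -1, -1, -1, -1, -1, -1, -1, -1, -1, -1, -1, -1, -1, -1, -1, -1, -1, -1, -1, -1, -1, -1, -1, -1, -1, -1, -1, -1, -1, -1, -1, -1, -1, -1, -1, -1, -1, -1, -1, -1, -1, -1, -1, -1, -1, -1, -1, -1, -1, -1, -1, -1, -1, -1, -1, 0, 0, 0, 0, 0, 0, 0, 0, 0, 0, 0, 0, 0, 0, 0, 0, 0, 0, 0, 0, 0, 0, 0, 0, 0, 0, 0, 0, 0, 0, 0, 0, 0, 0, 0, 0, 0, 0, 0, 0, 0, 0, 0, 0, 0, 0, 0, 0, 0, 0, 0, 0, 0, 0, 0, 0, 0, 0, 0, 0, 0, 0, 0, 0, 0, 0, 0, 0, 0, 0, 0, 0, 0, 0, 0, 0, 0, 0, 0, 0, 0, 0, 0, 0, 1, 1, 1, 1, 1, 1, 1, 1, 1, 1, 1, 1, 1, 1, 1, 1, 1, 1, 1, 1, 1, 1, 1, 1, 1, 1, 1, 1, 1, 1, 1, 1, 1, 1, 1, 1, 1, 1, 1,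 1, 1, 1, 1, 1, 1, 1, 1, 1, 1, 1, 1, 1, 1, 1, 1, 1, 1, 1, 1, 1, 1, 1, 1, 1, 2, 2, 2, 2, 2, 2, 2, 2, 2, 2, 2, 2, 2, 2]
def smM_E8_1 : List ℤ := [-3, -3, -3, -3, -3, -3, -3, -2, -2, -2, -2, -2, -2, -2, -3, -2, -2, -2, -2, -2, -2, -2, -2, -2, -2, -2, -2, -2, -2, -2, -2, -2, -2, -2, -2, -2, -1, -1, -1, -1, -1, -1, -1, -1, -1, -1, -1, -1, -1, -1, -1, -1, -1, -1, -1, -1, -1, -1, -1, -1, -1, -1, -1, -1, -1, -1, -1, -1, -1, -1, -1, 0, 0, 0, 0, 0, 0, 0, -1, -1, -1, -1, -1, -1, -1, -1, -1, -1, -1, -1, -1, -1, -1, -1, -1, -1, -1, -1, -1, 0, 0, 0, 0, 0, 0, 0, 0, 0, 0, 0, 0, 0, 0, 0, 0, 0, 0, 0, 0, 0, 0, 0, 0, 0, 0, 0, 0, 0, 0, 0, 0, 0, 0, 0, 0, 0, 0, 0, 0, 0, 0, 1, 1, 1, 1, 1, 1, 1, 1, 1, 1, 1, 1, 1, 1, 1, 1, 1, 1, 1, 1, 1, 0, 0, 0, 0, 0, 0, 0, 1, 1, 1, 1,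 1, 1, 1, 1, 1, 1, 1, 1, 1, 1, 1, 1, 1, 1, 1, 1, 1, 1, 1, 1, 1, 1, 1, 1, 1, 1, 1, 1, 1, 1, 1, 2, 2, 2, 2, 2, 2, 2, 2, 2, 2, 2, 2, 2, 2, 2, 2, 2, 2, 2, 2, 2, 3, 2, 2, 2, 2, 2, 2, 2, 3, 3, 3, 3, 3, 3, 3]
def smM_E8_2 : List ℤ := [-4, -4, -4, -4, -4, -4, -3, -4, -3, -3, -3, -3, -3, -3, -3, -3, -3, -3, -3, -3, -3, -2, -2, -2, -2, -2, -2, -2, -2, -2, -2, -2, -2, -2, -2, -2, -2, -2, -2, -2, -2, -2, -2, -2, -2, -2, -2, -2, -2, -2, -2, -2, -2, -2, -2, -2, -1, -1, -1, -1, -1, -1, -1, -1, -1, -1, -1, -1, -1, -1, -1, -1, -1, -1, -1, -1, -1, 0, -1, -1, -1, -1, -1, -1, -1, -1, -1, -1, -1, -1, -1, -1, -1, 0, 0, 0, 0, 0, 0, -1, -1, -1, -1, -1, -1, 0, 0, 0, 0, 0, 0, 0, 0, 0, 0, 0, 0, 0, 0, 0, 0, 0, 0, 0, 0, 0, 0, 0, 0, 0, 0, 0, 0, 0, 0, 1, 1, 1, 1, 1, 1, 0, 0,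 0, 0, 0, 0, 1, 1, 1, 1, 1, 1, 1, 1, 1, 1, 1, 1, 1, 1, 1, 0, 1, 1, 1, 1, 1, 1, 1, 1, 1, 1, 1, 1, 1, 1, 1, 1, 1, 1, 1, 1, 1, 2, 2, 2, 2, 2, 2, 2, 2, 2, 2, 2, 2, 2, 2, 2, 2, 2, 2, 2, 2, 2, 2, 2, 2, 2, 2, 2, 2, 2, 2, 2, 2, 2, 2, 2, 3, 3, 3, 3, 3, 3, 3, 3, 3, 3, 3, 3, 3, 4, 3, 4, 4, 4, 4, 4, 4]
def smM_E8_3 : List ℤ := [-6, -6, -6, -6, -6, -5, -5, -5, -5, -4, -4, -4, -4, -4, -5, -5, -4, -4, -4, -4, -4, -4, -4, -4, -4, -4, -3, -3, -3, -3, -3, -3, -3, -3, -3, -3, -3, -3, -3, -3, -3, -3, -3, -3, -3, -3, -2, -2, -2, -2, -2, -2, -2, -2, -2, -2, -2, -2, -2, -2, -2, -2, -2, -2, -2, -2, -1, -1, -1, -1, -1, -1, -1, -1, -1, -1, 0, 0, -2, -2, -2, -2, -2, -2, -2, -2, -2, -2, -1, -1, -1, -1, -1, -1, -1, -1, -1, -1, 0, -1, -1, -1, -1, -1, 0, -1, -1, -1, -1, -1,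 0, 0, 0, 0, 0, 0, 0, 0, 0, 0, 0, 0, 0, 0, 0, 0, 0, 0, 0, 0, 1, 1, 1, 1, 1, 0, 1, 1, 1, 1, 1, 0, 1, 1, 1, 1, 1, 1, 1, 1, 1, 1, 2, 2, 2, 2, 2, 2, 2, 2, 2, 2, 0, 0, 1, 1, 1, 1, 1, 1, 1, 1, 1, 1, 2, 2, 2, 2, 2, 2, 2, 2, 2, 2, 2, 2, 2, 2, 2, 2, 2, 2, 2, 2, 3, 3, 3, 3, 3, 3, 3, 3, 3, 3, 3, 3, 3, 3, 3, 3, 3, 3, 3, 3, 4, 4, 4, 4, 4, 4, 4, 4, 4, 4, 5, 5, 4, 4, 4, 4, 4, 5, 5, 5, 5, 6, 6, 6, 6, 6]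
def smM_E8_4 : List ℤ := [-5, -5, -5, -5, -4, -4, -4, -4, -4, -4, -3, -3, -3, -3, -4, -4, -4, -3, -3, -3, -3, -4, -3, -3, -3, -3, -3, -3, -3, -3, -2, -2, -2, -2, -2, -2, -3, -3, -3, -3, -2, -2, -2, -2, -2, -2, -2, -2, -2, -2, -2, -2, -1, -1, -1, -1, -2, -2, -2, -2, -2, -2, -1, -1, -1, -1, -1, -1, -1, -1, 0, -1, -1, -1, -1, 0, 0, 0, -2, -2, -2, -2, -2, -2, -1, -1, -1, -1, -1, -1, -1, -1, 0, -1, -1, -1, -1, 0, 0, -1, -1, -1, -1, 0, 0, -1, -1, -1, -1, 0, -1, -1, -1, -1, 0, 0, 0, 0, 0, 0, 0, 0, 0, 0, 0, 0, 1, 1, 1, 1, 0, 1, 1, 1, 1, 0, 0, 1, 1, 1, 1, 0, 0, 1, 1, 1, 1, 0, 1, 1, 1, 1, 1, 1, 1, 1, 2, 2, 2, 2, 2, 2, 0, 0, 0, 1, 1, 1, 1, 0, 1, 1, 1, 1, 1, 1, 1, 1, 2, 2, 2, 2, 2, 2, 1, 1, 1, 1, 2, 2, 2, 2, 2, 2, 2, 2, 2, 2, 2, 2, 3, 3, 3, 3, 2, 2, 2, 2,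 2, 2, 3, 3, 3, 3, 3, 3, 3, 3, 4, 3, 3, 3, 3, 4, 4, 4, 3, 3, 3, 3, 4, 4, 4, 4, 4, 4, 5, 5, 5, 5]
def smM_E8_5 : List ℤ := [-4, -4, -4, -3, -3, -3, -3, -3, -3, -3, -3, -2, -2, -2, -3, -3, -3, -3, -2, -2, -2, -3, -3, -2, -2, -2, -3, -2, -2, -2, -2, -2, -2, -1, -1, -1, -3, -2, -2, -2, -2, -2, -2, -1, -1, -1, -2, -2, -2, -1, -1, -1, -1, -1, -1, 0, -2, -2, -2, -1, -1, -1, -1, -1, -1, 0, -1, -1, -1, 0, 0, -1, -1, -1, 0, 0, 0, 0, -2, -2, -2, -1, -1, -1, -1, -1, -1, 0, -1, -1, -1, 0, 0, -1, -1, -1, 0, 0, 0, -1, -1, -1, 0, 0, 0, -1, -1, -1, 0, 0, -1, -1, -1, 0, -1, -1, -1, 0, 0, 0, 0, 0, 0, 1, 1, 1, 0, 1, 1, 1, 0, 0, 1, 1, 1, 0, 0, 0, 1, 1, 1, 0, 0, 0, 1, 1, 1, 0, 0, 1, 1, 1, 0, 1, 1, 1, 1, 1, 1, 2, 2, 2, 0, 0, 0, 0, 1, 1, 1, 0, 0, 1, 1, 1, 0, 1, 1, 1,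 1, 1, 1, 2, 2, 2, 0, 1, 1, 1, 1, 1, 1, 2, 2, 2, 1, 1, 1, 2, 2, 2, 2, 2, 2, 3, 1, 1, 1, 2, 2, 2, 2, 2, 2, 3, 2, 2, 2, 3, 3, 2, 2, 2, 3, 3, 3, 3, 2, 2, 2, 3, 3, 3, 3, 3, 3, 3, 3, 4, 4, 4]
def smM_E8_6 : List ℤ := [-3, -3, -2, -2, -2, -2, -2, -2, -2, -2, -2, -2, -1, -1, -2, -2, -2, -2, -2, -1, -1, -2, -2, -2, -1, -1, -2, -2, -1, -1, -2, -1, -1, -1, -1, 0, -2, -2, -1, -1, -2, -1, -1, -1, -1, 0, -2, -1, -1, -1, -1, 0, -1, -1, 0, 0, -2, -1, -1, -1, -1, 0, -1, -1, 0, 0, -1, -1, 0, 0, 0, -1, -1, 0, 0, 0, 0, 0, -2, -1, -1, -1, -1, 0, -1, -1, 0, 0, -1, -1, 0, 0, 0, -1, -1, 0, 0, 0, 0, -1, -1, 0, 0, 0, 0, -1, -1, 0, 0, 0, -1, -1, 0, 0, -1, -1, 0, -1, -1, 0, 0, 1, 1, 0, 1, 1, 0, 0, 1, 1, 0, 0, 0, 1, 1, 0, 0, 0, 0, 1, 1, 0, 0, 0, 0, 1, 1, 0, 0, 0, 1, 1, 0,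 0, 1, 1, 0, 1, 1, 1, 1, 2, 0, 0, 0, 0, 0, 1, 1, 0, 0, 0, 1, 1, 0, 0, 1, 1, 0, 1, 1, 1, 1, 2, 0, 0, 1, 1, 0, 1, 1, 1, 1, 2, 0, 1, 1, 1, 1, 2, 1, 1, 2, 2, 0, 1, 1, 1, 1, 2, 1, 1, 2, 2, 1, 1, 2, 2, 2, 1, 1, 2, 2, 2, 2, 2, 1, 1, 2, 2, 2, 2, 2, 2, 2, 2, 2, 2, 3, 3]
def smM_E8_7 : List ℤ := [-2, -1, -1, -1, -1, -1, -1, -1, -1, -1, -1, -1, -1, 0, -1, -1, -1, -1, -1, -1, 0, -1, -1, -1, -1, 0, -1, -1, -1, 0, -1, -1, 0, -1, 0, 0, -1, -1, -1, 0, -1, -1, 0, -1, 0, 0, -1, -1, 0, -1, 0, 0, -1, 0, 0, 0, -1, -1, 0, -1, 0, 0, -1, 0, 0, 0, -1, 0, 0, 0, 0, -1, 0, 0, 0, 0, 0, 0, -1, -1, 0, -1, 0, 0, -1, 0, 0, 0, -1, 0, 0, 0, 0, -1, 0, 0, 0, 0, 0, -1, 0, 0, 0, 0, 0, -1, 0, 0, 0, 0, -1, 0, 0, 0, -1, 0, 0, -1, 0, -1, 1, 0, 1, 0, 0, 1, 0, 0, 0, 1, 0, 0, 0, 0, 1, 0, 0,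 0, 0, 0, 1, 0, 0, 0, 0, 0, 1, 0, 0, 0, 0, 1, 0, 0, 0, 1, 0, 0, 1, 0, 1, 1, 0, 0, 0, 0, 0, 0, 1, 0, 0, 0, 0, 1, 0, 0, 0, 1, 0, 0, 1, 0, 1, 1, 0, 0, 0, 1, 0, 0, 1, 0, 1, 1, 0, 0, 1, 0, 1, 1, 0, 1, 1, 1, 0, 0, 1, 0, 1, 1, 0, 1, 1, 1, 0, 1, 1, 1, 1, 0, 1, 1, 1, 1, 1, 1, 0, 1, 1, 1, 1, 1, 1, 1, 1, 1, 1, 1, 1, 2]
def smM_E8 : List (List ℤ) := [smM_E8_0, smM_E8_1, smM_E8_2, smM_E8_3, smM_E8_4, smM_E8_5, smM_E8_6, smM_E8_7]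
theorem smith_E8_1 : ∀ i < chevE8.rank, chevE8.simple i < chevE8.nroots := by decide +kernel
theorem smith_E8_2 : matOfTbl chevE8.rank chevE8.rank smP_E8 * cartanA chevE8 * matOfTbl chevE8.rank chevE8.rank smQ_E8 =
    Matrix.diagonal fun i : Fin chevE8.rank => ((lget smd_E8 i.val 0 : ℕ) : ℤ) := by decide +kernel
theorem smith_E8_3 : matOfTbl chevE8.rank chevE8.rank smP_E8 * matOfTbl chevE8.rank chevE8.rank smPi_E8 = 1 := by decide +kernel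
theorem smith_E8_4 : matOfTbl chevE8.rank chevE8.rank smQ_E8 * matOfTbl chevE8.rank chevE8.rank smQi_E8 = 1 := by decide +kernel
theorem smith_E8_5 : cartanR chevE8 = cartanA chevE8 * matOfTbl chevE8.rank chevE8.nroots smM_E8 := by decide +kernel
theorem smith_E8 : SmithData chevE8 smP_E8 smPi_E8 smQ_E8 smQi_E8 smd_E8 smM_E8 :=
  ⟨smith_E8_1, smith_E8_2, smith_E8_3, smith_E8_4, smith_E8_5⟩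

end Cfsg.Agent.Helper18
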