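import Mathlib
import Cfsg.Agent.Lib.Helper18.O3K1
import Cfsg.Agent.S1062

/-!
# S2363 server piece (F4) (helper18)
-/

set_option autoImplicit false

namespace Cfsg.Agent.Helper18.O3K

open Cfsg

theorem concl_f4 {p : ℕ} (hp : p.Prime) (F : Type) [Field F] [Fintype F] [CharP F p] :
    Concl p ↥(Lie.chevF4.group F) := by
  obtain ⟨f, hf, hq⟩ := card_eq_pow hp F
  have hc := Cfsg.Agent.S1062.result (F := F) (q := Fintype.card F) rfl
  set q : ℕ := Fintype.card F
  have hq1 : 1 ≤ q := by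
    rw [hq]
    exact pow_pos hp.pos f
  refine concl_of_q hp q f 24 28 ((q ^ 2 - 1) * (q ^ 6 - 1) * (q ^ 8 - 1) * (q ^ 12 - 1)) 1 hq ?_ ?_ ?_ ?_
    (by norm_num)
  · rw [one_mul, hc]
    ring
  · intro h
    exact hp.one_lt.ne' (Nat.dvd_one.mp h)
  · intro h
    rcases (Nat.Prime.dvd_mul hp).mp h with h | h
    · rcases (Nat.Prime.dvd_mul hp).mp h with h | h
      · rcases (Nat.Prime.dvd_mul hp).mp h with h | h
        · exact not_dvd_pow_sub_one hp hq hf (e := 2) (by norm_num) h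
        · exact not_dvd_pow_sub_one hp hq hf (e := 6) (by norm_num) h
      · exact not_dvd_pow_sub_one hp hq hf (e := 8) (by norm_num) h
    · exact not_dvd_pow_sub_one hp hq hf (e := 12) (by norm_num) h
  · have h2 : (q ^ 2 - 1) * (q ^ 6 - 1) < q ^ (2 + 6) := mul_lt_pow hq1 (pow_sub_one_lt hq1 2) (pow_sub_one_le q 6)
    have h3 : (q ^ 2 - 1) * (q ^ 6 - 1) * (q ^ 8 - 1) < q ^ (2 + 6 + 8) := mul_lt_pow hq1 h2 (pow_sub_one_le q 8)
    exact mul_lt_pow hq1 h3 (pow_sub_one_le q 12)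

end Cfsg.Agent.Helper18.O3K
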