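import Cfsg.Agent.Lib.Helper18.ChevUi
import Cfsg.Agent.Lib.Helper18.BNData

set_option autoImplicit false
set_option Elab.async false

namespace Cfsg.Agent.Helper18

open Cfsg.Lie Cfsg.Agent.S1043

/-- Table facts for the subgroups `U_i`. -/
def uiCheck (D : ChevalleyDatum) (tbls : List ℕ) : Bool :=
  (List.range D.rank).all fun i =>
    (List.range D.nroots).all fun s =>
      (dec8 (lget tbls i 0) (dec8 (lget tbls i 0) s) == s) &&
        (!(decide (D.IsPosRoot s)) || s == fSimple D i ||
          (D.commTerms (fSimple D i) s).all fun c =>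
            decide (D.IsPosRoot c.1) && (c.1 != fSimple D i))

theorem uiFacts_of_check (D : ChevalleyDatum) (hB : BNFacts D) (tbls : List ℕ)
    (hperm : ∀ i < D.rank, permCheck D i (lget tbls i 0) = true)
    (h : uiCheck D tbls = true) :
    (∀ i < D.rank, ∀ s < D.nroots, D.reflectRoot i (D.reflectRoot i s) = s) ∧
      (∀ i < D.rank, ∀ s, D.IsPosRoot s → s ≠ D.simple i →
        ∀ c ∈ D.commTerms (D.simple i) s, D.IsPosRoot c.1 ∧ c.1 ≠ D.simple i) := by
  simp only [uiCheck, Bool.and_eq_true, List.all_eq_true, List.mem_range, decide_eq_true_eq,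
    Bool.or_eq_true, Bool.not_eq_true', decide_eq_false_iff_not, beq_iff_eq, bne_iff_ne] at h
  have hP : ∀ i < D.rank, ∀ s < D.nroots, dec8 (lget tbls i 0) s = D.reflectRoot i s := by
    intro i hi s hs
    have := hperm i hi
    rw [permCheck, List.all_eq_true] at this
    have := this s (List.mem_range.mpr hs)
    rwa [beq_iff_eq, fReflectRoot_eq] at this
  constructor
  · intro i hi s hs
    have := (h i hi s hs).1
    rwa [hP i hi s hs, hP i hi _ (hB.hrefl i hi s hs)] at this
  · intro i hi s hs hne c hc
    have := (h i hi s hs.1).2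
    rw [fSimple_eq] at this
    rcases this with (h6 | h6) | h6
    · exact absurd hs h6
    · exact absurd h6 hne
    · exact h6 c hc

theorem uiChkG2 : uiCheck chevG2 permTblG2 = true := by decide +kernel
theorem uiChkB2 : uiCheck chevB2 permTblB2 = true := by decide +kernel
theorem uiChkD4 : uiCheck chevD4 permTblD4 = true := by decide +kernel
theorem uiChkF4 : uiCheck chevF4 permTblF4 = true := by decide +kernel
theorem uiChkE6 : uiCheck chevE6 permTblE6 = true := by decide +kernel
theorem uiChkE7 : uiCheck chevE7 permTblE7 = true := by decide +kernel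
theorem uiChkE8 : uiCheck chevE8 permTblE8 = true := by decide +kernel

theorem uiFacts12_all (D : ChevalleyDatum) (hD : Good D) :
    (∀ i < D.rank, ∀ s < D.nroots, D.reflectRoot i (D.reflectRoot i s) = s) ∧
      (∀ i < D.rank, ∀ s, D.IsPosRoot s → s ≠ D.simple i →
        ∀ c ∈ D.commTerms (D.simple i) s, D.IsPosRoot c.1 ∧ c.1 ≠ D.simple i) := by
  have hB := bnFacts_all D hD
  simp only [Good, List.mem_cons, List.not_mem_nil, or_false] at hD
  rcases hD with rfl | rfl | rfl | rfl | rfl | rfl | rfl
  · exact uiFacts_of_check chevG2 hB permTblG2 permTblG2_ok uiChkG2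
  · exact uiFacts_of_check chevB2 hB permTblB2 permTblB2_ok uiChkB2
  · exact uiFacts_of_check chevD4 hB permTblD4 permTblD4_ok uiChkD4
  · exact uiFacts_of_check chevF4 hB permTblF4 permTblF4_ok uiChkF4
  · exact uiFacts_of_check chevE6 hB permTblE6 permTblE6_ok uiChkE6
  · exact uiFacts_of_check chevE7 hB permTblE7 permTblE7_ok uiChkE7
  · exact uiFacts_of_check chevE8 hB permTblE8 permTblE8_ok uiChkE8

end Cfsg.Agent.Helper18
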