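import Cfsg.Agent.Lib.Helper18.TwWord
import Cfsg.Agent.Lib.Helper18.UiData
import Cfsg.Agent.Lib.Helper18.TorusAll
import Cfsg.Agent.Lib.Helper18.CommSmall
import Cfsg.Agent.Lib.Helper18.ChevNegTri
import Cfsg.Agent.Lib.Helper17.ChevTriGen
import Cfsg.Agent.Lib.Helper6.ChevFactsS18
import Cfsg.Agent.Lib.Helper6.ChevNorm
import Cfsg.Prelude.Def_ChevF4

/-!
# `F₄`: the Bruhat hypotheses and the two classes of `²F₄` (`{p₁,p₄}` and `{p₂,p₃}`)
in the shape required by `Helper59.TwFix.Rec`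
-/

set_option autoImplicit false
set_option linter.unusedSectionVars false
set_option linter.unusedVariables false
set_option maxRecDepth 100000

namespace Cfsg.Agent.Helper18.TwWordF4

open Cfsg Cfsg.Lie Cfsg.Agent.S1043 Cfsg.Agent.Helper17 Cfsg.Agent.Helper18
open Cfsg.Agent.Helper59.TwFix Cfsg.Agent.Helper18.TwWord

theorem gF4 : Good chevF4 := by simp [Good]

theorem posRangeF4' : ∀ s, chevF4.IsPosRoot s → 24 ≤ s ∧ s < 48 := by
  intro s hs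
  have h1 : s < 48 := hs.1
  have : ∀ s < 48, chevF4.IsPosRoot s → 24 ≤ s := by decide +kernel
  exact ⟨this s h1 hs, h1⟩

theorem commAllF4' (i : ℕ) (hi : i < 4) (s : ℕ) (hs : chevF4.IsPosRoot s) :
    Cfsg.Agent.Helper18.commCheck chevF4 (chevF4.simple i) s = true := by
  obtain ⟨h1, h2⟩ := posRangeF4' s hs
  have h : i = 0 ∨ i = 1 ∨ i = 2 ∨ i = 3 := by omega
  rcases h with rfl | rfl | rfl | rfl
  · change Cfsg.Agent.Helper18.commCheck chevF4 33 s = true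
    exact commF4_0_from24 s h1 h2
  · change Cfsg.Agent.Helper18.commCheck chevF4 27 s = true
    exact commF4_1_from24 s h1 h2
  · change Cfsg.Agent.Helper18.commCheck chevF4 25 s = true
    exact commF4_2_from24 s h1 h2
  · change Cfsg.Agent.Helper18.commCheck chevF4 24 s = true
    exact commF4_3_from24 s h1 h2

theorem uiF4 : UiFacts chevF4 :=
  ⟨(uiFacts12_all chevF4 gF4).1, (uiFacts12_all chevF4 gF4).2,
    fun i hi s hs => commAllF4' i hi s hs⟩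

section

variable {K : Type*} [Field K]

theorem conjS_F4 : ∀ i < chevF4.rank, ConjGoalS' K chevF4 i := by
  intro i hi
  have h := Cfsg.Agent.Helper6.Chev.nData_F4 (F := K)
  refine ⟨fun s => if s < chevF4.nroots then Cfsg.Agent.Helper6.Chev.etaF4 i s else 1, ?_, ?_, ?_⟩
  · intro s
    by_cases hs : s < chevF4.nroots
    · simp only [hs, if_true]; exact h.eta_pm i hi s hs
    · simp only [hs, if_false]; left; trivial
  · intro s hs
    simp only [hs, h.neg_lt s hs, if_true]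
    rw [h.eta_neg i hi s hs]
    rcases h.eta_pm i hi s hs with e | e <;> rw [e] <;> norm_num
  · intro s hs t
    simp only [hs, if_true]
    rw [h.mono i hi]
    exact h.conj i hi s hs t

theorem hconjF4 : ∀ i < chevF4.rank, ∀ s < chevF4.nroots, ConjGoal' K chevF4 i s := by
  intro i hi s hs
  refine ⟨Cfsg.Agent.Helper6.Chev.etaF4 i s,
    (Cfsg.Agent.Helper6.Chev.nData_F4 (F := K)).eta_pm i hi s hs, fun t => ?_⟩
  rw [(Cfsg.Agent.Helper6.Chev.nData_F4 (F := K)).mono i hi]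
  exact (Cfsg.Agent.Helper6.Chev.nData_F4 (F := K)).conj i hi s hs t

/-- the exponent table of the torus -/
noncomputable def tblF4 : List ℕ := Classical.choose (torusData_all chevF4 (by simp))

theorem torusF4 : TorusData chevF4 tblF4 := Classical.choose_spec (torusData_all chevF4 (by simp))

/-- the Bruhat hypotheses for `F₄(K)` -/
theorem hypF4 : ChevHyp K chevF4 tblF4 where
  hB := bnFacts_all chevF4 gF4
  hU := uiF4
  hT := torusF4
  hTri := triOK_F4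
  hNeg := negTriOK_F4
  hconj := hconjF4
  hS := conjS_F4
  hNH := Cfsg.Agent.Helper6.Chev.monomial_le_normalizer (Cfsg.Agent.Helper6.Chev.nData_F4 (F := K))

/-- `F₄(K)` inside the general linear group, with its Bruhat normal form -/
noncomputable def ambF4 : Amb (GL chevF4.Idx K) := chevAmb gF4 (hypF4 (K := K))

end

/-! ### root data -/

theorem hinvF4 : ∀ i < chevF4.rank, ∀ s < chevF4.nroots,
    chevF4.reflectRoot i (chevF4.reflectRoot i s) = s := by decide +kernel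

/-- the word of the class `{p₁, p₄}` -/
def L1 : List ℕ := [0, 3]
/-- the word of the class `{p₂, p₃}` (the longest element of the Weyl group of type `B₂`) -/
def L2 : List ℕ := [1, 2, 1, 2]

theorem L1_lt : ∀ i ∈ L1, i < chevF4.rank := by decide
theorem L2_lt : ∀ i ∈ L2, i < chevF4.rank := by decide

theorem roots_L1 : rootsOfR chevF4 L1.reverse = [33, 24] := by decide +kernel
theorem roots_L2 : rootsOfR chevF4 L2.reverse = [27, 30, 28, 25] := by decide +kernel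
theorem pref_L1 : prefRootsR chevF4 L1.reverse = [24, 33] := by decide +kernel
theorem pref_L2 : prefRootsR chevF4 L2.reverse = [25, 28, 30, 27] := by decide +kernel

theorem pos_L1 : ∀ r ∈ [33, 24], chevF4.IsPosRoot r ∧ ¬ chevF4.IsPosRoot (permW chevF4 L1 r) ∧
    permW chevF4 L1 r = chevF4.neg r ∧ chevF4.neg (chevF4.neg r) = r := by decide +kernel
theorem pos_L2 : ∀ r ∈ [27, 30, 28, 25], chevF4.IsPosRoot r ∧ ¬ chevF4.IsPosRoot (permW chevF4 L2 r) ∧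
    permW chevF4 L2 r = chevF4.neg r ∧ chevF4.neg (chevF4.neg r) = r := by decide +kernel

/-- the orbit of the tuple `(a, b, a+b, 2a+b)` under the Weyl group -/
def orbB2 : List (List ℕ) :=
    [[27, 25, 28, 30], [34, 25, 35, 41], [20, 30, 28, 25], [28, 22, 27, 30], [27, 26, 29, 31], [33, 30,
    37, 41], [35, 22, 34, 41], [34, 26, 36, 42], [13, 41, 35, 25], [19, 30, 27, 22], [20, 31, 29, 26],
    [28, 17, 20, 25], [29, 21, 27, 31], [28, 24, 29, 32], [14, 41, 37, 30], [33, 31, 38, 42], [37, 17,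
    33, 41], [36, 21, 34, 42], [35, 24, 36, 43], [12, 41, 34, 22], [13, 42, 36, 26], [19, 25, 20, 17],
    [18, 31, 27, 21], [19, 32, 29, 24], [35, 6, 13, 25], [27, 17, 19, 22], [29, 16, 20, 26], [29, 23,
    28, 32], [14, 42, 38, 31], [33, 32, 39, 43], [37, 6, 14, 30], [38, 16, 33, 42], [36, 23, 35, 43],
    [37, 24, 38, 45], [10, 41, 33, 17], [11, 42, 34, 21], [12, 43, 36, 24], [12, 25, 13, 6], [20, 22,
    19, 17], [18, 26, 20, 16], [18, 32, 28, 23], [34, 6, 12, 22], [36, 5, 13, 26], [27, 16, 18, 21],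
    [29, 15, 19, 24], [14, 43, 39, 32], [34, 32, 40, 45], [38, 5, 14, 31], [39, 15, 33, 43], [38, 23,
    37, 45], [37, 26, 39, 46], [10, 30, 14, 6], [9, 42, 33, 16], [11, 43, 35, 23], [10, 45, 38, 24],
    [13, 22, 12, 6], [11, 26, 13, 5], [20, 21, 18, 16], [18, 24, 19, 15], [33, 6, 10, 17], [34, 5, 11,
    21], [36, 4, 12, 24], [28, 15, 18, 23], [13, 45, 40, 32], [27, 43, 44, 45], [35, 31, 40, 46], [39,
    4, 14, 32], [40, 15, 34, 45], [39, 21, 37, 46], [38, 25, 39, 47], [9, 31, 14, 5], [8, 43, 33, 15],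
    [9, 45, 37, 23], [10, 46, 39, 26], [14, 17, 10, 6], [13, 21, 11, 5], [11, 24, 12, 4], [19, 23, 18,
    15], [33, 5, 9, 16], [35, 4, 11, 23], [38, 2, 10, 24], [20, 45, 44, 43], [12, 46, 40, 31], [28, 42,
    44, 46], [36, 30, 40, 47], [40, 2, 13, 32], [44, 4, 27, 45], [40, 16, 35, 46], [39, 22, 38, 47], [8,
    32, 14, 4], [7, 45, 34, 15], [8, 46, 37, 21], [9, 47, 39, 25], [14, 16, 9, 5], [12, 23, 11, 4], [9,
    24, 10, 2], [33, 4, 8, 15], [37, 2, 9, 23], [39, 1, 10, 26], [19, 46, 44, 42], [11, 47, 40, 30],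
    [29, 41, 44, 47], [44, 2, 20, 43], [40, 1, 12, 31], [44, 5, 28, 46], [40, 17, 36, 47], [7, 32, 13,
    2], [3, 45, 27, 4], [7, 46, 35, 16], [8, 47, 38, 22], [14, 15, 8, 4], [10, 23, 9, 2], [8, 26, 10,
    1], [34, 2, 7, 15], [37, 1, 8, 21], [39, 0, 9, 25], [18, 47, 44, 41], [44, 1, 19, 42], [40, 0, 11,
    30], [44, 6, 29, 47], [3, 43, 20, 2], [7, 31, 12, 1], [3, 46, 28, 5], [7, 47, 36, 17], [13, 15, 7,
    2], [10, 21, 8, 1], [8, 25, 9, 0], [27, 2, 3, 4], [35, 1, 7, 16], [38, 0, 8, 22], [44, 0, 18, 41],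
    [3, 42, 19, 1], [7, 30, 11, 0], [3, 47, 29, 6], [20, 4, 3, 2], [12, 16, 7, 1], [9, 22, 8, 0], [28,
    1, 3, 5], [36, 0, 7, 17], [3, 41, 18, 0], [19, 5, 3, 1], [11, 17, 7, 0], [29, 0, 3, 6], [18, 6, 3,
    0]]

/-- the orbit is closed under the fundamental reflections -/
theorem orbB2_closed : ∀ T ∈ orbB2, ∀ i < 4, T.map (chevF4.reflectRoot i) ∈ orbB2 := by
  decide +kernel

/-- negativity on `a`, `b` forces negativity on `a+b`, `2a+b` -/
theorem orbB2_neg : ∀ T ∈ orbB2, ¬ chevF4.IsPosRoot (T.getD 0 0) → ¬ chevF4.IsPosRoot (T.getD 1 0) →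
    ¬ chevF4.IsPosRoot (T.getD 2 0) ∧ ¬ chevF4.IsPosRoot (T.getD 3 0) := by
  decide +kernel

theorem orbB2_mem (l : List ℕ) (hl : ∀ i ∈ l, i < chevF4.rank) :
    [27, 25, 28, 30].map (permW chevF4 l) ∈ orbB2 := by
  induction l with
  | nil => decide +kernel
  | cons i l ih =>
    have h1 := ih (fun j hj => hl j (List.mem_cons_of_mem _ hj))
    have h2 := orbB2_closed _ h1 i (hl i List.mem_cons_self)
    rw [List.map_map] at h2
    exact h2

theorem neg_B2 (l : List ℕ) (hl : ∀ i ∈ l, i < chevF4.rank)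
    (ha : ¬ chevF4.IsPosRoot (permW chevF4 l 27)) (hb : ¬ chevF4.IsPosRoot (permW chevF4 l 25)) :
    ¬ chevF4.IsPosRoot (permW chevF4 l 28) ∧ ¬ chevF4.IsPosRoot (permW chevF4 l 30) :=
  orbB2_neg _ (orbB2_mem l hl) ha hb

/-! ### the two classes in the shape of `Helper59.TwFix.Rec` -/

theorem hpref1 : ∀ r ∈ prefRootsR chevF4 L1.reverse,
    chevF4.IsPosRoot r ∧ ¬ chevF4.IsPosRoot (permW chevF4 L1 r) := by decide +kernel

theorem hpref2 : ∀ r ∈ prefRootsR chevF4 L2.reverse,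
    chevF4.IsPosRoot r ∧ ¬ chevF4.IsPosRoot (permW chevF4 L2 r) := by decide +kernel

theorem hroots1 : ∀ r ∈ rootsOfR chevF4 L1.reverse,
    chevF4.IsPosRoot r ∧ ¬ chevF4.IsPosRoot (permW chevF4 L1 r) := by decide +kernel

theorem hroots2 : ∀ r ∈ rootsOfR chevF4 L2.reverse,
    chevF4.IsPosRoot r ∧ ¬ chevF4.IsPosRoot (permW chevF4 L2 r) := by decide +kernel

theorem hwL1 : ∀ r ∈ rootsOfR chevF4 L1.reverse,
    permW chevF4 L1 r = chevF4.neg r ∧ chevF4.neg (chevF4.neg r) = r := by decide +kernel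

theorem hwL2 : ∀ r ∈ rootsOfR chevF4 L2.reverse,
    permW chevF4 L2 r = chevF4.neg r ∧ chevF4.neg (chevF4.neg r) = r := by decide +kernel

section

variable {K : Type*} [Field K]

/-- the representative `n_{p₁} n_{p₄}` of the class `{p₁, p₄}` -/
noncomputable def nJ1 : GL chevF4.Idx K := nWordGL chevF4 gF4 L1
/-- the representative `n_{p₂} n_{p₃} n_{p₂} n_{p₃}` of the class `{p₂, p₃}` -/
noncomputable def nJ2 : GL chevF4.Idx K := nWordGL chevF4 gF4 L2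
/-- `X_{p₁} X_{p₄}` -/
noncomputable def XJ1 : Subgroup (GL chevF4.Idx K) := Uw chevF4 (nJ1 (K := K))
/-- `X_a X_b X_{a+b} X_{2a+b}` -/
noncomputable def XJ2 : Subgroup (GL chevF4.Idx K) := Uw chevF4 (nJ2 (K := K))

theorem nJ1_mem_N : (nJ1 : GL chevF4.Idx K) ∈ chevF4.monomialSubgroup K :=
  nWord_mem_N gF4 hypF4 L1_lt

theorem nJ2_mem_N : (nJ2 : GL chevF4.Idx K) ∈ chevF4.monomialSubgroup K :=
  nWord_mem_N gF4 hypF4 L2_lt

theorem XJ1_eq : (XJ1 : Subgroup (GL chevF4.Idx K)) = XR gF4 [33, 24] := by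
  have h := Uw_word_eq gF4 (hypF4 (K := K)) hinvF4 L1_lt (fun r hr => (hpref1 r hr).1) hroots1
  rw [roots_L1] at h
  exact h

theorem XJ2_eq : (XJ2 : Subgroup (GL chevF4.Idx K)) = XR gF4 [27, 30, 28, 25] := by
  have h := Uw_word_eq gF4 (hypF4 (K := K)) hinvF4 L2_lt (fun r hr => (hpref2 r hr).1) hroots2
  rw [roots_L2] at h
  exact h

/-- every element of `XJ1` is `x_{p₁}(t₀) x_{p₄}(t₁)` -/
theorem XJ1_prod (x : GL chevF4.Idx K) (hx : x ∈ (XJ1 : Subgroup (GL chevF4.Idx K))) :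
    ∃ t₀ t₁ : K, x = xU chevF4 gF4 33 t₀ * xU chevF4 gF4 24 t₁ := by
  obtain ⟨ts, hts, e⟩ := Uw_word_prod gF4 (hypF4 (K := K)) hinvF4
    (posW_one gF4 hypF4 L1_lt (fun r hr => (hpref1 r hr).1)) x hx
  rw [roots_L1] at e
  match ts, hts with
  | [t₀, t₁], _ => exact ⟨t₀, t₁, by rw [e]; simp⟩

/-- every element of `XJ2` is `x_a(t₀) x_{2a+b}(t₁) x_{a+b}(t₂) x_b(t₃)` -/
theorem XJ2_prod (x : GL chevF4.Idx K) (hx : x ∈ (XJ2 : Subgroup (GL chevF4.Idx K))) :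
    ∃ t₀ t₁ t₂ t₃ : K, x = xU chevF4 gF4 27 t₀ * xU chevF4 gF4 30 t₁ * xU chevF4 gF4 28 t₂ *
      xU chevF4 gF4 25 t₃ := by
  obtain ⟨ts, hts, e⟩ := Uw_word_prod gF4 (hypF4 (K := K)) hinvF4
    (posW_one gF4 hypF4 L2_lt (fun r hr => (hpref2 r hr).1)) x hx
  rw [roots_L2] at e
  match ts, hts with
  | [t₀, t₁, t₂, t₃], _ => exact ⟨t₀, t₁, t₂, t₃, by rw [e]; simp [mul_assoc]⟩

theorem XJ1_ne : ∃ x ∈ (XJ1 : Subgroup (GL chevF4.Idx K)), x ≠ 1 := by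
  refine ⟨xU chevF4 gF4 33 1, ?_, fun h => one_ne_zero (xU_eq_one chevF4 gF4 (hypF4 (K := K)).hB 33 (by decide) (1 : K) h)⟩
  rw [XJ1_eq]
  exact Subgroup.subset_closure ⟨33, by simp, 1, rfl⟩

theorem XJ2_ne : ∃ x ∈ (XJ2 : Subgroup (GL chevF4.Idx K)), x ≠ 1 := by
  refine ⟨xU chevF4 gF4 27 1, ?_, fun h => one_ne_zero (xU_eq_one chevF4 gF4 (hypF4 (K := K)).hB 27 (by decide) (1 : K) h)⟩
  rw [XJ2_eq]
  exact Subgroup.subset_closure ⟨27, by simp, 1, rfl⟩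

/-! `ostep_mem`, `ostep_surj`, `ostep_inj` -/

theorem ostep_mem1 : ∀ n ∈ chevF4.monomialSubgroup K,
    (∀ x ∈ (XJ1 : Subgroup (GL chevF4.Idx K)), n * x * n⁻¹ ∈ chevF4.posUnipotent K) →
    ∀ y ∈ Uw chevF4 n, ∀ x ∈ (XJ1 : Subgroup (GL chevF4.Idx K)),
      (nJ1)⁻¹ * y * nJ1 * x ∈ Uw chevF4 (n * nJ1) :=
  rec_mem gF4 hypF4 L1_lt hpref1

theorem ostep_surj1 : ∀ n ∈ chevF4.monomialSubgroup K,
    (∀ x ∈ (XJ1 : Subgroup (GL chevF4.Idx K)), n * x * n⁻¹ ∈ chevF4.posUnipotent K) →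
    ∀ u ∈ Uw chevF4 (n * nJ1), ∃ y ∈ Uw chevF4 n, ∃ x ∈ (XJ1 : Subgroup (GL chevF4.Idx K)),
      u = (nJ1)⁻¹ * y * nJ1 * x :=
  rec_surj gF4 hypF4 L1_lt hpref1

theorem ostep_inj1 : ∀ n ∈ chevF4.monomialSubgroup K,
    (∀ x ∈ (XJ1 : Subgroup (GL chevF4.Idx K)), n * x * n⁻¹ ∈ chevF4.posUnipotent K) →
    ∀ y ∈ Uw chevF4 n, ∀ y' ∈ Uw chevF4 n, ∀ x ∈ (XJ1 : Subgroup (GL chevF4.Idx K)),
      ∀ x' ∈ (XJ1 : Subgroup (GL chevF4.Idx K)),
      (nJ1)⁻¹ * y * nJ1 * x = (nJ1)⁻¹ * y' * nJ1 * x' → y = y' ∧ x = x' :=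
  rec_inj gF4 hypF4 L1

theorem ostep_mem2 : ∀ n ∈ chevF4.monomialSubgroup K,
    (∀ x ∈ (XJ2 : Subgroup (GL chevF4.Idx K)), n * x * n⁻¹ ∈ chevF4.posUnipotent K) →
    ∀ y ∈ Uw chevF4 n, ∀ x ∈ (XJ2 : Subgroup (GL chevF4.Idx K)),
      (nJ2)⁻¹ * y * nJ2 * x ∈ Uw chevF4 (n * nJ2) :=
  rec_mem gF4 hypF4 L2_lt hpref2

theorem ostep_surj2 : ∀ n ∈ chevF4.monomialSubgroup K,
    (∀ x ∈ (XJ2 : Subgroup (GL chevF4.Idx K)), n * x * n⁻¹ ∈ chevF4.posUnipotent K) →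
    ∀ u ∈ Uw chevF4 (n * nJ2), ∃ y ∈ Uw chevF4 n, ∃ x ∈ (XJ2 : Subgroup (GL chevF4.Idx K)),
      u = (nJ2)⁻¹ * y * nJ2 * x :=
  rec_surj gF4 hypF4 L2_lt hpref2

theorem ostep_inj2 : ∀ n ∈ chevF4.monomialSubgroup K,
    (∀ x ∈ (XJ2 : Subgroup (GL chevF4.Idx K)), n * x * n⁻¹ ∈ chevF4.posUnipotent K) →
    ∀ y ∈ Uw chevF4 n, ∀ y' ∈ Uw chevF4 n, ∀ x ∈ (XJ2 : Subgroup (GL chevF4.Idx K)),
      ∀ x' ∈ (XJ2 : Subgroup (GL chevF4.Idx K)),
      (nJ2)⁻¹ * y * nJ2 * x = (nJ2)⁻¹ * y' * nJ2 * x' → y = y' ∧ x = x' :=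
  rec_inj gF4 hypF4 L2

/-! descent -/

/-- if `n` is negative on `p₁` and `p₄` then `n n_{J1}⁻¹` keeps `XJ1` in `U` -/
theorem desc1 {n : GL chevF4.Idx K} (hn : n ∈ chevF4.monomialSubgroup K)
    (h0 : Neg gF4 n 0) (h3 : Neg gF4 n 3) :
    ∀ x ∈ (XJ1 : Subgroup (GL chevF4.Idx K)),
      (n * (nJ1)⁻¹) * x * (n * (nJ1)⁻¹)⁻¹ ∈ chevF4.posUnipotent K := by
  apply rec_desc gF4 hypF4 hinvF4 L1_lt (fun r hr => (hpref1 r hr).1) hwL1 hn
  rw [roots_L1]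
  intro r hr t
  simp only [List.mem_cons, List.not_mem_nil, or_false] at hr
  rcases hr with rfl | rfl
  · exact h0 t
  · exact h3 t

/-- if `n` is negative on `p₂` and `p₃` then `n n_{J2}⁻¹` keeps `XJ2` in `U` -/
theorem desc2 {n : GL chevF4.Idx K} (hn : n ∈ chevF4.monomialSubgroup K)
    (h1 : Neg gF4 n 1) (h2 : Neg gF4 n 2) :
    ∀ x ∈ (XJ2 : Subgroup (GL chevF4.Idx K)),
      (n * (nJ2)⁻¹) * x * (n * (nJ2)⁻¹)⁻¹ ∈ chevF4.posUnipotent K := by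
  apply rec_desc gF4 hypF4 hinvF4 L2_lt (fun r hr => (hpref2 r hr).1) hwL2 hn
  rw [roots_L2]
  obtain ⟨h, hh, l, hl, rfl⟩ := mem_monomial_decomp chevF4 gF4 (hypF4 (K := K)).hB hypF4.hS
    hypF4.hNH n hn
  have ha : ¬ chevF4.IsPosRoot (permW chevF4 l 27) :=
    (neg_iff_word gF4 hypF4 hh hl (r := 27) (by decide)).1 h1
  have hb : ¬ chevF4.IsPosRoot (permW chevF4 l 25) :=
    (neg_iff_word gF4 hypF4 hh hl (r := 25) (by decide)).1 h2
  obtain ⟨hab, haab⟩ := neg_B2 l hl ha hb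
  intro r hr
  simp only [List.mem_cons, List.not_mem_nil, or_false] at hr
  rcases hr with rfl | rfl | rfl | rfl
  · exact (neg_iff_word gF4 hypF4 hh hl (r := 27) (by decide)).2 ha
  · exact (neg_iff_word gF4 hypF4 hh hl (r := 30) (by decide)).2 haab
  · exact (neg_iff_word gF4 hypF4 hh hl (r := 28) (by decide)).2 hab
  · exact (neg_iff_word gF4 hypF4 hh hl (r := 25) (by decide)).2 hb

end

end Cfsg.Agent.Helper18.TwWordF4
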