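import Cfsg.Agent.Lib.Helper36.F4Tw
import Cfsg.Agent.Lib.Helper36.F4N
import Cfsg.Agent.Lib.Helper18.TwWordF4
import Cfsg.Agent.Lib.Helper59.TwFixF

/-!
# `²F₄`: the recursion data `Helper59.TwFix.Rec` for the twist `Helper36.F4Tw.twF4`

Two classes: `0 ↦ {p₁, p₄}` (word `[0,3]`) and `1 ↦ {p₂, p₃}` (word `[1,2,1,2]`).  The only
hypothesis left is `fixXJ` (the `σ`-fixed points of the two class subgroups lie in `²F₄`).
-/

set_option autoImplicit false
set_option linter.unusedSectionVars false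
set_option linter.unusedVariables false
set_option maxRecDepth 100000

namespace Cfsg.Agent.Helper18.TwRecF4

open Cfsg Cfsg.Lie Cfsg.Agent.Helper18 Cfsg.Agent.Helper15.Ree4 Cfsg.Agent.Helper6
open Cfsg.Agent.Helper6.ChevGraph Cfsg.Agent.Helper6.ChevGraph.F4 Cfsg.Agent.S1043
open Cfsg.Agent.Helper59.F4Suz Cfsg.Agent.Helper59.TwFix Cfsg.Agent.Helper17
open Cfsg.Agent.Helper36.F4Tw Cfsg.Agent.Helper18.TwWord Cfsg.Agent.Helper18.TwWordF4

section

variable {K : Type*} [Field K]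

/-- the class subgroups, at the level of `GL` -/
noncomputable def XJg : Fin 2 → Subgroup (GL chevF4.Idx K)
  | 0 => XJ1
  | 1 => XJ2

/-- the class representatives, at the level of `GL` -/
noncomputable def nJg : Fin 2 → GL chevF4.Idx K
  | 0 => nJ1
  | 1 => nJ2

theorem XJg_le_U (j : Fin 2) : (XJg j : Subgroup (GL chevF4.Idx K)) ≤ chevF4.posUnipotent K := by
  fin_cases j
  · exact Uw_le_pos chevF4 _
  · exact Uw_le_pos chevF4 _

theorem nJg_mem_N (j : Fin 2) : (nJg j : GL chevF4.Idx K) ∈ chevF4.monomialSubgroup K := by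
  fin_cases j
  · exact nJ1_mem_N
  · exact nJ2_mem_N

theorem XJg_eq_Uw (j : Fin 2) : (XJg j : Subgroup (GL chevF4.Idx K)) = Uw chevF4 (nJg j) := by
  fin_cases j <;> rfl

/-- the class subgroups inside `F₄(K)` -/
noncomputable def XJΓ (j : Fin 2) : Subgroup ↥(chevF4.group K) := (XJg j).subgroupOf (chevF4.group K)

/-- the class representatives inside `F₄(K)` -/
noncomputable def nJΓ (j : Fin 2) : ↥(chevF4.group K) := ⟨nJg j, N_le_group (nJg_mem_N j)⟩

theorem ostep_memg (j : Fin 2) : ∀ n ∈ chevF4.monomialSubgroup K,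
    (∀ x ∈ (XJg j : Subgroup (GL chevF4.Idx K)), n * x * n⁻¹ ∈ chevF4.posUnipotent K) →
    ∀ y ∈ Uw chevF4 n, ∀ x ∈ (XJg j : Subgroup (GL chevF4.Idx K)),
      (nJg j)⁻¹ * y * nJg j * x ∈ Uw chevF4 (n * nJg j) := by
  fin_cases j
  · exact ostep_mem1
  · exact ostep_mem2

theorem ostep_surjg (j : Fin 2) : ∀ n ∈ chevF4.monomialSubgroup K,
    (∀ x ∈ (XJg j : Subgroup (GL chevF4.Idx K)), n * x * n⁻¹ ∈ chevF4.posUnipotent K) →
    ∀ u ∈ Uw chevF4 (n * nJg j), ∃ y ∈ Uw chevF4 n, ∃ x ∈ (XJg j : Subgroup (GL chevF4.Idx K)),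
      u = (nJg j)⁻¹ * y * nJg j * x := by
  fin_cases j
  · exact ostep_surj1
  · exact ostep_surj2

theorem ostep_injg (j : Fin 2) : ∀ n ∈ chevF4.monomialSubgroup K,
    (∀ x ∈ (XJg j : Subgroup (GL chevF4.Idx K)), n * x * n⁻¹ ∈ chevF4.posUnipotent K) →
    ∀ y ∈ Uw chevF4 n, ∀ y' ∈ Uw chevF4 n, ∀ x ∈ (XJg j : Subgroup (GL chevF4.Idx K)),
      ∀ x' ∈ (XJg j : Subgroup (GL chevF4.Idx K)),
      (nJg j)⁻¹ * y * nJg j * x = (nJg j)⁻¹ * y' * nJg j * x' → y = y' ∧ x = x' := by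
  fin_cases j
  · exact ostep_inj1
  · exact ostep_inj2

theorem XJg_ne (j : Fin 2) : ∃ x ∈ (XJg j : Subgroup (GL chevF4.Idx K)), x ≠ 1 := by
  fin_cases j
  · exact XJ1_ne
  · exact XJ2_ne

end

section

variable {K : Type*} [Field K] [CharP K 2] {e : ℕ} (FD : FieldData K e)
  (α : ↥(chevF4.group K) ≃* ↥(chevF4.group K))
  (hα : ∀ (r : Fin chevF4.nroots) (t : K),
      α (xG goodF4 r.val t) = xG goodF4 (sig r.val) (if isShort r.val then t ^ 2 else t))

/-- the permutation of the fundamental roots induced by `σ` -/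
def piF4 : ℕ → ℕ
  | 0 => 3
  | 1 => 2
  | 2 => 1
  | 3 => 0
  | k => k

theorem piF4_spec : ∀ i < 4, piF4 i < 4 ∧ sig (chevF4.simple i) = chevF4.simple (piF4 i) := by
  decide +kernel

include hα in
/-- `σ`-stability of the coset `nH` transports negativity from `p_i` to `p_{π i}` -/
theorem neg_sigma (n : ↥(chevF4.group K)) (hn : (n : GL chevF4.Idx K) ∈ chevF4.monomialSubgroup K)
    (hτ : ((n⁻¹ * sigma FD α n : ↥(chevF4.group K)) : GL chevF4.Idx K) ∈ chevF4.diagonalSubgroup K)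
    {i : ℕ} (hi : i < 4) (hneg : Neg gF4 (n : GL chevF4.Idx K) i) :
    Neg gF4 (n : GL chevF4.Idx K) (piF4 i) := by
  intro t
  have hxU : ∀ (r : ℕ) (u : K), xU chevF4 gF4 r u = xg r u := fun r u => Units.ext rfl
  obtain ⟨hπ, hsig⟩ := piF4_spec i hi
  have hsi : chevF4.simple i < 48 := (TwWordF4.hypF4 (K := K)).hB.hsimp i hi
  have hsπ : chevF4.simple (piF4 i) < 48 := (TwWordF4.hypF4 (K := K)).hB.hsimp _ hπ
  set h : GL chevF4.Idx K := ((n⁻¹ * sigma FD α n : ↥(chevF4.group K)) : GL chevF4.Idx K) with hh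
  obtain ⟨c, hc0, hc⟩ := conj_N_xU chevF4 gF4 (TwWordF4.hypF4 (K := K)).hB (TwWordF4.hypF4 (K := K)).hT (TwWordF4.hypF4 (K := K)).hconj h hτ []
    (fun j hj => absurd hj List.not_mem_nil) (chevF4.simple (piF4 i)) hsπ
  obtain ⟨t'', ht''⟩ := lam_surj FD (chevF4.simple i) (c⁻¹ * t)
  -- the element `g = n x_i(t'') n⁻¹` of the group
  have hgV : ((n * XG (chevF4.simple i) t'' * n⁻¹ : ↥(chevF4.group K)) : GL chevF4.Idx K) ∈
      chevF4.negUnipotent K := by
    have := hneg t''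
    rw [hxU] at this
    simpa [Subgroup.coe_mul, XG_val] using this
  have h1 := (stab_all FD α hα).2.1 _ hgV
  rw [sExt_coe, map_mul, map_mul, map_inv, sigma_XG FD α hα _ hsi, hsig] at h1
  have hlam : (if isShort (chevF4.simple i) then (t'' ^ e) ^ 2 else t'' ^ e) = c⁻¹ * t := by
    rw [← ht'']
    unfold lam
    split_ifs <;> rfl
  rw [hlam] at h1
  have e1 : ((sigma FD α n : ↥(chevF4.group K)) : GL chevF4.Idx K) = (n : GL chevF4.Idx K) * h := by
    rw [hh]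
    simp [Subgroup.coe_mul]
  have e2 := hc (c⁻¹ * t)
  rw [nWordGL_nil, mul_one, ← mul_assoc, mul_inv_cancel₀ hc0, one_mul] at e2
  change h * xU chevF4 gF4 (chevF4.simple (piF4 i)) (c⁻¹ * t) * h⁻¹ =
    xU chevF4 gF4 (chevF4.simple (piF4 i)) t at e2
  rw [← e2]
  have e3 : (n : GL chevF4.Idx K) * (h * xU chevF4 gF4 (chevF4.simple (piF4 i)) (c⁻¹ * t) * h⁻¹) *
      (n : GL chevF4.Idx K)⁻¹ =
      ((n : GL chevF4.Idx K) * h) * xU chevF4 gF4 (chevF4.simple (piF4 i)) (c⁻¹ * t) *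
        ((n : GL chevF4.Idx K) * h)⁻¹ := by group
  rw [e3, ← e1, hxU]
  simpa [Subgroup.coe_mul, XG_val] using h1

/-- the recursion data for `²F₄`, given the fixed points of the class subgroups -/
noncomputable def recF4
    (hfixX : ∀ j : Fin 2, ∀ x ∈ (XJΓ j : Subgroup ↥(chevF4.group K)),
      (twF4 FD α hα).τ x = x → x ∈ (twF4 FD α hα).G1) :
    Rec (twF4 FD α hα) (Fin 2) where
  XJ := XJΓ
  nJ := nJΓ
  nJ_N := fun j => nJg_mem_N j
  nJ_G1 := by
    intro j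
    fin_cases j
    · exact Cfsg.Agent.Helper36.F4N.nJ1_mem_twisted FD
    · exact Cfsg.Agent.Helper36.F4N.nJ2_mem_twisted FD
  τXJ := by
    intro j x hx
    have hG : nJΓ j ∈ (twF4 FD α hα).G1 := by
      fin_cases j
      · exact Cfsg.Agent.Helper36.F4N.nJ1_mem_twisted FD
      · exact Cfsg.Agent.Helper36.F4N.nJ2_mem_twisted FD
    have h1 := (twF4 FD α hα).τUw (nJΓ j) x (by
      show (x : GL chevF4.Idx K) ∈ Uw chevF4 (nJg j)
      rw [← XJg_eq_Uw]; exact hx)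
    rw [(twF4 FD α hα).fix _ hG] at h1
    show (((twF4 FD α hα).τ x : ↥(chevF4.group K)) : GL chevF4.Idx K) ∈ XJg j
    rw [XJg_eq_Uw]
    exact h1
  fixXJ := hfixX
  XJ_ne := by
    intro j
    obtain ⟨x, hx, hne⟩ := XJg_ne (K := K) j
    refine ⟨⟨x, U_le_group (XJg_le_U j hx)⟩, hx, fun h => hne (congrArg Subtype.val h)⟩
  ostep_mem := by
    intro n hn j hpos y hy x hx
    have hpos' : ∀ x ∈ (XJg j : Subgroup (GL chevF4.Idx K)),
        (n : GL chevF4.Idx K) * x * (n : GL chevF4.Idx K)⁻¹ ∈ chevF4.posUnipotent K := by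
      intro x hx
      exact hpos ⟨x, U_le_group (XJg_le_U j hx)⟩ hx
    exact ostep_memg j _ hn hpos' _ hy _ hx
  ostep_surj := by
    intro n hn j hpos u hu
    have hpos' : ∀ x ∈ (XJg j : Subgroup (GL chevF4.Idx K)),
        (n : GL chevF4.Idx K) * x * (n : GL chevF4.Idx K)⁻¹ ∈ chevF4.posUnipotent K := by
      intro x hx
      exact hpos ⟨x, U_le_group (XJg_le_U j hx)⟩ hx
    obtain ⟨y, hy, x, hx, e⟩ := ostep_surjg j _ hn hpos' _ hu
    exact ⟨⟨y, U_le_group (Uw_le_pos chevF4 _ hy)⟩, hy, ⟨x, U_le_group (XJg_le_U j hx)⟩, hx,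
      Subtype.ext e⟩
  ostep_inj := by
    intro n hn j hpos y hy y' hy' x hx x' hx' e
    have hpos' : ∀ x ∈ (XJg j : Subgroup (GL chevF4.Idx K)),
        (n : GL chevF4.Idx K) * x * (n : GL chevF4.Idx K)⁻¹ ∈ chevF4.posUnipotent K := by
      intro x hx
      exact hpos ⟨x, U_le_group (XJg_le_U j hx)⟩ hx
    obtain ⟨h1, h2⟩ := ostep_injg j _ hn hpos' _ hy _ hy' _ hx _ hx' (congrArg Subtype.val e)
    exact ⟨Subtype.ext h1, Subtype.ext h2⟩
  desc := by
    intro n hn hnH hτ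
    have hn' : (n : GL chevF4.Idx K) ∈ chevF4.monomialSubgroup K := hn
    have hnH' : (n : GL chevF4.Idx K) ∉ chevF4.diagonalSubgroup K := hnH
    obtain ⟨i, hi, n', hn'N, en, hposi⟩ := exists_desc_single gF4 (TwWordF4.hypF4 (K := K)) hn' hnH'
    have hnegi : Neg gF4 (n : GL chevF4.Idx K) i := by
      rw [en]
      exact neg_of_desc gF4 TwWordF4.hypF4 hn'N hi hposi
    have hnegπ := neg_sigma FD α hα n hn' hτ hi hnegi
    have h4 : i = 0 ∨ i = 1 ∨ i = 2 ∨ i = 3 := by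
      have : i < 4 := hi
      omega
    rcases h4 with rfl | rfl | rfl | rfl
    · exact ⟨0, fun x hx => desc1 hn' hnegi hnegπ x hx⟩
    · exact ⟨1, fun x hx => desc2 hn' hnegi hnegπ x hx⟩
    · exact ⟨1, fun x hx => desc2 hn' hnegπ hnegi x hx⟩
    · exact ⟨0, fun x hx => desc1 hn' hnegπ hnegi x hx⟩

end

end Cfsg.Agent.Helper18.TwRecF4
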