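import Mathlib
import Cfsg.Agent.Lib.Helper18.O3K1
import Cfsg.Agent.S1068

/-!
# S2363 server piece (TF4): the large Ree groups (helper18)
-/

set_option autoImplicit false

namespace Cfsg.Agent.Helper18.O3K

open Cfsg

theorem concl_tf4 (K : Type) [Field K] [Fintype K] (m : ℕ) (hm : 1 ≤ m)
    (hK : Fintype.card K = 2 ^ (2 * m + 1)) : Concl 2 ↥(Lie.twistedF4 K (2 ^ m)) := by
  have hp : Nat.Prime 2 := Nat.prime_two
  have hc := Cfsg.Agent.S1068.result hK
  set q : ℕ := 2 ^ (2 * m + 1) with hq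
  have hq1 : 1 ≤ q := Nat.one_le_two_pow
  have hq2 : 2 ≤ q := by
    rw [hq]
    calc 2 = 2 ^ 1 := rfl
      _ ≤ 2 ^ (2 * m + 1) := Nat.pow_le_pow_right (by norm_num) (by omega)
  have hf : 1 ≤ 2 * m + 1 := by omega
  refine concl_of_q hp q (2 * m + 1) 12 16 ((q - 1) * (q ^ 3 + 1) * (q ^ 4 - 1) * (q ^ 6 + 1)) 1 hq ?_
    (by norm_num) ?_ ?_ (by norm_num)
  · rw [one_mul, hc]
    ring
  · intro h
    rcases (Nat.Prime.dvd_mul hp).mp h with h | h
    · rcases (Nat.Prime.dvd_mul hp).mp h with h | h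
      · rcases (Nat.Prime.dvd_mul hp).mp h with h | h
        · have := not_dvd_pow_sub_one hp hq hf (e := 1) le_rfl
          rw [pow_one] at this
          exact this h
        · exact not_dvd_pow_add_one hp hq hf (e := 3) (by norm_num) h
      · exact not_dvd_pow_sub_one hp hq hf (e := 4) (by norm_num) h
    · exact not_dvd_pow_add_one hp hq hf (e := 6) (by norm_num) h
  · have h1 : q - 1 < q ^ 1 := by
      rw [pow_one]
      omega
    have h2 : (q - 1) * (q ^ 3 + 1) < q ^ (1 + 4) := mul_lt_pow hq1 h1 (pow_add_one_le hq2 3)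
    have h3 : (q - 1) * (q ^ 3 + 1) * (q ^ 4 - 1) < q ^ (1 + 4 + 4) := mul_lt_pow hq1 h2 (pow_sub_one_le q 4)
    exact mul_lt_pow hq1 h3 (pow_add_one_le hq2 6)

end Cfsg.Agent.Helper18.O3K
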