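import Cfsg.Agent.Lib.Helper18.ChevPerfect
import Cfsg.Agent.Lib.Helper18.UiAll
import Cfsg.Agent.Lib.Helper18.TorusAll
import Cfsg.Agent.Lib.Helper18.ConjAll

set_option autoImplicit false
set_option Elab.async false

namespace Cfsg.Agent.Helper18

open Cfsg.Lie Cfsg.Agent.S1043 Cfsg.Agent.Helper17

/-- Check that each fundamental root is obtained from a commutator with a neighbouring fundamental root. -/
def perfCheck (D : ChevalleyDatum) (nb : List ℕ) : Bool :=
  (List.range D.rank).all fun j =>
    decide (lget nb j 0 < D.rank) &&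
      decide (D.reflectRoot (lget nb j 0) (D.simple j) < D.nroots) &&
      (D.commTerms (D.simple (lget nb j 0)) (D.simple j) ==
          [(D.reflectRoot (lget nb j 0) (D.simple j), 1, 1, 1)] ||
        D.commTerms (D.simple (lget nb j 0)) (D.simple j) ==
          [(D.reflectRoot (lget nb j 0) (D.simple j), -1, 1, 1)]) &&
      (D.reflectRoot (lget nb j 0) (D.reflectRoot (lget nb j 0) (D.simple j)) == D.simple j)

section

variable {F : Type*} [Field F] (D : ChevalleyDatum) (hD : Good D)

theorem simple_good_of_check (hB : BNFacts D) (hU : UiFacts D)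
    (hconj : ∀ i < D.rank, ∀ s < D.nroots, ConjGoal' F D i s) (nb : List ℕ)
    (h : perfCheck D nb = true) (j : ℕ) (hj : j < D.rank) : GoodRoot (F := F) D hD (D.simple j) := by
  simp only [perfCheck, Bool.and_eq_true, List.all_eq_true, List.mem_range, decide_eq_true_eq,
    Bool.or_eq_true, beq_iff_eq] at h
  obtain ⟨⟨⟨h1, h2⟩, h3⟩, h4⟩ := h j hj
  have hk : GoodRoot (F := F) D hD (D.reflectRoot (lget nb j 0) (D.simple j)) := by
    rcases h3 with h3 | h3
    · exact goodRoot_of_comm1 D hD hU _ h1 _ (hB.hsimpPos j hj) _ 1 h3 (Or.inl rfl) h2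
    · exact goodRoot_of_comm1 D hD hU _ h1 _ (hB.hsimpPos j hj) _ (-1) h3 (Or.inr rfl) h2
  have := goodRoot_reflect D hD hB hconj _ h1 _ hk
  rwa [h4] at this

end

theorem perfChkD4 : perfCheck chevD4 [1, 0, 1, 1] = true := by decide +kernel
theorem perfChkF4 : perfCheck chevF4 [1, 0, 3, 2] = true := by decide +kernel
theorem perfChkE6 : perfCheck chevE6 [2, 3, 0, 1, 3, 4] = true := by decide +kernel
theorem perfChkE7 : perfCheck chevE7 [2, 3, 0, 1, 3, 4, 5] = true := by decide +kernel
theorem perfChkE8 : perfCheck chevE8 [2, 3, 0, 1, 3, 4, 5, 6] = true := by decide +kernel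

theorem perfect_all {F : Type*} [Field F] (D : ChevalleyDatum) (hD : Good D)
    (h2 : D = chevG2 ∨ D = chevB2 → ∃ a : F, a ≠ 0 ∧ a ≠ 1) : commutator ↥(D.group F) = ⊤ := by
  have hB := bnFacts_all D hD
  have hU := uiFacts_all D hD
  obtain ⟨tbl, hT⟩ := torusData_all D hD
  have hconj : ∀ i < D.rank, ∀ s < D.nroots, ConjGoal' F D i s :=
    fun i hi s hs => conjGoal_all D hD i s hi hs
  apply perfect_of_simple D hD hB hconj
  have hD' := hD
  simp only [Good, List.mem_cons, List.not_mem_nil, or_false] at hD'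
  rcases hD' with rfl | rfl | rfl | rfl | rfl | rfl | rfl
  · -- G2
    obtain ⟨c, hc0, hc1⟩ := h2 (Or.inl rfl)
    intro j hj
    have hj' : j = 0 ∨ j = 1 := by
      have : j < 2 := hj
      omega
    rcases hj' with rfl | rfl
    · exact goodRoot_of_torus chevG2 hD hT hB c hc0 hc1 1 (by decide) _ (hB.hsimp 0 (by decide))
        (by decide)
    · have h10 : GoodRoot (F := F) chevG2 hD 10 :=
        goodRoot_of_torus chevG2 hD hT hB c hc0 hc1 1 (by decide) 10 (by decide) (by decide)
      have := goodRoot_reflect chevG2 hD hB hconj 0 (by decide) _ h10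
      have e : chevG2.reflectRoot 0 10 = chevG2.simple 1 := by decide
      rwa [e] at this
  · -- B2
    obtain ⟨c, hc0, hc1⟩ := h2 (Or.inr rfl)
    intro j hj
    have hj' : j = 0 ∨ j = 1 := by
      have : j < 2 := hj
      omega
    rcases hj' with rfl | rfl
    · exact goodRoot_of_torus chevB2 hD hT hB c hc0 hc1 1 (by decide) _ (hB.hsimp 0 (by decide))
        (by decide)
    · have h6 : GoodRoot (F := F) chevB2 hD 6 :=
        goodRoot_of_torus chevB2 hD hT hB c hc0 hc1 1 (by decide) 6 (by decide) (by decide)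
      have h7 : GoodRoot (F := F) chevB2 hD 7 :=
        goodRoot_of_comm2 chevB2 hD hU 0 (by decide) 4 (by decide) 6 7 (-1) (-1) (by decide)
          (Or.inr rfl) h6 (by decide)
      have := goodRoot_reflect chevB2 hD hB hconj 0 (by decide) _ h7
      have e : chevB2.reflectRoot 0 7 = chevB2.simple 1 := by decide
      rwa [e] at this
  · exact simple_good_of_check chevD4 hD hB hU hconj _ perfChkD4
  · exact simple_good_of_check chevF4 hD hB hU hconj _ perfChkF4
  · exact simple_good_of_check chevE6 hD hB hU hconj _ perfChkE6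
  · exact simple_good_of_check chevE7 hD hB hU hconj _ perfChkE7
  · exact simple_good_of_check chevE8 hD hB hU hconj _ perfChkE8

end Cfsg.Agent.Helper18
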