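import Cfsg.Agent.Lib.Helper18.RootCentF4Data
import Cfsg.Agent.Lib.Helper18.UProdAll
import Cfsg.Agent.Lib.Helper18.TorusAll
import Cfsg.Agent.Lib.Helper18.ConjAll
import Cfsg.Agent.S1038
import Cfsg.Agent.S1100

set_option autoImplicit false

namespace Cfsg.Agent.Helper18

open Cfsg.Lie Cfsg.Agent.S1043 Cfsg.Agent.Helper17

theorem closure_three_roots {F : Type*} [Field F] (D : ChevalleyDatum) (a b c : ℕ) :
    Subgroup.closure {g : GL D.Idx F | ∃ s ∈ [a, b, c], ∃ c' : F,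
      (g : Matrix D.Idx D.Idx F) = D.x F s c'} =
      D.rootSubgroup F a ⊔ D.rootSubgroup F b ⊔ D.rootSubgroup F c := by
  have e : {g : GL D.Idx F | ∃ s ∈ [a, b, c], ∃ c' : F, (g : Matrix D.Idx D.Idx F) = D.x F s c'} =
      ({g : GL D.Idx F | ∃ t : F, (g : Matrix D.Idx D.Idx F) = D.x F a t} ∪
        {g : GL D.Idx F | ∃ t : F, (g : Matrix D.Idx D.Idx F) = D.x F b t}) ∪
        {g : GL D.Idx F | ∃ t : F, (g : Matrix D.Idx D.Idx F) = D.x F c t} := by
    ext g
    simp only [List.mem_cons, List.not_mem_nil, or_false, Set.mem_ofPred_eq, Set.mem_union]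
    constructor
    · rintro ⟨s, rfl | rfl | rfl, t, h⟩
      · exact Or.inl (Or.inl ⟨t, h⟩)
      · exact Or.inl (Or.inr ⟨t, h⟩)
      · exact Or.inr ⟨t, h⟩
    · rintro ((⟨t, h⟩ | ⟨t, h⟩) | ⟨t, h⟩)
      · exact ⟨a, Or.inl rfl, t, h⟩
      · exact ⟨b, Or.inr (Or.inl rfl), t, h⟩
      · exact ⟨c, Or.inr (Or.inr rfl), t, h⟩
  rw [e, Subgroup.closure_union, Subgroup.closure_union]
  rfl

/-- The centralisers of the long and the short root involutions `x_47(1)`, `x_44(1)` of `F₄` in characteristic two. -/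
theorem rootCentF4 {F : Type*} [Field F] [CharP F 2] (r0 : ℕ) (J Jn : List ℕ) (cert : List (List ℕ × ℕ))
    (k : ℕ) (hchk : evenCheck chevF4 permTblF4 r0 J cert = true)
    (hchi : evenChiCheck chevF4 r0 J Jn k = true)
    (t : GL chevF4.Idx F) (ht : (t : Matrix chevF4.Idx chevF4.Idx F) = chevF4.x F r0 1) :
    chevF4.group F ⊓ Subgroup.centralizer {t} =
      chevF4.posUnipotent F ⊔ Subgroup.closure {g : GL chevF4.Idx F | ∃ s ∈ Jn, ∃ c : F,
        (g : Matrix chevF4.Idx chevF4.Idx F) = chevF4.x F s c} := by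
  have hD : Good chevF4 := by simp [Good]
  obtain ⟨tbl, hT⟩ := torusData_all chevF4 hD
  have hHN : chevF4.diagonalSubgroup F ≤ chevF4.monomialSubgroup F := le_sup_left
  have hNH := (Subgroup.normal_subgroupOf_iff_le_normalizer hHN).mp
    (Cfsg.Agent.S1038.result (F := F) chevF4 hD)
  have hB := bnFacts_all chevF4 hD
  have hconj : ∀ i < chevF4.rank, ∀ s < chevF4.nroots, ConjGoal' F chevF4 i s :=
    fun i hi s hs => conjGoal_all chevF4 hD i s hi hs
  have hS : ∀ i < chevF4.rank, ConjGoalS' F chevF4 i := fun i hi => conjGoalS_all chevF4 hD i hi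
  have hTri := triOK_of_mem chevF4 hD
  have hNeg := negTriOK_of_mem chevF4 hD
  have hcomm := commOK_all (F := F) chevF4 hD
  obtain ⟨f, hUP⟩ := uProdData_all chevF4 hD
  have hBr : ∀ g ∈ chevF4.group F, ∃ b ∈ chevF4.borelSubgroup F, ∃ n ∈ chevF4.monomialSubgroup F,
      ∃ u ∈ chevF4.posUnipotent F, g = b * n * u := by
    intro g hg
    obtain ⟨b, hb, n, hn, u, hu, e⟩ := (Cfsg.Agent.S1100.result (F := F) chevF4 hD).1 g hg
    refine ⟨b, hb, n, hn, u, ?_, e⟩
    refine Subgroup.closure_mono ?_ hu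
    rintro x ⟨r, t, hr, -, hx⟩
    exact ⟨r, t, hr, hx⟩
  exact rootCentEven_of_checks chevF4 hD hB hT hTri hNeg hconj hS hNH hUP hBr hcomm permTblF4
    permTblF4_ok rcInvF4 r0 J Jn cert k hchk hchi t ht

end Cfsg.Agent.Helper18
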