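import Cfsg.Agent.Lib.Helper6.ReeC
import Cfsg.Agent.Lib.Helper6.ReeD
import Cfsg.Agent.Lib.Helper18.RootCentF4All

/-!
# `²G₂`: the Bruhat decomposition of the twisted group
-/

set_option autoImplicit false
set_option linter.unusedSectionVars false
set_option maxRecDepth 100000

namespace Cfsg.Agent.Helper18.ReeTor

open Cfsg Cfsg.Lie Cfsg.Agent.Helper18 Cfsg.Agent.Helper15.Ree Cfsg.Agent.Helper6.ReeSix
open Cfsg.Agent.S1043 Cfsg.Agent.Helper6.G2C3 Cfsg.Agent.Helper6 Cfsg.Agent.Helper6.ReeS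
open Cfsg.Agent.Helper17
open scoped Pointwise

section

variable {K : Type*} [Field K] [CharP K 3] {e : ℕ} (FD : FieldData K e)
  (α : ↥(chevG2.group K) ≃* ↥(chevG2.group K))
  (hα : ∀ (r : Fin chevG2.nroots) (t : K),
      α (xG r.val t) = xG (sig r.val) (if isShort r.val then t ^ 3 else t))

open Classical in
/-- `σ` as a map of the general linear group (trivial outside the Chevalley group). -/
noncomputable def sg (x : GL chevG2.Idx K) : GL chevG2.Idx K :=
  if hx : x ∈ chevG2.group K then ((sigma FD α ⟨x, hx⟩ : ↥(chevG2.group K)) : GL chevG2.Idx K) else 1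

theorem sg_of_mem (x : GL chevG2.Idx K) (hx : x ∈ chevG2.group K) :
    sg FD α x = ((sigma FD α ⟨x, hx⟩ : ↥(chevG2.group K)) : GL chevG2.Idx K) := dif_pos hx

theorem sg_mem (x : GL chevG2.Idx K) (hx : x ∈ chevG2.group K) : sg FD α x ∈ chevG2.group K := by
  rw [sg_of_mem FD α x hx]
  exact Subtype.property _

theorem sg_mul (x y : GL chevG2.Idx K) (hx : x ∈ chevG2.group K) (hy : y ∈ chevG2.group K) :
    sg FD α (x * y) = sg FD α x * sg FD α y := by
  rw [sg_of_mem FD α _ (mul_mem hx hy), sg_of_mem FD α x hx, sg_of_mem FD α y hy, ← Subgroup.coe_mul,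
    ← map_mul]
  rfl

theorem sg_one : sg FD α (1 : GL chevG2.Idx K) = 1 := by
  rw [sg_of_mem FD α _ (one_mem _)]
  have : (⟨1, one_mem _⟩ : ↥(chevG2.group K)) = 1 := rfl
  rw [this, map_one]
  rfl

theorem sg_inv (x : GL chevG2.Idx K) (hx : x ∈ chevG2.group K) : sg FD α x⁻¹ = (sg FD α x)⁻¹ := by
  rw [eq_inv_iff_mul_eq_one, ← sg_mul FD α _ _ (inv_mem hx) hx, inv_mul_cancel, sg_one]

/-- The ring homomorphism by which `σ` acts on the parameters of the root `r`. -/
noncomputable def lam (r : ℕ) : K →+* K := if isShort r then psi FD else FD.phi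

theorem xg_mem_group (r : ℕ) (t : K) : xg r t ∈ chevG2.group K := by
  rw [← xG_val']
  exact Subtype.property _

include hα in
theorem sg_xg (r : ℕ) (hr : r < 12) (t : K) : sg FD α (xg r t) = xg (sig r) (lam FD r t) := by
  rw [sg_of_mem FD α _ (xg_mem_group r t)]
  have h1 : (⟨xg r t, xg_mem_group r t⟩ : ↥(chevG2.group K)) = xG r t := Subtype.ext (xG_val' r t).symm
  rw [h1, sigma_xG FD α hα r hr, xG_val']
  unfold lam
  split_ifs <;> rfl

include hα in
theorem sg_fixed (g : GL chevG2.Idx K) (hg : g ∈ twistedG2 K e) : sg FD α g = g := by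
  obtain ⟨hgG, hfix⟩ := twisted_fixed FD α hα g hg
  rw [sg_of_mem FD α _ hgG, hfix]

theorem phi_psi (x : K) : FD.phi (psi FD x) = x := by
  rw [psi_apply, map_pow]
  exact FD.phi_cube x

theorem psi_phi (x : K) : psi FD (FD.phi x) = x := by
  rw [psi_apply]
  exact FD.phi_cube x

omit [CharP K 3] in
theorem ree_pos_iff (s : ℕ) : chevG2.IsPosRoot s ↔ 6 ≤ s ∧ s < 12 := by
  obtain ⟨f, hUP⟩ := uProdData_all chevG2 (by simp [Good])
  exact hUP.hposiff s

theorem sig_pos_root : ∀ s, 6 ≤ s ∧ s < 12 → 6 ≤ sig s ∧ sig s < 12 := by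
  intro s ⟨h6, h12⟩
  interval_cases s <;> decide

include hα in
theorem sg_U (x : GL chevG2.Idx K) (hx : x ∈ chevG2.posUnipotent K) :
    x ∈ chevG2.group K ∧ sg FD α x ∈ chevG2.posUnipotent K := by
  unfold ChevalleyDatum.posUnipotent at hx
  induction hx using Subgroup.closure_induction with
  | mem y hy =>
    obtain ⟨r, t, hr, hy⟩ := hy
    have hye : y = xg r t := Units.ext hy
    have hr' := (ree_pos_iff r).mp hr
    rw [hye]
    refine ⟨xg_mem_group r t, ?_⟩
    rw [sg_xg FD α hα r hr'.2]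
    exact Subgroup.subset_closure ⟨sig r, _, (ree_pos_iff _).mpr (sig_pos_root r hr'), rfl⟩
  | one => exact ⟨one_mem _, by rw [sg_one]; exact one_mem _⟩
  | mul a b _ _ ha hb =>
    exact ⟨mul_mem ha.1 hb.1, by rw [sg_mul FD α _ _ ha.1 hb.1]; exact mul_mem ha.2 hb.2⟩
  | inv a _ ha => exact ⟨inv_mem ha.1, by rw [sg_inv FD α _ ha.1]; exact inv_mem ha.2⟩

theorem wordG_mem_group (w : List (ℕ × K)) : wordG w ∈ chevG2.group K := by
  induction w with
  | nil => exact one_mem _
  | cons p w ih =>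
    rw [wordG_cons]
    exact mul_mem (xg_mem_group _ _) ih

include hα in
theorem sg_wordG (w : List (ℕ × K)) (hw : ∀ p ∈ w, p.1 < 12) :
    sg FD α (wordG w) = wordG (w.map fun p => (sig p.1, lam FD p.1 p.2)) := by
  induction w with
  | nil => simp [wordG_nil, sg_one]
  | cons p w ih =>
    rw [wordG_cons, sg_mul FD α _ _ (xg_mem_group _ _) (wordG_mem_group w),
      sg_xg FD α hα p.1 (hw p List.mem_cons_self), ih (fun q hq => hw q (List.mem_cons_of_mem _ hq)),
      List.map_cons, wordG_cons]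

theorem sig_neg : ∀ r < 12, sig (chevG2.neg r) = chevG2.neg (sig r) := by decide
theorem short_neg : ∀ r < 12, isShort (chevG2.neg r) = isShort r := by decide
theorem neg_lt12 : ∀ r < 12, chevG2.neg r < 12 := by decide
theorem sig_lt12' : ∀ r < 12, sig r < 12 := by decide

theorem lam_neg_root (r : ℕ) (hr : r < 12) : lam FD (chevG2.neg r) = lam FD r := by
  unfold lam
  rw [short_neg r hr]

include hα in
theorem sg_H (x : GL chevG2.Idx K) (hx : x ∈ chevG2.diagonalSubgroup K) :
    x ∈ chevG2.group K ∧ sg FD α x ∈ chevG2.diagonalSubgroup K := by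
  unfold ChevalleyDatum.diagonalSubgroup at hx
  induction hx using Subgroup.closure_induction with
  | mem y hy =>
    obtain ⟨r, t, hr, ht, hy⟩ := hy
    have hr12 : r < 12 := hr
    have hye : y = wordG (chevG2.hWord r t) := Units.ext (by rw [hy, wordG_val]; rfl)
    rw [hye]
    refine ⟨wordG_mem_group _, ?_⟩
    have hw : ∀ p ∈ chevG2.hWord r t, p.1 < 12 := by
      intro p hp
      simp only [ChevalleyDatum.hWord, ChevalleyDatum.nWord, List.cons_append, List.nil_append,
        List.mem_cons, List.not_mem_nil, or_false] at hp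
      rcases hp with rfl | rfl | rfl | rfl | rfl | rfl
      · exact hr12
      · exact neg_lt12 r hr12
      · exact hr12
      · exact hr12
      · exact neg_lt12 r hr12
      · exact hr12
    rw [sg_wordG FD α hα _ hw]
    have hmap : ((chevG2.hWord r t).map fun p => (sig p.1, lam FD p.1 p.2)) =
        chevG2.hWord (sig r) (lam FD r t) := by
      simp only [ChevalleyDatum.hWord, ChevalleyDatum.nWord, List.cons_append, List.nil_append,
        List.map_cons, List.map_nil, sig_neg r hr12, lam_neg_root FD r hr12, map_neg, map_inv₀, map_one]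
    rw [hmap]
    apply Subgroup.subset_closure
    refine ⟨sig r, lam FD r t, sig_lt12' r hr12, ?_, ?_⟩
    · exact (map_ne_zero (lam FD r)).mpr ht
    · rw [wordG_val]; rfl
  | one => exact ⟨one_mem _, by rw [sg_one]; exact one_mem _⟩
  | mul a b _ _ ha hb =>
    exact ⟨mul_mem ha.1 hb.1, by rw [sg_mul FD α _ _ ha.1 hb.1]; exact mul_mem ha.2 hb.2⟩
  | inv a _ ha => exact ⟨inv_mem ha.1, by rw [sg_inv FD α _ ha.1]; exact inv_mem ha.2⟩

include hα in
theorem sg_B {tbl : List ℕ} (hT : TorusData chevG2 tbl) (x : GL chevG2.Idx K)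
    (hx : x ∈ chevG2.borelSubgroup K) :
    x ∈ chevG2.group K ∧ sg FD α x ∈ chevG2.borelSubgroup K := by
  have hBs : ((chevG2.borelSubgroup K : Subgroup (GL chevG2.Idx K)) : Set (GL chevG2.Idx K)) =
      (chevG2.posUnipotent K : Set (GL chevG2.Idx K)) * (chevG2.diagonalSubgroup K : Set (GL chevG2.Idx K)) :=
    Subgroup.coe_mul_of_right_le_normalizer_left _ _ (diag_le_normalizer chevG2 hT)
  have hx' : x ∈ ((chevG2.borelSubgroup K : Subgroup (GL chevG2.Idx K)) : Set (GL chevG2.Idx K)) := hx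
  rw [hBs] at hx'
  obtain ⟨u, hu, h, hh, rfl⟩ := Set.mem_mul.mp hx'
  obtain ⟨huG, huU⟩ := sg_U FD α hα u hu
  obtain ⟨hhG, hhH⟩ := sg_H FD α hα h hh
  refine ⟨mul_mem huG hhG, ?_⟩
  rw [sg_mul FD α _ _ huG hhG]
  exact mul_mem (Subgroup.mem_sup_left huU) (Subgroup.mem_sup_right hhH)

end

end Cfsg.Agent.Helper18.ReeTor
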