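import Cfsg.Agent.Lib.Helper18.ReeBruhatA

set_option autoImplicit false
set_option linter.unusedSectionVars false
set_option maxRecDepth 100000

namespace Cfsg.Agent.Helper18.ReeTor

open Cfsg Cfsg.Lie Cfsg.Agent.Helper18 Cfsg.Agent.Helper15.Ree Cfsg.Agent.Helper6.ReeSix
open Cfsg.Agent.S1043 Cfsg.Agent.Helper6.G2C3 Cfsg.Agent.Helper6 Cfsg.Agent.Helper6.ReeS
open Cfsg.Agent.Helper17
open scoped Pointwise

theorem reeGood : Good chevG2 := by simp [Good]

/-- The swap of the two fundamental roots. -/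
def swp (i : ℕ) : ℕ := 1 - i

section

variable {K : Type*} [Field K] [CharP K 3] {e : ℕ} (FD : FieldData K e)
  (α : ↥(chevG2.group K) ≃* ↥(chevG2.group K))
  (hα : ∀ (r : Fin chevG2.nroots) (t : K),
      α (xG r.val t) = xG (sig r.val) (if isShort r.val then t ^ 3 else t))

omit [CharP K 3] in
theorem xU_eq_xg (r : ℕ) (t : K) : xU chevG2 reeGood r t = xg r t := Units.ext rfl

include hα in
theorem sg_nGL (i : ℕ) (hi : i < 2) :
    sg FD α (nGL chevG2 reeGood i) = nGL chevG2 reeGood (swp i) := by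
  have h70 : chevG2.simple 0 = 7 := by decide
  have h61 : chevG2.simple 1 = 6 := by decide
  have hn7 : chevG2.neg 7 = 4 := by decide
  have hn6 : chevG2.neg 6 = 5 := by decide
  unfold nGL
  simp only [xU_eq_xg]
  rw [sg_mul FD α _ _ (mul_mem (xg_mem_group _ _) (xg_mem_group _ _)) (xg_mem_group _ _),
    sg_mul FD α _ _ (xg_mem_group _ _) (xg_mem_group _ _)]
  interval_cases i
  · rw [h70, hn7, sg_xg FD α hα 7 (by decide), sg_xg FD α hα 4 (by decide)]
    simp only [map_one, map_neg]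
    change _ = xg (chevG2.simple 1) 1 * xg (chevG2.neg (chevG2.simple 1)) (-1) * xg (chevG2.simple 1) 1
    rw [h61, hn6]
    rfl
  · rw [h61, hn6, sg_xg FD α hα 6 (by decide), sg_xg FD α hα 5 (by decide)]
    simp only [map_one, map_neg]
    change _ = xg (chevG2.simple 0) 1 * xg (chevG2.neg (chevG2.simple 0)) (-1) * xg (chevG2.simple 0) 1
    rw [h70, hn7]
    rfl

omit [CharP K 3] in
theorem nWordGL_mem_group (l : List ℕ) (hl : ∀ i ∈ l, i < 2) :
    nWordGL (F := K) chevG2 reeGood l ∈ chevG2.group K :=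
  monomial_le chevG2 reeGood (nWordGL_mem chevG2 reeGood l (fun i hi => by
    have := hl i hi
    interval_cases i <;> decide))

include hα in
theorem sg_nWord (l : List ℕ) (hl : ∀ i ∈ l, i < 2) :
    sg FD α (nWordGL chevG2 reeGood l) = nWordGL chevG2 reeGood (l.map swp) := by
  induction l with
  | nil => rw [List.map_nil, nWordGL_nil, sg_one]
  | cons i l ih =>
    have hl' : ∀ k ∈ l, k < 2 := fun k hk => hl k (List.mem_cons_of_mem _ hk)
    have hiG : nGL (F := K) chevG2 reeGood i ∈ chevG2.group K := by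
      have := nWordGL_mem_group (K := K) [i] (fun k hk => by
        rw [List.mem_singleton] at hk; rw [hk]; exact hl i List.mem_cons_self)
      rwa [nWordGL_cons, nWordGL_nil, mul_one] at this
    rw [nWordGL_cons, sg_mul FD α _ _ hiG (nWordGL_mem_group l hl'),
      sg_nGL FD α hα i (hl i List.mem_cons_self), ih hl', List.map_cons, nWordGL_cons]

theorem refl_swp : ∀ i < 2, ∀ r < 12, chevG2.reflectRoot (swp i) (sig r) = sig (chevG2.reflectRoot i r) := by
  decide

theorem sig_sig' : ∀ r < 12, sig (sig r) = r := by decide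

theorem swp_lt : ∀ i < 2, swp i < 2 := by decide

theorem permW_swp (hB : BNFacts chevG2) (l : List ℕ) (hl : ∀ i ∈ l, i < 2) (s : ℕ) (hs : s < 12) :
    permW chevG2 (l.map swp) (sig s) = sig (permW chevG2 l s) := by
  induction l with
  | nil => rfl
  | cons i l ih =>
    have hl' : ∀ k ∈ l, k < 2 := fun k hk => hl k (List.mem_cons_of_mem _ hk)
    have hlt : permW chevG2 l s < 12 := permW_lt hB l hl' s hs
    change chevG2.reflectRoot (swp i) (permW chevG2 (l.map swp) (sig s)) =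
      sig (chevG2.reflectRoot i (permW chevG2 l s))
    rw [ih hl', refl_swp i (hl i List.mem_cons_self) _ hlt]

omit [CharP K 3] in
/-- Uniqueness of the Bruhat cell. -/
theorem cell_unique (hB : BNFacts chevG2) (hU : UiFacts chevG2) {tbl : List ℕ} (hT : TorusData chevG2 tbl)
    (hTri : TriOK chevG2) (hNeg : NegTriOK chevG2)
    (hconj : ∀ i < chevG2.rank, ∀ s < chevG2.nroots, ConjGoal' K chevG2 i s)
    (hS : ∀ i < chevG2.rank, ConjGoalS' K chevG2 i)
    (hNH : chevG2.monomialSubgroup K ≤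
      Subgroup.normalizer (chevG2.diagonalSubgroup K : Set (GL chevG2.Idx K)))
    (n n' b b' : GL chevG2.Idx K) (hn : n ∈ chevG2.monomialSubgroup K)
    (hn' : n' ∈ chevG2.monomialSubgroup K) (hb : b ∈ chevG2.borelSubgroup K)
    (hb' : b' ∈ chevG2.borelSubgroup K) (e : n' = b * n * b') :
    n⁻¹ * n' ∈ chevG2.diagonalSubgroup K := by
  have hBG : chevG2.borelSubgroup K ≤ chevG2.group K := borel_le chevG2 reeGood
  have hNG : chevG2.monomialSubgroup K ≤ chevG2.group K := monomial_le chevG2 reeGood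
  obtain ⟨P, hPB, hPN, _⟩ := bnPair_exists chevG2 reeGood hB hU hT hTri hNeg hconj hS hNH
  have hmemB : ∀ x : GL chevG2.Idx K, ∀ hx : x ∈ chevG2.borelSubgroup K,
      (⟨x, hBG hx⟩ : ↥(chevG2.group K)) ∈ P.B := by
    intro x hx
    rw [hPB, Subgroup.mem_subgroupOf]
    exact hx
  have hmemN : ∀ x : GL chevG2.Idx K, ∀ hx : x ∈ chevG2.monomialSubgroup K,
      (⟨x, hNG hx⟩ : ↥(chevG2.group K)) ∈ P.N := by
    intro x hx
    rw [hPN, Subgroup.mem_subgroupOf]
    exact hx
  have hC : Cfsg.Agent.Helper6.C P ⟨n, hNG hn⟩ = Cfsg.Agent.Helper6.C P ⟨n', hNG hn'⟩ := by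
    apply Cfsg.Agent.Helper6.C_eq_of_mem_of_mem P (g := (⟨n', hNG hn'⟩ : ↥(chevG2.group K)))
    · refine (Cfsg.Agent.Helper6.mem_C P).mpr ⟨_, hmemB b hb, _, hmemB b' hb', ?_⟩
      apply Subtype.ext
      exact e
    · exact Cfsg.Agent.Helper6.self_mem_C P _
  have h1 := Cfsg.Agent.Helper6.bruhat_unique P (hmemN n hn) (hmemN n' hn') hC
  rw [hPB, Subgroup.mem_subgroupOf] at h1
  have h2 : n⁻¹ * n' ∈ chevG2.borelSubgroup K := h1
  rw [← (borel_inf_monomial (F := K) chevG2 reeGood hB hT hTri hNeg hconj hS hNH).2]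
  exact Subgroup.mem_inf.mpr ⟨h2, mul_mem (inv_mem hn) hn'⟩

end

end Cfsg.Agent.Helper18.ReeTor
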