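import Cfsg.Agent.Lib.Helper18.ReeBruhatB
import Cfsg.Agent.Lib.Helper6.ReeK
import Cfsg.Agent.Lib.Helper6.ReeD

set_option autoImplicit false
set_option linter.unusedSectionVars false
set_option maxRecDepth 100000

namespace Cfsg.Agent.Helper18.ReeTor

open Cfsg Cfsg.Lie Cfsg.Agent.Helper18 Cfsg.Agent.Helper15.Ree Cfsg.Agent.Helper6.ReeSix
open Cfsg.Agent.S1043 Cfsg.Agent.Helper6.G2C3 Cfsg.Agent.Helper6 Cfsg.Agent.Helper6.ReeS
open Cfsg.Agent.Helper17
open scoped Pointwise

section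

variable {K : Type*} [Field K] [CharP K 3] {e : ℕ} (FD : FieldData K e)
  (α : ↥(chevG2.group K) ≃* ↥(chevG2.group K))
  (hα : ∀ (r : Fin chevG2.nroots) (t : K),
      α (xG r.val t) = xG (sig r.val) (if isShort r.val then t ^ 3 else t))

/-- The conjugation action of `h n_w`. -/
theorem ca_nWord (hB : BNFacts chevG2) {tbl : List ℕ} (hT : TorusData chevG2 tbl)
    (hconj : ∀ i < chevG2.rank, ∀ s < chevG2.nroots, ConjGoal' K chevG2 i s)
    (h : GL chevG2.Idx K) (hh : h ∈ chevG2.diagonalSubgroup K) (l : List ℕ)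
    (hl : ∀ i ∈ l, i < chevG2.rank) :
    CA (h * nWordGL chevG2 reeGood l) (permW chevG2 l) := by
  intro s hs
  obtain ⟨c, hc0, hc⟩ := conj_N_xU chevG2 reeGood hB hT hconj h hh l hl s hs
  refine ⟨permW_lt hB l hl s hs, c, hc0, fun t => ?_⟩
  have := hc t
  rwa [xU_eq_xg, xU_eq_xg] at this

/-- A `σ`-stable cell is the cell of `1` or of the longest element. -/
theorem perm_cases (hB : BNFacts chevG2) {tbl : List ℕ} (hT : TorusData chevG2 tbl)
    (hconj : ∀ i < chevG2.rank, ∀ s < chevG2.nroots, ConjGoal' K chevG2 i s)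
    (l : List ℕ) (hl : ∀ i ∈ l, i < chevG2.rank)
    (hk : (nWordGL (F := K) chevG2 reeGood l)⁻¹ * nWordGL chevG2 reeGood (l.map swp) ∈
      chevG2.diagonalSubgroup K) :
    (∀ s < 12, permW chevG2 l s = s) ∨ (∀ s < 12, permW chevG2 l s = chevG2.neg s) := by
  have hl2 : ∀ i ∈ l, i < 2 := hl
  have hl' : ∀ i ∈ l.map swp, i < chevG2.rank := by
    intro i hi
    obtain ⟨j, hj, rfl⟩ := List.mem_map.mp hi
    exact swp_lt j (hl2 j hj)
  have c1 : CA (nWordGL (F := K) chevG2 reeGood l) (permW chevG2 l) := by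
    have := ca_nWord hB hT hconj (1 : GL chevG2.Idx K) (one_mem _) l hl
    rwa [one_mul] at this
  have c2 : CA (nWordGL (F := K) chevG2 reeGood (l.map swp)) (permW chevG2 (l.map swp)) := by
    have := ca_nWord hB hT hconj (1 : GL chevG2.Idx K) (one_mem _) (l.map swp) hl'
    rwa [one_mul] at this
  have c3 : CA (nWordGL (F := K) chevG2 reeGood (l.map swp)) (fun s => permW chevG2 l (id s)) := by
    have := ca_mul c1 (ca_of_mem_H hk)
    rwa [mul_inv_cancel_left] at this
  have heq : ∀ s < 12, permW chevG2 (l.map swp) s = permW chevG2 l s := ca_unique c2 c3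
  have hcomm : ∀ s < 12, permW chevG2 l (sig s) = sig (permW chevG2 l s) := by
    intro s hs
    rw [← heq _ (sig_lt12' s hs), permW_swp hB l hl2 s hs]
  have hN : nWordGL (F := K) chevG2 reeGood l ∈ chevG2.monomialSubgroup K :=
    nWordGL_mem chevG2 reeGood l (fun i hi => hB.hsimp i (hl i hi))
  obtain ⟨u, a, b, ha, hb, hca, hcb, hact, hA, hB'⟩ := qn_of_mem_N hN
  have hTa : ∀ s < 12, T a s = permW chevG2 l s := ca_unique hA c1
  have hcommT : ∀ s < 12, T a (sig s) = sig (T a s) := by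
    intro s hs
    rw [hTa _ (sig_lt12' s hs), hTa s hs, hcomm s hs]
  rcases tbs_comm a ha hcommT with h | h
  · left
    intro s hs
    rw [← hTa s hs, h s hs]
  · right
    intro s hs
    rw [← hTa s hs, h s hs]

end

end Cfsg.Agent.Helper18.ReeTor
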