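import Cfsg.Agent.Lib.Helper18.ReeBruhatC
import Cfsg.Agent.Lib.Helper18.ChevCells

set_option autoImplicit false
set_option linter.unusedSectionVars false
set_option maxRecDepth 100000

namespace Cfsg.Agent.Helper18.ReeTor

open Cfsg Cfsg.Lie Cfsg.Agent.Helper18 Cfsg.Agent.Helper15.Ree Cfsg.Agent.Helper6.ReeSix
open Cfsg.Agent.S1043 Cfsg.Agent.Helper6.G2C3 Cfsg.Agent.Helper6 Cfsg.Agent.Helper6.ReeS
open Cfsg.Agent.Helper17
open scoped Pointwise

section

variable {K : Type*} [Field K] [CharP K 3] {e : ℕ} (FD : FieldData K e)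
  (α : ↥(chevG2.group K) ≃* ↥(chevG2.group K))
  (hα : ∀ (r : Fin chevG2.nroots) (t : K),
      α (xG r.val t) = xG (sig r.val) (if isShort r.val then t ^ 3 else t))

include FD hα in
/-- A `σ`-fixed element of `U` lies in the twisted group. -/
theorem fixed_U_mem (u : GL chevG2.Idx K) (hu : u ∈ chevG2.posUnipotent K) (hfix : sg FD α u = u) :
    u ∈ twistedG2 K e := by
  obtain ⟨a, b, c, d, f, g', rfl⟩ := exists_can u hu
  have hg : can xp a b c d f g' ∈ chevG2.group K := (sg_U FD α hα _ hu).1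
  rw [sg_of_mem FD α _ hg] at hfix
  have e1 : (⟨can xp a b c d f g', hg⟩ : ↥(chevG2.group K)) = can XP a b c d f g' :=
    Subtype.ext (can_val XP_val a b c d f g').symm
  have hfix' : sigma FD α (can XP a b c d f g') = can XP a b c d f g' := by
    rw [← e1]
    exact Subtype.ext hfix
  obtain ⟨t, u', v, h⟩ := fixed_can (rel_lift XP_val (rel_pos FD.h3)) (sig_pos FD α hα)
    (fun a b c d f g a' b' c' d' f' g' h => by
      obtain ⟨h1, h2, h3, h4, _, _⟩ := can_inj_lift a b c d f g a' b' c' d' f' g' h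
      exact ⟨h1, h2, h3, h4⟩) a b c d f g' hfix'
  have hw : can xp a b c d f g' = wordG (reeWordU e t u' v) := by
    rw [wordU_eq FD, ← h, can_val XP_val]
  exact ((mem_iff FD α hα _).mpr ⟨t, u', v, hw⟩).2

/-- All positive root subgroups are sent to negative ones by an element acting as `-1`. -/
theorem pos_le_Uw (n : GL chevG2.Idx K) (hn : CA n chevG2.neg) :
    chevG2.posUnipotent K ≤ Uw chevG2 n := by
  unfold ChevalleyDatum.posUnipotent Uw
  apply Subgroup.closure_mono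
  rintro g ⟨r, t, hr, hg⟩
  refine ⟨r, t, hr, ?_, hg⟩
  have hr' := (ree_pos_iff r).mp hr
  obtain ⟨hlt, c, hc0, hc⟩ := hn r hr'.2
  rw [Subgroup.map_le_iff_le_comap]
  unfold ChevalleyDatum.rootSubgroup
  rw [Subgroup.closure_le]
  rintro y ⟨s, hy⟩
  have hye : y = xg r s := Units.ext hy
  rw [SetLike.mem_coe, Subgroup.mem_comap, hye]
  change n * xg r s * n⁻¹ ∈ chevG2.negUnipotent K
  rw [hc s]
  apply Subgroup.subset_closure
  refine ⟨chevG2.neg r, c * s, ?_, rfl⟩
  have hnp : ∀ r, 6 ≤ r ∧ r < 12 → chevG2.IsNegRoot (chevG2.neg r) := by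
    intro r ⟨h6, h12⟩
    interval_cases r <;> decide +kernel
  exact hnp r hr'

include FD hα in
/-- **The Bruhat decomposition of the small Ree group.** -/
theorem ree_bruhat (g : GL chevG2.Idx K) (hg : g ∈ twistedG2 K e) :
    g ∈ chevG2.borelSubgroup K ∨
      ∃ b ∈ chevG2.borelSubgroup K ⊓ twistedG2 K e, ∃ u ∈ chevG2.posUnipotent K ⊓ twistedG2 K e,
        g = b * n0 * u := by
  have hD : Good chevG2 := reeGood
  obtain ⟨tbl, hT⟩ := torusData_all chevG2 hD
  have hHN : chevG2.diagonalSubgroup K ≤ chevG2.monomialSubgroup K := le_sup_left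
  have hNH := (Subgroup.normal_subgroupOf_iff_le_normalizer hHN).mp
    (Cfsg.Agent.S1038.result (F := K) chevG2 hD)
  have hB := bnFacts_all chevG2 hD
  have hU := uiFacts_all chevG2 hD
  have hconj : ∀ i < chevG2.rank, ∀ s < chevG2.nroots, ConjGoal' K chevG2 i s :=
    fun i hi s hs => conjGoal_all chevG2 hD i s hi hs
  have hS : ∀ i < chevG2.rank, ConjGoalS' K chevG2 i := fun i hi => conjGoalS_all chevG2 hD i hi
  have hTri := triOK_of_mem chevG2 hD
  have hNeg := negTriOK_of_mem chevG2 hD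
  have hUB : chevG2.posUnipotent K ≤ chevG2.borelSubgroup K := le_sup_left
  have hHB : chevG2.diagonalSubgroup K ≤ chevG2.borelSubgroup K := le_sup_right
  obtain ⟨hgG, _⟩ := twisted_fixed FD α hα g hg
  have hgfix := sg_fixed FD α hα g hg
  obtain ⟨b, hb, n, hn, u, hu, hgeq⟩ :=
    bruhat_nf_exists chevG2 reeGood hB hU hT hTri hNeg hconj hS hNH g hgG
  obtain ⟨h2, hh2, l, hl, rfl⟩ := mem_monomial_decomp chevG2 reeGood hB hS hNH n hn
  have hl2 : ∀ i ∈ l, i < 2 := hl
  have huU : u ∈ chevG2.posUnipotent K := Uw_le_pos chevG2 _ hu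
  have hb1 : b * h2 ∈ chevG2.borelSubgroup K := mul_mem hb (hHB hh2)
  have hg1 : g = (b * h2) * nWordGL chevG2 reeGood l * u := by rw [hgeq]; group
  obtain ⟨hb1G, hb1B⟩ := sg_B FD α hα hT _ hb1
  obtain ⟨huG, hsuU⟩ := sg_U FD α hα u huU
  have hnG := nWordGL_mem_group (K := K) l hl2
  have hl' : ∀ i ∈ l.map swp, i < chevG2.rank := by
    intro i hi
    obtain ⟨j, hj, rfl⟩ := List.mem_map.mp hi
    exact swp_lt j (hl2 j hj)
  have hNl : nWordGL (F := K) chevG2 reeGood l ∈ chevG2.monomialSubgroup K :=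
    nWordGL_mem chevG2 reeGood l (fun i hi => hB.hsimp i (hl i hi))
  have hNl' : nWordGL (F := K) chevG2 reeGood (l.map swp) ∈ chevG2.monomialSubgroup K :=
    nWordGL_mem chevG2 reeGood _ (fun i hi => hB.hsimp i (hl' i hi))
  -- apply `σ`
  have hsg : g = sg FD α (b * h2) * nWordGL chevG2 reeGood (l.map swp) * sg FD α u := by
    have h1 : sg FD α g = sg FD α (b * h2) * nWordGL chevG2 reeGood (l.map swp) * sg FD α u := by
      rw [hg1, sg_mul FD α _ _ (mul_mem hb1G hnG) huG, sg_mul FD α _ _ hb1G hnG, sg_nWord FD α hα l hl2]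
    rw [← h1, hgfix]
  -- the two cells agree
  have hcell : nWordGL (F := K) chevG2 reeGood (l.map swp) =
      ((sg FD α (b * h2))⁻¹ * (b * h2)) * nWordGL chevG2 reeGood l * (u * (sg FD α u)⁻¹) := by
    have h3 : (b * h2) * nWordGL chevG2 reeGood l * u =
        sg FD α (b * h2) * nWordGL chevG2 reeGood (l.map swp) * sg FD α u := by
      rw [← hg1]; exact hsg
    calc nWordGL (F := K) chevG2 reeGood (l.map swp)
        = (sg FD α (b * h2))⁻¹ * (sg FD α (b * h2) * nWordGL chevG2 reeGood (l.map swp) * sg FD α u) *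
            (sg FD α u)⁻¹ := by group
      _ = (sg FD α (b * h2))⁻¹ * ((b * h2) * nWordGL chevG2 reeGood l * u) * (sg FD α u)⁻¹ := by rw [h3]
      _ = _ := by group
  have hk := cell_unique hB hU hT hTri hNeg hconj hS hNH _ _ _ _ hNl hNl'
    (mul_mem (inv_mem hb1B) hb1) (mul_mem (hUB huU) (inv_mem (hUB hsuU))) hcell
  rcases perm_cases hB hT hconj l hl hk with hid | hneg
  · -- the trivial cell
    left
    obtain ⟨k, hk', ek⟩ := coset_of_perm_eq (F := K) chevG2 reeGood hB hT hTri hNeg hconj hS hNH l [] hl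
      (by simp) (fun s hs => by rw [hid s hs]; rfl)
    rw [nWordGL_nil, one_mul] at ek
    rw [hg1, ek]
    exact mul_mem (mul_mem hb1 (hHB hk')) (hUB huU)
  · -- the big cell
    right
    have hn0N : (n0 : GL chevG2.Idx K) ∈ chevG2.monomialSubgroup K := n0_mem_N
    have hn0G : (n0 : GL chevG2.Idx K) ∈ twistedG2 K e := n0_mem_twisted FD
    have hca0 : CA (n0 : GL chevG2.Idx K) chevG2.neg :=
      (n1_cases FD α hα hn0N hn0G).resolve_left n0_not_mem_H
    obtain ⟨h0, hh0, l1, hl1, e0⟩ := mem_monomial_decomp chevG2 reeGood hB hS hNH _ hn0N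
    have hca1 : CA (n0 : GL chevG2.Idx K) (permW chevG2 l1) := by
      rw [e0]
      exact ca_nWord hB hT hconj h0 hh0 l1 hl1
    have hperm : ∀ s < chevG2.nroots, permW chevG2 l s = permW chevG2 l1 s := by
      intro s hs
      rw [hneg s hs]
      exact ca_unique hca0 hca1 s hs
    obtain ⟨k, hk', ek⟩ := coset_of_perm_eq (F := K) chevG2 reeGood hB hT hTri hNeg hconj hS hNH l l1 hl
      hl1 hperm
    -- `n_w = h0⁻¹ n0 k`
    have hk2 : n0 * k * (n0 : GL chevG2.Idx K)⁻¹ ∈ chevG2.diagonalSubgroup K :=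
      (Subgroup.mem_normalizer_iff.mp (hNH hn0N) k).mp hk'
    set b2 : GL chevG2.Idx K := (b * h2) * h0⁻¹ * (n0 * k * (n0 : GL chevG2.Idx K)⁻¹) with hb2def
    have hb2 : b2 ∈ chevG2.borelSubgroup K :=
      mul_mem (mul_mem hb1 (hHB (inv_mem hh0))) (hHB hk2)
    have hg2 : g = b2 * n0 * u := by
      rw [hg1, ek, hb2def]
      have : nWordGL (F := K) chevG2 reeGood l1 = h0⁻¹ * n0 := by rw [e0]; group
      rw [this]
      group
    -- fixedness of the factors
    obtain ⟨hb2G, hb2B⟩ := sg_B FD α hα hT _ hb2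
    have hn0Gr : (n0 : GL chevG2.Idx K) ∈ chevG2.group K := monomial_le chevG2 reeGood hn0N
    have hsg2 : g = sg FD α b2 * n0 * sg FD α u := by
      have h1 : sg FD α g = sg FD α b2 * n0 * sg FD α u := by
        rw [hg2, sg_mul FD α _ _ (mul_mem hb2G hn0Gr) huG, sg_mul FD α _ _ hb2G hn0Gr,
          sg_fixed FD α hα _ hn0G]
      rw [← h1, hgfix]
    have hUw := pos_le_Uw (n0 : GL chevG2.Idx K) hca0
    obtain ⟨_, hq⟩ := bruhat_nf_unique chevG2 reeGood hB hU hT hTri hNeg hconj hS hNH b2 (sg FD α b2)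
      n0 n0 u (sg FD α u) hb2 hb2B hn0N hn0N (hUw huU) (hUw hsuU) (by rw [← hg2]; exact hsg2)
    obtain ⟨eb, eu⟩ := hq rfl
    have huT : u ∈ twistedG2 K e := fixed_U_mem FD α hα u huU eu.symm
    have hb2T : b2 ∈ twistedG2 K e := by
      have : b2 = g * u⁻¹ * (n0 : GL chevG2.Idx K)⁻¹ := by rw [hg2]; group
      rw [this]
      exact mul_mem (mul_mem hg (inv_mem huT)) (inv_mem hn0G)
    exact ⟨b2, ⟨hb2, hb2T⟩, u, ⟨huU, huT⟩, hg2⟩

include FD hα in
/-- Uniqueness in the big cell. -/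
theorem ree_bruhat_unique (b b' u u' : GL chevG2.Idx K) (hb : b ∈ chevG2.borelSubgroup K)
    (hb' : b' ∈ chevG2.borelSubgroup K) (hu : u ∈ chevG2.posUnipotent K)
    (hu' : u' ∈ chevG2.posUnipotent K) (he : b * n0 * u = b' * n0 * u') : b = b' ∧ u = u' := by
  have hD : Good chevG2 := reeGood
  obtain ⟨tbl, hT⟩ := torusData_all chevG2 hD
  have hHN : chevG2.diagonalSubgroup K ≤ chevG2.monomialSubgroup K := le_sup_left
  have hNH := (Subgroup.normal_subgroupOf_iff_le_normalizer hHN).mp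
    (Cfsg.Agent.S1038.result (F := K) chevG2 hD)
  have hB := bnFacts_all chevG2 hD
  have hU := uiFacts_all chevG2 hD
  have hconj : ∀ i < chevG2.rank, ∀ s < chevG2.nroots, ConjGoal' K chevG2 i s :=
    fun i hi s hs => conjGoal_all chevG2 hD i s hi hs
  have hS : ∀ i < chevG2.rank, ConjGoalS' K chevG2 i := fun i hi => conjGoalS_all chevG2 hD i hi
  have hTri := triOK_of_mem chevG2 hD
  have hNeg := negTriOK_of_mem chevG2 hD
  have hn0N : (n0 : GL chevG2.Idx K) ∈ chevG2.monomialSubgroup K := n0_mem_N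
  have hn0G : (n0 : GL chevG2.Idx K) ∈ twistedG2 K e := n0_mem_twisted FD
  have hca0 : CA (n0 : GL chevG2.Idx K) chevG2.neg :=
    (n1_cases FD α hα hn0N hn0G).resolve_left n0_not_mem_H
  have hUw := pos_le_Uw (n0 : GL chevG2.Idx K) hca0
  obtain ⟨_, hq⟩ := bruhat_nf_unique chevG2 reeGood hB hU hT hTri hNeg hconj hS hNH b b'
    n0 n0 u u' hb hb' hn0N hn0N (hUw hu) (hUw hu') he
  exact hq rfl

include FD hα in
/-- The element `n0` does not lie in `B`. -/
theorem n0_not_mem_B : (n0 : GL chevG2.Idx K) ∉ chevG2.borelSubgroup K := by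
  intro h
  have hD : Good chevG2 := reeGood
  obtain ⟨tbl, hT⟩ := torusData_all chevG2 hD
  have hHN : chevG2.diagonalSubgroup K ≤ chevG2.monomialSubgroup K := le_sup_left
  have hNH := (Subgroup.normal_subgroupOf_iff_le_normalizer hHN).mp
    (Cfsg.Agent.S1038.result (F := K) chevG2 hD)
  have hB := bnFacts_all chevG2 hD
  have hconj : ∀ i < chevG2.rank, ∀ s < chevG2.nroots, ConjGoal' K chevG2 i s :=
    fun i hi s hs => conjGoal_all chevG2 hD i s hi hs
  have hS : ∀ i < chevG2.rank, ConjGoalS' K chevG2 i := fun i hi => conjGoalS_all chevG2 hD i hi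
  have hTri := triOK_of_mem chevG2 hD
  have hNeg := negTriOK_of_mem chevG2 hD
  have hmem : (n0 : GL chevG2.Idx K) ∈ chevG2.borelSubgroup K ⊓ chevG2.monomialSubgroup K :=
    Subgroup.mem_inf.mpr ⟨h, n0_mem_N⟩
  rw [(borel_inf_monomial (F := K) chevG2 reeGood hB hT hTri hNeg hconj hS hNH).2] at hmem
  exact n0_not_mem_H hmem

end

end Cfsg.Agent.Helper18.ReeTor
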