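import Cfsg.Agent.Lib.Helper6.ReeH

/-!
# `²G₂`: the torus `H¹ = G¹ ∩ H` is isomorphic to `Kˣ`
-/

set_option autoImplicit false

namespace Cfsg.Agent.Helper18.ReeTor

open Cfsg Cfsg.Lie Cfsg.Agent.Helper18 Cfsg.Agent.Helper15.Ree Cfsg.Agent.Helper6.ReeSix
open Cfsg.Agent.S1043 Cfsg.Agent.Helper6.G2C3 Cfsg.Agent.Helper6 Cfsg.Agent.Helper6.ReeS

section

variable {K : Type*} [Field K] [Fintype K] {m : ℕ}

/-- The isomorphism `H¹ ≃* Kˣ`: an element of `H¹` goes to the scalar by which it acts on `X_11`. -/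
theorem exists_torus_equiv (hK : Fintype.card K = 3 ^ (2 * m + 1)) :
    ∃ f : ↥(chevG2.diagonalSubgroup K ⊓ twistedG2 K (3 ^ m)) ≃* Kˣ,
      ∀ (g : ↥(chevG2.diagonalSubgroup K ⊓ twistedG2 K (3 ^ m))) (s : K),
        (g : GL chevG2.Idx K) * xg 11 s = xg 11 ((f g : K) * s) * (g : GL chevG2.Idx K) := by
  have : Fact (Nat.Prime 3) := ⟨by norm_num⟩
  have : CharP K 3 := charP_of_card_eq_prime_pow hK
  have FD := Cfsg.Agent.Helper15.Ree.fieldData_of_card hK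
  have hperf : ∀ x : K, ∃ y : K, y ^ 3 = x := fun x => ⟨(x ^ 3 ^ m) ^ 3 ^ m, FD.cube x⟩
  obtain ⟨α, hα⟩ := Cfsg.Agent.Helper6.G2C3.exists_graph_aut hperf
  obtain ⟨tbl, hT⟩ := torusData_all chevG2 (by simp)
  have hmem : ∀ g : ↥(chevG2.diagonalSubgroup K ⊓ twistedG2 K (3 ^ m)),
      ∃ c : ℕ → Kˣ, Twist.torHom chevG2 c = g.1 :=
    fun g => (Twist.mem_H_iff chevG2 hT (Chev.nData_G2 (F := K)) g.1).1 g.2.1
  choose cc hcc using hmem
  have hact : ∀ (g : ↥(chevG2.diagonalSubgroup K ⊓ twistedG2 K (3 ^ m))) (s : K),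
      (g : GL chevG2.Idx K) * xg 11 s = xg 11 ((cc g 1 : K) * s) * (g : GL chevG2.Idx K) := by
    intro g s
    have h1 := (tor_conj hT (cc g) s).1
    rw [hcc g] at h1
    exact h1
  have finj : Function.Injective (fun g : ↥(chevG2.diagonalSubgroup K ⊓ twistedG2 K (3 ^ m)) => cc g 1) := by
    intro g g' h
    apply Subtype.ext
    rw [← hcc g, ← hcc g']
    exact tor_eq_of_fixed FD α hα hT _ _ (by rw [hcc g]; exact g.2.2) (by rw [hcc g']; exact g'.2.2) h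
  have fsurj : Function.Surjective
      (fun g : ↥(chevG2.diagonalSubgroup K ⊓ twistedG2 K (3 ^ m)) => cc g 1) := by
    intro μ
    obtain ⟨g, hg, hgs⟩ := mul11_all hK FD (μ : K) μ.ne_zero
    refine ⟨⟨g, hg⟩, ?_⟩
    apply Units.ext
    have h1 := hact ⟨g, hg⟩ 1
    have h2 := hgs 1
    change g * xg 11 1 = _ at h1
    rw [h1] at h2
    have h3 := mul_right_cancel h2
    have h4 := xg_inj' 11 (by decide) h3
    simpa using h4
  have hmul : ∀ g g' : ↥(chevG2.diagonalSubgroup K ⊓ twistedG2 K (3 ^ m)),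
      cc (g * g') 1 = cc g 1 * cc g' 1 := by
    intro g g'
    have h1 := hact (g * g') 1
    have h2 : ((g * g' : ↥(chevG2.diagonalSubgroup K ⊓ twistedG2 K (3 ^ m))) : GL chevG2.Idx K) * xg 11 1 =
        xg 11 ((cc g 1 : K) * ((cc g' 1 : K) * 1)) *
          ((g * g' : ↥(chevG2.diagonalSubgroup K ⊓ twistedG2 K (3 ^ m))) : GL chevG2.Idx K) := by
      rw [Subgroup.coe_mul, mul_assoc, hact g' 1, ← mul_assoc, hact g, mul_assoc]
    rw [h1] at h2
    have h3 := mul_right_cancel h2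
    have h4 := xg_inj' 11 (by decide) h3
    apply Units.ext
    rw [Units.val_mul]
    simpa using h4
  refine ⟨MulEquiv.ofBijective
    (MonoidHom.mk' (fun g : ↥(chevG2.diagonalSubgroup K ⊓ twistedG2 K (3 ^ m)) => cc g 1) hmul)
    ⟨finj, fsurj⟩, ?_⟩
  intro g s
  exact hact g s

end

end Cfsg.Agent.Helper18.ReeTor
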