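import Cfsg.Agent.Lib.Helper18.ChevRootPairChk
import Cfsg.Agent.Lib.Helper18.LongestData

set_option autoImplicit false
set_option maxRecDepth 100000
set_option Elab.async false

namespace Cfsg.Agent.Helper18

open Cfsg.Lie Cfsg.Agent.S1043

def rpWordsG2 : List (List ℕ) := [[], [1, 0], [0, 1, 0], [0, 1], [0], [1], [], [], [], [], [], []]

theorem rpPairPosG2 : pairPosCheck chevG2 permTblG2 rpWordsG2 = true := by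
  decide +kernel

theorem rpCentG2 : centCheck chevG2 = true := by
  decide +kernel

theorem rpFNegG2 : fNeg chevG2 (chevG2.nroots - 1) = 0 := by
  decide +kernel

theorem rpNegG2 : chevG2.neg (chevG2.nroots - 1) = 0 := by
  rw [← fNeg_eq]; exact rpFNegG2

def rpWordsD4 : List (List ℕ) := [[], [3, 1, 2, 0], [2, 1, 0], [3, 1, 0], [1, 0], [0], [3, 1, 2], [2, 1], [3, 1], [1], [2], [3], [], [], [], [], [], [], [], [], [], [], [], []]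

theorem rpPairPosD4 : pairPosCheck chevD4 permTblD4 rpWordsD4 = true := by
  decide +kernel

theorem rpCentD4 : centCheck chevD4 = true := by
  decide +kernel

theorem rpFNegD4 : fNeg chevD4 (chevD4.nroots - 1) = 0 := by
  decide +kernel

theorem rpNegD4 : chevD4.neg (chevD4.nroots - 1) = 0 := by
  rw [← fNeg_eq]; exact rpFNegD4

def rpWordsE6 : List (List ℕ) := [[], [5, 4, 3, 2, 1, 3, 4, 0, 2, 3], [5, 4, 3, 2, 1, 3, 4, 0, 2], [5, 4, 3, 2, 1, 3, 0, 2], [4, 3, 2, 1, 3, 0, 2], [5, 4, 3, 2, 1, 3, 4, 0], [5, 4, 3, 2, 1, 3, 0], [4, 3, 2, 1, 3, 0], [5, 4, 3, 2, 1, 0], [4, 3, 2, 1, 0], [3, 2, 1, 0], [5, 4, 3, 2, 0], [4, 3, 2, 0], [3, 2, 0], [2, 0], [0], [5, 4, 3, 2, 1, 3, 4], [5, 4, 3, 2, 1, 3], [4, 3, 2, 1, 3], [5, 4, 3, 2, 1], [4, 3, 2, 1], [3, 2, 1],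 [5, 4, 3, 1], [4, 3, 1], [3, 1], [1], [5, 4, 3, 2], [4, 3, 2], [3, 2], [2], [5, 4, 3], [4, 3], [3], [5, 4], [4], [5], [], [], [], [], [], [], [], [], [], [], [], [], [], [], [], [], [], [], [], [], [], [], [], [], [], [], [], [], [], [], [], [], [], [], [], []]

theorem rpPairPosE6 : pairPosCheck chevE6 permTblE6 rpWordsE6 = true := by
  decide +kernel

theorem rpCentE6 : centCheck chevE6 = true := by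
  decide +kernel

theorem rpFNegE6 : fNeg chevE6 (chevE6.nroots - 1) = 0 := by
  decide +kernel

theorem rpNegE6 : chevE6.neg (chevE6.nroots - 1) = 0 := by
  rw [← fNeg_eq]; exact rpFNegE6

def rpWordsE7 : List (List ℕ) := [[], [6, 5, 4, 3, 2, 1, 3, 4, 5, 0, 2, 3, 4, 1, 3, 2], [6, 5, 4, 3, 2, 1, 3, 4, 5, 0, 2, 3, 4, 1, 3], [6, 5, 4, 3, 2, 1, 3, 4, 5, 0, 2, 3, 4, 1], [6, 5, 4, 3, 2, 1, 3, 4, 5, 0, 2, 3, 1], [6, 5, 4, 3, 2, 1, 3, 4, 0, 2, 3, 1], [5, 4, 3, 2, 1, 3, 4, 0, 2, 3, 1], [6, 5, 4, 3, 2, 1, 3, 4, 5, 0, 2, 3, 4], [6, 5, 4, 3, 2, 1, 3, 4, 5, 0, 2, 3], [6, 5, 4, 3, 2, 1, 3, 4, 0, 2, 3], [5, 4, 3, 2, 1, 3, 4, 0, 2, 3], [6, 5, 4, 3, 2, 1, 3, 4, 5, 0, 2], [6, 5, 4, 3, 2, 1, 3, 4, 0, 2], [5, 4, 3, 2, 1, 3, 4, 0, 2], [6, 5, 4, 3, 2, 1, 3, 0, 2], [5,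 4, 3, 2, 1, 3, 0, 2], [4, 3, 2, 1, 3, 0, 2], [6, 5, 4, 3, 2, 1, 3, 4, 5, 0], [6, 5, 4, 3, 2, 1, 3, 4, 0], [5, 4, 3, 2, 1, 3, 4, 0], [6, 5, 4, 3, 2, 1, 3, 0], [5, 4, 3, 2, 1, 3, 0], [4, 3, 2, 1, 3, 0], [6, 5, 4, 3, 2, 1, 0], [5, 4, 3, 2, 1, 0], [4, 3, 2, 1, 0], [3, 2, 1, 0], [6, 5, 4, 3, 2, 0], [5, 4, 3, 2, 0], [4, 3, 2, 0], [3, 2, 0], [2, 0], [0], [6, 5, 4, 3, 2, 1, 3, 4, 5], [6, 5, 4, 3, 2, 1, 3, 4], [5, 4, 3, 2, 1, 3, 4], [6, 5, 4, 3, 2, 1, 3], [5, 4, 3, 2, 1, 3], [4, 3, 2, 1, 3], [6, 5, 4, 3, 2, 1], [5, 4, 3, 2, 1], [4, 3, 2, 1], [3, 2, 1], [6, 5, 4, 3, 1], [5, 4, 3, 1], [4, 3, 1], [3, 1], [1], [6, 5, 4, 3, 2], [5, 4, 3, 2], [4, 3, 2], [3, 2], [2], [6, 5, 4, 3], [5, 4, 3], [4, 3], [3], [6, 5, 4], [5, 4], [4], [6, 5], [5], [6], [], [], [], [],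 [], [], [], [], [], [], [], [], [], [], [], [], [], [], [], [], [], [], [], [], [], [], [], [], [], [], [], [], [], [], [], [], [], [], [], [], [], [], [], [], [], [], [], [], [], [], [], [], [], [], [], [], [], [], [], [], [], [], []]

theorem rpPairPosE7 : pairPosCheck chevE7 permTblE7 rpWordsE7 = true := by
  decide +kernel

theorem rpCentE7 : centCheck chevE7 = true := by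
  decide +kernel

theorem rpFNegE7 : fNeg chevE7 (chevE7.nroots - 1) = 0 := by
  decide +kernel

theorem rpNegE7 : chevE7.neg (chevE7.nroots - 1) = 0 := by
  rw [← fNeg_eq]; exact rpFNegE7

def rpWordsE8 : List (List ℕ) := [[], [7, 6, 5, 4, 3, 2, 1, 3, 4, 5, 6, 0, 2, 3, 4, 5, 1, 3, 4, 2, 3, 0, 2, 1, 3, 4, 5, 6], [7, 6, 5, 4, 3, 2, 1, 3, 4, 5, 6, 0, 2, 3, 4, 5, 1, 3, 4, 2, 3, 0, 2, 1, 3, 4, 5], [7, 6, 5, 4, 3, 2, 1, 3, 4, 5, 6, 0, 2, 3, 4, 5, 1, 3, 4, 2, 3, 0, 2, 1, 3, 4], [7, 6, 5, 4, 3, 2, 1, 3, 4, 5, 6, 0, 2, 3, 4, 5, 1, 3, 4, 2, 3, 0, 2, 1, 3], [7, 6, 5, 4, 3, 2, 1, 3, 4, 5, 6, 0, 2, 3, 4, 5, 1, 3, 4, 2, 3, 0, 2, 1], [7, 6, 5, 4, 3, 2, 1, 3, 4, 5, 6, 0, 2, 3, 4, 5, 1, 3, 4, 2, 3, 1, 0], [7, 6, 5, 4, 3, 2, 1, 3, 4, 5, 6, 0, 2, 3, 4, 5, 1, 3, 4,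 2, 3, 0, 2], [7, 6, 5, 4, 3, 2, 1, 3, 4, 5, 6, 0, 2, 3, 4, 5, 1, 3, 4, 2, 3, 0], [7, 6, 5, 4, 3, 2, 1, 3, 4, 5, 6, 0, 2, 3, 4, 5, 1, 3, 4, 2, 0], [7, 6, 5, 4, 3, 2, 1, 3, 4, 5, 6, 0, 2, 3, 4, 5, 1, 3, 2, 0], [7, 6, 5, 4, 3, 2, 1, 3, 4, 5, 6, 0, 2, 3, 4, 1, 3, 2, 0], [7, 6, 5, 4, 3, 2, 1, 3, 4, 5, 0, 2, 3, 4, 1, 3, 2, 0], [6, 5, 4, 3, 2, 1, 3, 4, 5, 0, 2, 3, 4, 1, 3, 2, 0], [7, 6, 5, 4, 3, 2, 1, 3, 4, 5, 6, 0, 2, 3, 4, 5, 1, 3, 4, 2, 3, 1], [7, 6, 5, 4, 3, 2, 1, 3, 4, 5, 6, 0, 2, 3, 4, 5, 1, 3, 4, 2, 3], [7, 6, 5, 4, 3, 2, 1, 3, 4, 5, 6, 0, 2, 3, 4, 5, 1, 3, 4, 2], [7, 6, 5, 4, 3, 2, 1, 3, 4, 5, 6, 0, 2, 3, 4, 5, 1, 3, 2], [7, 6, 5, 4, 3, 2, 1, 3, 4, 5, 6, 0, 2, 3, 4, 1, 3, 2], [7, 6, 5, 4, 3, 2, 1, 3, 4, 5, 0, 2, 3, 4, 1, 3, 2], [6, 5, 4, 3, 2, 1,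 3, 4, 5, 0, 2, 3, 4, 1, 3, 2], [7, 6, 5, 4, 3, 2, 1, 3, 4, 5, 6, 0, 2, 3, 4, 5, 1, 3, 4], [7, 6, 5, 4, 3, 2, 1, 3, 4, 5, 6, 0, 2, 3, 4, 5, 1, 3], [7, 6, 5, 4, 3, 2, 1, 3, 4, 5, 6, 0, 2, 3, 4, 1, 3], [7, 6, 5, 4, 3, 2, 1, 3, 4, 5, 0, 2, 3, 4, 1, 3], [6, 5, 4, 3, 2, 1, 3, 4, 5, 0, 2, 3, 4, 1, 3], [7, 6, 5, 4, 3, 2, 1, 3, 4, 5, 6, 0, 2, 3, 4, 5, 1], [7, 6, 5, 4, 3, 2, 1, 3, 4, 5, 6, 0, 2, 3, 4, 1], [7, 6, 5, 4, 3, 2, 1, 3, 4, 5, 0, 2, 3, 4, 1], [6, 5, 4, 3, 2, 1, 3, 4, 5, 0, 2, 3, 4, 1], [7, 6, 5, 4, 3, 2, 1, 3, 4, 5, 6, 0, 2, 3, 1], [7, 6, 5, 4, 3, 2, 1, 3, 4, 5, 0, 2, 3, 1], [6, 5, 4, 3, 2, 1, 3, 4, 5, 0, 2, 3, 1], [7, 6, 5, 4, 3, 2, 1, 3, 4, 0, 2, 3, 1], [6, 5, 4, 3, 2, 1, 3, 4, 0, 2, 3, 1], [5, 4, 3, 2, 1, 3, 4, 0, 2, 3, 1], [7, 6, 5, 4, 3, 2, 1,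 3, 4, 5, 6, 0, 2, 3, 4, 5], [7, 6, 5, 4, 3, 2, 1, 3, 4, 5, 6, 0, 2, 3, 4], [7, 6, 5, 4, 3, 2, 1, 3, 4, 5, 0, 2, 3, 4], [6, 5, 4, 3, 2, 1, 3, 4, 5, 0, 2, 3, 4], [7, 6, 5, 4, 3, 2, 1, 3, 4, 5, 6, 0, 2, 3], [7, 6, 5, 4, 3, 2, 1, 3, 4, 5, 0, 2, 3], [6, 5, 4, 3, 2, 1, 3, 4, 5, 0, 2, 3], [7, 6, 5, 4, 3, 2, 1, 3, 4, 0, 2, 3], [6, 5, 4, 3, 2, 1, 3, 4, 0, 2, 3], [5, 4, 3, 2, 1, 3, 4, 0, 2, 3], [7, 6, 5, 4, 3, 2, 1, 3, 4, 5, 6, 0, 2], [7, 6, 5, 4, 3, 2, 1, 3, 4, 5, 0, 2], [6, 5, 4, 3, 2, 1, 3, 4, 5, 0, 2], [7, 6, 5, 4, 3, 2, 1, 3, 4, 0, 2], [6, 5, 4, 3, 2, 1, 3, 4, 0, 2], [5, 4, 3, 2, 1, 3, 4, 0, 2], [7, 6, 5, 4, 3, 2, 1, 3, 0, 2], [6, 5, 4, 3, 2, 1, 3, 0, 2], [5, 4, 3, 2, 1, 3, 0, 2], [4, 3, 2, 1, 3, 0, 2], [7, 6, 5, 4, 3, 2, 1, 3, 4, 5, 6, 0], [7, 6, 5,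 4, 3, 2, 1, 3, 4, 5, 0], [6, 5, 4, 3, 2, 1, 3, 4, 5, 0], [7, 6, 5, 4, 3, 2, 1, 3, 4, 0], [6, 5, 4, 3, 2, 1, 3, 4, 0], [5, 4, 3, 2, 1, 3, 4, 0], [7, 6, 5, 4, 3, 2, 1, 3, 0], [6, 5, 4, 3, 2, 1, 3, 0], [5, 4, 3, 2, 1, 3, 0], [4, 3, 2, 1, 3, 0], [7, 6, 5, 4, 3, 2, 1, 0], [6, 5, 4, 3, 2, 1, 0], [5, 4, 3, 2, 1, 0], [4, 3, 2, 1, 0], [3, 2, 1, 0], [7, 6, 5, 4, 3, 2, 0], [6, 5, 4, 3, 2, 0], [5, 4, 3, 2, 0], [4, 3, 2, 0], [3, 2, 0], [2, 0], [0], [7, 6, 5, 4, 3, 2, 1, 3, 4, 5, 6], [7, 6, 5, 4, 3, 2, 1, 3, 4, 5], [6, 5, 4, 3, 2, 1, 3, 4, 5], [7, 6, 5, 4, 3, 2, 1, 3, 4], [6, 5, 4, 3, 2, 1, 3, 4], [5, 4, 3, 2, 1, 3, 4], [7, 6, 5, 4, 3, 2, 1, 3], [6, 5, 4, 3, 2, 1, 3], [5, 4, 3, 2, 1, 3], [4, 3, 2, 1, 3], [7, 6, 5, 4, 3, 2, 1], [6, 5, 4, 3, 2, 1], [5, 4, 3, 2,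 1], [4, 3, 2, 1], [3, 2, 1], [7, 6, 5, 4, 3, 1], [6, 5, 4, 3, 1], [5, 4, 3, 1], [4, 3, 1], [3, 1], [1], [7, 6, 5, 4, 3, 2], [6, 5, 4, 3, 2], [5, 4, 3, 2], [4, 3, 2], [3, 2], [2], [7, 6, 5, 4, 3], [6, 5, 4, 3], [5, 4, 3], [4, 3], [3], [7, 6, 5, 4], [6, 5, 4], [5, 4], [4], [7, 6, 5], [6, 5], [5], [7, 6], [6], [7], [], [], [], [], [], [], [], [], [], [], [], [], [], [], [], [], [], [], [], [], [], [], [], [], [], [], [], [], [], [], [], [], [], [], [], [], [], [], [], [], [], [], [], [], [], [], [], [], [], [], [], [], [], [], [], [], [], [], [], [], [], [], [], [], [], [], [], [], [], [], [], [], [], [], [], [], [], [], [], [], [], [], [], [], [], [], [], [], [], [], [], [], [], [], [], [], [], [], [], [], [], [], [], [], [], [], [], [], [], [], [],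 [], [], [], [], [], [], [], [], []]

theorem rpPairPosE8 : pairPosCheck chevE8 permTblE8 rpWordsE8 = true := by
  decide +kernel

theorem rpCentE8 : centCheck chevE8 = true := by
  decide +kernel

theorem rpFNegE8 : fNeg chevE8 (chevE8.nroots - 1) = 0 := by
  decide +kernel

theorem rpNegE8 : chevE8.neg (chevE8.nroots - 1) = 0 := by
  rw [← fNeg_eq]; exact rpFNegE8

end Cfsg.Agent.Helper18
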