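import Cfsg.Agent.Lib.Helper18.RootCentData
import Cfsg.Agent.Lib.Helper18.RootPairData
import Cfsg.Agent.Lib.Helper18.UProdAll
import Cfsg.Agent.Lib.Helper18.TorusAll
import Cfsg.Agent.Lib.Helper18.ConjAll
import Cfsg.Agent.S1038
import Cfsg.Agent.S1100

set_option autoImplicit false

namespace Cfsg.Agent.Helper18

open Cfsg.Lie Cfsg.Agent.S1043 Cfsg.Agent.Helper17

/-- The centraliser of the root element `x_{r0}(1)` of the highest root in the groups of type `E₆`, `E₇`, `E₈`. -/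
theorem rootCent_all {F : Type*} [Field F] (d : ChevalleyDatum × List ℕ)
    (hd : d ∈ [(chevE6, [15, 29, 32, 34, 35]), (chevE7, [47, 52, 56, 59, 61, 62]),
      (chevE8, [77, 98, 104, 109, 113, 116, 118])])
    (t : GL d.1.Idx F) (ht : (t : Matrix d.1.Idx d.1.Idx F) = d.1.x F (d.1.nroots - 1) 1) :
    d.1.group F ⊓ Subgroup.centralizer {t} = d.1.posUnipotent F ⊔
      Subgroup.closure {g : GL d.1.Idx F | ∃ s ∈ d.2, ∃ c : F,
        (g : Matrix d.1.Idx d.1.Idx F) = d.1.x F s c} := by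
  obtain ⟨D, Jn⟩ := d
  have key : Good D ∧ ∃ (tbls : List ℕ) (J : List ℕ) (cert : List (List ℕ × ℕ)) (k : ℕ),
      (∀ i < D.rank, permCheck D i (lget tbls i 0) = true) ∧ t2Check D tbls = true ∧
      t3Check D tbls J cert = true ∧ chiCheck D J Jn k = true ∧ centCheck D = true ∧
      (∀ s < D.nroots, D.nroots / 2 ≤ s → D.IsPosRoot s) ∧
      (∀ s, D.IsPosRoot s → D.nroots / 2 ≤ s ∧ s < D.nroots) := by
    simp only [List.mem_cons, List.not_mem_nil, or_false, Prod.mk.injEq] at hd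
    rcases hd with ⟨rfl, rfl⟩ | ⟨rfl, rfl⟩ | ⟨rfl, rfl⟩
    · exact ⟨by simp [Good], _, _, _, _, permTblE6_ok, rcT2E6, rcT3E6, rcChiE6, rpCentE6, posOfRangeE6,
        posRangeE6⟩
    · exact ⟨by simp [Good], _, _, _, _, permTblE7_ok, rcT2E7, rcT3E7, rcChiE7, rpCentE7, posOfRangeE7,
        posRangeE7⟩
    · exact ⟨by simp [Good], _, _, _, _, permTblE8_ok, rcT2E8, rcT3E8, rcChiE8, rpCentE8, posOfRangeE8,
        posRangeE8⟩
  obtain ⟨hD, tbls, J, cert, k, hperm, hc2, hc3, hcchi, hcc, hpos, hposR⟩ := key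
  change (t : Matrix D.Idx D.Idx F) = D.x F (D.nroots - 1) 1 at ht
  change D.group F ⊓ Subgroup.centralizer {t} = D.posUnipotent F ⊔
      Subgroup.closure {g : GL D.Idx F | ∃ s ∈ Jn, ∃ c : F, (g : Matrix D.Idx D.Idx F) = D.x F s c}
  obtain ⟨tbl, hT⟩ := torusData_all D hD
  have hHN : D.diagonalSubgroup F ≤ D.monomialSubgroup F := le_sup_left
  have hNH := (Subgroup.normal_subgroupOf_iff_le_normalizer hHN).mp (Cfsg.Agent.S1038.result (F := F) D hD)
  have hB := bnFacts_all D hD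
  have hconj : ∀ i < D.rank, ∀ s < D.nroots, ConjGoal' F D i s :=
    fun i hi s hs => conjGoal_all D hD i s hi hs
  have hS : ∀ i < D.rank, ConjGoalS' F D i := fun i hi => conjGoalS_all D hD i hi
  have hTri := triOK_of_mem D hD
  have hNeg := negTriOK_of_mem D hD
  have hcomm := commOK_all (F := F) D hD
  obtain ⟨f, hUP⟩ := uProdData_all D hD
  have hBr : ∀ g ∈ D.group F, ∃ b ∈ D.borelSubgroup F, ∃ n ∈ D.monomialSubgroup F,
      ∃ u ∈ D.posUnipotent F, g = b * n * u := by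
    intro g hg
    obtain ⟨b, hb, n, hn, u, hu, e⟩ := (Cfsg.Agent.S1100.result (F := F) D hD).1 g hg
    refine ⟨b, hb, n, hn, u, ?_, e⟩
    refine Subgroup.closure_mono ?_ hu
    rintro x ⟨r, t, hr, -, hx⟩
    exact ⟨r, t, hr, hx⟩
  have hn : 0 < D.nroots := by
    have h := hcc
    rw [centCheck, Bool.and_eq_true, Bool.and_eq_true, decide_eq_true_eq, decide_eq_true_eq] at h
    exact h.1.2
  have hr0pos : D.IsPosRoot (D.nroots - 1) := hpos _ (by omega) (by omega)
  have hcent : ∀ s, D.IsPosRoot s → Comm2 F D (D.nroots - 1) s := fun s hs t u =>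
    (hcent_of_check (F := F) D hD hcc hposR hcomm s hs t u).symm
  obtain ⟨hk, hck, hkJ, hcJ, hJ, hJn, hJnC⟩ := chi_of_check (F := F) D hcomm hn J Jn k hcchi
  have hT2 := hT2_of_check (F := F) D hD hB tbls hperm hcomm hc2
  have hnn := negneg_of_t2Check D tbls hc2
  have hT3 := hT3_of_check (F := F) D hD hB tbls hperm hcomm hnn hposR hr0pos J hJ cert hc3
  exact rootCent_main D hD hB hT hTri hNeg hconj hS hNH hUP (D.nroots - 1) (by omega) hr0pos hBr hcent
    (Comm2 F D) (fun l hl r s hr hs => comm2_conj D hD hB hconj l hl r s hr hs) hcent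
    J hJ hT2 hT3 Jn hJn hJnC k hk hkJ hck hcJ t ht

end Cfsg.Agent.Helper18
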