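import Cfsg.Agent.Lib.Helper18.ChevRootCentChk
import Cfsg.Agent.Lib.Helper18.LongestData

set_option autoImplicit false
set_option maxRecDepth 100000
set_option Elab.async false

namespace Cfsg.Agent.Helper18

open Cfsg.Lie Cfsg.Agent.S1043

def rcJE6 : List ℕ := [0, 2, 3, 4, 5]
def rcJnE6 : List ℕ := [15, 29, 32, 34, 35]
def rcKE6 : ℕ := 1
def rcCertE6 : List (List ℕ × ℕ) := [([], 0), ([], 0), ([], 0), ([], 0), ([], 0), ([], 0), ([], 0), ([], 0), ([], 0), ([], 0), ([], 0), ([], 0), ([], 0), ([], 0), ([], 0), ([], 0), ([], 0), ([], 0), ([], 0), ([], 0), ([], 0), ([], 0), ([], 0), ([], 0), ([], 0), ([], 0), ([], 0), ([], 0), ([], 0), ([], 0), ([], 0), ([], 0), ([], 0), ([], 0), ([], 0), ([], 0), ([], 5), ([], 4), ([5], 4), ([], 3), ([4], 3), ([5, 4], 3), ([], 2), ([3], 2), ([4, 3], 2), ([5, 4, 3], 2), ([], 0), ([], 0), ([], 0),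 ([], 0), ([], 0), ([], 0), ([], 0), ([], 0), ([], 0), ([], 0), ([], 0), ([2], 0), ([3, 2], 0), ([4, 3, 2], 0), ([5, 4, 3, 2], 0), ([], 0), ([], 0), ([], 0), ([], 0), ([], 0), ([], 0), ([], 0), ([], 0), ([], 0), ([], 0), ([], 0)]

theorem rcT2E6 : t2Check chevE6 permTblE6 = true := by
  decide +kernel

theorem rcT3E6 : t3Check chevE6 permTblE6 rcJE6 rcCertE6 = true := by
  decide +kernel

theorem rcChiE6 : chiCheck chevE6 rcJE6 rcJnE6 rcKE6 = true := by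
  decide +kernel

def rcJE7 : List ℕ := [1, 2, 3, 4, 5, 6]
def rcJnE7 : List ℕ := [47, 52, 56, 59, 61, 62]
def rcKE7 : ℕ := 0
def rcCertE7 : List (List ℕ × ℕ) := [([], 0), ([], 0), ([], 0), ([], 0), ([], 0), ([], 0), ([], 0), ([], 0), ([], 0), ([], 0), ([], 0), ([], 0), ([], 0), ([], 0), ([], 0), ([], 0), ([], 0), ([], 0), ([], 0), ([], 0), ([], 0), ([], 0), ([], 0), ([], 0), ([], 0), ([], 0), ([], 0), ([], 0), ([], 0), ([], 0), ([], 0), ([], 0), ([], 0), ([], 0), ([], 0), ([], 0), ([], 0), ([], 0), ([], 0), ([], 0), ([], 0), ([], 0), ([], 0), ([], 0), ([], 0), ([], 0), ([], 0), ([], 0), ([], 0), ([], 0), ([], 0), ([], 0), ([], 0), ([], 0), ([], 0), ([], 0), ([], 0), ([], 0), ([], 0), ([], 0), ([], 0), ([], 0), ([], 0), ([], 6), ([], 5), ([6], 5), ([], 4), ([5], 4), ([6, 5], 4), ([], 3), ([4], 3), ([5, 4], 3), ([6, 5, 4], 3), ([],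 2), ([3], 2), ([4, 3], 2), ([5, 4, 3], 2), ([6, 5, 4, 3], 2), ([], 1), ([3], 1), ([4, 3], 1), ([5, 4, 3], 1), ([6, 5, 4, 3], 1), ([2, 3], 1), ([4, 2, 3], 1), ([5, 4, 2, 3], 1), ([6, 5, 4, 2, 3], 1), ([3, 4, 2, 3], 1), ([5, 3, 4, 2, 3], 1), ([6, 5, 3, 4, 2, 3], 1), ([4, 5, 3, 4, 2, 3], 1), ([6, 4, 5, 3, 4, 2, 3], 1), ([5, 6, 4, 5, 3, 4, 2, 3], 1), ([], 0), ([], 0), ([], 0), ([], 0), ([], 0), ([], 0), ([], 0), ([], 0), ([], 0), ([], 0), ([], 0), ([], 0), ([], 0), ([], 0), ([], 0), ([], 0), ([], 0), ([], 0), ([], 0), ([], 0), ([], 0), ([], 0), ([], 0), ([], 0), ([], 0), ([], 0), ([], 0), ([], 0), ([], 0), ([], 0), ([], 0), ([], 0), ([], 0)]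

theorem rcT2E7 : t2Check chevE7 permTblE7 = true := by
  decide +kernel

theorem rcT3E7 : t3Check chevE7 permTblE7 rcJE7 rcCertE7 = true := by
  decide +kernel

theorem rcChiE7 : chiCheck chevE7 rcJE7 rcJnE7 rcKE7 = true := by
  decide +kernel

def rcJE8 : List ℕ := [0, 1, 2, 3, 4, 5, 6]
def rcJnE8 : List ℕ := [77, 98, 104, 109, 113, 116, 118]
def rcKE8 : ℕ := 7
def rcCertE8 : List (List ℕ × ℕ) := [([], 0), ([], 0), ([], 0), ([], 0), ([], 0), ([], 0), ([], 0), ([], 0), ([], 0), ([], 0), ([], 0), ([], 0), ([], 0), ([], 0), ([], 0), ([], 0), ([], 0), ([], 0), ([], 0), ([], 0), ([], 0), ([], 0), ([], 0), ([], 0), ([], 0), ([], 0), ([], 0), ([], 0), ([], 0), ([], 0), ([], 0), ([], 0), ([], 0), ([], 0), ([], 0), ([], 0), ([], 0), ([], 0), ([], 0), ([], 0), ([], 0), ([], 0), ([], 0), ([], 0), ([], 0), ([], 0), ([], 0), ([], 0), ([],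 0), ([], 0), ([], 0), ([], 0), ([], 0), ([], 0), ([], 0), ([], 0), ([], 0), ([], 0), ([], 0), ([], 0), ([], 0), ([], 0), ([], 0), ([], 0), ([], 0), ([], 0), ([], 0), ([], 0), ([], 0), ([], 0), ([], 0), ([], 0), ([], 0), ([], 0), ([], 0), ([], 0), ([], 0), ([], 0), ([], 0), ([], 0), ([], 0), ([], 0), ([], 0), ([], 0), ([], 0), ([], 0), ([], 0), ([], 0), ([], 0), ([], 0), ([], 0), ([], 0), ([], 0), ([], 0), ([], 0), ([], 0), ([], 0), ([], 0), ([], 0), ([], 0), ([], 0), ([], 0), ([], 0), ([], 0), ([], 0), ([], 0), ([], 0), ([], 0), ([], 0), ([], 0), ([], 0), ([], 0), ([], 0), ([], 0), ([], 0), ([], 0), ([], 0), ([], 0), ([], 0), ([], 0), ([], 0), ([], 6), ([], 0), ([], 5), ([6], 5), ([], 0), ([], 4), ([5], 4), ([6, 5], 4), ([], 0), ([], 3), ([4], 3), ([5, 4], 3), ([6, 5, 4], 3), ([], 0), ([], 2), ([3], 2), ([4, 3], 2), ([5, 4, 3],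 2), ([6, 5, 4, 3], 2), ([], 0), ([], 1), ([3], 1), ([4, 3], 1), ([5, 4, 3], 1), ([6, 5, 4, 3], 1), ([], 0), ([2, 3], 1), ([4, 2, 3], 1), ([5, 4, 2, 3], 1), ([6, 5, 4, 2, 3], 1), ([], 0), ([3, 4, 2, 3], 1), ([5, 3, 4, 2, 3], 1), ([6, 5, 3, 4, 2, 3], 1), ([], 0), ([4, 5, 3, 4, 2, 3], 1), ([6, 4, 5, 3, 4, 2, 3], 1), ([], 0), ([5, 6, 4, 5, 3, 4, 2, 3], 1), ([], 0), ([], 0), ([], 0), ([2], 0), ([3, 2], 0), ([4, 3, 2], 0), ([5, 4, 3, 2], 0), ([6, 5, 4, 3, 2], 0), ([], 0), ([1, 3, 2], 0), ([4, 1, 3, 2], 0), ([5, 4, 1, 3, 2], 0), ([6, 5, 4, 1, 3, 2], 0), ([], 0), ([3, 4, 1, 3, 2], 0), ([5, 3, 4, 1, 3, 2], 0), ([6, 5, 3, 4, 1, 3, 2], 0), ([], 0), ([4, 5, 3, 4, 1, 3, 2], 0), ([6, 4, 5, 3, 4, 1, 3, 2], 0), ([], 0), ([5, 6, 4, 5, 3, 4, 1, 3, 2], 0), ([], 0), ([], 0), ([2, 3, 4, 1, 3, 2], 0), ([5, 2, 3, 4, 1, 3, 2], 0), ([6, 5, 2, 3, 4, 1,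 3, 2], 0), ([], 0), ([4, 5, 2, 3, 4, 1, 3, 2], 0), ([6, 4, 5, 2, 3, 4, 1, 3, 2], 0), ([], 0), ([5, 6, 4, 5, 2, 3, 4, 1, 3, 2], 0), ([], 0), ([], 0), ([3, 4, 5, 2, 3, 4, 1, 3, 2], 0), ([6, 3, 4, 5, 2, 3, 4, 1, 3, 2], 0), ([], 0), ([5, 6, 3, 4, 5, 2, 3, 4, 1, 3, 2], 0), ([], 0), ([], 0), ([4, 5, 6, 3, 4, 5, 2, 3, 4, 1, 3, 2], 0), ([], 0), ([], 0), ([], 0), ([1, 3, 4, 5, 2, 3, 4, 1, 3, 2], 0), ([6, 1, 3, 4, 5, 2, 3, 4, 1, 3, 2], 0), ([], 0), ([5, 6, 1, 3, 4, 5, 2, 3, 4, 1, 3, 2], 0), ([], 0), ([], 0), ([4, 5, 6, 1, 3, 4, 5, 2, 3, 4, 1, 3, 2], 0), ([], 0), ([], 0), ([], 0), ([3, 4, 5, 6, 1, 3, 4, 5, 2, 3, 4, 1, 3, 2], 0), ([], 0), ([], 0), ([], 0), ([], 0), ([2, 3, 4, 5, 6, 1, 3, 4, 5, 2, 3, 4, 1, 3, 2], 0), ([], 0), ([], 0), ([], 0), ([], 0), ([], 0), ([], 0), ([0, 2, 3, 4, 5, 6, 1, 3, 4, 5, 2, 3, 4, 1, 3, 2], 0), ([], 0), ([], 0),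 ([], 0), ([], 0), ([], 0), ([], 0), ([], 0), ([], 0), ([], 0), ([], 0), ([], 0), ([], 0), ([], 0)]

theorem rcT2E8 : t2Check chevE8 permTblE8 = true := by
  decide +kernel

theorem rcT3E8 : t3Check chevE8 permTblE8 rcJE8 rcCertE8 = true := by
  decide +kernel

theorem rcChiE8 : chiCheck chevE8 rcJE8 rcJnE8 rcKE8 = true := by
  decide +kernel

end Cfsg.Agent.Helper18
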