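import Cfsg.Agent.Lib.Helper18.ChevRootCentEven
import Cfsg.Agent.Lib.Helper18.LongestData

set_option autoImplicit false
set_option maxRecDepth 100000
set_option Elab.async false

namespace Cfsg.Agent.Helper18

open Cfsg.Lie Cfsg.Agent.S1043

theorem rcInvF4 : evenInvCheck chevF4 permTblF4 = true := by
  decide +kernel

def rcJF4_47 : List ℕ := [0, 1, 2]
def rcJnF4_47 : List ℕ := [14, 20, 22]
def rcKF4_47 : ℕ := 3
def rcCertF4_47 : List (List ℕ × ℕ) := [([], 0), ([], 0), ([], 0), ([], 0), ([], 0), ([], 0), ([], 0), ([], 0), ([], 0), ([], 0), ([], 0), ([], 0), ([], 0), ([], 0), ([], 0), ([], 0), ([], 0), ([], 0), ([], 0), ([], 0), ([], 0), ([], 0), ([], 0), ([], 0), ([], 0), ([], 2), ([], 0), ([], 1), ([2], 1), ([], 0), ([1], 2), ([], 0), ([], 0), ([], 0), ([1], 0), ([2, 1], 0), ([], 0), ([1, 2, 1], 0), ([], 0), ([], 0), ([], 0), ([0, 1], 2), ([], 0), ([], 0), ([], 0), ([], 0), ([], 0), ([], 0)]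

theorem rcEvenF4_47 : evenCheck chevF4 permTblF4 47 rcJF4_47 rcCertF4_47 = true := by
  decide +kernel

theorem rcChiF4_47 : evenChiCheck chevF4 47 rcJF4_47 rcJnF4_47 rcKF4_47 = true := by
  decide +kernel

def rcJF4_44 : List ℕ := [1, 2, 3]
def rcJnF4_44 : List ℕ := [20, 22, 23]
def rcKF4_44 : ℕ := 0
def rcCertF4_44 : List (List ℕ × ℕ) := [([], 0), ([], 0), ([], 0), ([], 0), ([], 0), ([], 0), ([], 0), ([], 0), ([], 0), ([], 0), ([], 0), ([], 0), ([], 0), ([], 0), ([], 0), ([], 0), ([], 0), ([], 0), ([], 0), ([], 0), ([], 0), ([], 0), ([], 0), ([], 0), ([], 3), ([], 2), ([3], 2), ([], 1), ([2], 1), ([3, 2], 1), ([1], 2), ([3, 1], 2), ([2, 3, 1], 2), ([], 0), ([], 0), ([], 0), ([], 0), ([], 0), ([], 0), ([], 0), ([], 0), ([], 0), ([], 0), ([], 0), ([], 0), ([], 0), ([], 0), ([], 0)]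

theorem rcEvenF4_44 : evenCheck chevF4 permTblF4 44 rcJF4_44 rcCertF4_44 = true := by
  decide +kernel

theorem rcChiF4_44 : evenChiCheck chevF4 44 rcJF4_44 rcJnF4_44 rcKF4_44 = true := by
  decide +kernel

end Cfsg.Agent.Helper18
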