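import Cfsg.Agent.Lib.Helper18.ChevDiagConj
import Cfsg.Prelude.Def_LieTypes
import Cfsg.Prelude.Def_ChevB2

set_option autoImplicit false
set_option maxRecDepth 100000

namespace Cfsg.Agent.Helper18

open Cfsg.Lie

theorem sConjG2_0 : simpleConjCheck chevG2 0 (lget expG2 (fSimple chevG2 0) 0) = true := by
  decide +kernel

theorem sConjG2_1 : simpleConjCheck chevG2 1 (lget expG2 (fSimple chevG2 1) 0) = true := by
  decide +kernel

theorem sConjG2 (i : ℕ) (hlo : 0 ≤ i) (hi : i < 2) : simpleConjCheck chevG2 i (lget expG2 (fSimple chevG2 i) 0) = true := by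
  have h : i = 0 ∨ i = 1 := by omega
  rcases h with rfl | rfl
  exacts [sConjG2_0, sConjG2_1]

theorem sConjB2_0 : simpleConjCheck chevB2 0 (lget expB2 (fSimple chevB2 0) 0) = true := by
  decide +kernel

theorem sConjB2_1 : simpleConjCheck chevB2 1 (lget expB2 (fSimple chevB2 1) 0) = true := by
  decide +kernel

theorem sConjB2 (i : ℕ) (hlo : 0 ≤ i) (hi : i < 2) : simpleConjCheck chevB2 i (lget expB2 (fSimple chevB2 i) 0) = true := by
  have h : i = 0 ∨ i = 1 := by omega
  rcases h with rfl | rfl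
  exacts [sConjB2_0, sConjB2_1]

theorem sConjD4_0 : simpleConjCheck chevD4 0 (lget expD4 (fSimple chevD4 0) 0) = true := by
  decide +kernel

theorem sConjD4_1 : simpleConjCheck chevD4 1 (lget expD4 (fSimple chevD4 1) 0) = true := by
  decide +kernel

theorem sConjD4_2 : simpleConjCheck chevD4 2 (lget expD4 (fSimple chevD4 2) 0) = true := by
  decide +kernel

theorem sConjD4_3 : simpleConjCheck chevD4 3 (lget expD4 (fSimple chevD4 3) 0) = true := by
  decide +kernel

theorem sConjD4 (i : ℕ) (hlo : 0 ≤ i) (hi : i < 4) : simpleConjCheck chevD4 i (lget expD4 (fSimple chevD4 i) 0) = true := by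
  have h : i = 0 ∨ i = 1 ∨ i = 2 ∨ i = 3 := by omega
  rcases h with rfl | rfl | rfl | rfl
  exacts [sConjD4_0, sConjD4_1, sConjD4_2, sConjD4_3]

theorem sConjF4_0 : simpleConjCheck chevF4 0 (lget expF4 (fSimple chevF4 0) 0) = true := by
  decide +kernel

theorem sConjF4_1 : simpleConjCheck chevF4 1 (lget expF4 (fSimple chevF4 1) 0) = true := by
  decide +kernel

theorem sConjF4_2 : simpleConjCheck chevF4 2 (lget expF4 (fSimple chevF4 2) 0) = true := by
  decide +kernel

theorem sConjF4_3 : simpleConjCheck chevF4 3 (lget expF4 (fSimple chevF4 3) 0) = true := by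
  decide +kernel

theorem sConjF4 (i : ℕ) (hlo : 0 ≤ i) (hi : i < 4) : simpleConjCheck chevF4 i (lget expF4 (fSimple chevF4 i) 0) = true := by
  have h : i = 0 ∨ i = 1 ∨ i = 2 ∨ i = 3 := by omega
  rcases h with rfl | rfl | rfl | rfl
  exacts [sConjF4_0, sConjF4_1, sConjF4_2, sConjF4_3]

end Cfsg.Agent.Helper18
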