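import Cfsg.Agent.Lib.Helper18.ChevSimple
import Cfsg.Agent.Lib.Helper18.PerfectData
import Cfsg.Agent.S1050
import Cfsg.Agent.S1051
import Cfsg.Agent.S1038

set_option autoImplicit false
set_option Elab.async false

namespace Cfsg.Agent.Helper18

open Cfsg.Lie Cfsg.Agent.S1043 Cfsg.Agent.Helper17

theorem irrChkG2 : irrCheck chevG2 [0, 0] [0, 1] = true := by decide +kernel
theorem irrChkB2 : irrCheck chevB2 [0, 0] [0, 1] = true := by decide +kernel
theorem irrChkD4 : irrCheck chevD4 [0, 0, 1, 1] [0, 1, 2, 2] = true := by decide +kernel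
theorem irrChkF4 : irrCheck chevF4 [0, 0, 1, 2] [0, 1, 2, 3] = true := by decide +kernel
theorem irrChkE6 : irrCheck chevE6 [0, 3, 0, 2, 3, 4] [0, 3, 1, 2, 3, 4] = true := by decide +kernel
theorem irrChkE7 : irrCheck chevE7 [0, 3, 0, 2, 3, 4, 5] [0, 3, 1, 2, 3, 4, 5] = true := by decide +kernel
theorem irrChkE8 : irrCheck chevE8 [0, 3, 0, 2, 3, 4, 5, 6] [0, 3, 1, 2, 3, 4, 5, 6] = true := by decide +kernel

theorem irrChk_all (D : ChevalleyDatum) (hD : Good D) :
    ∃ par dep : List ℕ, irrCheck D par dep = true ∧ 0 < D.rank := by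
  simp only [Good, List.mem_cons, List.not_mem_nil, or_false] at hD
  rcases hD with rfl | rfl | rfl | rfl | rfl | rfl | rfl
  · exact ⟨_, _, irrChkG2, by decide⟩
  · exact ⟨_, _, irrChkB2, by decide⟩
  · exact ⟨_, _, irrChkD4, by decide⟩
  · exact ⟨_, _, irrChkF4, by decide⟩
  · exact ⟨_, _, irrChkE6, by decide⟩
  · exact ⟨_, _, irrChkE7, by decide⟩
  · exact ⟨_, _, irrChkE8, by decide⟩

theorem chev_simple_all {F : Type*} [Field F] (D : ChevalleyDatum) (hD : Good D)
    (h2 : D = chevG2 ∨ D = chevB2 → ∃ a : F, a ≠ 0 ∧ a ≠ 1) :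
    IsSimpleGroup ↥(D.group F) ∧ ¬ IsMulCommutative ↥(D.group F) := by
  obtain ⟨tbl, hT⟩ := torusData_all D hD
  have hHN : D.diagonalSubgroup F ≤ D.monomialSubgroup F := le_sup_left
  have hNH := (Subgroup.normal_subgroupOf_iff_le_normalizer hHN).mp (Cfsg.Agent.S1038.result (F := F) D hD)
  obtain ⟨par, dep, hirr, hrank⟩ := irrChk_all D hD
  exact chev_simple D hD (bnFacts_all D hD) (uiFacts_all D hD) hT (triOK_of_mem D hD)
    (negTriOK_of_mem D hD) (fun i hi s hs => conjGoal_all D hD i s hi hs)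
    (fun i hi => conjGoalS_all D hD i hi) hNH par dep hirr hrank
    (Cfsg.Agent.S1050.result D hD) (perfect_all D hD h2) (Cfsg.Agent.S1051.result D hD)

end Cfsg.Agent.Helper18
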