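import Cfsg.Agent.Lib.Helper18.ChevSubfield
import Cfsg.Agent.Lib.Helper18.LongestData

set_option autoImplicit false
set_option maxRecDepth 100000
set_option Elab.async false

namespace Cfsg.Agent.Helper18

open Cfsg.Lie Cfsg.Agent.S1043

theorem w0InvG2 : w0InvCheck chevG2 permTblG2 w0WordG2 = true := by
  decide +kernel

theorem w0InvB2 : w0InvCheck chevB2 permTblB2 w0WordB2 = true := by
  decide +kernel

theorem w0InvD4 : w0InvCheck chevD4 permTblD4 w0WordD4 = true := by
  decide +kernel

theorem w0InvF4 : w0InvCheck chevF4 permTblF4 w0WordF4 = true := by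
  decide +kernel

theorem w0InvE6 : w0InvCheck chevE6 permTblE6 w0WordE6 = true := by
  decide +kernel

theorem w0InvE7 : w0InvCheck chevE7 permTblE7 w0WordE7 = true := by
  decide +kernel

theorem w0InvE8 : w0InvCheck chevE8 permTblE8 w0WordE8 = true := by
  decide +kernel

end Cfsg.Agent.Helper18
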