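import Mathlib

/-!
# Exponent of `p`-elements from a Sylow subgroup (helper18)
-/

set_option autoImplicit false

namespace Cfsg.Agent.Helper18.SylowExp

/-- If `S ≤ G` has order `p ^ a`, `|G| = p ^ a * c` with `c` prime to `p`, and `s ^ n = 1` on `S`, then every
`p`-element `x` of `G` satisfies `x ^ n = 1`. -/
theorem pow_eq_one_of_sylow {G : Type*} [Group G] [Finite G] (p : ℕ) [Fact p.Prime] (S : Subgroup G)
    (a c n : ℕ) (hS : Nat.card S = p ^ a) (hG : Nat.card G = p ^ a * c) (hc : Nat.Coprime p c)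
    (hexp : ∀ s ∈ S, s ^ n = 1) (x : G) (hx : ∃ j : ℕ, orderOf x = p ^ j) : x ^ n = 1 := by
  obtain ⟨j, hj⟩ := hx
  have hxP : IsPGroup p (Subgroup.zpowers x) :=
    IsPGroup.of_card (n := j) (by rw [Nat.card_zpowers, hj])
  obtain ⟨P, hP⟩ := hxP.exists_le_sylow
  have hSP : IsPGroup p S := IsPGroup.of_card hS
  obtain ⟨Q, hQ⟩ := hSP.exists_le_sylow
  have hQS : S = (Q : Subgroup G) := by
    apply Subgroup.eq_of_le_of_card_ge hQ
    obtain ⟨k, hk⟩ := IsPGroup.iff_card.mp Q.isPGroup'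
    have hdvd : Nat.card (Q : Subgroup G) ∣ Nat.card G := Subgroup.card_subgroup_dvd_card _
    rw [hk, hG] at hdvd
    have hcop : Nat.Coprime (p ^ k) c := Nat.Coprime.pow_left k hc
    have h2 : p ^ k ∣ p ^ a := hcop.dvd_of_dvd_mul_right hdvd
    rw [hk, hS]
    exact Nat.le_of_dvd (pow_pos (Fact.out : p.Prime).pos a) h2
  obtain ⟨g, hg⟩ := MulAction.exists_smul_eq G P Q
  have hxmem : x ∈ (P : Subgroup G) := hP (Subgroup.mem_zpowers x)
  have hy : g * x * g⁻¹ ∈ (Q : Subgroup G) := by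
    rw [← hg, Sylow.coe_subgroup_smul]
    have := Subgroup.smul_mem_pointwise_smul x (MulAut.conj g) (P : Subgroup G) hxmem
    simpa [MulAut.smul_def] using this
  rw [← hQS] at hy
  have h3 := hexp _ hy
  rw [conj_pow] at h3
  have e : x ^ n = g⁻¹ * (g * x ^ n * g⁻¹) * g := by group
  rw [e, h3]
  group

end Cfsg.Agent.Helper18.SylowExp
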