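import Cfsg.Agent.Lib.Helper59.TwFixB

/-!
# Two consequences of the recursion data `Helper59.TwFix.Rec` that do not need any counting

* `fixUw_mem`: the `τ`-fixed points of `Uw n` lie in `G1` for every `n ∈ N ∩ G1`;
* `gen`: every `τ`-stable coset `nH` is represented by a product of the `nJ j`.
-/

set_option autoImplicit false
set_option linter.unusedSectionVars false
set_option linter.unusedVariables false

namespace Cfsg.Agent.Helper18.TwRecGen

open Cfsg.Agent.Helper59.TwFix

variable {G : Type*} [Group G] {A : Amb G} {T : Twist A} {ι : Type*} (R : Rec T ι)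

include R in
/-- the fixed points of `Uw n` lie in `G1` -/
theorem fixUw_mem [Finite G] :
    ∀ n ∈ A.N, n ∈ T.G1 → ∀ u ∈ A.Uw n, T.τ u = u → u ∈ T.G1 := by
  have key : ∀ k : ℕ, ∀ n ∈ A.N, n ∈ T.G1 → Nat.card ↥(A.Uw n) = k →
      (∀ u ∈ A.Uw n, T.τ u = u → u ∈ T.G1) := by
    intro k
    induction k using Nat.strong_induction_on with
    | _ k ih =>
      intro n hn hnG hk
      by_cases hnH : n ∈ A.H
      · have hbot : A.Uw n = ⊥ := A.Uw_of_mem_H hnH
        intro u hu _
        rw [hbot, Subgroup.mem_bot] at hu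
        rw [hu]; exact T.G1.one_mem
      · have hτ : n⁻¹ * T.τ n ∈ A.H := by
          rw [T.fix n hnG, inv_mul_cancel]; exact A.H.one_mem
        obtain ⟨j, n', hn', rfl, hτ', hpos⟩ := R.exists_desc hn hnH hτ
        have hn'G : n' ∈ T.G1 := by
          have : n' = n' * R.nJ j * (R.nJ j)⁻¹ := by group
          rw [this]
          exact T.G1.mul_mem hnG (T.G1.inv_mem (R.nJ_G1 j))
        have hc := R.card_step hn' j hpos
        have hlt : Nat.card ↥(A.Uw n') < k := by
          rw [← hk, hc]
          have h2 := R.card_XJ_ge j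
          have h1 : 0 < Nat.card ↥(A.Uw n') := Nat.card_pos
          nlinarith
        exact R.fix_step hn' hn'G j hpos (ih _ hlt n' hn' hn'G rfl)
  intro n hn hnG
  exact key _ n hn hnG rfl

include R in
/-- every `τ`-stable coset `nH` is represented by a product of the `nJ j` -/
theorem gen [Finite G] : ∀ n ∈ A.N, n⁻¹ * T.τ n ∈ A.H →
    ∃ L : List ι, n * ((L.map R.nJ).prod)⁻¹ ∈ A.H := by
  have key : ∀ k : ℕ, ∀ n ∈ A.N, n⁻¹ * T.τ n ∈ A.H → Nat.card ↥(A.Uw n) = k →
      ∃ L : List ι, n * ((L.map R.nJ).prod)⁻¹ ∈ A.H := by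
    intro k
    induction k using Nat.strong_induction_on with
    | _ k ih =>
      intro n hn hτ hk
      by_cases hnH : n ∈ A.H
      · exact ⟨[], by simpa using hnH⟩
      · obtain ⟨j, n', hn', rfl, hτ', hpos⟩ := R.exists_desc hn hnH hτ
        have hc := R.card_step hn' j hpos
        have hlt : Nat.card ↥(A.Uw n') < k := by
          rw [← hk, hc]
          have h2 := R.card_XJ_ge j
          have h1 : 0 < Nat.card ↥(A.Uw n') := Nat.card_pos
          nlinarith
        obtain ⟨L, hL⟩ := ih _ hlt n' hn' hτ' rfl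
        refine ⟨L ++ [j], ?_⟩
        rw [List.map_append, List.prod_append, List.map_singleton, List.prod_singleton]
        have : n' * R.nJ j * ((L.map R.nJ).prod * R.nJ j)⁻¹ = n' * ((L.map R.nJ).prod)⁻¹ := by group
        rw [this]
        exact hL
  intro n hn hτ
  exact key _ n hn hτ rfl

end Cfsg.Agent.Helper18.TwRecGen
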