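import Cfsg.Agent.Lib.Helper18.TwRecF4
import Cfsg.Agent.Lib.Helper18.TwRecGen
import Cfsg.Agent.Lib.Helper6.TwistBNChev

/-!
# `²F₄`: the (B,N)-pair, from the recursion data `recF4` and helper6's `exists_bnPair_fixed`
-/

set_option autoImplicit false
set_option linter.unusedSectionVars false
set_option linter.unusedVariables false
set_option maxRecDepth 100000

namespace Cfsg.Agent.Helper18.TwBNF4

open Cfsg Cfsg.Lie Cfsg.Agent.Helper18 Cfsg.Agent.Helper15.Ree4 Cfsg.Agent.Helper6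
open Cfsg.Agent.Helper6.ChevGraph Cfsg.Agent.Helper6.ChevGraph.F4 Cfsg.Agent.S1043
open Cfsg.Agent.Helper59.F4Suz Cfsg.Agent.Helper59.TwFix Cfsg.Agent.Helper17
open Cfsg.Agent.Helper36.F4Tw Cfsg.Agent.Helper18.TwWord Cfsg.Agent.Helper18.TwWordF4
open Cfsg.Agent.Helper18.TwRecF4

/-- the words of the two classes -/
def Lw : Fin 2 → List ℕ
  | 0 => L1
  | 1 => L2

theorem Lw_lt (j : Fin 2) : ∀ i ∈ Lw j, i < chevF4.rank := by
  fin_cases j
  · exact L1_lt
  · exact L2_lt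

/-- the word keeps all positive roots positive -/
def posPres (l : List ℕ) : Prop :=
  ∀ s < 48, chevF4.IsPosRoot s → chevF4.IsPosRoot (permW chevF4 l s)

instance (l : List ℕ) : Decidable (posPres l) := by unfold posPres; infer_instance

/-- the negativity pattern of the word on the fundamental roots is `σ`-symmetric -/
def symW (l : List ℕ) : Prop :=
  ∀ i < 4, (¬ chevF4.IsPosRoot (permW chevF4 l (chevF4.simple i))) ↔
    (¬ chevF4.IsPosRoot (permW chevF4 l (chevF4.simple (piF4 i))))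

instance (l : List ℕ) : Decidable (symW l) := by unfold symW; infer_instance

theorem chk_hfix : ∀ j : Fin 2, ∀ L0 ∈ (Lw j).sublists, symW L0 →
    posPres L0 ∨ posPres (Lw j ++ L0) := by decide +kernel

theorem chk_sq : ∀ j : Fin 2, posPres (Lw j ++ Lw j) := by decide +kernel

theorem chk_inj : ¬ (∀ i < 4, (¬ chevF4.IsPosRoot (permW chevF4 L2 (chevF4.simple i))) ↔
    (¬ chevF4.IsPosRoot (permW chevF4 L1 (chevF4.simple i)))) := by decide +kernel

theorem piF4_invol : ∀ i < 4, piF4 (piF4 i) = i := by decide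

section

variable {K : Type*} [Field K]

theorem mem_diag_of_posPres (l : List ℕ) (hl : ∀ i ∈ l, i < chevF4.rank) (h : posPres l) :
    nWordGL (F := K) chevF4 gF4 l ∈ chevF4.diagonalSubgroup K := by
  have C := TwWordF4.hypF4 (K := K)
  exact nWordGL_mem_diag chevF4 gF4 C.hB C.hT C.hTri C.hNeg C.hconj C.hS C.hNH l.length l le_rfl hl
    (fun s hs => h s hs.1 hs)

/-- negativity on a fundamental root does not change under right multiplication by `H` -/
theorem neg_mul_H (n h : GL chevF4.Idx K) (hh : h ∈ chevF4.diagonalSubgroup K) {i : ℕ}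
    (hi : i < chevF4.rank) : Neg gF4 (n * h) i ↔ Neg gF4 n i := by
  have C := TwWordF4.hypF4 (K := K)
  obtain ⟨c, hc0, hc⟩ := conj_N_xU chevF4 gF4 C.hB C.hT C.hconj h hh []
    (fun j hj => absurd hj List.not_mem_nil) (chevF4.simple i) (C.hB.hsimp i hi)
  have hc' : ∀ t : K, h * xU chevF4 gF4 (chevF4.simple i) t * h⁻¹ =
      xU chevF4 gF4 (chevF4.simple i) (c * t) := by
    intro t
    have := hc t
    rwa [nWordGL_nil, mul_one] at this
  constructor
  · intro hneg t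
    have := hneg (c⁻¹ * t)
    have e : n * h * xU chevF4 gF4 (chevF4.simple i) (c⁻¹ * t) * (n * h)⁻¹ =
        n * (h * xU chevF4 gF4 (chevF4.simple i) (c⁻¹ * t) * h⁻¹) * n⁻¹ := by group
    rw [e, hc', ← mul_assoc, mul_inv_cancel₀ hc0, one_mul] at this
    exact this
  · intro hneg t
    have e : n * h * xU chevF4 gF4 (chevF4.simple i) t * (n * h)⁻¹ =
        n * (h * xU chevF4 gF4 (chevF4.simple i) t * h⁻¹) * n⁻¹ := by group
    rw [e, hc']
    exact hneg _

/-- the negativity of a word on a fundamental root -/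
theorem neg_word_iff (l : List ℕ) (hl : ∀ i ∈ l, i < chevF4.rank) {i : ℕ} (hi : i < chevF4.rank) :
    Neg gF4 (nWordGL (F := K) chevF4 gF4 l) i ↔
      ¬ chevF4.IsPosRoot (permW chevF4 l (chevF4.simple i)) := by
  have C := TwWordF4.hypF4 (K := K)
  have := neg_iff_word gF4 C (one_mem _) hl (r := chevF4.simple i) (C.hB.hsimp i hi)
  rw [one_mul] at this
  exact this

/-- conjugation by a fundamental reflection of a root element whose root stays positive -/
theorem conj_simple_pos {i : ℕ} (hi : i < chevF4.rank) {r : ℕ} (hr : r < chevF4.nroots)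
    (hp : chevF4.IsPosRoot (permW chevF4 [i] r)) (t : K) :
    nGL chevF4 gF4 i * xU chevF4 gF4 r t * (nGL chevF4 gF4 i)⁻¹ ∈ chevF4.posUnipotent K := by
  have C := TwWordF4.hypF4 (K := K)
  have hli : ∀ k ∈ [i], k < chevF4.rank := by
    intro k hk
    rw [List.mem_singleton] at hk
    rw [hk]; exact hi
  obtain ⟨c, _, hc⟩ := conj_N_xU chevF4 gF4 C.hB C.hT C.hconj 1 (one_mem _) [i] hli r hr
  have e := hc t
  rw [one_mul, nWordGL_cons, nWordGL_nil, mul_one] at e
  rw [e]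
  exact Subgroup.subset_closure ⟨_, _, hp, rfl⟩

/-- a product `x_{p_i}(t) y` with `t ≠ 0` and `y`, `n_i y n_i⁻¹ ∈ U` is not trivial -/
theorem simple_mul_ne_one {i : ℕ} (hi : i < chevF4.rank) {t : K} (ht : t ≠ 0) (y : GL chevF4.Idx K)
    (hc : nGL chevF4 gF4 i * y * (nGL chevF4 gF4 i)⁻¹ ∈ chevF4.posUnipotent K) :
    xU chevF4 gF4 (chevF4.simple i) t * y ≠ 1 := by
  have C := TwWordF4.hypF4 (K := K)
  intro h
  have e1 : xU chevF4 gF4 (chevF4.simple i) t = y⁻¹ := eq_inv_of_mul_eq_one_left h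
  have h1 := nGL_conj_simple_neg gF4 C hi t
  have h2 : nGL chevF4 gF4 i * xU chevF4 gF4 (chevF4.simple i) t * (nGL chevF4 gF4 i)⁻¹ ∈
      chevF4.borelSubgroup K := by
    rw [e1]
    have e2 : nGL chevF4 gF4 i * y⁻¹ * (nGL chevF4 gF4 i)⁻¹ =
        (nGL chevF4 gF4 i * y * (nGL chevF4 gF4 i)⁻¹)⁻¹ := by group
    rw [e2]
    exact Subgroup.mem_sup_left (inv_mem hc)
  have hbot := (borel_inf_neg (F := K) chevF4 C.hT C.hTri C.hNeg).1
  have h3 : nGL chevF4 gF4 i * xU chevF4 gF4 (chevF4.simple i) t * (nGL chevF4 gF4 i)⁻¹ = 1 := by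
    rw [← Subgroup.mem_bot, ← hbot]
    exact ⟨h2, h1⟩
  have h4 : xU chevF4 gF4 (chevF4.simple i) t = 1 := by
    have : xU chevF4 gF4 (chevF4.simple i) t = (nGL chevF4 gF4 i)⁻¹ *
        (nGL chevF4 gF4 i * xU chevF4 gF4 (chevF4.simple i) t * (nGL chevF4 gF4 i)⁻¹) *
        nGL chevF4 gF4 i := by group
    rw [this, h3]
    group
  exact ht (xU_eq_one chevF4 gF4 C.hB _ (C.hB.hsimp i hi) t h4)

/-- a non-trivial element of `U_{w_J}⁻` is not sent into `B` by `n_J · n_J` -/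
theorem not_mem_B_of_ne_one (j : Fin 2)
    (hsq : nWordGL (F := K) chevF4 gF4 (Lw j) * nWordGL chevF4 gF4 (Lw j) ∈ chevF4.borelSubgroup K)
    (b : GL chevF4.Idx K) (hb : b ∈ Uw chevF4 (nWordGL (F := K) chevF4 gF4 (Lw j))) (hb1 : b ≠ 1) :
    nWordGL chevF4 gF4 (Lw j) * b * nWordGL chevF4 gF4 (Lw j) ∉ chevF4.borelSubgroup K := by
  have C := TwWordF4.hypF4 (K := K)
  intro hmem
  apply hb1
  have h4 : nWordGL chevF4 gF4 (Lw j) * b * (nWordGL (F := K) chevF4 gF4 (Lw j))⁻¹ ∈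
      chevF4.borelSubgroup K := by
    have e : nWordGL chevF4 gF4 (Lw j) * b * (nWordGL (F := K) chevF4 gF4 (Lw j))⁻¹ =
        (nWordGL chevF4 gF4 (Lw j) * b * nWordGL chevF4 gF4 (Lw j)) *
          (nWordGL chevF4 gF4 (Lw j) * nWordGL chevF4 gF4 (Lw j))⁻¹ := by group
    rw [e]
    exact mul_mem hmem (inv_mem hsq)
  have h5 := conj_Uw_mem_neg chevF4 _ b hb
  have hbot := (borel_inf_neg (F := K) chevF4 C.hT C.hTri C.hNeg).1
  have h6 : nWordGL chevF4 gF4 (Lw j) * b * (nWordGL (F := K) chevF4 gF4 (Lw j))⁻¹ = 1 := by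
    rw [← Subgroup.mem_bot, ← hbot]
    exact ⟨h4, h5⟩
  have : b = (nWordGL (F := K) chevF4 gF4 (Lw j))⁻¹ *
      (nWordGL chevF4 gF4 (Lw j) * b * (nWordGL chevF4 gF4 (Lw j))⁻¹) *
      nWordGL chevF4 gF4 (Lw j) := by group
  rw [this, h6]
  group

theorem chk_refl : chevF4.IsPosRoot (permW chevF4 [0] 24) ∧ chevF4.IsPosRoot (permW chevF4 [1] 25) ∧
    chevF4.IsPosRoot (permW chevF4 [1] 28) ∧ chevF4.IsPosRoot (permW chevF4 [1] 30) := by
  decide +kernel

end

section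

variable {K : Type*} [Field K] [Fintype K] [CharP K 2] {e : ℕ} (FD : FieldData K e)
  (α : ↥(chevF4.group K) ≃* ↥(chevF4.group K))
  (hα : ∀ (r : Fin chevF4.nroots) (t : K),
      α (xG goodF4 r.val t) = xG goodF4 (sig r.val) (if isShort r.val then t ^ 2 else t))

instance finiteGLF4 : Finite (GL chevF4.Idx K) :=
  Finite.of_injective (fun g : GL chevF4.Idx K => (g : Matrix chevF4.Idx chevF4.Idx K))
    (fun _ _ e => Units.ext e)

include FD hα in
theorem twisted_le_group : twistedF4 K e ≤ chevF4.group K := by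
  intro g hg
  obtain ⟨hg', _⟩ := twisted_fixed FD α hα g hg
  exact hg'

include FD hα in
/-- for `x ∈ N ∩ G¹` the negativity pattern on the fundamental roots is `σ`-symmetric -/
theorem neg_sym (x : GL chevF4.Idx K) (hxN : x ∈ chevF4.monomialSubgroup K)
    (hxG : x ∈ twistedF4 K e) {i : ℕ} (hi : i < 4) :
    Neg gF4 x i ↔ Neg gF4 x (piF4 i) := by
  have hxΓ : x ∈ chevF4.group K := twisted_le_group FD α hα hxG
  have hfix : sigma FD α ⟨x, hxΓ⟩ = ⟨x, hxΓ⟩ := (twF4 FD α hα).fix ⟨x, hxΓ⟩ hxG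
  have hτ : (((⟨x, hxΓ⟩ : ↥(chevF4.group K))⁻¹ * sigma FD α ⟨x, hxΓ⟩ : ↥(chevF4.group K)) :
      GL chevF4.Idx K) ∈ chevF4.diagonalSubgroup K := by
    rw [hfix, inv_mul_cancel]
    exact one_mem _
  constructor
  · intro h
    exact neg_sigma FD α hα ⟨x, hxΓ⟩ hxN hτ hi h
  · intro h
    have h2 := neg_sigma FD α hα ⟨x, hxΓ⟩ hxN hτ (piF4_spec i hi).1 h
    rwa [piF4_invol i hi] at h2

include FD hα in
set_option maxHeartbeats 2000000 in
/-- **the (B,N)-pair of `²F₄`** (given the fixed points of the class subgroups) -/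
theorem exists_bnPair_F4
    (hfixX : ∀ j : Fin 2, ∀ x ∈ (XJΓ j : Subgroup ↥(chevF4.group K)),
      (twF4 FD α hα).τ x = x → x ∈ (twF4 FD α hα).G1)
    (hne : ∀ j : Fin 2, ∃ b ∈ chevF4.borelSubgroup K ⊓ twistedF4 K e,
      nWordGL chevF4 gF4 (Lw j) * b * nWordGL chevF4 gF4 (Lw j) ∉ chevF4.borelSubgroup K) :
    ∃ P : Cfsg.BNPair ↥(twistedF4 K e),
      P.B = (chevF4.borelSubgroup K ⊓ twistedF4 K e).subgroupOf (twistedF4 K e) ∧
      P.N = (chevF4.monomialSubgroup K ⊓ twistedF4 K e).subgroupOf (twistedF4 K e) ∧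
      P.S = {s : ↥(twistedF4 K e) | ∃ j : Fin 2,
        (s : GL chevF4.Idx K) = ((Lw j).map (nGL chevF4 gF4)).prod} := by
  classical
  have CH := TwWordF4.hypF4 (K := K)
  have hBN : chevF4.borelSubgroup K ⊓ chevF4.monomialSubgroup K = chevF4.diagonalSubgroup K :=
    Cfsg.Agent.Helper6.TwBN.borel_inf_mono gF4 CH
  have hHB : chevF4.diagonalSubgroup K ≤ chevF4.borelSubgroup K := le_sup_right
  have hUB : chevF4.posUnipotent K ≤ chevF4.borelSubgroup K := le_sup_left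
  have hHN : chevF4.diagonalSubgroup K ≤ chevF4.monomialSubgroup K := le_sup_left
  set T := twF4 FD α hα with hT
  set R := recF4 FD α hα hfixX with hR
  have hwN : ∀ L : List ℕ, (∀ i ∈ L, i < chevF4.rank) →
      nWordGL (F := K) chevF4 gF4 L ∈ chevF4.monomialSubgroup K :=
    fun L hL => nWordGL_mem chevF4 gF4 L (fun i hi => CH.hB.hsimp i (hL i hi))
  have hprod : ∀ L : List ℕ, (L.map (nGL (F := K) chevF4 gF4)).prod = nWordGL chevF4 gF4 L :=
    fun L => rfl
  have hnJG : ∀ j : Fin 2, nWordGL (F := K) chevF4 gF4 (Lw j) ∈ twistedF4 K e := by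
    intro j
    fin_cases j
    · exact Cfsg.Agent.Helper36.F4N.nJ1_mem_twisted FD
    · exact Cfsg.Agent.Helper36.F4N.nJ2_mem_twisted FD
  have hsqJ : ∀ j : Fin 2, nWordGL (F := K) chevF4 gF4 (Lw j) * nWordGL chevF4 gF4 (Lw j) ∈
      chevF4.diagonalSubgroup K := by
    intro j
    rw [← nWordGL_append]
    apply mem_diag_of_posPres _ _ (chk_sq j)
    intro i hi
    rcases List.mem_append.mp hi with hi | hi <;> exact Lw_lt j i hi
  have hfu := Cfsg.Agent.Helper18.TwRecGen.fixUw_mem R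
  apply Cfsg.Agent.Helper6.Twist.exists_bnPair_fixed (chevF4.borelSubgroup K)
    (chevF4.monomialSubgroup K) {s : GL chevF4.Idx K | ∃ i < chevF4.rank, s = nGL chevF4 gF4 i}
    (ι := Fin 2) (w := fun j => (Lw j).map (nGL chevF4 gF4))
  · -- hSN
    rintro s ⟨i, hi, rfl⟩
    exact nGL_mem chevF4 gF4 i (CH.hB.hsimp i hi)
  · -- hT3
    rintro s ⟨i, hi, rfl⟩ n hn b hb
    exact bn_mul_mem chevF4 gF4 CH.hB CH.hU CH.hT CH.hconj CH.hS CH.hNH i hi n hn b hb
  · -- huniq
    exact Cfsg.Agent.Helper6.TwBN.huniq_chev gF4 CH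
  · -- hconjT
    intro n hn t ht
    rw [hBN] at ht
    exact hHB ((Subgroup.mem_normalizer_iff.mp (CH.hNH hn) t).mp ht)
  · -- hnf
    intro g hg
    have hgΓ : g ∈ chevF4.group K := twisted_le_group FD α hα hg
    obtain ⟨n, hn, hnG, b, hb, hbG, u, hu, e1⟩ := T.nf1 R.lift hfu ⟨g, hgΓ⟩ hg
    have huU : (u : GL chevF4.Idx K) ∈ Uw chevF4 (n : GL chevF4.Idx K) := hu.1
    refine ⟨n, ⟨hn, hnG⟩, b, ⟨hb, hbG⟩, u, ⟨hUB (Uw_le_pos chevF4 _ huU), ?_⟩, ?_⟩
    · exact hfu n hn hnG u hu.1 hu.2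
    · exact congrArg Subtype.val e1
  · -- hw
    intro j x hx
    obtain ⟨i, hi, rfl⟩ := List.mem_map.1 hx
    exact ⟨i, Lw_lt j i hi, rfl⟩
  · -- hwG
    intro j
    rw [hprod]
    exact hnJG j
  · -- hfix
    intro j L' hsub x hx hxL
    obtain ⟨L0, hL0, rfl⟩ := List.sublist_map_iff.1 hsub
    rw [hprod] at hxL ⊢
    rw [hprod]
    have hL0lt : ∀ i ∈ L0, i < chevF4.rank := fun i hi => Lw_lt j i (hL0.subset hi)
    have hmN := hwN L0 hL0lt
    -- `h = x⁻¹ * m ∈ H`
    have hh : x⁻¹ * nWordGL chevF4 gF4 L0 ∈ chevF4.diagonalSubgroup K := by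
      rw [← hBN]
      exact Subgroup.mem_inf.mpr ⟨hxL, (chevF4.monomialSubgroup K).mul_mem
        ((chevF4.monomialSubgroup K).inv_mem (Subgroup.mem_inf.mp hx).1) hmN⟩
    have hm : nWordGL (F := K) chevF4 gF4 L0 = x * (x⁻¹ * nWordGL chevF4 gF4 L0) := by group
    have hsym : symW L0 := by
      intro i hi
      have hπ := (piF4_spec i hi).1
      rw [← neg_word_iff (K := K) L0 hL0lt hi, ← neg_word_iff (K := K) L0 hL0lt hπ, hm,
        neg_mul_H x _ hh hi, neg_mul_H x _ hh hπ]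
      exact neg_sym FD α hα x (Subgroup.mem_inf.mp hx).1 (Subgroup.mem_inf.mp hx).2 hi
    rcases chk_hfix j L0 (List.mem_sublists.2 hL0) hsym with h1 | h1
    · left
      exact hHB (mem_diag_of_posPres L0 hL0lt h1)
    · right
      have h2 : nWordGL (F := K) chevF4 gF4 (Lw j ++ L0) ∈ chevF4.diagonalSubgroup K := by
        apply mem_diag_of_posPres _ _ h1
        intro i hi
        rcases List.mem_append.mp hi with hi | hi
        · exact Lw_lt j i hi
        · exact hL0lt i hi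
      rw [nWordGL_append] at h2
      have e2 : (nWordGL (F := K) chevF4 gF4 (Lw j))⁻¹ * nWordGL chevF4 gF4 L0 =
          (nWordGL chevF4 gF4 (Lw j) * nWordGL chevF4 gF4 (Lw j))⁻¹ *
            (nWordGL chevF4 gF4 (Lw j) * nWordGL chevF4 gF4 L0) := by group
      rw [e2]
      exact hHB (mul_mem (inv_mem (hsqJ j)) h2)
  · -- hsq
    intro j
    rw [hprod]
    exact hHB (hsqJ j)
  · -- hinj
    intro j j' hjj
    rw [hprod, hprod] at hjj
    by_contra hne'
    have hh : (nWordGL (F := K) chevF4 gF4 (Lw j))⁻¹ * nWordGL chevF4 gF4 (Lw j') ∈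
        chevF4.diagonalSubgroup K := by
      rw [← hBN]
      exact Subgroup.mem_inf.mpr ⟨hjj, (chevF4.monomialSubgroup K).mul_mem
        ((chevF4.monomialSubgroup K).inv_mem (hwN _ (Lw_lt j))) (hwN _ (Lw_lt j'))⟩
    have hm : nWordGL (F := K) chevF4 gF4 (Lw j') = nWordGL chevF4 gF4 (Lw j) *
        ((nWordGL chevF4 gF4 (Lw j))⁻¹ * nWordGL chevF4 gF4 (Lw j')) := by group
    have key : ∀ i < 4, (¬ chevF4.IsPosRoot (permW chevF4 (Lw j') (chevF4.simple i))) ↔
        (¬ chevF4.IsPosRoot (permW chevF4 (Lw j) (chevF4.simple i))) := by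
      intro i hi
      rw [← neg_word_iff (K := K) (Lw j') (Lw_lt j') hi, ← neg_word_iff (K := K) (Lw j) (Lw_lt j) hi,
        hm, neg_mul_H _ _ hh hi]
    fin_cases j <;> fin_cases j'
    · exact hne' rfl
    · exact chk_inj key
    · exact chk_inj (fun i hi => (key i hi).symm)
    · exact hne' rfl
  · -- hgen
    intro n hn
    have hnΓ : n ∈ chevF4.group K := twisted_le_group FD α hα hn.2
    have hτ : (⟨n, hnΓ⟩ : ↥(chevF4.group K))⁻¹ * T.τ ⟨n, hnΓ⟩ ∈ (ambΓ (K := K)).H := by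
      rw [T.fix ⟨n, hnΓ⟩ hn.2, inv_mul_cancel]
      exact one_mem _
    obtain ⟨L, hL⟩ := Cfsg.Agent.Helper18.TwRecGen.gen R ⟨n, hnΓ⟩ hn.1 hτ
    refine ⟨L, ?_⟩
    have hval : (((L.map R.nJ).prod : ↥(chevF4.group K)) : GL chevF4.Idx K) =
        (L.map fun j => ((Lw j).map (nGL chevF4 gF4)).prod).prod := by
      rw [← Subgroup.coe_subtype, map_list_prod, List.map_map]
      congr 1
      apply List.map_congr_left
      intro j _
      fin_cases j <;> rfl
    have hL' : n * ((L.map fun j => ((Lw j).map (nGL (F := K) chevF4 gF4)).prod).prod)⁻¹ ∈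
        chevF4.diagonalSubgroup K := by
      rw [← hval]
      exact hL
    set m := (L.map fun j => ((Lw j).map (nGL (F := K) chevF4 gF4)).prod).prod with hmdef
    have hmN : m ∈ chevF4.monomialSubgroup K := by
      apply Subgroup.list_prod_mem
      intro x hx
      obtain ⟨j, _, rfl⟩ := List.mem_map.1 hx
      rw [hprod]
      exact hwN _ (Lw_lt j)
    have e2 : m⁻¹ * n = m⁻¹ * (n * m⁻¹) * (m⁻¹)⁻¹ := by group
    rw [e2]
    exact hHB ((Subgroup.mem_normalizer_iff.mp (CH.hNH (inv_mem hmN)) _).mp hL')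
  · -- hne
    intro j
    rw [hprod]
    exact hne j

include FD in
/-- the non-degeneracy hypothesis of the (B,N)-pair -/
theorem hne_F4 : ∀ j : Fin 2, ∃ b ∈ chevF4.borelSubgroup K ⊓ twistedF4 K e,
    nWordGL chevF4 gF4 (Lw j) * b * nWordGL chevF4 gF4 (Lw j) ∉ chevF4.borelSubgroup K := by
  have C := TwWordF4.hypF4 (K := K)
  have hUB : chevF4.posUnipotent K ≤ chevF4.borelSubgroup K := le_sup_left
  have hHB : chevF4.diagonalSubgroup K ≤ chevF4.borelSubgroup K := le_sup_right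
  have hxU : ∀ (r : ℕ) (u : K), xU chevF4 gF4 r u = xg r u := fun r u => Units.ext rfl
  have hsqJ : ∀ j : Fin 2, nWordGL (F := K) chevF4 gF4 (Lw j) * nWordGL chevF4 gF4 (Lw j) ∈
      chevF4.borelSubgroup K := by
    intro j
    rw [← nWordGL_append]
    apply hHB
    apply mem_diag_of_posPres _ _ (chk_sq j)
    intro i hi
    rcases List.mem_append.mp hi with hi | hi <;> exact Lw_lt j i hi
  intro j
  fin_cases j
  · -- the pair word at `t = 1`
    have hG : xU chevF4 gF4 (chevF4.simple 0) (1 : K) * xU chevF4 gF4 24 1 ∈ twistedF4 K e := by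
      have := Cfsg.Agent.Helper36.F4N.pair_mem_pos FD (1 : K)
      rw [one_pow] at this
      rw [hxU, hxU]
      exact this
    have hX : xU chevF4 gF4 (chevF4.simple 0) (1 : K) * xU chevF4 gF4 24 1 ∈
        (XJ1 : Subgroup (GL chevF4.Idx K)) := by
      rw [XJ1_eq]
      exact mul_mem (Subgroup.subset_closure ⟨33, by simp, 1, rfl⟩)
        (Subgroup.subset_closure ⟨24, by simp, 1, rfl⟩)
    have hne1 := simple_mul_ne_one (K := K) (i := 0) (by decide) one_ne_zero (xU chevF4 gF4 24 1)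
      (conj_simple_pos (by decide) (by decide) chk_refl.1 1)
    refine ⟨_, ⟨hUB (Uw_le_pos chevF4 _ hX), hG⟩, ?_⟩
    exact not_mem_B_of_ne_one 0 (hsqJ 0) _ hX hne1
  · -- the class word at `t = 1`, `u = 0`
    have hG : xU chevF4 gF4 (chevF4.simple 1) (1 : K) *
        (xU chevF4 gF4 25 1 * xU chevF4 gF4 28 ((1 : K) ^ (e + 1) + 0) *
          xU chevF4 gF4 30 ((0 : K) ^ (2 * e))) ∈ twistedF4 K e := by
      have := class_mem_pos FD (1 : K) 0
      rw [one_pow] at this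
      simp only [hxU]
      have e1 : xg (chevF4.simple 1) (1 : K) * (xg 25 1 * xg 28 ((1 : K) ^ (e + 1) + 0) *
          xg 30 ((0 : K) ^ (2 * e))) =
          xg 27 1 * xg 25 1 * xg 28 ((1 : K) ^ (e + 1) + 0) * xg 30 ((0 : K) ^ (2 * e)) := by
        have : chevF4.simple 1 = 27 := by decide
        rw [this]
        group
      rw [e1]
      exact this
    have hX : xU chevF4 gF4 (chevF4.simple 1) (1 : K) *
        (xU chevF4 gF4 25 1 * xU chevF4 gF4 28 ((1 : K) ^ (e + 1) + 0) *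
          xU chevF4 gF4 30 ((0 : K) ^ (2 * e))) ∈ (XJ2 : Subgroup (GL chevF4.Idx K)) := by
      rw [XJ2_eq]
      exact mul_mem (Subgroup.subset_closure ⟨27, by simp, 1, rfl⟩)
        (mul_mem (mul_mem (Subgroup.subset_closure ⟨25, by simp, 1, rfl⟩)
          (Subgroup.subset_closure ⟨28, by simp, _, rfl⟩))
          (Subgroup.subset_closure ⟨30, by simp, _, rfl⟩))
    have hc : nGL chevF4 gF4 1 * (xU chevF4 gF4 25 1 * xU chevF4 gF4 28 ((1 : K) ^ (e + 1) + 0) *
        xU chevF4 gF4 30 ((0 : K) ^ (2 * e))) * (nGL chevF4 gF4 1)⁻¹ ∈ chevF4.posUnipotent K := by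
      have e2 : nGL chevF4 gF4 1 * (xU chevF4 gF4 25 1 * xU chevF4 gF4 28 ((1 : K) ^ (e + 1) + 0) *
          xU chevF4 gF4 30 ((0 : K) ^ (2 * e))) * (nGL chevF4 gF4 1)⁻¹ =
          (nGL chevF4 gF4 1 * xU chevF4 gF4 25 1 * (nGL chevF4 gF4 1)⁻¹) *
          (nGL chevF4 gF4 1 * xU chevF4 gF4 28 ((1 : K) ^ (e + 1) + 0) * (nGL chevF4 gF4 1)⁻¹) *
          (nGL chevF4 gF4 1 * xU chevF4 gF4 30 ((0 : K) ^ (2 * e)) * (nGL chevF4 gF4 1)⁻¹) := by group
      rw [e2]
      exact mul_mem (mul_mem (conj_simple_pos (by decide) (by decide) chk_refl.2.1 _)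
        (conj_simple_pos (by decide) (by decide) chk_refl.2.2.1 _))
        (conj_simple_pos (by decide) (by decide) chk_refl.2.2.2 _)
    have hne1 := simple_mul_ne_one (K := K) (i := 1) (by decide) one_ne_zero _ hc
    refine ⟨_, ⟨hUB (Uw_le_pos chevF4 _ hX), hG⟩, ?_⟩
    exact not_mem_B_of_ne_one 1 (hsqJ 1) _ hX hne1

include FD hα in
/-- **the (B,N)-pair of `²F₄`**, given only the fixed points of the class subgroups -/
theorem exists_bnPair_F4'
    (hfixX : ∀ j : Fin 2, ∀ x ∈ (XJΓ j : Subgroup ↥(chevF4.group K)),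
      (twF4 FD α hα).τ x = x → x ∈ (twF4 FD α hα).G1) :
    ∃ P : Cfsg.BNPair ↥(twistedF4 K e),
      P.B = (chevF4.borelSubgroup K ⊓ twistedF4 K e).subgroupOf (twistedF4 K e) ∧
      P.N = (chevF4.monomialSubgroup K ⊓ twistedF4 K e).subgroupOf (twistedF4 K e) ∧
      P.S = {s : ↥(twistedF4 K e) | ∃ j : Fin 2,
        (s : GL chevF4.Idx K) = ((Lw j).map (nGL chevF4 gF4)).prod} :=
  exists_bnPair_F4 FD α hα hfixX (hne_F4 FD)

end

end Cfsg.Agent.Helper18.TwBNF4
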