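import Cfsg.Agent.Lib.Helper18.TwRecF4
import Cfsg.Agent.Lib.Helper6.RF4G

/-!
# `²F₄`: the fixed points of the class subgroups (wrapper of helper6's `RF4F` / `RF4G` into the
shape of `Helper59.TwFix.Rec`): `hfixX` and the counting hypothesis `hd`
-/

set_option autoImplicit false
set_option linter.unusedSectionVars false
set_option linter.unusedVariables false
set_option maxRecDepth 100000

namespace Cfsg.Agent.Helper18.TwFixF4

open Cfsg Cfsg.Lie Cfsg.Agent.Helper18 Cfsg.Agent.Helper15.Ree4 Cfsg.Agent.Helper6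
open Cfsg.Agent.Helper6.ChevGraph Cfsg.Agent.Helper6.ChevGraph.F4 Cfsg.Agent.S1043
open Cfsg.Agent.Helper59.F4Suz Cfsg.Agent.Helper59.TwFix Cfsg.Agent.Helper17
open Cfsg.Agent.Helper36.F4Tw Cfsg.Agent.Helper18.TwWord Cfsg.Agent.Helper18.TwWordF4
open Cfsg.Agent.Helper18.TwRecF4

section

variable {K : Type*} [Field K] [CharP K 2] {e : ℕ} (FD : FieldData K e)
  (α : ↥(chevF4.group K) ≃* ↥(chevF4.group K))
  (hα : ∀ (r : Fin chevF4.nroots) (t : K),
      α (xG goodF4 r.val t) = xG goodF4 (sig r.val) (if isShort r.val then t ^ 2 else t))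

theorem hxU (r : ℕ) (u : K) : xU chevF4 gF4 r u = xg r u := Units.ext rfl

include FD hα in
/-- the `σ`-fixed points of the class subgroups lie in `²F₄` -/
theorem hfixX : ∀ j : Fin 2, ∀ x ∈ (XJΓ j : Subgroup ↥(chevF4.group K)),
    (twF4 FD α hα).τ x = x → x ∈ (twF4 FD α hα).G1 := by
  intro j x hx hfix
  fin_cases j
  · obtain ⟨t₀, t₁, e1⟩ := XJ1_prod (x : GL chevF4.Idx K) hx
    rw [hxU, hxU] at e1
    exact Cfsg.Agent.Helper6.RF4F.fix_J1_mem FD α hα x t₀ t₁ e1 hfix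
  · obtain ⟨t₀, t₁, t₂, t₃, e1⟩ := XJ2_prod (x : GL chevF4.Idx K) hx
    rw [hxU, hxU, hxU, hxU] at e1
    exact Cfsg.Agent.Helper6.RF4F.fix_J2_mem FD α hα x t₀ t₁ t₂ t₃ e1 hfix

/-- the recursion data of `²F₄` -/
noncomputable def recF4' : Rec (twF4 FD α hα) (Fin 2) := recF4 FD α hα (hfixX FD α hα)

end

section

variable {K : Type*} [Field K] [CharP K 2] [Finite K] {e : ℕ} (FD : FieldData K e)
  (α : ↥(chevF4.group K) ≃* ↥(chevF4.group K))
  (hα : ∀ (r : Fin chevF4.nroots) (t : K),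
      α (xG goodF4 r.val t) = xG goodF4 (sig r.val) (if isShort r.val then t ^ 2 else t))

theorem XG_mem_XJΓ0 (r : ℕ) (hr : r ∈ [33, 24]) (t : K) :
    XG r t ∈ (XJΓ 0 : Subgroup ↥(chevF4.group K)) := by
  show ((XG r t : ↥(chevF4.group K)) : GL chevF4.Idx K) ∈ (XJ1 : Subgroup (GL chevF4.Idx K))
  rw [XG_val, XJ1_eq, ← hxU]
  exact Subgroup.subset_closure ⟨r, hr, t, rfl⟩

theorem XG_mem_XJΓ1 (r : ℕ) (hr : r ∈ [27, 30, 28, 25]) (t : K) :
    XG r t ∈ (XJΓ 1 : Subgroup ↥(chevF4.group K)) := by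
  show ((XG r t : ↥(chevF4.group K)) : GL chevF4.Idx K) ∈ (XJ2 : Subgroup (GL chevF4.Idx K))
  rw [XG_val, XJ2_eq, ← hxU]
  exact Subgroup.subset_closure ⟨r, hr, t, rfl⟩

include FD hα in
/-- the orders of the class subgroups and of their fixed points -/
theorem card_XJ_FixX :
    (Nat.card ↥((recF4' FD α hα).XJ 0) = Nat.card K ^ 2 ∧
      Nat.card ↥((recF4' FD α hα).FixX 0) = Nat.card K) ∧
    (Nat.card ↥((recF4' FD α hα).XJ 1) = Nat.card K ^ 4 ∧
      Nat.card ↥((recF4' FD α hα).FixX 1) = Nat.card K ^ 2) := by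
  constructor
  · apply Cfsg.Agent.Helper6.RF4F.card_J1 FD α hα
    · intro y hy
      obtain ⟨t₀, t₁, e1⟩ := XJ1_prod (y : GL chevF4.Idx K) hy
      rw [hxU, hxU] at e1
      exact ⟨t₀, t₁, e1⟩
    · intro t
      exact ⟨XG_mem_XJΓ0 33 (by simp) t, XG_mem_XJΓ0 24 (by simp) t⟩
    · intro y
      exact Iff.rfl
  · apply Cfsg.Agent.Helper6.RF4F.card_J2 FD α hα
    · intro y hy
      obtain ⟨t₀, t₁, t₂, t₃, e1⟩ := XJ2_prod (y : GL chevF4.Idx K) hy
      rw [hxU, hxU, hxU, hxU] at e1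
      exact ⟨t₀, t₁, t₂, t₃, e1⟩
    · intro t
      exact ⟨XG_mem_XJΓ1 25 (by simp) t, XG_mem_XJΓ1 27 (by simp) t, XG_mem_XJΓ1 28 (by simp) t,
        XG_mem_XJΓ1 30 (by simp) t⟩
    · intro y
      exact Iff.rfl

include FD hα in
/-- the counting hypothesis of `Rec.fixUw_and_card` with `d = 2` -/
theorem hd : ∀ j : Fin 2, Nat.card ↥((recF4' FD α hα).FixX j) ^ 2 =
    Nat.card ↥((recF4' FD α hα).XJ j) := by
  obtain ⟨⟨h1, h2⟩, ⟨h3, h4⟩⟩ := card_XJ_FixX FD α hα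
  intro j
  fin_cases j
  · show Nat.card ↥((recF4' FD α hα).FixX 0) ^ 2 = Nat.card ↥((recF4' FD α hα).XJ 0)
    rw [h1, h2]
  · show Nat.card ↥((recF4' FD α hα).FixX 1) ^ 2 = Nat.card ↥((recF4' FD α hα).XJ 1)
    rw [h3, h4]
    ring

end

end Cfsg.Agent.Helper18.TwFixF4
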