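import Cfsg.Agent.Lib.Helper18.TwBNF4
import Cfsg.Agent.Lib.Helper6.TwistSimple

/-!
# `²F₄`: simplicity from the (B,N)-pair, perfectness and the trivial core of `B¹`
-/

set_option autoImplicit false
set_option linter.unusedSectionVars false
set_option linter.unusedVariables false
set_option maxRecDepth 100000

namespace Cfsg.Agent.Helper18.TwSimpleF4

open Cfsg Cfsg.Lie Cfsg.Agent.Helper18 Cfsg.Agent.Helper15.Ree4 Cfsg.Agent.Helper6
open Cfsg.Agent.Helper6.ChevGraph Cfsg.Agent.Helper6.ChevGraph.F4 Cfsg.Agent.S1043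
open Cfsg.Agent.Helper59.F4Suz Cfsg.Agent.Helper59.TwFix Cfsg.Agent.Helper17
open Cfsg.Agent.Helper36.F4Tw Cfsg.Agent.Helper18.TwWord Cfsg.Agent.Helper18.TwWordF4
open Cfsg.Agent.Helper18.TwRecF4 Cfsg.Agent.Helper18.TwBNF4

theorem chk_irr : ∀ j j' : Fin 2, j ≠ j' →
    ∃ i < 4, ¬ chevF4.IsPosRoot (permW chevF4 (Lw j ++ Lw j' ++ Lw j ++ Lw j') (chevF4.simple i)) := by
  decide +kernel

theorem chk_ne : ∃ i < 4, ¬ chevF4.IsPosRoot (permW chevF4 (Lw 0) (chevF4.simple i)) := by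
  decide +kernel

section

variable {K : Type*} [Field K]

/-- an element of `H` is not negative on any fundamental root -/
theorem not_neg_of_mem_H (h : GL chevF4.Idx K) (hh : h ∈ chevF4.diagonalSubgroup K) {i : ℕ}
    (hi : i < chevF4.rank) : ¬ Neg gF4 h i := by
  have C := TwWordF4.hypF4 (K := K)
  intro hneg
  have h1 : Neg gF4 ((1 : GL chevF4.Idx K) * h) i := by rwa [one_mul]
  rw [neg_mul_H 1 h hh hi] at h1
  have h2 := h1 1
  rw [one_mul, inv_one, mul_one] at h2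
  have h3 : xU chevF4 gF4 (chevF4.simple i) (1 : K) ∈ chevF4.borelSubgroup K :=
    Subgroup.mem_sup_left (Subgroup.subset_closure ⟨_, _, C.hB.hsimpPos i hi, rfl⟩)
  have hbot := (borel_inf_neg (F := K) chevF4 C.hT C.hTri C.hNeg).1
  have h4 : xU chevF4 gF4 (chevF4.simple i) (1 : K) = 1 := by
    rw [← Subgroup.mem_bot, ← hbot]
    exact ⟨h3, h2⟩
  exact one_ne_zero (xU_eq_one chevF4 gF4 C.hB _ (C.hB.hsimp i hi) (1 : K) h4)

/-- a word with a negative fundamental root is not in `H` -/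
theorem word_not_mem_H (l : List ℕ) (hl : ∀ i ∈ l, i < chevF4.rank)
    (h : ∃ i < 4, ¬ chevF4.IsPosRoot (permW chevF4 l (chevF4.simple i))) :
    nWordGL (F := K) chevF4 gF4 l ∉ chevF4.diagonalSubgroup K := by
  obtain ⟨i, hi, hneg⟩ := h
  intro hmem
  exact not_neg_of_mem_H _ hmem hi ((neg_word_iff (K := K) l hl hi).2 hneg)

end

section

variable {K : Type*} [Field K] [Fintype K] [CharP K 2] {e : ℕ} (FD : FieldData K e)
  (α : ↥(chevF4.group K) ≃* ↥(chevF4.group K))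
  (hα : ∀ (r : Fin chevF4.nroots) (t : K),
      α (xG goodF4 r.val t) = xG goodF4 (sig r.val) (if isShort r.val then t ^ 2 else t))

include FD hα in
/-- `²F₄` is simple as soon as it is perfect and the core of `B¹` is trivial -/
theorem simple_F4
    (hfixX : ∀ j : Fin 2, ∀ x ∈ (XJΓ j : Subgroup ↥(chevF4.group K)),
      (twF4 FD α hα).τ x = x → x ∈ (twF4 FD α hα).G1)
    (hperf : commutator ↥(twistedF4 K e) = ⊤)
    (hcore : ((chevF4.borelSubgroup K ⊓ twistedF4 K e).subgroupOf (twistedF4 K e)).normalCore = ⊥) :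
    IsSimpleGroup ↥(twistedF4 K e) ∧ ¬ IsMulCommutative ↥(twistedF4 K e) := by
  have C := TwWordF4.hypF4 (K := K)
  obtain ⟨P, hPB, hPN, hPS⟩ := exists_bnPair_F4' FD α hα hfixX
  have hBN : chevF4.borelSubgroup K ⊓ chevF4.monomialSubgroup K = chevF4.diagonalSubgroup K :=
    Cfsg.Agent.Helper6.TwBN.borel_inf_mono gF4 C
  have hHN : chevF4.diagonalSubgroup K ≤ chevF4.monomialSubgroup K := le_sup_left
  have hwN : ∀ L : List ℕ, (∀ i ∈ L, i < chevF4.rank) →
      nWordGL (F := K) chevF4 gF4 L ∈ chevF4.monomialSubgroup K :=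
    fun L hL => nWordGL_mem chevF4 gF4 L (fun i hi => C.hB.hsimp i (hL i hi))
  have hprod : ∀ L : List ℕ, (L.map (nGL (F := K) chevF4 gF4)).prod = nWordGL chevF4 gF4 L :=
    fun L => rfl
  have hnJG : ∀ j : Fin 2, nWordGL (F := K) chevF4 gF4 (Lw j) ∈ twistedF4 K e := by
    intro j
    fin_cases j
    · exact Cfsg.Agent.Helper36.F4N.nJ1_mem_twisted FD
    · exact Cfsg.Agent.Helper36.F4N.nJ2_mem_twisted FD
  have hsqJ : ∀ j : Fin 2, nWordGL (F := K) chevF4 gF4 (Lw j) * nWordGL chevF4 gF4 (Lw j) ∈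
      chevF4.diagonalSubgroup K := by
    intro j
    rw [← nWordGL_append]
    apply mem_diag_of_posPres _ _ (chk_sq j)
    intro i hi
    rcases List.mem_append.mp hi with hi | hi <;> exact Lw_lt j i hi
  have hnt : Nontrivial ↥(twistedF4 K e) := by
    refine ⟨⟨⟨nWordGL chevF4 gF4 (Lw 0), hnJG 0⟩, 1, ?_⟩⟩
    intro h
    have h1 : nWordGL (F := K) chevF4 gF4 (Lw 0) = 1 := congrArg Subtype.val h
    exact word_not_mem_H (K := K) (Lw 0) (Lw_lt 0) chk_ne (h1 ▸ one_mem _)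
  -- the commutator of the two generators is not in `B`
  have hcomm : ∀ j j' : Fin 2, j ≠ j' →
      nWordGL (F := K) chevF4 gF4 (Lw j) * nWordGL chevF4 gF4 (Lw j') *
        (nWordGL chevF4 gF4 (Lw j))⁻¹ * (nWordGL chevF4 gF4 (Lw j'))⁻¹ ∉ chevF4.borelSubgroup K := by
    intro j j' hjj hmem
    set a := nWordGL (F := K) chevF4 gF4 (Lw j) with ha
    set b := nWordGL (F := K) chevF4 gF4 (Lw j') with hb
    have haN : a ∈ chevF4.monomialSubgroup K := hwN _ (Lw_lt j)
    have hbN : b ∈ chevF4.monomialSubgroup K := hwN _ (Lw_lt j')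
    have hcN : a * b * a⁻¹ * b⁻¹ ∈ chevF4.monomialSubgroup K :=
      (chevF4.monomialSubgroup K).mul_mem ((chevF4.monomialSubgroup K).mul_mem
        ((chevF4.monomialSubgroup K).mul_mem haN hbN) ((chevF4.monomialSubgroup K).inv_mem haN))
        ((chevF4.monomialSubgroup K).inv_mem hbN)
    have hcH : a * b * a⁻¹ * b⁻¹ ∈ chevF4.diagonalSubgroup K := by
      rw [← hBN]
      exact Subgroup.mem_inf.mpr ⟨hmem, hcN⟩
    -- `a b a b = (a b a⁻¹ b⁻¹) * (b (a a) b⁻¹) * (b b)`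
    have e1 : a * b * a * b = (a * b * a⁻¹ * b⁻¹) * (b * (a * a) * b⁻¹) * (b * b) := by group
    have h2 : b * (a * a) * b⁻¹ ∈ chevF4.diagonalSubgroup K :=
      (Subgroup.mem_normalizer_iff.mp (C.hNH hbN) _).mp (hsqJ j)
    have h3 : a * b * a * b ∈ chevF4.diagonalSubgroup K := by
      rw [e1]
      exact mul_mem (mul_mem hcH h2) (hsqJ j')
    have h4 : a * b * a * b = nWordGL (F := K) chevF4 gF4 (Lw j ++ Lw j' ++ Lw j ++ Lw j') := by
      rw [nWordGL_append, nWordGL_append, nWordGL_append]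
    rw [h4] at h3
    refine word_not_mem_H (K := K) _ ?_ (chk_irr j j' hjj) h3
    intro i hi
    simp only [List.mem_append] at hi
    rcases hi with ((hi | hi) | hi) | hi
    · exact Lw_lt j i hi
    · exact Lw_lt j' i hi
    · exact Lw_lt j i hi
    · exact Lw_lt j' i hi
  have hirr : P.Irreducible := by
    intro J hJ hJne hJc
    obtain ⟨s, hs⟩ := hJne
    obtain ⟨s', hs', hs'J⟩ := hJc
    refine ⟨s, hs, s', ⟨hs', hs'J⟩, ?_⟩
    have h1 := hJ hs
    rw [hPS] at h1 hs'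
    obtain ⟨j, e1⟩ := h1
    obtain ⟨j', e2⟩ := hs'
    rw [hprod] at e1 e2
    have hjj : j ≠ j' := by
      rintro rfl
      have : s = s' := Subtype.ext (e1.trans e2.symm)
      exact hs'J (this ▸ hs)
    intro hmem
    rw [hPB, Subgroup.mem_subgroupOf] at hmem
    have h5 := (Subgroup.mem_inf.mp hmem).1
    simp only [Subgroup.coe_mul, Subgroup.coe_inv, e1, e2] at h5
    exact hcomm j j' hjj h5
  exact Cfsg.Agent.Helper6.Twist.simple_of_bnPair chevF4 (by simp) (twistedF4 K e) P hPB hirr hperf hcore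

end

end Cfsg.Agent.Helper18.TwSimpleF4
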