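import Cfsg.Agent.Lib.Helper59.TwFixD

/-!
# The step of the fixed-point recursion along an arbitrary word of fundamental reflections

`Helper59.TwFix.Rec` needs, for every class `J` of fundamental roots, a representative `nJ` of the
longest element of `W_J` and the subgroup `XJ = U_{w_J}⁻`, together with the decomposition
`U_{w w_J}⁻ = n_J⁻¹ U_w⁻ n_J · XJ`.  `TwFixD` does this for pairwise orthogonal roots; here it is done
for an arbitrary word `L` (e.g. `[1,2,1,2]` for a class of type `B₂`), with `XJ := Uw D (nWordGL L)`.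
-/

set_option autoImplicit false
set_option linter.unusedSectionVars false
set_option linter.unusedVariables false

namespace Cfsg.Agent.Helper18.TwWord

open Cfsg Cfsg.Lie Cfsg.Agent.S1043 Cfsg.Agent.Helper17 Cfsg.Agent.Helper18
open Cfsg.Agent.Helper59.TwFix

section

variable {F : Type*} [Field F] {D : ChevalleyDatum} (hD : Good D) {tbl : List ℕ}
  (C : ChevHyp F D tbl)

/-- `n` and `1` keep the successive fundamental roots positive along the word `L` -/
inductive PosW (n : GL D.Idx F) : List ℕ → Prop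
  | nil : PosW n []
  | snoc {L : List ℕ} {j : ℕ} : PosW n L → j < D.rank → Pos hD (n * nWordGL D hD L) j →
      Pos hD (nWordGL (F := F) D hD L) j → PosW n (L ++ [j])

theorem PosW.lt {n : GL D.Idx F} {L : List ℕ} (h : PosW hD n L) : ∀ i ∈ L, i < D.rank := by
  induction h with
  | nil => intro i hi; exact absurd hi List.not_mem_nil
  | snoc _ hj _ _ ih =>
    intro i hi
    rcases List.mem_append.mp hi with hi | hi
    · exact ih i hi
    · rw [List.mem_singleton] at hi; rw [hi]; exact hj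

include C in
theorem nWord_mem_N {L : List ℕ} (hL : ∀ i ∈ L, i < D.rank) :
    nWordGL (F := F) D hD L ∈ D.monomialSubgroup F :=
  nWordGL_mem D hD L (fun i hi => C.hB.hsimp i (hL i hi))

omit C in
theorem nWord_snoc' (L : List ℕ) (j : ℕ) :
    nWordGL (F := F) D hD (L ++ [j]) = nWordGL D hD L * nGL D hD j := by
  rw [nWordGL_append, nWordGL_cons, nWordGL_nil, mul_one]

include C in
/-- `n_L⁻¹ U_w⁻ n_L · U_{w_L}⁻ ⊆ U_{w w_L}⁻` -/
theorem wstep_mem {n : GL D.Idx F} (hn : n ∈ D.monomialSubgroup F) {L : List ℕ}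
    (hp : PosW hD n L) : ∀ y ∈ Uw D n, ∀ x ∈ Uw D (nWordGL D hD L),
      (nWordGL D hD L)⁻¹ * y * nWordGL D hD L * x ∈ Uw D (n * nWordGL D hD L) := by
  induction hp with
  | nil =>
    intro y hy x hx
    rw [nWordGL_nil] at hx ⊢
    rw [Uw_one hD C, Subgroup.mem_bot] at hx
    rw [hx]
    simpa using hy
  | @snoc L j hp hj hposn hpos1 ih =>
    intro y hy x hx
    have hLN : nWordGL (F := F) D hD L ∈ D.monomialSubgroup F := nWord_mem_N hD C hp.lt
    rw [nWord_snoc'] at hx ⊢
    obtain ⟨x', hx', t, rfl⟩ := step_surj hD C hLN hj hpos1 x hx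
    have h1 := ih y hy x' hx'
    have h2 := step_mem hD C (mul_mem hn hLN) hj hposn _ h1 t
    have e : (nWordGL D hD L * nGL D hD j)⁻¹ * y * (nWordGL D hD L * nGL D hD j) *
        ((nGL D hD j)⁻¹ * x' * nGL D hD j * xU D hD (D.simple j) t) =
        (nGL D hD j)⁻¹ * ((nWordGL D hD L)⁻¹ * y * nWordGL D hD L * x') * nGL D hD j *
          xU D hD (D.simple j) t := by group
    rw [e, ← mul_assoc]
    exact h2

include C in
/-- `U_{w w_L}⁻ ⊆ n_L⁻¹ U_w⁻ n_L · U_{w_L}⁻` -/
theorem wstep_surj {n : GL D.Idx F} (hn : n ∈ D.monomialSubgroup F) {L : List ℕ}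
    (hp : PosW hD n L) : ∀ u ∈ Uw D (n * nWordGL D hD L),
      ∃ y ∈ Uw D n, ∃ x ∈ Uw D (nWordGL D hD L),
        u = (nWordGL D hD L)⁻¹ * y * nWordGL D hD L * x := by
  induction hp with
  | nil =>
    intro u hu
    rw [nWordGL_nil, mul_one] at hu
    refine ⟨u, hu, 1, one_mem _, ?_⟩
    rw [nWordGL_nil]; group
  | @snoc L j hp hj hposn hpos1 ih =>
    intro u hu
    have hLN : nWordGL (F := F) D hD L ∈ D.monomialSubgroup F := nWord_mem_N hD C hp.lt
    rw [nWord_snoc', ← mul_assoc] at hu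
    obtain ⟨y', hy', t, rfl⟩ := step_surj hD C (mul_mem hn hLN) hj hposn u hu
    obtain ⟨y, hy, x', hx', rfl⟩ := ih y' hy'
    refine ⟨y, hy, (nGL D hD j)⁻¹ * x' * nGL D hD j * xU D hD (D.simple j) t, ?_, ?_⟩
    · rw [nWord_snoc']
      exact step_mem hD C hLN hj hpos1 x' hx' t
    · rw [nWord_snoc']; group

include C in
/-- uniqueness in `n_L⁻¹ U_w⁻ n_L · U_{w_L}⁻` -/
theorem wstep_inj {n : GL D.Idx F} (L : List ℕ)
    (y y' : GL D.Idx F) (hy : y ∈ Uw D n) (hy' : y' ∈ Uw D n) (x x' : GL D.Idx F)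
    (hx : x ∈ Uw D (nWordGL D hD L)) (hx' : x' ∈ Uw D (nWordGL D hD L))
    (e : (nWordGL D hD L)⁻¹ * y * nWordGL D hD L * x = (nWordGL D hD L)⁻¹ * y' * nWordGL D hD L * x') :
    y = y' ∧ x = x' := by
  have e2 : y'⁻¹ * y = nWordGL D hD L * (x' * x⁻¹) * (nWordGL D hD L)⁻¹ := by
    have : y = nWordGL D hD L * ((nWordGL D hD L)⁻¹ * y * nWordGL D hD L * x) * x⁻¹ *
        (nWordGL D hD L)⁻¹ := by group
    rw [this, e]
    group
  have h1 : y'⁻¹ * y ∈ D.negUnipotent F := by
    rw [e2]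
    exact conj_Uw_mem_neg D _ _ (mul_mem hx' (inv_mem hx))
  have h2 : y'⁻¹ * y ∈ D.borelSubgroup F :=
    Subgroup.mem_sup_left (Uw_le_pos D n (mul_mem (inv_mem hy') hy))
  have hbot := (borel_inf_neg (F := F) D C.hT C.hTri C.hNeg).1
  have h3 : y'⁻¹ * y = 1 := by
    rw [← Subgroup.mem_bot, ← hbot]
    exact ⟨h2, h1⟩
  have hyy : y = y' := (inv_mul_eq_one.mp h3).symm
  subst hyy
  exact ⟨rfl, mul_left_cancel e⟩

/-! ### the roots of `U_{w_L}⁻` -/

/-- the roots of `U_{w_L}⁻`, computed from the REVERSED word -/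
def rootsOfR (D : ChevalleyDatum) : List ℕ → List ℕ
  | [] => []
  | j :: Lr => (rootsOfR D Lr).map (D.reflectRoot j) ++ [D.simple j]

theorem rootsOfR_length (D : ChevalleyDatum) : ∀ Lr : List ℕ, (rootsOfR D Lr).length = Lr.length
  | [] => rfl
  | j :: Lr => by
    change ((rootsOfR D Lr).map (D.reflectRoot j) ++ [D.simple j]).length = _
    rw [List.length_append, List.length_map, rootsOfR_length D Lr]
    rfl

/-- the roots `w_{L'}(p_j)` for the prefixes `L' ++ [j]` of the word, from the REVERSED word -/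
def prefRootsR (D : ChevalleyDatum) : List ℕ → List ℕ
  | [] => []
  | j :: Lr => permW D Lr.reverse (D.simple j) :: prefRootsR D Lr

/-- the subgroup generated by the root subgroups of a list of roots -/
def XR (R : List ℕ) : Subgroup (GL D.Idx F) :=
  Subgroup.closure {g | ∃ r ∈ R, ∃ t : F, g = xU D hD r t}

omit C in
theorem XR_mono {R R' : List ℕ} (h : ∀ r ∈ R, r ∈ R') : XR hD (F := F) R ≤ XR hD R' := by
  unfold XR
  apply Subgroup.closure_mono
  rintro g ⟨r, hr, t, rfl⟩
  exact ⟨r, h r hr, t, rfl⟩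

include C in
/-- conjugation by `n_j⁻¹` of a root element -/
theorem conj_inv_nGL (hinv : ∀ i < D.rank, ∀ s < D.nroots, D.reflectRoot i (D.reflectRoot i s) = s)
    {j : ℕ} (hj : j < D.rank) {r : ℕ} (hr : r < D.nroots) :
    ∃ c : F, c ≠ 0 ∧ ∀ t : F, (nGL D hD j)⁻¹ * xU D hD r t * nGL D hD j =
      xU D hD (D.reflectRoot j r) (c * t) := by
  have hlj : ∀ i ∈ [j], i < D.rank := by
    intro i hi
    rw [List.mem_singleton] at hi
    rw [hi]; exact hj
  obtain ⟨c, hc0, hc⟩ := conj_N_xU D hD C.hB C.hT C.hconj 1 (one_mem _) [j] hlj (D.reflectRoot j r)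
    (C.hB.hrefl j hj r hr)
  refine ⟨c⁻¹, inv_ne_zero hc0, fun t => ?_⟩
  have e := hc (c⁻¹ * t)
  rw [one_mul, nWordGL_cons, nWordGL_nil, mul_one, ← mul_assoc, mul_inv_cancel₀ hc0, one_mul] at e
  have e2 : permW D [j] (D.reflectRoot j r) = r := hinv j hj r hr
  rw [e2] at e
  rw [← e]
  group

include C in
/-- `U_{w_L}⁻` is generated by the root subgroups of `rootsOfR D L.reverse` -/
theorem Uw_word_le (hinv : ∀ i < D.rank, ∀ s < D.nroots, D.reflectRoot i (D.reflectRoot i s) = s)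
    {n : GL D.Idx F} {L : List ℕ} (hp : PosW hD n L) :
    (∀ r ∈ rootsOfR D L.reverse, r < D.nroots) ∧
      Uw D (nWordGL D hD L) ≤ XR hD (F := F) (rootsOfR D L.reverse) := by
  induction hp with
  | nil =>
    refine ⟨fun r hr => absurd hr List.not_mem_nil, ?_⟩
    rw [nWordGL_nil, Uw_one hD C]
    exact bot_le
  | @snoc L j hp hj hposn hpos1 ih =>
    obtain ⟨ih1, ih2⟩ := ih
    have hrev : (L ++ [j]).reverse = j :: L.reverse := by simp
    rw [hrev]
    have hlt : ∀ r ∈ rootsOfR D (j :: L.reverse), r < D.nroots := by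
      intro r hr
      change r ∈ (rootsOfR D L.reverse).map (D.reflectRoot j) ++ [D.simple j] at hr
      rcases List.mem_append.mp hr with hr | hr
      · obtain ⟨r', hr', rfl⟩ := List.mem_map.mp hr
        exact C.hB.hrefl j hj r' (ih1 r' hr')
      · rw [List.mem_singleton] at hr
        rw [hr]; exact C.hB.hsimp j hj
    refine ⟨hlt, ?_⟩
    intro x hx
    have hLN : nWordGL (F := F) D hD L ∈ D.monomialSubgroup F := nWord_mem_N hD C hp.lt
    rw [nWord_snoc'] at hx
    obtain ⟨x', hx', t, rfl⟩ := step_surj hD C hLN hj hpos1 x hx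
    apply mul_mem
    · have hle : XR hD (F := F) (rootsOfR D L.reverse) ≤
          (XR hD (F := F) (rootsOfR D (j :: L.reverse))).comap
            (MulAut.conj (nGL D hD j)⁻¹).toMonoidHom := by
        rw [XR, Subgroup.closure_le]
        rintro g ⟨r, hr, s, rfl⟩
        obtain ⟨c, _, hc⟩ := conj_inv_nGL hD C hinv hj (ih1 r hr)
        have h3 : (nGL D hD j)⁻¹ * xU D hD r s * ((nGL D hD j)⁻¹)⁻¹ ∈
            XR hD (F := F) (rootsOfR D (j :: L.reverse)) := by
          rw [inv_inv, hc s]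
          apply Subgroup.subset_closure
          refine ⟨D.reflectRoot j r, ?_, _, rfl⟩
          change _ ∈ (rootsOfR D L.reverse).map (D.reflectRoot j) ++ [D.simple j]
          exact List.mem_append_left _ (List.mem_map_of_mem hr)
        exact h3
      have h4 : (nGL D hD j)⁻¹ * x' * ((nGL D hD j)⁻¹)⁻¹ ∈
          XR hD (F := F) (rootsOfR D (j :: L.reverse)) := hle (ih2 hx')
      rwa [inv_inv] at h4
    · apply Subgroup.subset_closure
      refine ⟨D.simple j, ?_, t, rfl⟩
      change _ ∈ (rootsOfR D L.reverse).map (D.reflectRoot j) ++ [D.simple j]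
      exact List.mem_append_right _ (List.mem_singleton.mpr rfl)

include C in
/-- positivity along the word from positivity on a subgroup containing the relevant root subgroups -/
theorem posW_of_conj {n : GL D.Idx F} (X : Subgroup (GL D.Idx F))
    (hX : ∀ x ∈ X, n * x * n⁻¹ ∈ D.posUnipotent F) :
    ∀ Lr : List ℕ, (∀ i ∈ Lr, i < D.rank) →
      (∀ r ∈ prefRootsR D Lr, D.IsPosRoot r ∧ ∀ t : F, xU D hD r t ∈ X) →
      PosW hD n Lr.reverse := by
  intro Lr
  induction Lr with
  | nil => intro _ _; exact PosW.nil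
  | cons j Lr ih =>
    intro hl hr
    have hj : j < D.rank := hl j List.mem_cons_self
    have hl' : ∀ i ∈ Lr, i < D.rank := fun i hi => hl i (List.mem_cons_of_mem _ hi)
    have hlr : ∀ i ∈ Lr.reverse, i < D.rank := fun i hi => hl' i (List.mem_reverse.mp hi)
    have ih' := ih hl' (fun r hr' => hr r (List.mem_cons_of_mem _ hr'))
    obtain ⟨hpos, hmem⟩ := hr (permW D Lr.reverse (D.simple j)) List.mem_cons_self
    obtain ⟨c, _, hc⟩ := conj_N_xU D hD C.hB C.hT C.hconj 1 (one_mem _) Lr.reverse hlr (D.simple j)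
      (C.hB.hsimp j hj)
    rw [List.reverse_cons]
    refine PosW.snoc ih' hj ?_ ?_
    · intro t
      have e : n * nWordGL D hD Lr.reverse * xU D hD (D.simple j) t *
          (n * nWordGL D hD Lr.reverse)⁻¹ =
          n * (1 * nWordGL D hD Lr.reverse * xU D hD (D.simple j) t *
            (1 * nWordGL D hD Lr.reverse)⁻¹) * n⁻¹ := by group
      rw [e, hc t]
      exact hX _ (hmem _)
    · intro t
      have e : nWordGL D hD Lr.reverse * xU D hD (D.simple j) t * (nWordGL D hD Lr.reverse)⁻¹ =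
          1 * nWordGL D hD Lr.reverse * xU D hD (D.simple j) t *
            (1 * nWordGL D hD Lr.reverse)⁻¹ := by group
      rw [e, hc t]
      exact Subgroup.subset_closure ⟨_, _, hpos, rfl⟩

include C in
/-- a root element lies in `U_w⁻` as soon as `w` sends the (positive) root to a negative root -/
theorem xU_mem_Uw_word {L : List ℕ} (hL : ∀ i ∈ L, i < D.rank) {r : ℕ} (hr : D.IsPosRoot r)
    (hneg : ¬ D.IsPosRoot (permW D L r)) (t : F) : xU D hD r t ∈ Uw D (nWordGL D hD L) := by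
  apply Subgroup.subset_closure
  refine ⟨r, t, hr, ?_, rfl⟩
  have := (map_rootSubgroup_le_neg_iff (F := F) D hD C.hB C.hT C.hTri C.hNeg C.hconj 1 (one_mem _) L hL
    r hr.1).2 hneg
  rwa [one_mul] at this

include C in
/-- if `n` sends the root `r` to a negative root, it sends `-r` to a positive root -/
theorem neg_root_pos {n : GL D.Idx F} (hn : n ∈ D.monomialSubgroup F) {r : ℕ} (hr : r < D.nroots)
    (hneg : ∀ t : F, n * xU D hD r t * n⁻¹ ∈ D.negUnipotent F) (t : F) :
    n * xU D hD (D.neg r) t * n⁻¹ ∈ D.posUnipotent F := by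
  obtain ⟨h, hh, l, hl, rfl⟩ := mem_monomial_decomp D hD C.hB C.hS C.hNH n hn
  have hnp : ¬ D.IsPosRoot (permW D l r) := by
    rw [← map_rootSubgroup_le_neg_iff D hD C.hB C.hT C.hTri C.hNeg C.hconj h hh l hl _ hr]
    rw [Subgroup.map_le_iff_le_comap]
    intro g hg
    obtain ⟨t', rfl⟩ := mem_rootSubgroup D hD _ g hg
    exact hneg t'
  have hlt := permW_lt C.hB l hl _ hr
  have hng : D.IsNegRoot (permW D l r) := (C.hB.hpn _ hlt).resolve_left hnp
  obtain ⟨c, _, hc⟩ := conj_N_xU D hD C.hB C.hT C.hconj h hh l hl (D.neg r) (C.hB.hnv _ hr)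
  rw [hc t, permW_neg C.hB l hl _ hr]
  exact Subgroup.subset_closure ⟨_, _, (neg_facts D hD _ hlt hng).1, rfl⟩

include C in
/-- the negativity of `n` on a root, in terms of a word for `n` -/
theorem neg_iff_word {h : GL D.Idx F} (hh : h ∈ D.diagonalSubgroup F) {l : List ℕ}
    (hl : ∀ i ∈ l, i < D.rank) {r : ℕ} (hr : r < D.nroots) :
    (∀ t : F, (h * nWordGL D hD l) * xU D hD r t * (h * nWordGL D hD l)⁻¹ ∈ D.negUnipotent F) ↔
      ¬ D.IsPosRoot (permW D l r) := by
  rw [← map_rootSubgroup_le_neg_iff D hD C.hB C.hT C.hTri C.hNeg C.hconj h hh l hl _ hr]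
  rw [Subgroup.map_le_iff_le_comap]
  constructor
  · intro hneg g hg
    obtain ⟨t', rfl⟩ := mem_rootSubgroup D hD _ g hg
    exact hneg t'
  · intro hle t
    exact hle (xU_mem_rootSubgroup D hD r t)

include C in
/-- descent along the word: if `n` is negative on all the roots of `U_{w_L}⁻` (and `w_L` acts as `-1`
on them) then `n n_L⁻¹` keeps `U_{w_L}⁻` inside `U` -/
theorem desc_word (hinv : ∀ i < D.rank, ∀ s < D.nroots, D.reflectRoot i (D.reflectRoot i s) = s)
    {L : List ℕ} {n₀ : GL D.Idx F} (hp : PosW hD n₀ L)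
    (hwL : ∀ r ∈ rootsOfR D L.reverse, permW D L r = D.neg r ∧ D.neg (D.neg r) = r)
    {n : GL D.Idx F} (hn : n ∈ D.monomialSubgroup F)
    (hneg : ∀ r ∈ rootsOfR D L.reverse, ∀ t : F, n * xU D hD r t * n⁻¹ ∈ D.negUnipotent F) :
    ∀ x ∈ Uw D (nWordGL D hD L),
      (n * (nWordGL D hD L)⁻¹) * x * (n * (nWordGL D hD L)⁻¹)⁻¹ ∈ D.posUnipotent F := by
  obtain ⟨hlt, hle⟩ := Uw_word_le hD C hinv hp
  have hle2 : XR hD (F := F) (rootsOfR D L.reverse) ≤
      (D.posUnipotent F).comap (MulAut.conj (n * (nWordGL D hD L)⁻¹)).toMonoidHom := by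
    unfold XR
    rw [Subgroup.closure_le]
    rintro g ⟨r, hr, s, rfl⟩
    change (n * (nWordGL D hD L)⁻¹) * xU D hD r s * (n * (nWordGL D hD L)⁻¹)⁻¹ ∈ D.posUnipotent F
    obtain ⟨c, hc0, hc⟩ := conj_N_xU D hD C.hB C.hT C.hconj 1 (one_mem _) L hp.lt (D.neg r)
      (C.hB.hnv _ (hlt r hr))
    have e1 := hc (c⁻¹ * s)
    rw [one_mul, permW_neg C.hB L hp.lt _ (hlt r hr), (hwL r hr).1, (hwL r hr).2, ← mul_assoc,
      mul_inv_cancel₀ hc0, one_mul] at e1
    have e2 : n * (nWordGL D hD L)⁻¹ * xU D hD r s * (n * (nWordGL D hD L)⁻¹)⁻¹ =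
        n * ((nWordGL D hD L)⁻¹ * xU D hD r s * nWordGL D hD L) * n⁻¹ := by group
    rw [e2, ← e1]
    have e3 : (nWordGL D hD L)⁻¹ * (nWordGL D hD L * xU D hD (D.neg r) (c⁻¹ * s) *
        (nWordGL D hD L)⁻¹) * nWordGL D hD L = xU D hD (D.neg r) (c⁻¹ * s) := by group
    rw [e3]
    exact neg_root_pos hD C hn (hlt r hr) (hneg r hr) _
  intro x hx
  exact hle2 (hle hx)

/-! ### the statements in the shape of `Helper59.TwFix.Rec` -/

include C in
/-- `1` stays positive along a word all of whose prefix roots are positive -/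
theorem posW_one {L : List ℕ} (hL : ∀ i ∈ L, i < D.rank)
    (hpref : ∀ r ∈ prefRootsR D L.reverse, D.IsPosRoot r) :
    PosW hD (1 : GL D.Idx F) L := by
  have h := posW_of_conj hD C (n := (1 : GL D.Idx F)) (D.posUnipotent F)
    (fun x hx => by simpa using hx) L.reverse (fun i hi => hL i (List.mem_reverse.mp hi))
    (fun r hr => ⟨hpref r hr, fun t => Subgroup.subset_closure ⟨r, t, hpref r hr, rfl⟩⟩)
  rwa [List.reverse_reverse] at h

include C in
/-- `n` stays positive along the word as soon as it keeps `U_{w_L}⁻` inside `U` -/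
theorem posW_of_pos {L : List ℕ} (hL : ∀ i ∈ L, i < D.rank)
    (hpref : ∀ r ∈ prefRootsR D L.reverse, D.IsPosRoot r ∧ ¬ D.IsPosRoot (permW D L r))
    {n : GL D.Idx F} (hpos : ∀ x ∈ Uw D (nWordGL D hD L), n * x * n⁻¹ ∈ D.posUnipotent F) :
    PosW hD n L := by
  have h := posW_of_conj hD C (n := n) (Uw D (nWordGL D hD L)) hpos L.reverse
    (fun i hi => hL i (List.mem_reverse.mp hi))
    (fun r hr => ⟨(hpref r hr).1, fun t => xU_mem_Uw_word hD C hL (hpref r hr).1 (hpref r hr).2 t⟩)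
  rwa [List.reverse_reverse] at h

include C in
theorem rec_mem {L : List ℕ} (hL : ∀ i ∈ L, i < D.rank)
    (hpref : ∀ r ∈ prefRootsR D L.reverse, D.IsPosRoot r ∧ ¬ D.IsPosRoot (permW D L r)) :
    ∀ n ∈ D.monomialSubgroup F, (∀ x ∈ Uw D (nWordGL D hD L), n * x * n⁻¹ ∈ D.posUnipotent F) →
      ∀ y ∈ Uw D n, ∀ x ∈ Uw D (nWordGL D hD L),
        (nWordGL D hD L)⁻¹ * y * nWordGL D hD L * x ∈ Uw D (n * nWordGL D hD L) :=
  fun n hn hpos => wstep_mem hD C hn (posW_of_pos hD C hL hpref hpos)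

include C in
theorem rec_surj {L : List ℕ} (hL : ∀ i ∈ L, i < D.rank)
    (hpref : ∀ r ∈ prefRootsR D L.reverse, D.IsPosRoot r ∧ ¬ D.IsPosRoot (permW D L r)) :
    ∀ n ∈ D.monomialSubgroup F, (∀ x ∈ Uw D (nWordGL D hD L), n * x * n⁻¹ ∈ D.posUnipotent F) →
      ∀ u ∈ Uw D (n * nWordGL D hD L), ∃ y ∈ Uw D n, ∃ x ∈ Uw D (nWordGL D hD L),
        u = (nWordGL D hD L)⁻¹ * y * nWordGL D hD L * x :=
  fun n hn hpos => wstep_surj hD C hn (posW_of_pos hD C hL hpref hpos)

include C in
theorem rec_inj (L : List ℕ) :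
    ∀ n ∈ D.monomialSubgroup F, (∀ x ∈ Uw D (nWordGL D hD L), n * x * n⁻¹ ∈ D.posUnipotent F) →
      ∀ y ∈ Uw D n, ∀ y' ∈ Uw D n, ∀ x ∈ Uw D (nWordGL D hD L), ∀ x' ∈ Uw D (nWordGL D hD L),
        (nWordGL D hD L)⁻¹ * y * nWordGL D hD L * x = (nWordGL D hD L)⁻¹ * y' * nWordGL D hD L * x' →
        y = y' ∧ x = x' :=
  fun n _ _ y hy y' hy' x hx x' hx' e => wstep_inj hD C L y y' hy hy' x x' hx hx' e

include C in
theorem rec_desc (hinv : ∀ i < D.rank, ∀ s < D.nroots, D.reflectRoot i (D.reflectRoot i s) = s)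
    {L : List ℕ} (hL : ∀ i ∈ L, i < D.rank)
    (hpref : ∀ r ∈ prefRootsR D L.reverse, D.IsPosRoot r)
    (hwL : ∀ r ∈ rootsOfR D L.reverse, permW D L r = D.neg r ∧ D.neg (D.neg r) = r)
    {n : GL D.Idx F} (hn : n ∈ D.monomialSubgroup F)
    (hneg : ∀ r ∈ rootsOfR D L.reverse, ∀ t : F, n * xU D hD r t * n⁻¹ ∈ D.negUnipotent F) :
    ∀ x ∈ Uw D (nWordGL D hD L),
      (n * (nWordGL D hD L)⁻¹) * x * (n * (nWordGL D hD L)⁻¹)⁻¹ ∈ D.posUnipotent F :=
  desc_word hD C hinv (posW_one hD C hL hpref) hwL hn hneg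

include C in
/-- `U_{w_L}⁻` is exactly the subgroup generated by its root subgroups -/
theorem Uw_word_eq (hinv : ∀ i < D.rank, ∀ s < D.nroots, D.reflectRoot i (D.reflectRoot i s) = s)
    {L : List ℕ} (hL : ∀ i ∈ L, i < D.rank)
    (hpref : ∀ r ∈ prefRootsR D L.reverse, D.IsPosRoot r)
    (hroots : ∀ r ∈ rootsOfR D L.reverse, D.IsPosRoot r ∧ ¬ D.IsPosRoot (permW D L r)) :
    Uw D (nWordGL (F := F) D hD L) = XR hD (F := F) (rootsOfR D L.reverse) := by
  apply le_antisymm (Uw_word_le hD C hinv (posW_one hD C hL hpref)).2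
  rw [XR, Subgroup.closure_le]
  rintro g ⟨r, hr, t, rfl⟩
  exact xU_mem_Uw_word hD C hL (hroots r hr).1 (hroots r hr).2 t

include C in
/-- every element of `U_{w_L}⁻` is an ordered product of root elements along `rootsOfR D L.reverse` -/
theorem Uw_word_prod (hinv : ∀ i < D.rank, ∀ s < D.nroots, D.reflectRoot i (D.reflectRoot i s) = s)
    {n : GL D.Idx F} {L : List ℕ} (hp : PosW hD n L) :
    ∀ x ∈ Uw D (nWordGL D hD L), ∃ ts : List F, ts.length = L.length ∧
      x = (List.zipWith (fun r t => xU D hD r t) (rootsOfR D L.reverse) ts).prod := by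
  induction hp with
  | nil =>
    intro x hx
    rw [nWordGL_nil, Uw_one hD C, Subgroup.mem_bot] at hx
    exact ⟨[], rfl, by rw [hx]; rfl⟩
  | @snoc L j hp hj hposn hpos1 ih =>
    intro x hx
    have hLN : nWordGL (F := F) D hD L ∈ D.monomialSubgroup F := nWord_mem_N hD C hp.lt
    have hlt := (Uw_word_le hD C hinv hp).1
    rw [nWord_snoc'] at hx
    obtain ⟨x', hx', t, rfl⟩ := step_surj hD C hLN hj hpos1 x hx
    obtain ⟨ts, hts, rfl⟩ := ih x' hx'
    have hrev : (L ++ [j]).reverse = j :: L.reverse := by simp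
    rw [hrev]
    have hlen : (rootsOfR D L.reverse).length = L.length := by
      rw [rootsOfR_length, List.length_reverse]
    -- conjugating the product
    have key : ∀ (R : List ℕ) (ts : List F), (∀ r ∈ R, r < D.nroots) → R.length = ts.length →
        ∃ ts' : List F, ts'.length = ts.length ∧
          (nGL D hD j)⁻¹ * (List.zipWith (fun r t => xU D hD r t) R ts).prod * nGL D hD j =
            (List.zipWith (fun r t => xU D hD r t) (R.map (D.reflectRoot j)) ts').prod := by
      intro R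
      induction R with
      | nil =>
        intro ts _ hl
        refine ⟨ts, rfl, ?_⟩
        simp
      | cons r R ihR =>
        intro ts hR hl
        cases ts with
        | nil => simp at hl
        | cons t₀ ts =>
          obtain ⟨ts', hts', e⟩ := ihR ts (fun r' hr' => hR r' (List.mem_cons_of_mem _ hr'))
            (by simpa using hl)
          obtain ⟨c, _, hc⟩ := conj_inv_nGL hD C hinv hj (hR r List.mem_cons_self)
          refine ⟨(c * t₀) :: ts', by simp [hts'], ?_⟩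
          simp only [List.zipWith_cons_cons, List.prod_cons, List.map_cons]
          rw [← hc t₀, ← e]
          group
    obtain ⟨ts', hts', e⟩ := key (rootsOfR D L.reverse) ts hlt (by rw [hlen, hts])
    refine ⟨ts' ++ [t], by simp [hts', hts], ?_⟩
    change _ = (List.zipWith (fun r t => xU D hD r t)
      ((rootsOfR D L.reverse).map (D.reflectRoot j) ++ [D.simple j]) (ts' ++ [t])).prod
    rw [List.zipWith_append (by rw [List.length_map, hlen, hts', hts]), List.prod_append, e]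
    simp

end

end Cfsg.Agent.Helper18.TwWord
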